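import Mathlib
import Cfsg.Prelude.Def_QuasithinSetup
import Cfsg.Agent.CompLayer

/-!
Groups of characteristic two: `C_X(O₂(X)) ≤ O₂(X)` versus `F*(X) = O₂(X)`, inheritance by local
subgroups and by subnormal subgroups.
-/

set_option autoImplicit false

namespace H69

open Cfsg

theorem two_fact : Fact (Nat.Prime 2) := ⟨Nat.prime_two⟩

variable {X : Type*} [Group X] [Finite X]

theorem fStar_eq_of_char_two (h : IsOfCharacteristicTwo X) :
    generalizedFittingSubgroup X = pCore 2 X := by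
  haveI := two_fact
  refine le_antisymm (sup_le ?_ ?_) ((Comp.pCore_le_fitting 2).trans le_sup_right)
  · refine Comp.layer_le_iff.mpr fun L hL => ?_
    refine le_trans ?_ h
    haveI : Group.IsNilpotent (pCore 2 X) := (Comp.pCore_isPGroup 2).isNilpotent
    exact Comp.le_centralizer_of_commute fun x hx y hy =>
      Comp.commute_of_commutator_eq_bot (Comp.component_commute_solvable_normal hL inferInstance) hx hy
  · rw [Comp.fitting_eq_iSup_pCore]
    refine iSup_le fun ⟨p, hp⟩ => ?_
    by_cases hp2 : p = 2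
    · subst hp2; exact le_rfl
    haveI : Fact p.Prime := ⟨hp⟩
    refine le_trans ?_ h
    intro x hx
    rw [Subgroup.mem_centralizer_iff]
    intro y hy
    have hnd : ¬ 2 ∣ Nat.card (pCore p X) := by
      obtain ⟨k, hk⟩ := IsPGroup.iff_card.mp (Comp.pCore_isPGroup (G := X) p)
      rw [hk]
      intro hd
      exact hp2 ((Nat.prime_dvd_prime_iff_eq Nat.prime_two hp).mp (Nat.prime_two.dvd_of_dvd_pow hd)).symm
    exact Comp.commute_of_commutator_eq_bot
      (Comp.commute_of_isPGroup_of_not_dvd (Comp.pCore_isPGroup 2) hnd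
        Comp.le_normalizer_of_normal Comp.le_normalizer_of_normal) hy hx

theorem char_two_of_fStar_eq (h : generalizedFittingSubgroup X = pCore 2 X) :
    IsOfCharacteristicTwo X := by
  have := Comp.centralizer_fStar_le (G := X)
  rwa [h] at this

theorem char_two_iff_fStar :
    IsOfCharacteristicTwo X ↔ generalizedFittingSubgroup X = pCore 2 X :=
  ⟨fStar_eq_of_char_two, char_two_of_fStar_eq⟩

theorem calHe_iff_char_two {G : Type*} [Group G] [Finite G] (H : Subgroup G) :
    H ∈ calHe G ↔ IsOfCharacteristicTwo H :=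
  char_two_iff_fStar.symm

theorem layer_eq_bot_of_char_two (h : IsOfCharacteristicTwo X) : layer X = ⊥ := by
  haveI := two_fact
  rw [eq_bot_iff]
  refine Comp.layer_le_iff.mpr fun L hL => ?_
  exfalso
  have hle : L ≤ pCore 2 X := ((Comp.le_layer hL).trans Comp.layer_le_fStar).trans
    (fStar_eq_of_char_two h).le
  haveI : Group.IsNilpotent L := ((Comp.pCore_isPGroup 2).to_le hle).isNilpotent
  exact Comp.isComponent_not_isSolvable hL inferInstance

/-- characteristic two passes to subnormal subgroups -/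
theorem char_two_of_isSubnormal (h : IsOfCharacteristicTwo X) {K : Subgroup X} (hK : K.IsSubnormal) :
    IsOfCharacteristicTwo K := by
  haveI := two_fact
  refine char_two_of_fStar_eq (le_antisymm (sup_le ?_ ?_) ((Comp.pCore_le_fitting 2).trans le_sup_right))
  · rw [Comp.layer_le_iff]
    intro L hL
    have h1 := (Comp.le_layer (Comp.isComponent_map_subtype hK hL)).trans (layer_eq_bot_of_char_two h).le
    rw [le_bot_iff, Subgroup.map_eq_bot_iff_of_injective _ K.subtype_injective] at h1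
    exact h1 ▸ bot_le
  · rw [Comp.fitting_eq_iSup_pCore]
    refine iSup_le fun ⟨p, hp⟩ => ?_
    by_cases hp2 : p = 2
    · subst hp2; exact le_rfl
    haveI : Fact p.Prime := ⟨hp⟩
    have h1 : (pCore p K).map K.subtype ≤ pCore 2 X :=
      (Comp.pCore_map_subtype_le p hK).trans
        (((Comp.pCore_le_fitting p).trans Comp.fitting_le_fStar).trans (fStar_eq_of_char_two h).le)
    have h2 : (pCore p K).map K.subtype = ⊥ := by
      have := Comp.inf_eq_bot_of_isPGroup (p := p) (H := (pCore p K).map K.subtype) (K := pCore 2 X)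
        ((Comp.pCore_isPGroup p).map _) (by
          obtain ⟨k, hk⟩ := IsPGroup.iff_card.mp (Comp.pCore_isPGroup (G := X) 2)
          rw [hk]
          intro hd
          exact hp2 ((Nat.prime_dvd_prime_iff_eq hp Nat.prime_two).mp (hp.dvd_of_dvd_pow hd)))
      rwa [inf_eq_left.mpr h1] at this
    rw [Subgroup.map_eq_bot_iff_of_injective _ K.subtype_injective] at h2
    exact h2 ▸ bot_le

variable {G : Type*} [Group G] [Finite G]

theorem pCoreTwoOf_le (M : Subgroup G) : pCoreTwoOf M ≤ M := Subgroup.map_subtype_le _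

theorem pCoreTwoOf_isPGroup (M : Subgroup G) : IsPGroup 2 (pCoreTwoOf M) :=
  (Comp.pCore_isPGroup 2).map _

theorem pCoreTwoOf_normalized (M : Subgroup G) :
    M ≤ Subgroup.normalizer (pCoreTwoOf M : Set G) := by
  intro m hm
  rw [Subgroup.mem_normalizer_iff]
  have key : ∀ m ∈ M, ∀ a ∈ pCoreTwoOf M, m * a * m⁻¹ ∈ pCoreTwoOf M := by
    rintro m hm _ ⟨a, ha, rfl⟩
    exact ⟨⟨m, hm⟩ * a * ⟨m, hm⟩⁻¹, (inferInstance : (pCore 2 M).Normal).conj_mem a ha _, rfl⟩
  intro a
  refine ⟨key m hm a, fun ha => ?_⟩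
  have := key m⁻¹ (M.inv_mem hm) _ ha
  simpa [mul_assoc] using this

/-- the largest two-subgroup normalized by `M` inside `M` -/
theorem le_pCoreTwoOf {M A : Subgroup G} (hA : A ≤ M) (hp : IsPGroup 2 A)
    (hn : M ≤ Subgroup.normalizer (A : Set G)) : A ≤ pCoreTwoOf M := by
  haveI : (A.subgroupOf M).Normal := (Subgroup.normal_subgroupOf_iff_le_normalizer hA).mpr hn
  have h1 : A.subgroupOf M ≤ pCore 2 M :=
    Comp.le_pCore inferInstance (hp.of_injective (Subgroup.subgroupOfEquivOfLe hA).toMonoidHom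
      (MulEquiv.injective _))
  intro a ha
  exact ⟨⟨a, hA ha⟩, h1 ha, rfl⟩

theorem char_two_sub_iff (M : Subgroup G) :
    IsOfCharacteristicTwo M ↔ M ⊓ Subgroup.centralizer (pCoreTwoOf M : Set G) ≤ pCoreTwoOf M := by
  constructor
  · rintro h x ⟨hxM, hxc⟩
    refine ⟨⟨x, hxM⟩, h ?_, rfl⟩
    rw [Subgroup.mem_centralizer_iff]
    intro y hy
    exact Subtype.ext (Subgroup.mem_centralizer_iff.mp hxc y ⟨y, hy, rfl⟩)
  · intro h x hx
    have : (x : G) ∈ pCoreTwoOf M := h ⟨x.2, Subgroup.mem_centralizer_iff.mpr (by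
      rintro _ ⟨y, hy, rfl⟩
      exact congrArg Subtype.val (Subgroup.mem_centralizer_iff.mp hx y hy))⟩
    obtain ⟨y, hy, hyx⟩ := this
    rwa [Subtype.ext hyx] at hy

/-- an overgroup of `O₂(M)` inside a group `M` of characteristic two has characteristic two -/
theorem char_two_of_le {M Y : Subgroup G} (h : IsOfCharacteristicTwo M) (hY : Y ≤ M)
    (hO : pCoreTwoOf M ≤ Y) : IsOfCharacteristicTwo Y := by
  rw [char_two_sub_iff] at h ⊢
  have hle : pCoreTwoOf M ≤ pCoreTwoOf Y :=
    le_pCoreTwoOf hO (pCoreTwoOf_isPGroup M) (hY.trans (pCoreTwoOf_normalized M))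
  rintro x ⟨hxY, hxc⟩
  exact hle (h ⟨hY hxY, Subgroup.centralizer_le (SetLike.coe_subset_coe.mpr hle) hxc⟩)

/-- the normalizer of a two-subgroup `U` has characteristic two if some subgroup `M` of
characteristic two contains the centralizer of `O₂(N(U))` in `N(U)` -/
theorem char_two_normalizer {U M : Subgroup G} (hU : IsPGroup 2 U) (hM : IsOfCharacteristicTwo M)
    (hUM : U ≤ M)
    (hK : Subgroup.normalizer (U : Set G) ⊓
      Subgroup.centralizer (pCoreTwoOf (Subgroup.normalizer (U : Set G)) : Set G) ≤ M) :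
    IsOfCharacteristicTwo (Subgroup.normalizer (U : Set G)) := by
  haveI := two_fact
  rw [char_two_sub_iff] at hM ⊢
  set H := Subgroup.normalizer (U : Set G)
  set K := H ⊓ Subgroup.centralizer (pCoreTwoOf H : Set G)
  set Q := pCoreTwoOf M
  have hUH : U ≤ pCoreTwoOf H := le_pCoreTwoOf Subgroup.le_normalizer hU le_rfl
  have hHK : H ≤ Subgroup.normalizer (K : Set G) :=
    Comp.inf_le_normalizer Subgroup.le_normalizer (Comp.le_normalizer_centralizer (pCoreTwoOf_normalized H))
  -- elements of odd order in K are trivial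
  have hodd : ∀ y ∈ K, ¬ 2 ∣ orderOf y → y = 1 := by
    intro y hy hyo
    have hyU : ∀ u ∈ U, y * u = u * y := fun u hu =>
      (Subgroup.mem_centralizer_iff.mp hy.2 u (hUH hu)).symm
    have hyQ : y ∈ Subgroup.normalizer (Q : Set G) := pCoreTwoOf_normalized M (hK hy)
    have key : ∀ q ∈ Q, q ∈ Subgroup.centralizer (U : Set G) → y * q = q * y := by
      intro q hq hqU
      have hqH : q ∈ H := Subgroup.centralizer_le_normalizer _ hqU
      have h1 : y * q * y⁻¹ * q⁻¹ ∈ Q :=
        Q.mul_mem ((Subgroup.mem_normalizer_iff.mp hyQ q).mp hq) (Q.inv_mem hq)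
      have h2 : y * q * y⁻¹ * q⁻¹ ∈ K := by
        rw [show y * q * y⁻¹ * q⁻¹ = y * (q * y⁻¹ * q⁻¹) by group]
        exact K.mul_mem hy ((Subgroup.mem_normalizer_iff.mp (hHK hqH) y⁻¹).mp (K.inv_mem hy))
      -- the part of Q inside K is a normal two-subgroup of K
      have hQK : Q ⊓ K ≤ pCoreTwoOf H := by
        have hKp : IsPGroup 2 ↥(Q ⊓ K) := (pCoreTwoOf_isPGroup M).to_le inf_le_left
        have hn : K ≤ Subgroup.normalizer ((Q ⊓ K : Subgroup G) : Set G) :=
          Comp.inf_le_normalizer (hK.trans (pCoreTwoOf_normalized M)) Subgroup.le_normalizer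
        refine (le_pCoreTwoOf inf_le_right hKp hn).trans
          (le_pCoreTwoOf ((pCoreTwoOf_le K).trans inf_le_left) (pCoreTwoOf_isPGroup K) ?_)
        exact hHK.trans (Comp.le_normalizer_map_subtype (H := K) (pCore 2 K))
      refine Comp.commute_of_commutator_commute (pCoreTwoOf_isPGroup M) hyo h1 ?_
      exact (Subgroup.mem_centralizer_iff.mp hy.2 _ (hQK ⟨h1, h2⟩)).symm
    have hyc : ∀ q ∈ Q, y * q = q * y := Comp.pxq_lemma hU hyo hyU Q (pCoreTwoOf_isPGroup M)
      (hUM.trans (pCoreTwoOf_normalized M)) hyQ key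
    have hyQ' : y ∈ Q := hM ⟨hK hy, Subgroup.mem_centralizer_iff.mpr fun q hq => (hyc q hq).symm⟩
    obtain ⟨k, hk⟩ := pCoreTwoOf_isPGroup M ⟨y, hyQ'⟩
    exact Comp.eq_one_of_pow_eq_one (p := 2) (by simpa using congrArg Subtype.val hk) hyo
      (pow_orderOf_eq_one y)
  -- so K is a two-group
  have hKp : IsPGroup 2 K := by
    rintro ⟨y, hy⟩
    obtain ⟨j, m, hm, hjm⟩ : ∃ j m, ¬ 2 ∣ m ∧ orderOf y = 2 ^ j * m :=
      Nat.exists_eq_pow_mul_and_not_dvd (orderOf_pos y).ne' 2 (by norm_num)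
    refine ⟨j, Subtype.ext ?_⟩
    have hord : orderOf (y ^ 2 ^ j) = m := by
      rw [orderOf_pow, hjm, Nat.gcd_eq_right (dvd_mul_right _ _), Nat.mul_div_cancel_left _ (by positivity)]
    simpa using hodd _ (K.pow_mem hy _) (by rwa [hord])
  exact le_pCoreTwoOf inf_le_left hKp hHK

/-- `O₂(M)` lies in every Sylow two-subgroup of `G` contained in `M` -/
theorem pCoreTwoOf_le_sylow {M : Subgroup G} (T : Sylow 2 G) (hT : (T : Subgroup G) ≤ M) :
    pCoreTwoOf M ≤ T := by
  have hp : IsPGroup 2 ↥((T : Subgroup G) ⊔ pCoreTwoOf M) :=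
    T.2.to_sup_of_normal_right' (pCoreTwoOf_isPGroup M) (hT.trans (pCoreTwoOf_normalized M))
  exact le_sup_right.trans (T.3 hp le_sup_left).le

/-- a subgroup with nontrivial `O₂` containing a Sylow two-subgroup has characteristic two in a
group of even characteristic -/
theorem char_two_of_evenChar (hE : IsOfEvenCharacteristic G) (T : Sylow 2 G) {Y : Subgroup G}
    (hTY : (T : Subgroup G) ≤ Y) (hY : pCore 2 Y ≠ ⊥) : IsOfCharacteristicTwo Y := by
  set M := Subgroup.normalizer (pCoreTwoOf Y : Set G)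
  have hYM : Y ≤ M := pCoreTwoOf_normalized Y
  have hne : pCoreTwoOf Y ≠ ⊥ := by
    rwa [Ne, pCoreTwoOf, Subgroup.map_eq_bot_iff_of_injective _ Y.subtype_injective]
  refine char_two_of_le (hE M ⟨_, pCoreTwoOf_isPGroup Y, hne, rfl⟩ ⟨T, hTY.trans hYM⟩) hYM ?_
  exact (pCoreTwoOf_le_sylow T (hTY.trans hYM)).trans hTY

end H69
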