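import Cfsg.Agent.H69.FpfOrderThree
import Cfsg.Agent.H37.Sylow
import Cfsg.Agent.H37.PSL34
import Cfsg.Agent.H91.DihedralLift

/-!
A noncommutative group of order 64 with an action of the symmetric group of degree three, the
element of order three being fixed-point-free.
-/

set_option autoImplicit false

namespace H69

open Subgroup Matrix
open scoped commutatorElement

theorem four_field {F : Type*} [Field F] [Fintype F] (hF : Fintype.card F = 4) :
    ∃ ω : F, ω * ω = ω + 1 ∧ ω ≠ 0 ∧ ω ≠ 1 ∧ ∀ a : F, a = 0 ∨ a = 1 ∨ a = ω ∨ a = ω + 1 := by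
  classical
  haveI := H37.charP_two_of_card_four hF
  obtain ⟨ω, -, h⟩ : ∃ ω ∈ (Finset.univ : Finset F), ω ∉ ({0, 1} : Finset F) := by
    by_contra hc
    push Not at hc
    have := Finset.card_le_card (fun x hx => hc x hx : (Finset.univ : Finset F) ⊆ {0, 1})
    rw [Finset.card_univ, hF] at this
    have h2 : ({0, 1} : Finset F).card ≤ 2 := Finset.card_le_two
    omega
  simp only [Finset.mem_insert, Finset.mem_singleton, not_or] at h
  obtain ⟨h0, h1⟩ := h
  have h10 : (1 : F) + ω ≠ 0 := fun hh => h1 (CharTwo.add_eq_zero.1 hh).symm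
  have hall : ∀ a : F, a = 0 ∨ a = 1 ∨ a = ω ∨ a = ω + 1 := by
    intro a
    by_contra hc
    push Not at hc
    obtain ⟨a0, a1, a2, a3⟩ := hc
    have hle : ({0, 1, ω, ω + 1, a} : Finset F).card ≤ 4 := hF ▸ Finset.card_le_univ _
    rw [Finset.card_insert_of_notMem, Finset.card_insert_of_notMem, Finset.card_insert_of_notMem,
      Finset.card_insert_of_notMem, Finset.card_singleton] at hle
    · omega
    all_goals simp [Ne.symm h0, Ne.symm h1, Ne.symm a0, Ne.symm a1, Ne.symm a2, Ne.symm a3]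
    all_goals (intro hh; first | exact h10 (by rw [add_comm]; exact hh.symm) | exact h0 (add_eq_right.1 hh.symm) | exact one_ne_zero (add_eq_left.1 hh.symm) | exact one_ne_zero (add_eq_left.1 hh) | exact h0 (add_eq_right.1 hh) | exact h10 (by rw [add_comm]; exact hh) | exact absurd hh h0)
  refine ⟨ω, ?_, h0, h1, hall⟩
  rcases hall (ω * ω) with h | h | h | h
  · exact absurd (mul_self_eq_zero.1 h) h0
  · have : (ω + 1) * (ω + 1) = 0 := by
      calc (ω + 1) * (ω + 1) = ω * ω + (ω + ω) + 1 := by ring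
        _ = 0 := by rw [h, CharTwo.add_self_eq_zero, add_zero, CharTwo.add_self_eq_zero]
    exact absurd (mul_self_eq_zero.1 this) (by rw [add_comm]; exact h10)
  · exact absurd (mul_left_cancel₀ h0 (h.trans (mul_one ω).symm)) h1
  · exact h

section Data

variable {T : Type*} [Group T]

/-- `a = i + jω ↦ u^i v^j`. -/
noncomputable def four (F : Type*) [Field F] (ω : F) (u v : T) (a : F) : T := by
  classical
  exact if a = 0 then 1 else if a = 1 then u else if a = ω then v else u * v

variable {F : Type*} [Field F] [Fintype F] {ω : F}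

theorem four_vals (hω0 : ω ≠ 0) (hω1 : ω ≠ 1) (hω2 : ω + 1 ≠ 0) (u v : T) :
    four F ω u v 0 = 1 ∧ four F ω u v 1 = u ∧ four F ω u v ω = v ∧ four F ω u v (ω + 1) = u * v := by
  classical
  refine ⟨if_pos rfl, ?_, ?_, ?_⟩
  · unfold four; rw [if_neg one_ne_zero, if_pos rfl]
  · unfold four; rw [if_neg hω0, if_neg hω1, if_pos rfl]
  · have a : ω + 1 ≠ 1 := fun h => hω0 (add_eq_right.1 h)
    have b : ω + 1 ≠ ω := fun h => one_ne_zero (add_eq_left.1 h)
    unfold four
    rw [if_neg a, if_neg b]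
    rw [if_neg hω2]

theorem four_add (hF : Fintype.card F = 4) (hω : ∀ a : F, a = 0 ∨ a = 1 ∨ a = ω ∨ a = ω + 1)
    (hω0 : ω ≠ 0) (hω1 : ω ≠ 1) {u v : T} (hu : u * u = 1) (hv : v * v = 1) (huv : u * v = v * u)
    (a b : F) : four F ω u v (a + b) = four F ω u v a * four F ω u v b := by
  haveI := H37.charP_two_of_card_four hF
  obtain ⟨f0, f1, f2, f3⟩ := four_vals (T := T) hω0 hω1 (fun hh => hω1 (CharTwo.add_eq_zero.1 hh)) u v
  have c1 : (1 : F) + 1 = 0 := CharTwo.add_self_eq_zero 1
  have c2 : ω + ω = 0 := CharTwo.add_self_eq_zero ω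
  have c3 : (1 : F) + ω = ω + 1 := add_comm _ _
  have c4 : (1 : F) + (ω + 1) = ω := by rw [add_comm ω, ← add_assoc, c1, zero_add]
  have c5 : ω + (ω + 1) = 1 := by rw [← add_assoc, c2, zero_add]
  have c6 : ω + 1 + 1 = ω := by rw [add_assoc, c1, add_zero]
  have c7 : ω + 1 + ω = 1 := by rw [add_comm ω, add_assoc, c2, add_zero]
  have c8 : ω + 1 + (ω + 1) = 0 := CharTwo.add_self_eq_zero _
  rcases hω a with rfl | rfl | rfl | rfl <;> rcases hω b with rfl | rfl | rfl | rfl <;>
    simp only [zero_add, add_zero, c1, c2, c3, c4, c5, c6, c7, c8, f0, f1, f2, f3, one_mul, mul_one]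
  · exact hu.symm
  · rw [← mul_assoc, hu, one_mul]
  · exact huv
  · exact hv.symm
  · rw [huv, ← mul_assoc, hv, one_mul]
  · rw [huv, mul_assoc, hu, mul_one]
  · rw [mul_assoc, hv, mul_one]
  · rw [mul_assoc, ← mul_assoc v u v, ← huv, mul_assoc u v v, hv, mul_one, hu]

end Data

namespace Fpf

variable {T : Type*} [Group T] [Finite T] {ρ : MulAut T}

/-- The commutator is biadditive. -/
structure Class2 (T : Type*) [Group T] : Prop where
  zsq : ∀ z ∈ center T, z * z = 1
  comm : ∀ g h : T, ⁅g, h⁆ ∈ center T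
  sq : ∀ g : T, g * g ∈ center T

variable (hc : Class2 T)
include hc

omit [Finite T] in
theorem comm_mul_left (a b k : T) : ⁅a * b, k⁆ = ⁅a, k⁆ * ⁅b, k⁆ := by
  calc ⁅a * b, k⁆ = a * ⁅b, k⁆ * a⁻¹ * ⁅a, k⁆ := by simp only [commutatorElement_def]; group
    _ = ⁅a, k⁆ * ⁅b, k⁆ := by
      rw [mem_center_iff.1 (hc.comm b k) a, mul_inv_cancel_right,
        mem_center_iff.1 (hc.comm a k) ⁅b, k⁆]

omit [Finite T] in
theorem comm_symm (a b : T) : ⁅b, a⁆ = ⁅a, b⁆ := by
  rw [← commutatorElement_inv a b]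
  exact inv_eq_of_mul_eq_one_right (hc.zsq _ (hc.comm a b))

omit [Finite T] in
theorem comm_mul_right (k a b : T) : ⁅k, a * b⁆ = ⁅k, a⁆ * ⁅k, b⁆ := by
  rw [← comm_symm hc, comm_mul_left hc, comm_symm hc k a, comm_symm hc k b]

omit [Finite T] in
theorem sq_mul (a b : T) : a * b * (a * b) = a * a * (b * b) * ⁅a, b⁆ := by
  have e : a * b * (a * b) = a * a * (⁅a⁻¹, b⁆) * (b * b) := by
    simp only [commutatorElement_def]; group
  have e' : ⁅a⁻¹, b⁆ = ⁅a, b⁆ := by
    have := comm_mul_left hc a⁻¹ a b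
    rw [inv_mul_cancel, commutatorElement_one_left] at this
    rw [eq_inv_of_mul_eq_one_left this.symm]
    exact inv_eq_of_mul_eq_one_right (hc.zsq _ (hc.comm a b))
  rw [e, e', mul_assoc (a * a), mul_assoc (a * a) (b * b),
    mem_center_iff.1 (hc.comm a b) (b * b)]

omit hc in
omit [Finite T] in
theorem rho_comm (a b : T) : ρ ⁅a, b⁆ = ⁅ρ a, ρ b⁆ := map_commutatorElement ρ a b

theorem comm_rho_swap (h : IsFpf ρ) (a b : T) : ⁅a, ρ b⁆ = ⁅b, ρ a⁆ := by
  have z : ∀ y : T, ⁅y, ρ y⁆ = 1 := fun y =>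
    commutatorElement_eq_one_iff_mul_comm.2 (commute_rho h y)
  have e := z (a * b)
  rw [map_mul, comm_mul_left hc, comm_mul_right hc, comm_mul_right hc, z, z, one_mul, mul_one] at e
  rw [eq_inv_of_mul_eq_one_left e]
  exact inv_eq_of_mul_eq_one_right (hc.zsq _ (hc.comm _ _))

theorem comm_cross (h : IsFpf ρ) (a b : T) : ⁅a, ρ b⁆ = ρ (ρ ⁅a, b⁆) := by
  set z := ⁅a, b⁆ with hz
  set m := ⁅a, ρ b⁆ with hm
  have hrm : ρ m = m * ρ z := by
    rw [hm, rho_comm, rho_sq h b, hz, rho_comm]
    have : ⁅ρ a, (b * ρ b)⁻¹⁆ = ⁅ρ a, b * ρ b⁆ := by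
      have e := comm_mul_right hc (ρ a) (b * ρ b)⁻¹ (b * ρ b)
      rw [inv_mul_cancel, commutatorElement_one_right] at e
      rw [eq_inv_of_mul_eq_one_left e.symm]
      exact inv_eq_of_mul_eq_one_right (hc.zsq _ (hc.comm _ _))
    rw [this, comm_mul_right hc, comm_symm hc b (ρ a), ← comm_rho_swap hc h a b, ← hm]
  have hzc : z ∈ center T := hc.comm a b
  have hfix : ρ (m * ρ (ρ z)) = m * ρ (ρ z) := by
    rw [map_mul, hrm, h.1]
    have e : ρ z * z = ρ (ρ z) := by
      have h1 := rho_sq h z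
      have h2 : ρ (ρ z) * ρ (ρ z) = 1 := hc.zsq _ (center_map _ (center_map _ hzc))
      rw [← inv_eq_of_mul_eq_one_right h2, h1, inv_inv, commute_rho h z]
    rw [mul_assoc, e]
  have := h.2 _ hfix
  rw [eq_inv_of_mul_eq_one_left this]
  exact inv_eq_of_mul_eq_one_right (hc.zsq _ (center_map _ (center_map _ hzc)))

theorem iso_model (h : IsFpf ρ) (hT : Nat.card T = 64) (hZ : Nat.card (center T) = 4) {u v : T}
    (hu : u * u = 1) (hv : v * v = 1) (huv : ⁅u, v⁆ ≠ 1)
    {F : Type*} [Field F] [Fintype F] (hF : Fintype.card F = 4) :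
    Nonempty (↥(H37.unitriangularSL 3 F) ≃* T) := by
  haveI := H37.charP_two_of_card_four hF
  obtain ⟨ω, hω, hω0, hω1, hall⟩ := four_field hF
  set z := ⁅u, v⁆ with hz
  have hzc : z ∈ center T := hc.comm u v
  have hzc' : ρ z ∈ center T := center_map _ hzc
  have inv2 : ∀ g : T, g * g = 1 → ρ g * ρ g = 1 := fun g hg => by rw [← map_mul, hg, map_one]
  let U : F → T := four F ω u (ρ u)
  let V : F → T := four F ω v (ρ v)
  let K : F → T := four F ω z (ρ (ρ z))
  have hK2 : ρ (ρ z) * ρ (ρ z) = 1 := hc.zsq _ (center_map _ hzc')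
  have Uadd := four_add hF hall hω0 hω1 hu (inv2 u hu) (commute_rho h u)
  have Vadd := four_add hF hall hω0 hω1 hv (inv2 v hv) (commute_rho h v)
  have Kadd := four_add hF hall hω0 hω1 (hc.zsq z hzc) hK2
    (mem_center_iff.1 (center_map _ hzc') z)
  obtain ⟨U0, U1, U2, U3⟩ := four_vals (T := T) hω0 hω1 (fun hh => hω1 (CharTwo.add_eq_zero.1 hh)) u (ρ u)
  obtain ⟨V0, V1, V2, V3⟩ := four_vals (T := T) hω0 hω1 (fun hh => hω1 (CharTwo.add_eq_zero.1 hh)) v (ρ v)
  obtain ⟨K0, K1, K2, K3⟩ := four_vals (T := T) hω0 hω1 (fun hh => hω1 (CharTwo.add_eq_zero.1 hh)) z (ρ (ρ z))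
  have Kc : ∀ a, K a ∈ center T := fun a => by
    rcases hall a with e | e | e | e <;> rw [e]
    · show four F ω z _ 0 ∈ _; rw [K0]; exact one_mem _
    · show four F ω z _ 1 ∈ _; rw [K1]; exact hzc
    · show four F ω z _ ω ∈ _; rw [K2]; exact center_map _ hzc'
    · show four F ω z _ (ω + 1) ∈ _; rw [K3]; exact mul_mem hzc (center_map _ hzc')
  have key : ∀ a c, ⁅U a, V c⁆ = K (a * c) := by
    have b11 : ⁅u, v⁆ = K 1 := K1.symm
    have b12 : ⁅u, ρ v⁆ = K ω := by rw [comm_cross hc h, ← hz]; exact K2.symm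
    have b21 : ⁅ρ u, v⁆ = K ω := by rw [comm_symm hc, ← comm_rho_swap hc h]; exact b12
    have b22 : ⁅ρ u, ρ v⁆ = K (ω * ω) := by
      rw [hω, ← rho_comm, ← hz, show K (ω + 1) = z * ρ (ρ z) from K3]
      have h2 : z * z = 1 := hc.zsq z hzc
      have h4 : ρ z * ρ z = 1 := inv2 z h2
      rw [rho_sq h z, _root_.mul_inv_rev, inv_eq_of_mul_eq_one_right h4, inv_eq_of_mul_eq_one_right h2,
        ← commute_rho h z, ← mul_assoc, h2, one_mul]
    intro a c
    have left : ∀ a, ⁅U a, v⁆ = K a := by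
      intro a
      rcases hall a with e | e | e | e <;> rw [e]
      · rw [show U 0 = 1 from U0, commutatorElement_one_left, show K 0 = 1 from K0]
      · rw [show U 1 = u from U1, b11]
      · rw [show U ω = ρ u from U2, b21]
      · rw [show U (ω + 1) = u * ρ u from U3, comm_mul_left hc, b11, b21, ← Kadd, add_comm]
    have right : ∀ a, ⁅U a, ρ v⁆ = K (a * ω) := by
      intro a
      rcases hall a with e | e | e | e <;> rw [e]
      · rw [show U 0 = 1 from U0, commutatorElement_one_left, zero_mul, show K 0 = 1 from K0]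
      · rw [show U 1 = u from U1, b12, one_mul]
      · rw [show U ω = ρ u from U2, b22]
      · rw [show U (ω + 1) = u * ρ u from U3, comm_mul_left hc, b12, b22, ← Kadd, add_mul,
          one_mul, add_comm]
    rcases hall c with e | e | e | e <;> rw [e]
    · rw [show V 0 = 1 from V0, commutatorElement_one_right, mul_zero, show K 0 = 1 from K0]
    · rw [show V 1 = v from V1, left, mul_one]
    · rw [show V ω = ρ v from V2, right]
    · rw [show V (ω + 1) = v * ρ v from V3, comm_mul_right hc, left, right, ← Kadd, mul_add,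
        mul_one, add_comm]
  let f : ↥(H37.unitriangularSL 3 F) → T := fun g =>
    V ((g.1 : Matrix (Fin 3) (Fin 3) F) 1 2) * U ((g.1 : Matrix (Fin 3) (Fin 3) F) 0 1) *
      K ((g.1 : Matrix (Fin 3) (Fin 3) F) 0 2)
  have hmem : ∀ g : ↥(H37.unitriangularSL 3 F),
      (∀ i j : Fin 3, j < i → (g.1 : Matrix (Fin 3) (Fin 3) F) i j = 0) ∧
        ∀ i, (g.1 : Matrix (Fin 3) (Fin 3) F) i i = 1 := fun g => by
    obtain ⟨h1, h2⟩ := (H37.mem_unitriangular _).1 g.2
    exact ⟨fun i j hij => h1 hij, h2⟩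
  let φ : ↥(H37.unitriangularSL 3 F) →* T := MonoidHom.mk' f fun g k => by
    obtain ⟨gz, g1⟩ := hmem g
    obtain ⟨kz, k1⟩ := hmem k
    show V ((g.1.1 * k.1.1 : Matrix (Fin 3) (Fin 3) F) 1 2) * U ((g.1.1 * k.1.1 : Matrix (Fin 3) (Fin 3) F) 0 1) *
      K ((g.1.1 * k.1.1 : Matrix (Fin 3) (Fin 3) F) 0 2) = _
    simp only [f, Matrix.mul_apply, Fin.sum_univ_three,
      gz 1 0 (by decide), kz 2 1 (by decide), kz 2 0 (by decide), kz 1 0 (by decide), gz 2 0 (by decide),
      g1, k1, mul_one, one_mul, zero_mul, mul_zero, add_zero, zero_add]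
    set a := (g.1 : Matrix (Fin 3) (Fin 3) F) 0 1
    set c := (g.1 : Matrix (Fin 3) (Fin 3) F) 1 2
    set e := (g.1 : Matrix (Fin 3) (Fin 3) F) 0 2
    set a' := (k.1 : Matrix (Fin 3) (Fin 3) F) 0 1
    set c' := (k.1 : Matrix (Fin 3) (Fin 3) F) 1 2
    set e' := (k.1 : Matrix (Fin 3) (Fin 3) F) 0 2
    show V (c' + c) * U (a' + a) * K (e' + a * c' + e) = V c * U a * K e * (V c' * U a' * K e')
    have kc : ∀ x (y : T), y * K x = K x * y := fun x y => mem_center_iff.1 (Kc x) y
    have hsw : U a * V c' = K (a * c') * (V c' * U a) := by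
      rw [← key, commutatorElement_def]; group
    rw [add_comm c' c, add_comm a' a, show e' + a * c' + e = a * c' + (e + e') by ring,
      show V (c + c') = V c * V c' from Vadd _ _, show U (a + a') = U a * U a' from Uadd _ _,
      show K (a * c' + (e + e')) = K (a * c') * (K e * K e') by
        show four F ω z _ _ = _; rw [Kadd, Kadd]]
    symm
    calc V c * U a * K e * (V c' * U a' * K e')
        = V c * (U a * V c') * U a' * (K e * K e') := by
          simp only [mul_assoc]
          rw [← mul_assoc (K e) (V c'), ← kc e (V c'), mul_assoc (V c'), ← mul_assoc (K e) (U a'),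
            ← kc e (U a'), mul_assoc (U a')]
      _ = V c * V c' * (U a * U a') * (K (a * c') * (K e * K e')) := by
          rw [hsw, ← kc (a * c') (V c' * U a)]
          simp only [mul_assoc]
          rw [← mul_assoc (K (a * c')) (U a'), ← kc (a * c') (U a'), mul_assoc (U a')]
  have hker : ∀ g, φ g = 1 → g = 1 := by
    intro g hg
    obtain ⟨gz, g1⟩ := hmem g
    set a := (g.1 : Matrix (Fin 3) (Fin 3) F) 0 1 with ha
    set c := (g.1 : Matrix (Fin 3) (Fin 3) F) 1 2 with hcc
    set e := (g.1 : Matrix (Fin 3) (Fin 3) F) 0 2 with he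
    have hg' : V c * U a * K e = 1 := hg
    have hUU : ∀ x y, ⁅U x, U y⁆ = 1 := fun x y => commutatorElement_eq_one_iff_mul_comm.2 (by
      show four F ω u _ x * four F ω u _ y = four F ω u _ y * four F ω u _ x
      rw [← Uadd, ← Uadd, add_comm])
    have hVV : ∀ x y, ⁅V x, V y⁆ = 1 := fun x y => commutatorElement_eq_one_iff_mul_comm.2 (by
      show four F ω v _ x * four F ω v _ y = four F ω v _ y * four F ω v _ x
      rw [← Vadd, ← Vadd, add_comm])
    have hKK : ∀ x (y : T), ⁅y, K x⁆ = 1 := fun x y =>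
      commutatorElement_eq_one_iff_mul_comm.2 (mem_center_iff.1 (Kc x) y)
    have hrz : ρ (ρ z) ≠ z := fun hh => huv (h.2 z (by
      have := congrArg ρ hh; rw [h.1] at this; exact this.symm))
    have hK0 : ∀ x, K x = 1 → x = 0 := by
      intro x hx
      rcases hall x with e' | e' | e' | e' <;> rw [e'] at hx ⊢
      · exact absurd ((show K 1 = z from K1).symm.trans hx) huv
      · exact absurd (ρ.injective (ρ.injective (((show K ω = _ from K2).symm.trans hx).trans
          (by rw [map_one, map_one])))) huv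
      · exfalso
        have := ((show K (ω + 1) = _ from K3).symm.trans hx)
        exact hrz ((eq_inv_of_mul_eq_one_right this).trans
          (inv_eq_of_mul_eq_one_right (hc.zsq z hzc)))
    have hc0 : c = 0 := by
      apply hK0
      have hh : ⁅U 1, V c * U a * K e⁆ = 1 := by rw [hg', commutatorElement_one_right]
      rw [comm_mul_right hc, comm_mul_right hc, key, one_mul, hUU, hKK, mul_one, mul_one] at hh
      exact hh
    have ha0 : a = 0 := by
      apply hK0
      have hh : ⁅V c * U a * K e, V 1⁆ = 1 := by rw [hg', commutatorElement_one_left]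
      rw [comm_mul_left hc, comm_mul_left hc, key, mul_one, hVV, one_mul,
        comm_symm hc (V 1) (K e), hKK, mul_one] at hh
      exact hh
    have he0 : e = 0 := hK0 e (by
      rw [hc0, ha0, show V 0 = 1 from V0, show U 0 = 1 from U0, one_mul, one_mul] at hg'; exact hg')
    apply Subtype.ext; apply Subtype.ext
    ext i j
    fin_cases i <;> fin_cases j <;>
      simp [g1, gz 1 0 (by decide), gz 2 0 (by decide), gz 2 1 (by decide), ← ha, ← hcc, ← he, ha0, hc0, he0]
  have hinj : Function.Injective φ := (injective_iff_map_eq_one φ).2 hker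
  refine ⟨MulEquiv.ofBijective φ ((Nat.bijective_iff_injective_and_card φ).2 ⟨hinj, ?_⟩)⟩
  rw [H37.card_unitriangularSL, Nat.card_eq_fintype_card, hF, hT]
  rfl

end Fpf

end H69
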