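import Cfsg.Agent.H76.L34Multiplier
import Cfsg.Agent.H2.Gaschutz
import Cfsg.Agent.H69.FpfSixtyFour

/-!
Elementary abelian subgroups of order 16 in covers of `PSL₃(4)` and their normalisers.
-/

set_option autoImplicit false

namespace H69.L34

open Matrix Subgroup H76.L34

variable {F : Type*} [Field F] [Fintype F]

theorem val_mul_inv_mul (g h : SpecialLinearGroup (Fin 3) F) :
    (g.1 : Matrix (Fin 3) (Fin 3) F) * (g⁻¹ * h).1 = h.1 :=
  congrArg (fun x : SpecialLinearGroup (Fin 3) F => x.1) (mul_inv_cancel_left g h)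

/-- The antidiagonal. -/
def anti : Matrix (Fin 3) (Fin 3) F := !![0, 0, 1; 0, 1, 0; 1, 0, 0]

theorem anti_sq : (anti : Matrix (Fin 3) (Fin 3) F) * anti = 1 := by
  ext i j
  fin_cases i <;> fin_cases j <;> simp [anti, Matrix.mul_apply, Fin.sum_univ_three]

theorem anti_det (hF : Fintype.card F = 4) : (anti : Matrix (Fin 3) (Fin 3) F).det = 1 := by
  simp [anti, Matrix.det_fin_three]
  linear_combination (-1 : F) * two_eq_zero_of_card_four hF

/-- Inverse transpose, twisted by the antidiagonal. -/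
def dualSL (hF : Fintype.card F = 4) : MulAut (SpecialLinearGroup (Fin 3) F) :=
  let f : SpecialLinearGroup (Fin 3) F → SpecialLinearGroup (Fin 3) F := fun M =>
    ⟨anti * ((M⁻¹).1)ᵀ * anti, by
      rw [det_mul, det_mul, det_transpose, anti_det hF, (M⁻¹).2, one_mul, one_mul]⟩
  have hm : ∀ M N, f (M * N) = f M * f N := fun M N => by
    apply Subtype.ext
    show anti * (((M * N)⁻¹).1)ᵀ * anti = (anti * ((M⁻¹).1)ᵀ * anti) * (anti * ((N⁻¹).1)ᵀ * anti)
    rw [_root_.mul_inv_rev, show ((N⁻¹ * M⁻¹).1 : Matrix (Fin 3) (Fin 3) F) = (N⁻¹).1 * (M⁻¹).1 from rfl, transpose_mul]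
    simp only [mul_assoc]
    rw [← mul_assoc anti anti, anti_sq, one_mul]
  have hinv : ∀ M, f (f M) = M := fun M => by
    have e : (f M)⁻¹ = f M⁻¹ := by
      refine inv_eq_of_mul_eq_one_right ?_
      rw [← hm, mul_inv_cancel]
      apply Subtype.ext
      show anti * (((1 : SpecialLinearGroup (Fin 3) F)⁻¹).1)ᵀ * anti = 1
      rw [inv_one, show ((1 : SpecialLinearGroup (Fin 3) F).1 : Matrix (Fin 3) (Fin 3) F) = 1 from rfl, transpose_one, mul_one, anti_sq]
    apply Subtype.ext
    show anti * (((f M)⁻¹).1)ᵀ * anti = M.1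
    rw [e]
    show anti * (anti * (((M⁻¹)⁻¹).1)ᵀ * anti)ᵀ * anti = M.1
    have ha : (anti : Matrix (Fin 3) (Fin 3) F)ᵀ = anti := by
      ext i j; fin_cases i <;> fin_cases j <;> simp [anti, transpose]
    rw [inv_inv, transpose_mul, transpose_mul, transpose_transpose, ha]
    simp only [← mul_assoc, anti_sq, one_mul]
    rw [mul_assoc, anti_sq, mul_one]
  { toFun := f
    invFun := f
    left_inv := hinv
    right_inv := hinv
    map_mul' := hm }

/-- The duality automorphism of `PSL₃(4)`. -/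
noncomputable def dual (hF : Fintype.card F = 4) : MulAut (ProjectiveSpecialLinearGroup (Fin 3) F) :=
  QuotientGroup.congr _ _ (dualSL hF) (Subgroup.characteristic_iff_map_eq.1 inferInstance _)

theorem dual_puni (hF : Fintype.card F = 4) (a b c : F) :
    dual hF (puni a b c) = puni c (a * c + b) a := by
  refine congrArg QuotientGroup.mk (Subtype.ext ?_)
  have he : (uni a b c)⁻¹ = uni a (a * c + b) c := inv_eq_of_mul_eq_one_right (by
    rw [uni_mul, ← uni_zero, add_self_four hF, add_self_four hF]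
    congr 1
    linear_combination (a * c + b) * two_eq_zero_of_card_four hF)
  show anti * (((uni a b c)⁻¹).1)ᵀ * anti = _
  rw [he]
  show anti * (!![1, a, a * c + b; 0, 1, c; 0, 0, 1] : Matrix (Fin 3) (Fin 3) F)ᵀ * anti = !![1, c, a * c + b; 0, 1, a; 0, 0, 1]
  ext i j
  fin_cases i <;> fin_cases j <;>
    simp [anti, Matrix.mul_apply, Fin.sum_univ_three, Matrix.vecMul, dotProduct, vecHead, vecTail]

/-- The image of the unitriangular group. -/
def pB (F : Type*) [Field F] [Fintype F] : Subgroup (ProjectiveSpecialLinearGroup (Fin 3) F) :=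
  (uniGroup F).map (QuotientGroup.mk' _)

theorem mem_pB {s : ProjectiveSpecialLinearGroup (Fin 3) F} :
    s ∈ pB F ↔ ∃ a b c : F, s = puni a b c := by
  constructor
  · rintro ⟨_, ⟨⟨a, b, c⟩, rfl⟩, rfl⟩
    exact ⟨a, b, c, rfl⟩
  · rintro ⟨a, b, c, rfl⟩
    exact ⟨_, ⟨(a, b, c), rfl⟩, rfl⟩

theorem puni_inj {a b c a' b' c' : F} (h : puni a b c = puni a' b' c') : a = a' ∧ b = b' ∧ c = c' := by
  obtain ⟨r, -, hr⟩ := Matrix.SpecialLinearGroup.mem_center_iff.1 (QuotientGroup.eq.1 h)
  have he : ((uni a b c).1 : Matrix (Fin 3) (Fin 3) F) * Matrix.scalar (Fin 3) r = (uni a' b' c').1 := by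
    rw [hr]
    exact val_mul_inv_mul _ _
  have e00 := congr_fun (congr_fun he 0) 0
  simp [uni, Matrix.mul_apply, Fin.sum_univ_three] at e00
  subst e00
  rw [map_one, mul_one] at he
  have e1 := congr_fun (congr_fun he 0) 1
  have e2 := congr_fun (congr_fun he 0) 2
  have e3 := congr_fun (congr_fun he 1) 2
  simp [uni] at e1 e2 e3
  exact ⟨e1, e2, e3⟩

/-- The row subgroup. -/
def pA (F : Type*) [Field F] [Fintype F] : Subgroup (ProjectiveSpecialLinearGroup (Fin 3) F) where
  carrier := {s | ∃ a b : F, s = puni a b 0}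
  one_mem' := ⟨0, 0, by rw [puni, uni_zero]; rfl⟩
  mul_mem' := by
    rintro _ _ ⟨a, b, rfl⟩ ⟨a', b', rfl⟩
    exact ⟨a + a', b + b', by rw [puni_mul]; simp⟩
  inv_mem' := by
    rintro _ ⟨a, b, rfl⟩
    refine ⟨-a, -b, inv_eq_of_mul_eq_one_right ?_⟩
    rw [puni_mul]
    simp only [mul_zero, add_zero, add_neg_cancel]
    rw [puni, uni_zero]; rfl

theorem card_pA (hF : Fintype.card F = 4) : Nat.card (pA F) = 16 := by
  have hinj : Function.Injective fun v : F × F => puni v.1 v.2 0 := fun v v' h =>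
    Prod.ext (puni_inj h).1 (puni_inj h).2.1
  have e : (pA F : Set (ProjectiveSpecialLinearGroup (Fin 3) F)) = Set.range fun v : F × F => puni v.1 v.2 0 := by
    ext s
    exact ⟨fun ⟨a, b, h⟩ => ⟨(a, b), h.symm⟩, fun ⟨⟨a, b⟩, h⟩ => ⟨a, b, h.symm⟩⟩
  rw [show Nat.card (pA F) = Nat.card (Set.range fun v : F × F => puni v.1 v.2 0) from
    congrArg (fun S : Set _ => Nat.card S) e, Nat.card_range_of_injective hinj, Nat.card_prod,
    Nat.card_eq_fintype_card, hF]

/-- The elementary abelian subgroups of order `16` of the unitriangular group. -/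
theorem eq_pA_or (hF : Fintype.card F = 4) {A : Subgroup (ProjectiveSpecialLinearGroup (Fin 3) F)}
    (hAB : A ≤ pB F) (hA2 : ∀ s ∈ A, s * s = 1) (hcard : Nat.card A = 16) :
    A = pA F ∨ A = (pA F).map (dual hF).toMonoidHom := by
  have hzero : ∀ {a b c : F}, puni a b c ∈ A → a = 0 ∨ c = 0 := fun {a b c} hs => by
    have h := hA2 _ hs
    rw [puni_mul, add_self_four hF, add_self_four hF, add_self_four hF, zero_add] at h
    exact mul_eq_zero.1 (eq_zero_of_puni_eq_one h)
  by_cases hall : ∀ a b c : F, puni a b c ∈ A → c = 0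
  · left
    refine eq_of_le_of_card_ge (fun s hs => ?_) (by rw [card_pA hF, hcard])
    obtain ⟨a, b, c, rfl⟩ := mem_pB.1 (hAB hs)
    exact ⟨a, b, by rw [hall a b c hs]⟩
  · right
    push Not at hall
    obtain ⟨a1, b1, c1, h1, hc1⟩ := hall
    have ha1 := (hzero h1).resolve_right hc1
    refine eq_of_le_of_card_ge (fun s hs => ?_) (le_of_eq (by
      rw [card_map_of_injective (f := (dual hF).toMonoidHom) (dual hF).injective, card_pA hF, hcard]))
    obtain ⟨a, b, c, rfl⟩ := mem_pB.1 (hAB hs)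
    have ha : a = 0 := by
      by_contra ha
      have hc := (hzero hs).resolve_left ha
      have hm := mul_mem h1 hs
      rw [puni_mul, ha1, hc, zero_add, add_zero] at hm
      exact (hzero hm).elim ha hc1
    subst ha
    exact ⟨puni c b 0, ⟨c, b, rfl⟩, by
      show dual hF (puni c b 0) = _
      rw [dual_puni, mul_zero, zero_add]⟩

theorem dual_map_pB (hF : Fintype.card F = 4) {s : ProjectiveSpecialLinearGroup (Fin 3) F}
    (hs : s ∈ pB F) : dual hF s ∈ pB F := by
  obtain ⟨a, b, c, rfl⟩ := mem_pB.1 hs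
  exact mem_pB.2 ⟨_, _, _, dual_puni hF a b c⟩

theorem dual_dual (hF : Fintype.card F = 4) (s : ProjectiveSpecialLinearGroup (Fin 3) F) :
    dual hF (dual hF s) = s := by
  obtain ⟨M, rfl⟩ := QuotientGroup.mk_surjective s
  show (QuotientGroup.mk (dualSL hF (dualSL hF M)) : ProjectiveSpecialLinearGroup (Fin 3) F) = _
  rw [show dualSL hF (dualSL hF M) = M from (dualSL hF).left_inv M]

/-- The Levi complement. -/
def levi (D : SpecialLinearGroup (Fin 2) F) : SpecialLinearGroup (Fin 3) F :=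
  ⟨!![1, 0, 0; 0, D.1 0 0, D.1 0 1; 0, D.1 1 0, D.1 1 1], by
    have := D.2
    rw [Matrix.det_fin_two] at this
    simp [Matrix.det_fin_three]
    linear_combination this⟩

theorem levi_mul (D E : SpecialLinearGroup (Fin 2) F) : levi (D * E) = levi D * levi E := by
  apply Subtype.ext
  show (levi (D * E)).1 = (levi D).1 * (levi E).1
  ext i j
  fin_cases i <;> fin_cases j <;>
    simp [levi, Matrix.mul_apply, Fin.sum_univ_three, Fin.sum_univ_two]

/-- `SL₂(4)` in `PSL₃(4)`. -/
noncomputable def leviHom : SpecialLinearGroup (Fin 2) F →* ProjectiveSpecialLinearGroup (Fin 3) F :=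
  MonoidHom.mk' (fun D => QuotientGroup.mk (levi D)) fun D E => by
    rw [levi_mul]; rfl

theorem levi_facts : (∀ D : SpecialLinearGroup (Fin 2) F, leviHom D ∈ pA F → D = 1) ∧
    ∀ (D : SpecialLinearGroup (Fin 2) F) (s : ProjectiveSpecialLinearGroup (Fin 3) F),
      s ∈ pA F → leviHom D * s * (leviHom D)⁻¹ ∈ pA F := by
  constructor
  · rintro D ⟨a, b, h⟩
    obtain ⟨r, -, hr⟩ := Matrix.SpecialLinearGroup.mem_center_iff.1 (QuotientGroup.eq.1 h)
    have he : ((levi D).1 : Matrix (Fin 3) (Fin 3) F) * Matrix.scalar (Fin 3) r = (uni a b 0).1 := by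
      rw [hr]
      exact val_mul_inv_mul _ _
    have e00 := congr_fun (congr_fun he 0) 0
    simp [levi, uni, Matrix.mul_apply, Fin.sum_univ_three] at e00
    subst e00
    rw [map_one, mul_one] at he
    have e11 := congr_fun (congr_fun he 1) 1
    have e12 := congr_fun (congr_fun he 1) 2
    have e21 := congr_fun (congr_fun he 2) 1
    have e22 := congr_fun (congr_fun he 2) 2
    simp [levi, uni] at e11 e12 e21 e22
    apply Subtype.ext
    ext i j
    fin_cases i <;> fin_cases j <;> simp [e11, e12, e21, e22]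
  · rintro D _ ⟨a, b, rfl⟩
    refine ⟨a * D.1 1 1 - b * D.1 1 0, b * D.1 0 0 - a * D.1 0 1, ?_⟩
    rw [mul_inv_eq_iff_eq_mul]
    refine puni_conj _ ?_
    have hd := D.2
    rw [Matrix.det_fin_two] at hd
    ext i j
    fin_cases i <;> fin_cases j <;> simp [levi, Matrix.mul_apply, Fin.sum_univ_three] <;>
      first
        | ring1
        | linear_combination a * hd
        | linear_combination b * hd
        | linear_combination (-a) * hd
        | linear_combination (-b) * hd

/-- The normaliser of the row group. -/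
theorem exists_levi (hF : Fintype.card F = 4) {s : ProjectiveSpecialLinearGroup (Fin 3) F}
    (hs : s ∈ normalizer (pA F : Set (ProjectiveSpecialLinearGroup (Fin 3) F))) :
    ∃ D, s * (leviHom D)⁻¹ ∈ pA F := by
  obtain ⟨M, rfl⟩ := QuotientGroup.mk_surjective s
  obtain ⟨a, b, hab⟩ := (Subgroup.mem_normalizer_iff.1 hs (puni 1 0 0)).1 ⟨1, 0, rfl⟩
  rw [mul_inv_eq_iff_eq_mul, puni, puni, ← QuotientGroup.mk_mul, ← QuotientGroup.mk_mul] at hab
  obtain ⟨r, -, hr⟩ := Matrix.SpecialLinearGroup.mem_center_iff.1 (QuotientGroup.eq.1 hab)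
  -- the scalar is one, compare traces
  have he : (M * uni 1 0 0 : SpecialLinearGroup (Fin 3) F).1 * Matrix.scalar (Fin 3) r =
      (uni a b 0 * M : SpecialLinearGroup (Fin 3) F).1 := by
    rw [hr]
    exact val_mul_inv_mul _ _
  have hMM : (M.1 : Matrix (Fin 3) (Fin 3) F) * (M⁻¹).1 = 1 := by
    exact congrArg (fun x : SpecialLinearGroup (Fin 3) F => x.1) (mul_inv_cancel M)
  have hM1 : ((M⁻¹).1 : Matrix (Fin 3) (Fin 3) F) * M.1 = 1 := by
    exact congrArg (fun x : SpecialLinearGroup (Fin 3) F => x.1) (inv_mul_cancel M)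
  change M.1 * (uni 1 0 0).1 * Matrix.scalar (Fin 3) r = (uni a b 0).1 * M.1 at he
  have hr1 : r = 1 := by
    have hh := congrArg (fun A => Matrix.trace ((M⁻¹).1 * A)) he
    simp only [← mul_assoc, hM1, one_mul] at hh
    rw [Matrix.trace_mul_cycle, hMM, one_mul] at hh
    simp [Matrix.trace_fin_three, uni, Matrix.mul_apply, Fin.sum_univ_three] at hh
    linear_combination hh - (r - 1) * two_eq_zero_of_card_four hF
  subst hr1
  rw [map_one, mul_one] at he
  have h10 := congr_fun (congr_fun he 1) 1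
  have h20 := congr_fun (congr_fun he 2) 1
  simp [uni, Matrix.mul_apply, Fin.sum_univ_three] at h10 h20
  -- normalise the corner
  set m := M.1 0 0 with hm
  have hdet := M.2
  rw [Matrix.det_fin_three, h10, h20] at hdet
  simp only [mul_zero, zero_mul, sub_zero, add_zero] at hdet
  have hm0 : m ≠ 0 := fun h0 => by
    rw [← hm, h0] at hdet; simp at hdet
  have hm3 : m * m * m = 1 := cube_four hF hm0
  let D : SpecialLinearGroup (Fin 2) F :=
    ⟨!![m * m * M.1 1 1, m * m * M.1 1 2; m * m * M.1 2 1, m * m * M.1 2 2], by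
      rw [Matrix.det_fin_two]
      simp
      linear_combination hdet + (m * M.1 1 1 * M.1 2 2 - m * M.1 1 2 * M.1 2 1) * hm3⟩
  refine ⟨D, ?_⟩
  let C : SpecialLinearGroup (Fin 3) F :=
    ⟨Matrix.scalar (Fin 3) (m * m), by
      simp
      linear_combination (m * m * m + 1) * hm3⟩
  have hC : C ∈ center (SpecialLinearGroup (Fin 3) F) :=
    Matrix.SpecialLinearGroup.mem_center_iff.2 ⟨m * m, by
      rw [Fintype.card_fin]; linear_combination (m * m * m + 1) * hm3, rfl⟩
  have hMC : (QuotientGroup.mk (M * C) : ProjectiveSpecialLinearGroup (Fin 3) F) = QuotientGroup.mk M :=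
    QuotientGroup.mk_mul_of_mem M hC
  obtain ⟨a', b', heq⟩ : ∃ a' b' : F, M * C = uni a' b' 0 * levi D := by
    have hdD := D.2
    rw [Matrix.det_fin_two] at hdD
    refine ⟨(m * m * M.1 0 1) * D.1 1 1 - (m * m * M.1 0 2) * D.1 1 0,
      (m * m * M.1 0 2) * D.1 0 0 - (m * m * M.1 0 1) * D.1 0 1, Subtype.ext ?_⟩
    show M.1 * Matrix.scalar (Fin 3) (m * m) = (uni _ _ 0).1 * (levi D).1
    ext i j
    fin_cases i <;> fin_cases j <;>
      simp [levi, uni, D, Matrix.mul_apply, Fin.sum_univ_three, h10, h20, ← hm] <;>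
      first
        | ring1
        | linear_combination hm3
        | (simp [D] at hdD; linear_combination -(m * m * M.1 0 1) * hdD)
        | (simp [D] at hdD; linear_combination -(m * m * M.1 0 2) * hdD)
  refine ⟨a', b', ?_⟩
  rw [mul_inv_eq_iff_eq_mul, ← hMC, heq]
  rfl

variable {X : Type*} [Group X] [Finite X]

/-- The statement for the row subgroup. -/
theorem row_case (hF : Fintype.card F = 4) (π : X →* ProjectiveSpecialLinearGroup (Fin 3) F)
    (hs : Function.Surjective π) (hc : π.ker ≤ center X) (h2 : ∀ z ∈ π.ker, z * z = 1)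
    (T : Sylow 2 X) (hT : (T : Subgroup X) = (pB F).comap π) :
    (∀ x ∈ (pA F).comap π, ∀ y ∈ (pA F).comap π, x * y = y * x ∧ x * x = 1) ∧
    (∀ (K : Subgroup X), K = ((pA F).map (dual hF).toMonoidHom).comap π →
      (∀ x ∈ K, ∀ y ∈ K, x * y = y * x ∧ x * x = 1) →
      ∃ C : Subgroup X, C ≤ normalizer (((pA F).comap π : Subgroup X) : Set X) ∧ C ⊓ (pA F).comap π = ⊥ ∧
        (pA F).comap π ⊔ C = normalizer (((pA F).comap π : Subgroup X) : Set X) ∧
        Nonempty (↥C ≃* SpecialLinearGroup (Fin 2) F)) := by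
  obtain ⟨w, hw0, hw1, hw⟩ := exists_omega hF
  have h3 : w * w * w = 1 := cube_four hF hw0
  have htwo := two_eq_zero_of_card_four hF
  let Td : SpecialLinearGroup (Fin 3) F :=
    ⟨!![1, 0, 0; 0, w, 0; 0, 0, w * w], by simp [Matrix.det_fin_three]; linear_combination h3⟩
  let W : SpecialLinearGroup (Fin 3) F :=
    ⟨!![1, 0, 0; 0, 0, 1; 0, 1, 0], by simp [Matrix.det_fin_three]; linear_combination -htwo⟩
  let U : SpecialLinearGroup (Fin 3) F :=
    ⟨!![1, 0, 0; 0, 1, 1; 0, 0, 1], by simp [Matrix.det_fin_three]⟩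
  have hel : ∀ x ∈ (pA F).comap π, ∀ y ∈ (pA F).comap π, x * y = y * x ∧ x * x = 1 := by
    rintro x ⟨a, b, hx⟩ y ⟨a', b', hy⟩
    refine lifts_commute hF hw hw1 hw0 π hs hc h2 (fun a b => puni a b 0) ?_
      (QuotientGroup.mk Td) (QuotientGroup.mk W) (QuotientGroup.mk U) ?_ ?_ ?_ hx hy
    · intro a b a' b'
      simp [puni_mul]
    · intro a b
      refine puni_conj Td ?_
      ext i j
      fin_cases i <;> fin_cases j <;> simp [Td, Matrix.mul_apply, Fin.sum_univ_three] <;>
        first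
          | linear_combination (-a) * h3
          | linear_combination (-b) * h3
          | ring
    · intro a b
      refine puni_conj W ?_
      ext i j
      fin_cases i <;> fin_cases j <;> simp [W, Matrix.mul_apply, Fin.sum_univ_three]
    · intro a b
      refine puni_conj U ?_
      ext i j
      fin_cases i <;> fin_cases j <;> simp [U, Matrix.mul_apply, Fin.sum_univ_three]
      linear_combination (-a) * htwo
  refine ⟨hel, fun K hK hKel => ?_⟩
  set H := (pA F).comap π with hH
  set N := normalizer (H : Set X) with hN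
  have hHN : H ≤ N := le_normalizer
  have hHT : H ≤ (T : Subgroup X) := by
    rw [hT]
    exact comap_mono fun s ⟨a, b, h⟩ => mem_pB.2 ⟨a, b, 0, h⟩
  have hnA : ∀ n : X, n ∈ N ↔ π n ∈ normalizer (pA F : Set (ProjectiveSpecialLinearGroup (Fin 3) F)) := by
    intro n
    rw [hN, Subgroup.mem_normalizer_iff, Subgroup.mem_normalizer_iff]
    constructor
    · intro h s
      obtain ⟨x, rfl⟩ := hs s
      have := h x
      rwa [hH, mem_comap, mem_comap, map_mul, map_mul, map_inv] at this
    · intro h x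
      rw [hH, mem_comap, mem_comap, map_mul, map_mul, map_inv]
      exact h (π x)
  have hTN : (T : Subgroup X) ≤ N := by
    intro t ht
    rw [hT, mem_comap, mem_pB] at ht
    obtain ⟨a, b, c, habc⟩ := ht
    rw [hnA, habc]
    refine mem_normalizer_iff.2 fun s => ?_
    have key : ∀ (p : F) (q : F) (c : F), puni a b c * puni p q 0 * (puni a b c)⁻¹ = puni p (q + p * c) 0 := by
      intro p q c
      rw [mul_inv_eq_iff_eq_mul, puni_mul, puni_mul]
      congr 1
      · ring
      · linear_combination (-(p * c)) * htwo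
      · ring
    constructor
    · rintro ⟨p, q, rfl⟩
      exact ⟨p, _, key p q c⟩
    · rintro ⟨p, q, hpq⟩
      refine ⟨p, q + p * c, ?_⟩
      rw [mul_inv_eq_iff_eq_mul] at hpq
      have k := key p (q + p * c) c
      rw [mul_inv_eq_iff_eq_mul, show q + p * c + p * c = q by linear_combination (p * c) * htwo, ← hpq] at k
      exact (mul_left_cancel k).symm
  -- a complement in the Sylow subgroup, from `K`
  choose y hy using fun c : F => hs (puni 0 0 c)
  have hyK : ∀ c, y c ∈ K := fun c => by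
    rw [hK, mem_comap, hy]
    exact ⟨puni c 0 0, ⟨c, 0, rfl⟩, by show dual hF (puni c 0 0) = _; rw [dual_puni, mul_zero, zero_add]⟩
  have hall : ∀ a : F, a = 0 ∨ a = 1 ∨ a = w ∨ a = w + 1 := fun a => by
    rcases cases_four hF hw a with h | h | h | h
    · exact Or.inl h
    · exact Or.inr (Or.inl h)
    · exact Or.inr (Or.inr (Or.inl h))
    · exact Or.inr (Or.inr (Or.inr (by rw [h]; linear_combination hw - (w + 1) * htwo)))
  have hw2 : w + 1 ≠ 0 := fun h => hw1 (by linear_combination h - htwo)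
  obtain ⟨f0, f1, f2, f3⟩ := four_vals (T := X) hw0 hw1 hw2 (y 1) (y w)
  have fadd := four_add hF hall hw0 hw1 ((hKel _ (hyK 1) _ (hyK 1)).2) ((hKel _ (hyK w) _ (hyK w)).2)
    ((hKel _ (hyK 1) _ (hyK w)).1)
  let η : F → X := H69.four F w (y 1) (y w)
  have hη : ∀ c, π (η c) = puni 0 0 c := by
    intro c
    rcases hall c with h | h | h | h <;> rw [h]
    · show π (four F w (y 1) (y w) 0) = _
      rw [f0, map_one, puni, uni_zero]; rfl
    · show π (four F w (y 1) (y w) 1) = _
      rw [f1, hy]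
    · show π (four F w (y 1) (y w) w) = _
      rw [f2, hy]
    · show π (four F w (y 1) (y w) (w + 1)) = _
      rw [f3, map_mul, hy, hy, puni_mul]
      simp [add_comm]
  let ηh : Multiplicative F →* X :=
    MonoidHom.mk' (fun c => η c.toAdd) fun c d => fadd c.toAdd d.toAdd
  set E := ηh.range with hE
  have hET : E ≤ (T : Subgroup X) := by
    rintro _ ⟨c, rfl⟩
    rw [hT]
    show π (η c.toAdd) ∈ pB F
    rw [hη]; exact mem_pB.2 ⟨0, 0, _, rfl⟩
  have hEH : E ⊓ H = ⊥ := by
    rw [eq_bot_iff]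
    rintro _ ⟨⟨c, rfl⟩, hc'⟩
    obtain ⟨a, b, hab⟩ := hc'
    have e : c.toAdd = 0 := (puni_inj ((hη c.toAdd).symm.trans hab)).2.2
    show η c.toAdd = 1
    rw [e]; exact f0
  have hHE : H ⊔ E = (T : Subgroup X) := by
    refine le_antisymm (sup_le hHT hET) fun t ht => ?_
    rw [hT, mem_comap, mem_pB] at ht
    obtain ⟨a, b, c, habc⟩ := ht
    have hm : t * (η c)⁻¹ ∈ H := by
      refine ⟨a, b + a * c, ?_⟩
      rw [map_mul, map_inv, hη, habc, mul_inv_eq_iff_eq_mul, puni_mul]
      congr 1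
      · ring
      · linear_combination (-(a * c)) * htwo
      · ring
    have := mul_mem (mem_sup_left (T := E) hm) (mem_sup_right (S := H) (show η c ∈ E from ⟨Multiplicative.ofAdd c, rfl⟩))
    rwa [inv_mul_cancel_right] at this
  -- Gaschütz
  have : (H.subgroupOf N).Normal := normal_in_normalizer
  have : IsMulCommutative ↥(H.subgroupOf N) :=
    ⟨⟨fun a b => Subtype.ext (Subtype.ext (hel _ a.2 _ b.2).1)⟩⟩
  have hidx : ¬ 2 ∣ ((T : Subgroup X).subgroupOf N).index := fun hd =>
    T.not_dvd_index' (by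
      intro h0
      exact index_ne_zero_of_finite h0) (hd.trans (relIndex_dvd_index_of_le hTN))
  have hp2 : IsPGroup 2 ↥(H.subgroupOf N) :=
    (T.isPGroup'.to_le hHT).of_equiv (subgroupOfEquivOfLe hHN).symm
  have := Fact.mk Nat.prime_two
  obtain ⟨k, hk⟩ := IsPGroup.iff_card.1 hp2
  obtain ⟨C', hC'⟩ := H2.gaschutz_exists (K := H.subgroupOf N) (U := (T : Subgroup X).subgroupOf N)
    (fun x hx => hHT hx)
    (by rw [hk]; exact Nat.Coprime.pow_left _ ((Nat.prime_two.coprime_iff_not_dvd).2 hidx))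
    (E.subgroupOf N) (fun x hx => hET hx)
    (by
      rw [eq_bot_iff]
      rintro x ⟨hx1, hx2⟩
      have : (x : X) ∈ E ⊓ H := ⟨hx1, hx2⟩
      rw [hEH] at this
      exact Subtype.ext this)
    (by rw [← subgroupOf_sup hHN (hET.trans hTN), hHE])
  set C := C'.map N.subtype with hC
  have hCN : C ≤ N := map_subtype_le _
  have hdis : C ⊓ H = ⊥ := by
    rw [eq_bot_iff]
    rintro _ ⟨⟨x, hx, rfl⟩, hxH⟩
    have : x ∈ H.subgroupOf N ⊓ C' := ⟨hxH, hx⟩
    rw [disjoint_iff.1 hC'.disjoint] at this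
    exact congrArg Subtype.val (mem_bot.1 this)
  have hsup : H ⊔ C = N := by
    have := congrArg (Subgroup.map N.subtype) hC'.sup_eq_top
    rw [Subgroup.map_sup, map_subgroupOf_eq_of_le hHN, ← MonoidHom.range_eq_map, range_subtype] at this
    exact this
  refine ⟨C, hCN, hdis, hsup, ?_⟩
  -- `C ≅ N(A)/A ≅ SL₂(4)`
  obtain ⟨hl1, hl2⟩ := levi_facts (F := F)
  choose d hd using fun s (hs' : s ∈ normalizer (pA F : Set (ProjectiveSpecialLinearGroup (Fin 3) F))) =>
    exists_levi hF hs'
  have huniq : ∀ (s : ProjectiveSpecialLinearGroup (Fin 3) F) (D D' : SpecialLinearGroup (Fin 2) F),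
      s * (leviHom D)⁻¹ ∈ pA F → s * (leviHom D')⁻¹ ∈ pA F → D = D' := by
    intro s D D' h h'
    have := mul_mem (inv_mem h) h'
    rw [_root_.mul_inv_rev, inv_inv, mul_assoc, inv_mul_cancel_left, ← map_inv, ← map_mul] at this
    exact (mul_inv_eq_one.1 (hl1 _ this))
  let f : C →* SpecialLinearGroup (Fin 2) F := MonoidHom.mk'
    (fun c => d (π c) ((hnA _).1 (hCN c.2))) fun a b => by
      refine huniq (π ((a * b : C) : X)) _ _ (hd _ _) ?_
      rw [map_mul leviHom, Subgroup.coe_mul, map_mul π, _root_.mul_inv_rev]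
      have ha := hd _ ((hnA _).1 (hCN a.2))
      have hb := hd _ ((hnA _).1 (hCN b.2))
      set Da := d (π a) ((hnA _).1 (hCN a.2))
      set Db := d (π b) ((hnA _).1 (hCN b.2))
      have := mul_mem ha (hl2 Da _ hb)
      convert this using 1
      group
  have hinj : Function.Injective f := by
    rw [injective_iff_map_eq_one]
    intro c hc1
    have hh := hd _ ((hnA _).1 (hCN c.2))
    rw [show d (π c) ((hnA _).1 (hCN c.2)) = 1 from hc1, map_one, inv_one, mul_one] at hh
    have : (c : X) ∈ C ⊓ H := ⟨c.2, hh⟩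
    rw [hdis, mem_bot] at this
    exact Subtype.ext this
  have hsurj : Function.Surjective f := by
    intro D
    obtain ⟨n, hn⟩ := hs (leviHom D)
    have hnN : n ∈ N := by
      rw [hnA, hn]
      refine mem_normalizer_iff.2 fun s => ⟨hl2 D s, fun h => ?_⟩
      have := hl2 D⁻¹ _ h
      simpa [mul_assoc] using this
    have hmem : n ∈ H ⊔ C := hsup.symm ▸ hnN
    obtain ⟨⟨n', hn'⟩, c, hc', hnc⟩ : ∃ (n' : H) (c : X), c ∈ C ∧ (n' : X) * c = n := by
      have hN' : (⟨n, hnN⟩ : N) ∈ H.subgroupOf N ⊔ C' := hC'.sup_eq_top ▸ mem_top _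
      obtain ⟨p, hp, q, hq, hpq⟩ := mem_sup_of_normal_left.1 hN'
      exact ⟨⟨p, hp⟩, q, ⟨q, hq, rfl⟩, congrArg Subtype.val hpq⟩
    refine ⟨⟨c, hc'⟩, huniq (π c) _ _ (hd _ _) ?_⟩
    have h1 : π n' ∈ pA F := hn'
    have h4 : π c = (π n')⁻¹ * leviHom D := by
      rw [← hn, ← hnc, map_mul, inv_mul_cancel_left]
    rw [h4, mul_inv_cancel_right]
    exact inv_mem h1
  exact ⟨MulEquiv.ofBijective f ⟨hinj, hsurj⟩⟩

end H69.L34
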