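/-
Orthogonality of conjugates of the centre of a large extraspecial 2-subgroup, for subgroups that are
only assumed normal in the centralizer of the centre (adapted from H99.LargeExtra).
-/
import Mathlib
import Cfsg.Prelude.Def_Transfer
import Cfsg.Prelude.Def_MonsterType
import Cfsg.Agent.H93.Basic

set_option autoImplicit false

namespace H69

/-- A family of subgroups attached equivariantly to the conjugates of `z`. -/
structure LXFam {G : Type*} [Group G] (Q : G → Subgroup G) (z : G) : Prop where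
  hcomm : ∀ x a : G, a ∈ Q x → Commute a x
  hequiv : ∀ g x a : G, a ∈ Q x → g * a * g⁻¹ ∈ Q (g * x * g⁻¹)
  hzmem : z ∈ Q z
  hz : orderOf z = 2
  hE : Cfsg.IsExtraspecial 2 ↥(Q z)
  hC : Subgroup.centralizer ((Q z : Subgroup G) : Set G) ≤ Q z

namespace LXFam

variable {G : Type*} [Group G] {Q : G → Subgroup G} {z : G}

/-- Singular elements: the conjugates of `z`. -/
def Sing (z u : G) : Prop := ∃ g : G, g * z * g⁻¹ = u

lemma commute_of_mem (L : LXFam Q z) {x a : G} (ha : a ∈ Q x) : Commute a x := L.hcomm x a ha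

lemma mem_Q_conj (L : LXFam Q z) (g : G) {x a : G} (ha : a ∈ Q x) :
    g * a * g⁻¹ ∈ Q (g * x * g⁻¹) := L.hequiv g x a ha

lemma conj_mem (L : LXFam Q z) {x a c : G} (ha : a ∈ Q x) (hc : Commute c x) :
    c * a * c⁻¹ ∈ Q x := by
  have := L.hequiv c x a ha
  rwa [hc.eq, mul_inv_cancel_right] at this

lemma mem_Q_conj' (L : LXFam Q z) (g : G) {x a : G} (ha : a ∈ Q (g * x * g⁻¹)) :
    g⁻¹ * a * g ∈ Q x := by
  have := L.mem_Q_conj g⁻¹ ha
  simpa [mul_assoc] using this

lemma zsq (L : LXFam Q z) : z * z = 1 := by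
  have := pow_orderOf_eq_one z
  rwa [L.hz, pow_two] at this

lemma mem_Q_z (L : LXFam Q z) : z ∈ Q z := L.hzmem

lemma center_z [Finite G] (L : LXFam Q z) {a : G} (ha : a ∈ Q z)
    (h : ∀ b ∈ Q z, Commute a b) : a = 1 ∨ a = z := by
  by_contra hn
  obtain ⟨h1, h2⟩ := not_or.1 hn
  have hcard := L.hE.2
  rw [Nat.card_eq_two_iff' (1 : Subgroup.center ↥(Q z))] at hcard
  have hzc : (⟨z, L.mem_Q_z⟩ : ↥(Q z)) ∈ Subgroup.center ↥(Q z) := by
    rw [Subgroup.mem_center_iff]
    exact fun b => Subtype.ext (L.commute_of_mem b.2).eq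
  have hac : (⟨a, ha⟩ : ↥(Q z)) ∈ Subgroup.center ↥(Q z) := by
    rw [Subgroup.mem_center_iff]
    exact fun b => Subtype.ext (h b b.2).eq.symm
  have hz1 : z ≠ 1 := by
    intro h
    have := L.hz
    rw [h, orderOf_one] at this
    omega
  exact h2 (congrArg (fun t : Subgroup.center ↥(Q z) => ((t : ↥(Q z)) : G))
    (hcard.unique (y₁ := ⟨_, hac⟩) (y₂ := ⟨_, hzc⟩)
      (by simpa [Subtype.ext_iff] using h1) (by simpa [Subtype.ext_iff] using hz1)))

lemma comm_z [Finite G] (L : LXFam Q z) {a b : G} (ha : a ∈ Q z) (hb : b ∈ Q z) :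
    a * b * a⁻¹ = b ∨ a * b * a⁻¹ = b * z := by
  have h := Subgroup.commutator_mem_commutator (Subgroup.mem_top (⟨b⁻¹, inv_mem hb⟩ : ↥(Q z)))
    (Subgroup.mem_top (⟨a, ha⟩ : ↥(Q z)))
  rw [← commutator_def, L.hE.1.2.2, Subgroup.mem_center_iff] at h
  have hk : b⁻¹ * a * (b⁻¹)⁻¹ * a⁻¹ ∈ Q z :=
    mul_mem (mul_mem (mul_mem (inv_mem hb) ha) (inv_mem (inv_mem hb))) (inv_mem ha)
  rcases L.center_z hk (fun c hc => by
      have := congrArg Subtype.val (h ⟨c, hc⟩)
      simp [commutatorElement_def] at this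
      simpa [Commute, SemiconjBy, mul_assoc] using this.symm) with hk1 | hk1
  · left
    calc a * b * a⁻¹ = b * (b⁻¹ * a * (b⁻¹)⁻¹ * a⁻¹) := by group
      _ = b := by rw [hk1, mul_one]
  · right
    calc a * b * a⁻¹ = b * (b⁻¹ * a * (b⁻¹)⁻¹ * a⁻¹) := by group
      _ = b * z := by rw [hk1]

/-! ### Facts for every singular element -/

variable [Finite G]

lemma self_mem (L : LXFam Q z) {u : G} (hu : Sing z u) : u ∈ Q u := by
  obtain ⟨g, rfl⟩ := hu
  exact L.mem_Q_conj g L.mem_Q_z

lemma sq_one (L : LXFam Q z) {u : G} (hu : Sing z u) : u * u = 1 := by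
  obtain ⟨g, rfl⟩ := hu
  calc g * z * g⁻¹ * (g * z * g⁻¹) = g * (z * z) * g⁻¹ := by group
    _ = 1 := by rw [L.zsq]; group

lemma inv_self (L : LXFam Q z) {u : G} (hu : Sing z u) : u⁻¹ = u :=
  inv_eq_of_mul_eq_one_right (L.sq_one hu)

lemma ne_one (L : LXFam Q z) {u : G} (hu : Sing z u) : u ≠ 1 := by
  obtain ⟨g, rfl⟩ := hu
  intro h
  have h1 : z = 1 := by
    calc z = g⁻¹ * (g * z * g⁻¹) * g := by group
      _ = 1 := by rw [h]; group
  have := L.hz
  rw [h1, orderOf_one] at this
  omega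

lemma comm_cases (L : LXFam Q z) {u a b : G} (hu : Sing z u) (ha : a ∈ Q u) (hb : b ∈ Q u) :
    a * b * a⁻¹ = b ∨ a * b * a⁻¹ = b * u := by
  obtain ⟨g, rfl⟩ := hu
  rcases L.comm_z (L.mem_Q_conj' g ha) (L.mem_Q_conj' g hb) with h | h
  · left
    calc a * b * a⁻¹ = g * (g⁻¹ * a * g * (g⁻¹ * b * g) * (g⁻¹ * a * g)⁻¹) * g⁻¹ := by group
      _ = b := by rw [h]; group
  · right
    calc a * b * a⁻¹ = g * (g⁻¹ * a * g * (g⁻¹ * b * g) * (g⁻¹ * a * g)⁻¹) * g⁻¹ := by group
      _ = b * (g * z * g⁻¹) := by rw [h]; group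

lemma center_cases (L : LXFam Q z) {u a : G} (hu : Sing z u) (ha : a ∈ Q u)
    (h : ∀ b ∈ Q u, Commute a b) : a = 1 ∨ a = u := by
  obtain ⟨g, rfl⟩ := hu
  rcases L.center_z (L.mem_Q_conj' g ha) (fun b hb => by
      have := (h _ (L.mem_Q_conj g hb)).map (MulAut.conj g⁻¹).toMonoidHom
      simpa [MulAut.conj_apply, mul_assoc] using this) with h' | h'
  · left
    calc a = g * (g⁻¹ * a * g) * g⁻¹ := by group
      _ = 1 := by rw [h']; group
  · right
    calc a = g * (g⁻¹ * a * g) * g⁻¹ := by group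
      _ = _ := by rw [h']

lemma centralizes (L : LXFam Q z) {u a : G} (hu : Sing z u)
    (h : ∀ b ∈ Q u, Commute a b) : a ∈ Q u := by
  obtain ⟨g, rfl⟩ := hu
  have : g⁻¹ * a * g ∈ Q z := L.hC (Subgroup.mem_centralizer_iff.2 fun b hb => by
    have := (h _ (L.mem_Q_conj g hb)).map (MulAut.conj g⁻¹).toMonoidHom
    simp [MulAut.conj_apply, mul_assoc] at this
    simpa [Commute, SemiconjBy, mul_assoc] using this.symm)
  simpa [mul_assoc] using L.mem_Q_conj g this

lemma mul_self_cases (L : LXFam Q z) {u a : G} (hu : Sing z u) (ha : a ∈ Q u) :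
    a * a = 1 ∨ a * a = u := by
  refine L.center_cases hu (mul_mem ha ha) fun b hb => ?_
  show a * a * b = b * (a * a)
  have e : (a * a) * b * (a * a)⁻¹ = b := by
    rcases L.comm_cases hu ha hb with h | h
    · calc (a * a) * b * (a * a)⁻¹ = a * (a * b * a⁻¹) * a⁻¹ := by group
        _ = b := by rw [h, h]
    · have h2 : a * u * a⁻¹ = u := by rw [(L.commute_of_mem ha).eq, mul_inv_cancel_right]
      calc (a * a) * b * (a * a)⁻¹ = a * (a * b * a⁻¹) * a⁻¹ := by group
        _ = a * (b * u) * a⁻¹ := by rw [h]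
        _ = a * b * a⁻¹ * (a * u * a⁻¹) := by group
        _ = b := by rw [h, h2, mul_assoc, L.sq_one hu, mul_one]
  exact mul_inv_eq_iff_eq_mul.1 e

/-- Orthogonality of singular elements is symmetric. -/
theorem orth_symm (L : LXFam Q z) {u v : G} (hu : Sing z u) (hv : Sing z v)
    (hvu : v ∈ Q u) : u ∈ Q v := by
  by_contra hne
  have hne' : u ≠ v := by rintro rfl; exact hne (L.self_mem hu)
  have huv : Commute u v := (L.commute_of_mem hvu).symm
  have uu := L.sq_one hu
  have vv := L.sq_one hv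
  have ui := L.inv_self hu
  -- an element of `Q u` moving `v`
  obtain ⟨a₀, ha₀, ha₀v⟩ : ∃ a₀ ∈ Q u, a₀ * v * a₀⁻¹ = v * u := by
    by_contra hno
    push_neg at hno
    rcases L.center_cases hu hvu (fun b hb => by
        rcases L.comm_cases hu hb hvu with h | h
        · exact (mul_inv_eq_iff_eq_mul.1 h).symm
        · exact absurd h (hno b hb)) with h | h
    · exact L.ne_one hv h
    · exact hne' h.symm
  have ha₀u : a₀ * u * a₀⁻¹ = u := by
    rw [(L.commute_of_mem ha₀).eq, mul_inv_cancel_right]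
  have ha₀vu : a₀ * (v * u) * a₀⁻¹ = v := by
    calc a₀ * (v * u) * a₀⁻¹ = (a₀ * v * a₀⁻¹) * (a₀ * u * a₀⁻¹) := by group
      _ = v := by rw [ha₀v, ha₀u, mul_assoc, uu, mul_one]
  -- no element of `Q v` sends `u` to `u * v`
  have f0 : ∀ q ∈ Q v, q * u * q⁻¹ ≠ u * v := by
    intro q hq hcon
    have hqv : q * v * q⁻¹ = v := by rw [(L.commute_of_mem hq).eq, mul_inv_cancel_right]
    set g := a₀ * q * a₀ with hg
    have g1 : g * u * g⁻¹ = v := by
      calc g * u * g⁻¹ = a₀ * (q * (a₀ * u * a₀⁻¹) * q⁻¹) * a₀⁻¹ := by rw [hg]; group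
        _ = v := by rw [ha₀u, hcon, huv.eq, ha₀vu]
    have g2 : g * v * g⁻¹ = u := by
      calc g * v * g⁻¹ = a₀ * ((q * v * q⁻¹) * (q * u * q⁻¹)) * a₀⁻¹ := by
            rw [hg, show a₀ * q * a₀ * v * (a₀ * q * a₀)⁻¹
              = a₀ * (q * (a₀ * v * a₀⁻¹) * q⁻¹) * a₀⁻¹ by group, ha₀v]
            group
        _ = a₀ * u * a₀⁻¹ := by
            rw [hqv, hcon, huv.eq, ← mul_assoc v v, vv, one_mul]
        _ = u := ha₀u
    apply hne
    have := L.mem_Q_conj g hvu
    rwa [g1, g2] at this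
  have s1 : ∀ q ∈ Q v, (u * q * u⁻¹ = q ∨ u * q * u⁻¹ = q * v) → Commute u q := by
    intro q hq h
    rcases h with h | h
    · exact mul_inv_eq_iff_eq_mul.1 h
    · exfalso
      refine f0 q⁻¹ (inv_mem hq) ?_
      have h2 : q⁻¹ * u * q⁻¹⁻¹ * u⁻¹ = v := by
        calc q⁻¹ * u * q⁻¹⁻¹ * u⁻¹ = q⁻¹ * (u * q * u⁻¹) := by group
          _ = v := by rw [h]; group
      rw [mul_inv_eq_iff_eq_mul.1 h2, huv.eq]
  have hcv : ∀ q ∈ Q v, Commute q v := fun q hq => L.commute_of_mem hq
  have huq : ∀ q ∈ Q v, u * q * u⁻¹ ∈ Q v := fun q hq => L.conj_mem hq huv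
  -- commutators with `u`
  set c : G → G := fun q => u * q * u⁻¹ * q⁻¹ with hc
  have hcQ : ∀ q ∈ Q v, c q ∈ Q v := fun q hq => mul_mem (huq q hq) (inv_mem hq)
  have s2 : ∀ q ∈ Q v, Commute u (c q) ∧ c q * c q = 1 := by
    intro q hq
    have h1 : u * c q * u⁻¹ = (c q)⁻¹ := by
      calc u * c q * u⁻¹ = (u * u) * q * u⁻¹ * q⁻¹ * u⁻¹ := by simp only [hc]; group
        _ = (c q)⁻¹ := by simp only [hc]; rw [uu, one_mul]; group; rw [zpow_neg_one, ui]
    have h2 : Commute u (c q) := by
      refine s1 _ (hcQ q hq) ?_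
      rcases L.mul_self_cases hv (hcQ q hq) with h | h
      · left; rw [h1, inv_eq_of_mul_eq_one_right h]
      · right; rw [h1, inv_eq_of_mul_eq_one_right
          (show c q * (c q * v) = 1 by rw [← mul_assoc, h, vv])]
    refine ⟨h2, ?_⟩
    rw [h2.eq, mul_inv_cancel_right] at h1
    nth_rewrite 2 [h1]
    exact mul_inv_cancel _
  have s3 : ∀ q ∈ Q v, ∀ p ∈ Q v, Commute u p → Commute p (c q) := by
    intro q hq p hp hpu
    have hpp : u * p * u⁻¹ = p := by rw [hpu.eq, mul_inv_cancel_right]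
    have huvv : u * v * u⁻¹ = v := by rw [huv.eq, mul_inv_cancel_right]
    have h : p * c q * p⁻¹ = c q := by
      have e : p * c q * p⁻¹ = (u * (p * q * p⁻¹) * u⁻¹) * (p * q * p⁻¹)⁻¹ := by
        calc p * c q * p⁻¹
            = p * (u * q * u⁻¹) * q⁻¹ * p⁻¹ := by simp only [hc]; group
          _ = (u * p * u⁻¹) * (u * q * u⁻¹) * (u * p * u⁻¹)⁻¹ * (p * q * p⁻¹)⁻¹ := by
              rw [hpp]; group
          _ = _ := by group
      rcases L.comm_cases hv hp hq with h | h
      · rw [e, h]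
      · rw [e, h, show u * (q * v) * u⁻¹ = (u * q * u⁻¹) * (u * v * u⁻¹) by group, huvv]
        simp only [hc]; group
    exact mul_inv_eq_iff_eq_mul.1 h
  -- `Q u ∩ Q v`
  have hsplit : ∀ b ∈ Q u, Commute b v ∨ Commute (a₀⁻¹ * b) v := by
    intro b hb
    rcases L.comm_cases hu hb hvu with h | h
    · exact Or.inl (mul_inv_eq_iff_eq_mul.1 h)
    · right
      have : a₀⁻¹ * b * v * (a₀⁻¹ * b)⁻¹ = v := by
        calc a₀⁻¹ * b * v * (a₀⁻¹ * b)⁻¹ = a₀⁻¹ * (b * v * b⁻¹) * a₀ := by group
          _ = a₀⁻¹ * (a₀ * v * a₀⁻¹) * a₀ := by rw [h, ha₀v]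
          _ = v := by group
      exact mul_inv_eq_iff_eq_mul.1 this
  have hall : ∀ k ∈ Q u, (∀ b ∈ Q u, Commute b v → Commute k b) → Commute k a₀ →
      k = 1 ∨ k = u := by
    intro k hk hA h0
    refine L.center_cases hu hk fun b hb => ?_
    rcases hsplit b hb with h | h
    · exact hA b hb h
    · have := h0.mul_right (hA _ (mul_mem (inv_mem ha₀) hb) h)
      simpa using this
  have hcenA : ∀ k ∈ Q u, Commute k v → (∀ b ∈ Q u, Commute b v → Commute k b) →
      k = 1 ∨ k = u ∨ k = v ∨ k = u * v := by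
    intro k hk _ hA
    rcases L.comm_cases hu ha₀ hk with h | h
    · rcases hall k hk hA (mul_inv_eq_iff_eq_mul.1 h).symm with h | h
      · exact Or.inl h
      · exact Or.inr (Or.inl h)
    · have h0 : Commute (k * v) a₀ := by
        refine (mul_inv_eq_iff_eq_mul.1 ?_ : a₀ * (k * v) = k * v * a₀).symm
        calc a₀ * (k * v) * a₀⁻¹ = (a₀ * k * a₀⁻¹) * (a₀ * v * a₀⁻¹) := by group
          _ = k * (v * (u * u)) := by rw [h, ha₀v, mul_assoc k u, ← mul_assoc u v u, huv.eq, mul_assoc v u u]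
          _ = k * v := by rw [uu, mul_one]
      have hA' : ∀ b ∈ Q u, Commute b v → Commute (k * v) b :=
        fun b hb hbv => (hA b hb hbv).mul_left hbv.symm
      rcases hall _ (mul_mem hk hvu) hA' h0 with h' | h'
      · right; right; left
        rw [eq_inv_of_mul_eq_one_left h', L.inv_self hv]
      · right; right; right
        rw [← h', mul_assoc, vv, mul_one]
  have hQint : ∀ k ∈ Q u, k ∈ Q v → k = 1 ∨ k = v := by
    intro k hk hk'
    rcases hcenA k hk (hcv k hk') (fun b hb hbv => by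
        rcases L.comm_cases hu hb hk with h | h
        · exact (mul_inv_eq_iff_eq_mul.1 h).symm
        · exfalso; apply hne
          have h5 : b * k * b⁻¹ ∈ Q v := L.conj_mem hk' hbv
          rw [h] at h5
          simpa using mul_mem (inv_mem hk') h5) with h | h | h | h
    · exact Or.inl h
    · exact absurd (h ▸ hk') hne
    · exact Or.inr h
    · exfalso; apply hne
      have h5 := mul_mem hk' (L.self_mem hv)
      rwa [h, mul_assoc, vv, mul_one] at h5
  have s4 : ∀ a ∈ Q u, Commute a v → ∀ p ∈ Q v, Commute u p →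
      a * p * a⁻¹ = p ∨ a * p * a⁻¹ = v * p := by
    intro a ha hav p hp hpu
    have h1 : a * p * a⁻¹ * p⁻¹ ∈ Q v := mul_mem (L.conj_mem hp hav) (inv_mem hp)
    have h2 : a * p * a⁻¹ * p⁻¹ ∈ Q u := by
      have := mul_mem ha (L.conj_mem (inv_mem ha) hpu.symm)
      simpa [← mul_assoc] using this
    rcases hQint _ h2 h1 with h | h
    · left; rw [mul_inv_eq_iff_eq_mul.1 h, one_mul]
    · right; rw [mul_inv_eq_iff_eq_mul.1 h]
  -- main contradiction
  by_cases hAcomm : ∃ a ∈ Q u, ∃ b ∈ Q u, Commute a v ∧ Commute b v ∧ ¬ Commute a b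
  · obtain ⟨a, ha, b, hb, hav, hbv, hab⟩ := hAcomm
    have hab' : a * b * a⁻¹ = b * u :=
      (L.comm_cases hu ha hb).resolve_left fun h => hab (mul_inv_eq_iff_eq_mul.1 h)
    have hav' : ∀ x : G, Commute x v → x * v * x⁻¹ = v := fun x h => by
      rw [h.eq, mul_inv_cancel_right]
    have s5 : ∀ a ∈ Q u, Commute a v → ∀ q ∈ Q v,
        Commute u (a * q * a⁻¹ * q⁻¹) ∧ a * q * a⁻¹ * q⁻¹ ∈ Q v ∧
        (∀ p ∈ Q v, Commute u p → Commute (a * q * a⁻¹ * q⁻¹) p) := by
      intro a ha hav q hq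
      set d := a * q * a⁻¹ * q⁻¹ with hd
      have hdQ : d ∈ Q v := mul_mem (L.conj_mem hq hav) (inv_mem hq)
      have hdP : ∀ p ∈ Q v, Commute u p → Commute d p := by
        intro p hp hpu
        set w := a * q * a⁻¹ with hw
        obtain ⟨i, hi, hti⟩ : ∃ i : G, (∀ x, Commute x v → Commute x i) ∧ a * p * a⁻¹ = p * i := by
          rcases s4 a ha hav p hp hpu with hs | hs
          · exact ⟨1, fun x _ => Commute.one_right x, by rw [hs, mul_one]⟩
          · exact ⟨v, fun x h => h, by rw [hs, (hcv p hp).eq]⟩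
        obtain ⟨j, hj, htj⟩ : ∃ j : G, (∀ x, Commute x v → Commute x j) ∧ q * p * q⁻¹ = p * j := by
          rcases L.comm_cases hv hq hp with hs | hs
          · exact ⟨1, fun x _ => Commute.one_right x, by rw [hs, mul_one]⟩
          · exact ⟨v, fun x h => h, hs⟩
        have hvi : Commute v i := hi v (Commute.refl v)
        have hij : Commute i j := hj i hvi.symm
        have hwv : Commute w v := hcv w (L.conj_mem hq hav)
        -- conjugation by `w` and by `q` agree on `p`
        have key : w * p * w⁻¹ = q * p * q⁻¹ := by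
          calc w * p * w⁻¹ = (w * (a * p * a⁻¹) * w⁻¹) * (w * i⁻¹ * w⁻¹) := by rw [hti]; group
            _ = (a * (q * p * q⁻¹) * a⁻¹) * i⁻¹ := by
                rw [(hi w hwv).inv_right.eq, mul_inv_cancel_right, hw]; group
            _ = (a * p * a⁻¹) * (a * j * a⁻¹) * i⁻¹ := by rw [htj]; group
            _ = q * p * q⁻¹ := by
                rw [hti, (hj a hav).eq, mul_inv_cancel_right, mul_assoc p i j, hij.eq,
                  ← mul_assoc, mul_inv_cancel_right, htj]
        show d * p = p * d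
        apply mul_inv_eq_iff_eq_mul.1
        have hq' : q⁻¹ * (q * p * q⁻¹) * q = p := by group
        calc d * p * d⁻¹
            = (a * q * a⁻¹) * (q⁻¹ * p * q) * (a * q * a⁻¹)⁻¹ := by simp only [hd, hw]; group
          _ = p := by
              rcases L.comm_cases hv (inv_mem hq) hp with h | h <;> rw [inv_inv] at h
              · rw [h, key]
                calc q * p * q⁻¹ = q * (q⁻¹ * p * q) * q⁻¹ := by rw [h]
                  _ = p := by group
              · rw [h, show w * (p * v) * w⁻¹ = (w * p * w⁻¹) * (w * v * w⁻¹) by group,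
                  hav' w hwv, key]
                calc q * p * q⁻¹ * v = (q * p * q⁻¹) * (q * v * q⁻¹) := by
                        rw [hav' q (hcv q hq)]
                    _ = q * (p * v) * q⁻¹ := by group
                    _ = q * (q⁻¹ * p * q) * q⁻¹ := by rw [h]
                    _ = p := by group
      refine ⟨s1 d hdQ ?_, hdQ, hdP⟩
      obtain ⟨hc1, -⟩ := s2 q hq
      have hau : u * a * u⁻¹ = a := by rw [(L.commute_of_mem ha).symm.eq, mul_inv_cancel_right]
      have e : u * d * u⁻¹ = (a * c q * a⁻¹) * d * (c q)⁻¹ := by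
        calc u * d * u⁻¹
            = (u * a * u⁻¹) * (u * q * u⁻¹) * (u * a * u⁻¹)⁻¹ * (u * q * u⁻¹)⁻¹ := by
              rw [hd]; group
          _ = _ := by rw [hau]; simp only [hc, hd]; group
      have hdc := (hdP (c q) (hcQ q hq) hc1).eq
      rcases s4 a ha hav (c q) (hcQ q hq) hc1 with h | h
      · left; rw [e, h, ← hdc, mul_inv_cancel_right]
      · right; rw [e, h, mul_assoc v, ← hdc, mul_assoc, mul_inv_cancel_right, (hcv d hdQ).eq]
    apply hne
    refine L.centralizes hv fun q hq => s1 q hq ?_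
    obtain ⟨hd1, hd2, hd3⟩ := s5 a ha hav q hq
    obtain ⟨he1, he2, he3⟩ := s5 b hb hbv q hq
    set d := a * q * a⁻¹ * q⁻¹ with hd
    set e := b * q * b⁻¹ * q⁻¹ with he
    have hde : Commute d e := hd3 e he2 he1
    have hab2 : u * (b * a * q * (b * a)⁻¹) * u⁻¹ = a * b * q * (a * b)⁻¹ := by
      have : a * b = u * (b * a) := by
        rw [mul_inv_eq_iff_eq_mul.1 hab', mul_assoc b u, ← mul_assoc u b a,
          (L.commute_of_mem hb).symm.eq, mul_assoc b u a]
      rw [this]; group
    have h1 : a * b * q * (a * b)⁻¹ = (a * e * a⁻¹) * d * q := by rw [hd, he]; group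
    have h2 : b * a * q * (b * a)⁻¹ = (b * d * b⁻¹) * e * q := by rw [hd, he]; group
    have hvq : ∀ y ∈ Q v, v * y = y * v := fun y hy => (hcv y hy).eq.symm
    have hue : u * e * u⁻¹ = e := by rw [he1.eq, mul_inv_cancel_right]
    have hud : u * d * u⁻¹ = d := by rw [hd1.eq, mul_inv_cancel_right]
    have huv' : u * v * u⁻¹ = v := by rw [huv.eq, mul_inv_cancel_right]
    rw [h1, h2] at hab2
    have hdeQ : d * e ∈ Q v := mul_mem hd2 he2
    rcases s4 a ha hav e he2 he1 with hs | hs <;> rcases s4 b hb hbv d hd2 hd1 with hs' | hs' <;>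
      rw [hs, hs'] at hab2
    · left
      rw [show u * (d * e * q) * u⁻¹ = (u * d * u⁻¹) * (u * e * u⁻¹) * (u * q * u⁻¹) by group,
        hud, hue, ← hde.eq] at hab2
      exact mul_left_cancel hab2
    · right
      rw [show u * (v * d * e * q) * u⁻¹
        = (u * v * u⁻¹) * (u * d * u⁻¹) * (u * e * u⁻¹) * (u * q * u⁻¹) by group,
        huv', hud, hue, ← hde.eq, mul_assoc v d e, hvq _ hdeQ, mul_assoc (d * e) v] at hab2
      calc u * q * u⁻¹ = v * (v * (u * q * u⁻¹)) := by rw [← mul_assoc v v, vv, one_mul]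
        _ = v * q := by rw [mul_left_cancel hab2]
        _ = q * v := hvq q hq
    · right
      rw [show u * (d * e * q) * u⁻¹ = (u * d * u⁻¹) * (u * e * u⁻¹) * (u * q * u⁻¹) by group,
        hud, hue, mul_assoc v e d, ← hde.eq, hvq _ hdeQ, mul_assoc (d * e) v] at hab2
      rw [mul_left_cancel hab2, hvq q hq]
    · left
      rw [show u * (v * d * e * q) * u⁻¹
        = (u * v * u⁻¹) * (u * d * u⁻¹) * (u * e * u⁻¹) * (u * q * u⁻¹) by group,
        huv', hud, hue, mul_assoc v e d, ← hde.eq, mul_assoc v d e, mul_assoc v (d * e),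
        mul_assoc v (d * e)] at hab2
      exact mul_left_cancel (mul_left_cancel hab2)
  · push_neg at hAcomm
    -- all of `C(v) ∩ Q u` is contained in a four-group, so `Q u` and `Q v` have order at most 8
    have hfour : ∀ k ∈ Q u, Commute k v → k = 1 ∨ k = u ∨ k = v ∨ k = u * v :=
      fun k hk hkv => hcenA k hk hkv fun b hb hbv => hAcomm k hk b hb hkv hbv
    have h8u : Nat.card ↥(Q u) ≤ 8 := by
      classical
      have hsub : (Q u : Set G) ⊆
          ↑([1, u, v, u * v, a₀, a₀ * u, a₀ * v, a₀ * (u * v)].toFinset) := by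
        intro b hb
        simp only [List.coe_toFinset, List.mem_cons, List.not_mem_nil, or_false, Set.mem_ofPred_eq]
        rcases hsplit b hb with h | h
        · rcases hfour b hb h with h | h | h | h <;> simp [h]
        · have hb' : b = a₀ * (a₀⁻¹ * b) := by group
          rcases hfour _ (mul_mem (inv_mem ha₀) hb) h with h | h | h | h <;> rw [h] at hb'
          · rw [mul_one] at hb'; simp [hb']
          · simp [hb']
          · simp [hb']
          · simp [hb']
      calc Nat.card ↥(Q u) = (Q u : Set G).ncard := Nat.card_coe_set_eq _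
        _ ≤ _ := Set.ncard_le_ncard hsub (Finset.finite_toSet _)
        _ ≤ 8 := by rw [Set.ncard_coe_finset]; exact List.toFinset_card_le _
    have h8 : Nat.card ↥(Q v) ≤ 8 := by
      obtain ⟨g, hg⟩ := hu
      obtain ⟨g', hg'⟩ := hv
      have hgg : (g * g'⁻¹) * v * (g * g'⁻¹)⁻¹ = u := by rw [← hg, ← hg']; group
      refine le_trans ?_ h8u
      refine Nat.card_le_card_of_injective
        (fun q : ↥(Q v) => (⟨(g * g'⁻¹) * q * (g * g'⁻¹)⁻¹,
          by have := L.mem_Q_conj (g * g'⁻¹) q.2; rwa [hgg] at this⟩ : ↥(Q u))) ?_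
      intro q q' h
      apply Subtype.ext
      simpa using congrArg Subtype.val h
    apply hne
    refine L.centralizes hv fun q hq => ?_
    obtain ⟨hc1, hc2⟩ := s2 q hq
    by_contra hnq
    have hc_ne : c q ≠ 1 ∧ c q ≠ v := by
      constructor <;> intro h <;> simp only [hc] at h <;> apply hnq
      · refine s1 q hq (Or.inl ?_); rw [mul_inv_eq_iff_eq_mul.1 h, one_mul]
      · refine s1 q hq (Or.inr ?_); rw [mul_inv_eq_iff_eq_mul.1 h, (hcv q hq).eq]
    have hcq : Commute (c q) q := by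
      have e : (c q * q) * (c q * q) = q * q := by
        calc (c q * q) * (c q * q) = u * (q * q) * u⁻¹ := by simp only [hc]; group
          _ = q * q := by
              rcases L.mul_self_cases hv hq with h | h <;> rw [h]
              · group
              · rw [huv.eq, mul_inv_cancel_right]
      have : c q * q * c q = q := mul_right_cancel (by simpa [mul_assoc] using e)
      calc c q * q = c q * q * (c q * c q) := by rw [hc2, mul_one]
        _ = q * c q := by rw [← mul_assoc, this]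
    have hqout : q ≠ 1 ∧ q ≠ v ∧ q ≠ c q ∧ q ≠ c q * v := by
      refine ⟨?_, ?_, ?_, ?_⟩ <;> intro h <;> apply hnq <;> rw [h]
      · exact Commute.one_right u
      · exact huv
      · exact hc1
      · exact hc1.mul_right huv
    -- the centralizer of `c q` in `Q v` is everything
    let K : Subgroup G := Q v ⊓ Subgroup.centralizer {c q}
    have hKle : K ≤ Q v := inf_le_left
    have hmem : ∀ x, x ∈ Q v → Commute x (c q) → x ∈ K := fun x hx h =>
      ⟨hx, Subgroup.mem_centralizer_singleton_iff.2 h⟩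
    have h5 : 5 ≤ Nat.card ↥K := by
      classical
      have hsub : (↑({1, v, c q, c q * v, q} : Finset G) : Set G) ⊆ (K : Set G) := by
        intro x hx
        simp only [Finset.coe_insert, Finset.coe_singleton, Set.mem_insert_iff,
          Set.mem_singleton_iff] at hx
        rcases hx with rfl | rfl | rfl | rfl | rfl
        · exact one_mem K
        · exact hmem _ (L.self_mem hv) (hcv _ (hcQ q hq)).symm
        · exact hmem _ (hcQ q hq) (Commute.refl _)
        · exact hmem _ (mul_mem (hcQ q hq) (L.self_mem hv))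
            ((Commute.refl _).mul_left (hcv _ (hcQ q hq)).symm)
        · exact hmem _ hq hcq.symm
      have hn1 : c q * v ≠ 1 := fun h => hc_ne.2 (by
        rw [eq_inv_of_mul_eq_one_left h, L.inv_self hv])
      have hn2 : c q * v ≠ v := fun h => hc_ne.1 (by simpa using h)
      have hn3 : c q * v ≠ c q := fun h => L.ne_one hv (by simpa using h)
      have hcard : ({1, v, c q, c q * v, q} : Finset G).card = 5 := by
        simp [Finset.card_insert_of_notMem, hc_ne.1.symm, hc_ne.2.symm, hn1.symm, hn2.symm,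
          hn3.symm, hqout.1.symm, hqout.2.1.symm, hqout.2.2.1.symm, hqout.2.2.2.symm,
          (L.ne_one hv).symm]
      calc 5 = (↑({1, v, c q, c q * v, q} : Finset G) : Set G).ncard := by
            rw [Set.ncard_coe_finset, hcard]
        _ ≤ (K : Set G).ncard := Set.ncard_le_ncard hsub (Set.toFinite _)
        _ = Nat.card ↥K := (Nat.card_coe_set_eq _).symm
    have hKtop : K = Q v := by
      refine SetLike.coe_injective (Set.eq_of_subset_of_ncard_le hKle ?_ (Set.toFinite _))
      rw [← Nat.card_coe_set_eq, ← Nat.card_coe_set_eq]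
      show Nat.card ↥(Q v) ≤ Nat.card ↥K
      obtain ⟨k, hk⟩ := Subgroup.card_dvd_of_le hKle
      rcases k with _ | _ | k
      · have := Nat.card_pos (α := ↥(Q v)); omega
      · omega
      · nlinarith
    rcases L.center_cases hv (hcQ q hq) (fun b hb => by
        have : b ∈ K := by rw [hKtop]; exact hb
        exact (Subgroup.mem_centralizer_singleton_iff.1 this.2 : b * c q = c q * b).symm) with h | h
    · exact hc_ne.1 h
    · exact hc_ne.2 h

end LXFam

variable {G : Type*} [Group G]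

/-- The subgroup attached to each conjugate `x` of `z`: the corresponding conjugate of `Q`. -/
def lxQ (Q : Subgroup G) (z x : G) : Subgroup G :=
  ⨆ g ∈ {g : G | g * z * g⁻¹ = x}, Q.map (MulAut.conj g).toMonoidHom

/-- The first three clauses of `Cfsg.IsLargeExtraspecial`. -/
def PreLarge (Q : Subgroup G) : Prop :=
  Cfsg.IsExtraspecial 2 Q ∧
  Subgroup.centralizer (Q : Set G) = (Subgroup.center Q).map Q.subtype ∧
  Subgroup.centralizer (((Subgroup.center Q).map Q.subtype : Subgroup G) : Set G) ≤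
    Subgroup.normalizer (Q : Set G) ∧ True

theorem preLarge_of_large {Q : Subgroup G} (hQ : Cfsg.IsLargeExtraspecial Q) : PreLarge Q :=
  ⟨hQ.1, hQ.2.1, hQ.2.2.1, trivial⟩

theorem lx_centralizer [Finite G] {Q : Subgroup G} (hQ : PreLarge Q) {z : G}
    (hz : (Subgroup.center Q).map Q.subtype = Subgroup.zpowers z) {c : G} (hc : c * z = z * c) :
    c ∈ Subgroup.normalizer (Q : Set G) := by
  refine hQ.2.2.1 (Subgroup.mem_centralizer_iff.mpr fun x hx => ?_)
  rw [SetLike.mem_coe, hz] at hx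
  obtain ⟨k, rfl⟩ := hx
  exact ((show Commute c z from hc).zpow_right k).eq.symm

theorem lxQ_self [Finite G] {Q : Subgroup G} (hQ : PreLarge Q) {z : G}
    (hz : (Subgroup.center Q).map Q.subtype = Subgroup.zpowers z) (g : G) :
    lxQ Q z (g * z * g⁻¹) = Q.map (MulAut.conj g).toMonoidHom := by
  refine le_antisymm (iSup₂_le fun h hh => ?_) (le_iSup₂_of_le g rfl le_rfl)
  rintro x ⟨q, hq, rfl⟩
  have hh' : h * z * h⁻¹ = g * z * g⁻¹ := hh
  have hc : (g⁻¹ * h) * z = z * (g⁻¹ * h) := by
    calc (g⁻¹ * h) * z = g⁻¹ * (h * z * h⁻¹) * h := by group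
      _ = g⁻¹ * (g * z * g⁻¹) * h := by rw [hh']
      _ = z * (g⁻¹ * h) := by group
  refine ⟨(g⁻¹ * h) * q * (g⁻¹ * h)⁻¹,
    (Subgroup.mem_normalizer_iff.mp (lx_centralizer hQ hz hc) q).mp hq, ?_⟩
  simp [MulAut.conj_apply, mul_assoc]

theorem lxFam [Finite G] {Q : Subgroup G} (hQ : PreLarge Q) {z : G}
    (hz : (Subgroup.center Q).map Q.subtype = Subgroup.zpowers z) (hz2 : orderOf z = 2) :
    LXFam (lxQ Q z) z := by
  have hzz : z ∈ (Subgroup.center Q).map Q.subtype := hz ▸ Subgroup.mem_zpowers z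
  have hself : lxQ Q z z = Q := by
    have := lxQ_self hQ hz 1
    simp only [one_mul, inv_one, mul_one, map_one] at this
    rw [this]
    exact Q.map_id
  refine ⟨?_, ?_, hself.symm ▸ (H93.mem_centerMap.mp hzz).1, hz2, hself.symm ▸ hQ.1, ?_⟩
  · intro x a ha
    have hle : lxQ Q z x ≤ Subgroup.centralizer ({x} : Set G) := by
      refine iSup₂_le fun g hg => ?_
      rintro b ⟨q, hq, rfl⟩
      have hg' : g * z * g⁻¹ = x := hg
      rw [Subgroup.mem_centralizer_singleton_iff, ← hg']
      show g * q * g⁻¹ * _ = _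
      calc g * q * g⁻¹ * (g * z * g⁻¹) = g * (q * z) * g⁻¹ := by group
        _ = g * (z * q) * g⁻¹ := by rw [(H93.mem_centerMap.mp hzz).2 q hq]
        _ = _ := by simp [MulAut.conj_apply, mul_assoc]
    exact Subgroup.mem_centralizer_singleton_iff.mp (hle ha)
  · intro g x a ha
    have hle : (lxQ Q z x).map (MulAut.conj g).toMonoidHom ≤ lxQ Q z (g * x * g⁻¹) := by
      rw [lxQ, Subgroup.map_iSup]
      refine iSup_le fun h => ?_
      rw [Subgroup.map_iSup]
      refine iSup_le fun hh => ?_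
      refine le_iSup₂_of_le (g * h) ?_ ?_
      · have hh' : h * z * h⁻¹ = x := hh
        show g * h * z * (g * h)⁻¹ = _
        rw [← hh']; group
      · rintro b ⟨c, ⟨q, hq, rfl⟩, rfl⟩
        exact ⟨q, hq, by simp [MulAut.conj_apply, mul_assoc]⟩
    exact hle ⟨a, ha, by simp [MulAut.conj_apply]⟩
  · rw [hself, hQ.2.1]
    exact H93.centerMap_le Q

/-- If a conjugate of the central involution lies in `Q`, then conversely `z` lies in the
corresponding conjugate of `Q`. -/
theorem lx_symm [Finite G] {Q : Subgroup G} (hQ : PreLarge Q) {z : G}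
    (hz : (Subgroup.center Q).map Q.subtype = Subgroup.zpowers z) (hz2 : orderOf z = 2) (g : G)
    (hg : g * z * g⁻¹ ∈ Q) : z ∈ Q.map (MulAut.conj g).toMonoidHom := by
  have L := lxFam hQ hz hz2
  rw [← lxQ_self hQ hz g]
  refine L.orth_symm ⟨1, by group⟩ ⟨g, rfl⟩ ?_
  have := lxQ_self hQ hz 1
  simp only [one_mul, inv_one, mul_one, map_one] at this
  rw [this]
  exact ⟨_, hg, rfl⟩

end H69
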