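import Cfsg.Agent.H69.SUCoset

/-!
Adding one coordinate: `SU_{m+1}` from `SU_m` and a window of four coordinates.
-/

set_option autoImplicit false
set_option linter.unusedSectionVars false

namespace H69.SUW

open Matrix Cfsg H50 H37

universe u v

variable {F : Type u} [Field F] {q n : ℕ} [Fintype F] (hF : Fintype.card F = q ^ 2)
include hF

omit hF in
theorem orth_iso {i j : Fin n} (hij : i ≠ j) {w y : Fin n → F} (hw : Supp {i, j} w) (hwi : w i = 1)
    (hwj : w j ^ (q + 1) = -1) (hy : Supp {i, j} y) (h : hermForm n F q y w = 0) :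
    y = y i • w := by
  rw [hermForm, Fintype.sum_eq_add i j hij fun x hx => by
    rw [hy x (by simpa using hx), zero_mul], hwi, one_pow, mul_one] at h
  have e : y j = y i * w j := by
    rw [pow_succ] at hwj
    linear_combination -(w j) * h + y j * hwj
  conv_lhs => rw [supp_pair hij hy, e]
  conv_rhs => rw [supp_pair hij hw, hwi]
  rw [one_smul, smul_add, smul_smul]

/-- Decomposition of a vector of a pair along an isotropic vector and its partner. -/
theorem pair_decomp {i j : Fin n} (hij : i ≠ j) {w f y : Fin n → F} (hw : Supp {i, j} w)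
    (hwi : w i = 1) (hwj : w j ^ (q + 1) = -1) (hf : Supp {i, j} f) (hh : IsHyp q w f)
    (hy : Supp {i, j} y) : y = hermForm n F q y f • w + hermForm n F q y w • f := by
  have e := orth_iso hij hw hwi hwj (hy.sub (hf.smul (hermForm n F q y w)))
    (by rw [h_sub_left, h_smul_left, (hh.symm hF).2.2, mul_one, sub_self])
  set c := (y - hermForm n F q y w • f) i
  rw [sub_eq_iff_eq_add] at e
  have hc : hermForm n F q y f = c := by
    conv_lhs => rw [e]
    rw [h_add_left, h_smul_left, h_smul_left, hh.2.1, hh.2.2, mul_one, mul_zero, add_zero]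
  rw [hc]
  exact e

theorem eich_mem_win {U : Finset (Fin n)} {e w : Fin n → F} {γ : F} {g : SU n F q}
    (hg : IsEich e w γ g) (he : Supp U e) (hw : Supp U w) : g ∈ Win F q U := fun i hi => by
  rw [hg, h_single_left hF, h_single_left hF, he i hi, hw i hi, zero_pow (q_ne_zero hF)]
  simp

theorem eich_partner {e f w : Fin n → F} {γ : F} {g : SU n F q} (hg : IsEich e w γ g)
    (hh : IsHyp q e f) (hwf : hermForm n F q w f = 0) :
    suMat g *ᵥ f = f + w + γ • e := by
  rw [hg, (hh.symm hF).2.2, (h_eq_zero_comm hF).1 hwf, one_smul, mul_one, sub_zero]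

theorem eich_fix {e w : Fin n → F} {γ : F} {g : SU n F q} (hg : IsEich e w γ g)
    (he : hermForm n F q e e = 0) (hwe : hermForm n F q w e = 0) : suMat g *ᵥ e = e :=
  (hg.inQ hF he hwe).1

variable {S T : Finset (Fin n)} {D : Type v} [Group D] (π : D →* SU n F q)
  (a : Win F q S →* D) (b : Win F q T →* D) {i₁ i₂ i₃ j : Fin n}

/-- The inductive step. -/
theorem step (hS : 4 ≤ S.card) (h1 : i₁ ∈ S) (h2 : i₂ ∈ S) (h3 : i₃ ∈ S) (hj : j ∉ S)
    (h12 : i₁ ≠ i₂) (h13 : i₁ ≠ i₃) (h23 : i₂ ≠ i₃) (hT : T = {i₁, i₂, i₃, j})
    (hπa : ∀ h, π (a h) = h.1) (hπb : ∀ k, π (b k) = k.1)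
    (hab : ∀ g (hgS : g ∈ Win F q S) (hgT : g ∈ Win F q T), a ⟨g, hgS⟩ = b ⟨g, hgT⟩)
    (c1 : ∀ (h : Win F q S) (k : Win F q T), h.1 ∈ Win F q (S.erase i₃) →
      k.1 ∈ Win F q {i₃, j} → Commute (a h) (b k))
    (c2 : ∀ (h : Win F q S) (k : Win F q T), h.1 ∈ Win F q ((S.erase i₂).erase i₃) →
      k.1 ∈ Win F q {i₂, i₃, j} → Commute (a h) (b k))
    (htop : a.range ⊔ b.range = ⊤) :
    Function.Injective π ∧ Win F q (insert j S) ≤ Win F q S ⊔ Win F q T := by
  have hj1 : i₁ ≠ j := fun e => hj (e ▸ h1)
  have hj2 : i₂ ≠ j := fun e => hj (e ▸ h2)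
  have hj3 : i₃ ≠ j := fun e => hj (e ▸ h3)
  set R : Finset (Fin n) := {i₁, i₂, i₃} with hR
  have hRS : R ⊆ S := by simp [hR, Finset.subset_iff, h1, h2, h3]
  have hRT : R ⊆ T := by simp [hR, hT, Finset.subset_iff]
  have hRc : R.card = 3 := by simp [hR, h12, h13, h23]
  have hTS : T.erase j ⊆ S := by
    intro x
    simp only [hT, Finset.mem_erase, Finset.mem_insert, Finset.mem_singleton]
    rintro ⟨hne, rfl | rfl | rfl | rfl⟩
    exacts [h1, h2, h3, absurd rfl hne]
  have hpT : ({i₃, j} : Finset (Fin n)) ⊆ T := by simp [hT, Finset.subset_iff]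
  have htT : ({i₂, i₃, j} : Finset (Fin n)) ⊆ T := by simp [hT, Finset.subset_iff]
  have hpR : ({i₂, i₃} : Finset (Fin n)) ⊆ R := by simp [hR, Finset.subset_iff]
  have hjR : j ∉ R := fun e => hj (hRS e)
  have hST : T = insert j R := by rw [hT]; ext x; simp [hR]; tauto
  -- a representative in the second window for a vector
  have repP : ∀ v : Fin n → F, Supp {i₃, j} v → hermForm n F q v v = 1 →
      ∃ k : Win F q T, k.1 ∈ Win F q {i₃, j} ∧ suMat k.1 *ᵥ δ j = v := fun v hv hn => by
    obtain ⟨k, hk, e⟩ := trans_ni hF (by rw [Finset.card_pair hj3]) (v := δ j)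
      (supp_single (by simp)) hv (by rw [hn, h_single hF]) (by rw [h_single hF]; exact one_ne_zero)
    exact ⟨⟨k, win_mono hpT hk⟩, hk, e⟩
  -- the flat case of uniqueness
  have flat : ∀ (h : Win F q S) (k k' : Win F q T),
      suMat h.1 *ᵥ (suMat k.1 *ᵥ δ j) = suMat k'.1 *ᵥ δ j →
      (QuotientGroup.mk (a h * b k) : D ⧸ a.range) = QuotientGroup.mk (b k') := by
    -- elements fixing the part in `R` fix the coset
    have fix : ∀ (h : Win F q S) (k : Win F q T),
        suMat h.1 *ᵥ proj R (suMat k.1 *ᵥ δ j) = proj R (suMat k.1 *ᵥ δ j) →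
        (QuotientGroup.mk (a h * b k) : D ⧸ a.range) = QuotientGroup.mk (b k) := by
      intro h k hfix
      have hv : Supp (insert j R) (suMat k.1 *ᵥ δ j) := by
        rw [← hST]; exact supp_image hF k.2 (supp_single (by simp [hT]))
      have hn : hermForm n F q (suMat k.1 *ᵥ δ j) (suMat k.1 *ᵥ δ j) = 1 := by
        rw [suMat_h, h_single hF]
      set v := suMat k.1 *ᵥ (δ j : Fin n → F)
      have hd := eq_add_single hv hjR
      have hw := supp_proj (S := R) v
      set w := proj R v
      have hN : hermForm n F q w w + v j ^ (q + 1) = 1 := by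
        rw [← norm_add_single hF hw hjR, ← hd, hn]
      -- moving the vector inside the overlap
      have move : ∀ w' : Fin n → F, Supp R w' → hermForm n F q w w = hermForm n F q w' w' →
          (w = 0 ↔ w' = 0) →
          (∀ (h : Win F q S) (k : Win F q T), suMat h.1 *ᵥ w' = w' →
            suMat k.1 *ᵥ δ j = w' + v j • δ j →
            (QuotientGroup.mk (a h * b k) : D ⧸ a.range) = QuotientGroup.mk (b k)) →
          (QuotientGroup.mk (a h * b k) : D ⧸ a.range) = QuotientGroup.mk (b k) := by
        intro w' hw' hN' h0 H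
        obtain ⟨s, hs, es⟩ := trans3 hF hRc.ge hw hw' hN' h0
        refine fix_conj hF (s := ⟨s, win_mono hRS hs⟩) (k' := ⟨s, win_mono hRT hs⟩ * k)
          (by rw [shift hF hab hTS (win_mono hRS hs) (win_mono hRT hs) k]) ?_
        refine H _ _ ?_ ?_
        · rw [Subgroup.coe_mul, Subgroup.coe_mul, Subgroup.coe_inv, suMat_mulVec_mul,
            suMat_mulVec_mul]
          conv_lhs => rw [← es, suMat_inv_mulVec, hfix]
          exact es
        · rw [Subgroup.coe_mul, suMat_mulVec_mul]
          show suMat s *ᵥ v = _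
          rw [hd, mulVec_add, es, win_fix_disjoint hF hs
            ((supp_single (Finset.mem_singleton_self j)).smul _) (by simp [hjR]),
            ← hd]
      by_cases hw0 : w = 0
      · refine move 0 supp_zero (by rw [hw0]) (iff_of_true hw0 rfl) fun h k _ ek => ?_
        rw [zero_add] at ek
        obtain ⟨k', hk', ek'⟩ := repP (v j • δ j) ((supp_single (by simp)).smul _)
          (by rw [h_smul_single hF, ← hN, hw0, h_zero_left, zero_add])
        have hkk := b_same hF hab hTS (ek.trans ek'.symm)
        obtain ⟨K, hK⟩ := stab_sub (a := a) hF k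
        refine (hK h.1 h.2).1 ((gen_big hF hS h1 h2 h3 h12 h13 h23).trans (sup_le ?_ ?_) h.2)
        · intro g hg
          have hgS : g ∈ Win F q S := win_mono (Finset.erase_subset _ _) hg
          exact (hK g hgS).2 (fix_congr hF hkk (fix_comm hF (c1 ⟨g, hgS⟩ k' hg hk')))
        · intro g (hg : g ∈ Win F q R)
          refine (hK g (win_mono hRS hg)).2 (fix_shift hF hab hTS _ (win_mono hRT hg) ?_)
          rw [ek, win_fix_disjoint hF hg ((supp_single (Finset.mem_singleton_self j)).smul _)
            (by simp [hjR])]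
      by_cases hN0 : hermForm n F q w w = 0
      · obtain ⟨e, he, hee, hei, hej⟩ := exists_iso_pair hF h23
        have he0 : e ≠ 0 := fun z => by simp [z] at hei
        refine move e (he.mono hpR) (by rw [hN0, hee]) (iff_of_false hw0 he0) fun h k hh ek => ?_
        -- a representative in the short triple
        have htv : Supp {i₂, i₃, j} (e + v j • δ j) :=
          (he.mono (by simp [Finset.subset_iff])).add ((supp_single (by simp)).smul _)
        have htn : hermForm n F q (e + v j • δ j) (e + v j • δ j) = 1 := by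
          rw [norm_add_single hF he (by simp [hj2.symm, hj3.symm]), hee, ← hN, hN0]
        obtain ⟨k₀, hk₀, ek₀⟩ := trans_ni hF
          (show 2 ≤ ({i₂, i₃, j} : Finset (Fin n)).card by simp [h23, hj2, hj3])
          (v := δ j) (supp_single (by simp)) htv (by rw [h_single hF, htn])
          (by rw [h_single hF]; exact one_ne_zero)
        have hkk := b_same hF hab hTS (k' := ⟨k₀, win_mono htT hk₀⟩) (ek.trans ek₀.symm)
        obtain ⟨K, hK⟩ := stab_sub (a := a) hF k
        refine (hK h.1 h.2).1 ?_
        set R₀ := (S.erase i₂).erase i₃ with hR₀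
        have hR0S : R₀ ⊆ S := (Finset.erase_subset _ _).trans (Finset.erase_subset _ _)
        have hR02 : 2 ≤ R₀.card := by
          rw [hR₀, Finset.card_erase_of_mem (by simp [h23.symm, h3]), Finset.card_erase_of_mem h2]
          omega
        have hdis : Disjoint R₀ ({i₂, i₃} : Finset (Fin n)) := by simp [hR₀]
        have hbR : ∀ g ∈ Win F q R₀, g ∈ K := fun g hg => by
          exact (hK g (win_mono hR0S hg)).2 (fix_congr hF hkk
            (fix_comm hF (c2 ⟨g, win_mono hR0S hg⟩ ⟨k₀, win_mono htT hk₀⟩ hg hk₀)))
        have hbT : ∀ g ∈ Win F q R, suMat g *ᵥ e = e → g ∈ K := fun g hg hge => by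
          refine (hK g (win_mono hRS hg)).2 (fix_shift hF hab hTS _ (win_mono hRT hg) ?_)
          rw [ek, mulVec_add, hge, win_fix_disjoint hF hg
            ((supp_single (Finset.mem_singleton_self j)).smul _) (by simp [hjR])]
        obtain ⟨f, hf, hef⟩ := exists_partner hF he he0 hee
        have horth : ∀ {x y : Fin n → F}, Supp R₀ x → Supp {i₂, i₃} y →
            hermForm n F q x y = 0 := fun hx hy => h_disjoint hF hx hy hdis
        -- the Eichler elements
        let X : AddSubgroup (Fin n → F) :=
          { carrier := {x | Supp R₀ x ∧ ∀ γ g, IsEich e x γ g →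
              γ + γ ^ q + hermForm n F q x x = 0 → g ∈ K}
            zero_mem' := ⟨supp_zero, fun γ g hg _ => hbT g
              (eich_mem_win hF hg (he.mono hpR) supp_zero) (eich_fix hF hg hee (h_zero_left e))⟩
            add_mem' := by
              rintro x y ⟨hx, Hx⟩ ⟨hy, Hy⟩
              refine ⟨hx.add hy, fun γ g hg hγ => ?_⟩
              obtain ⟨γx, hγx⟩ := exists_trace_eq hF (c := -hermForm n F q x x)
                (by rw [neg_pow_q hF, h_self_fixed hF])
              have hγx' : γx + γx ^ q + hermForm n F q x x = 0 := by rw [hγx]; ring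
              obtain ⟨gx, hgx⟩ := exists_isEich hF hee (horth hx he) hγx'
              have hxy : hermForm n F q (x + y) e = 0 := horth (hx.add hy) he
              have h' := (hgx.inv hF hee (horth hx he) hγx').mul hF hg hee
                (by rw [h_neg_left, horth hx he, neg_zero]) hxy
              rw [neg_add_cancel_left] at h'
              have htr : ∀ A B : F, A + B = 0 → A = -B := fun A B e => eq_neg_of_add_eq_zero_left e
              have h'' : γx ^ q + γ - hermForm n F q (x + y) (-x) +
                  (γx ^ q + γ - hermForm n F q (x + y) (-x)) ^ q + hermForm n F q y y = 0 := by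
                rw [h_neg_right hF, sub_neg_eq_add, add_pow_q hF, add_pow_q hF, pow_q_pow_q hF,
                  h_add_left, add_pow_q hF, ← h_symm hF, ← h_symm hF]
                simp only [h_add_left, h_add_right hF] at hγ
                linear_combination hγ + hγx'
              have := mul_mem (Hx γx gx hgx hγx') (Hy _ _ h' h'')
              simpa using this
            neg_mem' := by
              rintro x ⟨hx, Hx⟩
              refine ⟨fun i hi => by rw [Pi.neg_apply, hx i hi, neg_zero], fun γ g hg hγ => ?_⟩
              have hxe : hermForm n F q (-x) e = 0 := by rw [h_neg_left, horth hx he, neg_zero]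
              have h' := hg.inv hF hee hxe hγ
              rw [neg_neg] at h'
              refine inv_mem_iff.1 (Hx _ _ h' ?_)
              rw [h_neg_left, h_neg_right hF, neg_neg] at hγ
              rw [pow_q_pow_q hF]
              linear_combination hγ }
        have hX : ∀ x, Supp R₀ x → x ∈ X := by
          intro x hx
          have hi1 : i₁ ∈ R₀ := by simp [hR₀, h1, h12, h13]
          have h11 : ∀ c : F, c • (δ i₁ : Fin n → F) ∈ X := fun c =>
            ⟨(supp_single hi1).smul c, fun γ g hg _ => hbT g
              (eich_mem_win hF hg (he.mono hpR) ((supp_single (by simp [hR])).smul c))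
              (eich_fix hF hg hee (horth ((supp_single hi1).smul c) he))⟩
          have hii : ∀ i ∈ R₀, ∀ c : F, c • (δ i : Fin n → F) ∈ X := by
            intro i hi c
            by_cases hc : c = 0
            · rw [hc, zero_smul]; exact X.zero_mem
            obtain ⟨r, hr, er⟩ := trans_ni hF hR02 ((supp_single hi).smul c)
              ((supp_single hi1).smul c) (by rw [h_smul_single hF, h_smul_single hF])
              (by rw [h_smul_single hF]; exact pow_ne_zero _ hc)
            refine ⟨(supp_single hi).smul c, fun γ g hg hγ => ?_⟩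
            have h' := hg.conj r
            rw [er, win_fix_disjoint hF hr he hdis] at h'
            have := (h11 c).2 γ _ h' (by rw [h_smul_single hF] at hγ ⊢; exact hγ)
            simpa [mul_assoc] using mul_mem (mul_mem (inv_mem (hbR r hr)) this) (hbR r hr)
          have e' : x = ∑ i ∈ R₀, x i • (δ i : Fin n → F) := by
            funext i
            simp only [Finset.sum_apply, Pi.smul_apply, Pi.single_apply, smul_eq_mul]
            by_cases hi : i ∈ R₀
            · simp [hi]
            · simp [hi, hx i hi]
          rw [e']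
          exact sum_mem fun i hi => hii i hi (x i)
        -- decomposition of `h`
        have hhf : Supp S (suMat h.1 *ᵥ f) :=
          supp_image hF h.2 (hf.mono (hpR.trans hRS))
        set y := suMat h.1 *ᵥ f
        set x := proj R₀ y
        have hx : Supp R₀ x := supp_proj y
        set p := y - x
        have hp : Supp {i₂, i₃} p := fun i hi => by
          show (y - x) i = 0
          by_cases h' : i ∈ R₀
          · show y i - proj R₀ y i = 0
            rw [proj_apply h', sub_self]
          · rw [Pi.sub_apply, hx i h', sub_zero, hhf i (fun hiS => h' ?_)]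
            simp only [Finset.mem_insert, Finset.mem_singleton, not_or] at hi
            simp [hR₀, hiS, hi.1, hi.2]
        have hy1 : hermForm n F q y e = 1 := by
          conv_lhs => rw [← hh]
          rw [suMat_h, (hef.symm hF).2.2]
        have hpd := pair_decomp hF h23 he hei hej hf hef hp
        rw [show hermForm n F q p e = 1 by
          rw [h_sub_left, hy1, horth hx he, sub_zero], one_smul] at hpd
        set γ := hermForm n F q p f
        have hyd : y = f + x + γ • e := by
          rw [show y = p + x by simp [p], hpd]; abel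
        have hxe := horth hx he
        have hxf := horth hx hf
        have hγ : γ + γ ^ q + hermForm n F q x x = 0 := by
          have h0 : hermForm n F q y y = 0 := by rw [suMat_h]; exact hef.2.1
          rw [hyd] at h0
          simp only [h_add_left, h_add_right hF, h_smul_left, h_smul_right hF, hef.1, hef.2.1,
            hef.2.2, (hef.symm hF).2.2, hxe, hxf, (h_eq_zero_comm hF).1 hxe,
            (h_eq_zero_comm hF).1 hxf] at h0
          linear_combination h0
        obtain ⟨E, hE⟩ := exists_isEich hF hee hxe hγ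
        have hEK : E ∈ K := (hX x hx).2 γ E hE hγ
        have hES : E ∈ Win F q S :=
          eich_mem_win hF hE (he.mono (hpR.trans hRS)) (hx.mono hR0S)
        have hEf : suMat E *ᵥ f = y := by rw [eich_partner hF hE hef hxf, hyd]
        have hre : suMat (E⁻¹ * h.1) *ᵥ e = e := by
          rw [suMat_mulVec_mul, hh, suMat_inv_fix (eich_fix hF hE hee hxe)]
        have hrf : suMat (E⁻¹ * h.1) *ᵥ f = f := by
          rw [suMat_mulVec_mul]; show suMat E⁻¹ *ᵥ y = f
          rw [← hEf, suMat_inv_mulVec]
        have hfixpair : ∀ i ∈ ({i₂, i₃} : Finset (Fin n)),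
            suMat (E⁻¹ * h.1) *ᵥ (δ i : Fin n → F) = δ i := fun i hi => by
          rw [pair_decomp hF h23 he hei hej hf hef (y := δ i) (supp_single hi), mulVec_add,
            mulVec_smul, mulVec_smul, hre, hrf]
        have hr : E⁻¹ * h.1 ∈ Win F q R₀ := win_erase (win_erase (mul_mem (inv_mem hES) h.2)
          (hfixpair i₂ (by simp))) (hfixpair i₃ (by simp))
        simpa using mul_mem hEK (hbR _ hr)
      · obtain ⟨y, hy⟩ := exists_norm_eq hF (h_self_fixed hF w)
        have hy0 : y ≠ 0 := fun e => hN0 (by rw [← hy, e, zero_pow (by omega)])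
        refine move (y • δ i₃) ((supp_single (by simp [hR])).smul y)
          (by rw [h_smul_single hF, hy]) (iff_of_false hw0 fun e => hN0 (by
            rw [← hy, ← h_smul_single hF y i₃, e, h_zero_left])) fun h k hh ek => ?_
        obtain ⟨k', hk', ek'⟩ := repP (y • δ i₃ + v j • δ j)
          (((supp_single (by simp)).smul _).add ((supp_single (by simp)).smul _))
          (by rw [norm_add_single hF ((supp_single (Finset.mem_singleton_self i₃)).smul y)
            (by simp [hj3.symm]), h_smul_single hF, hy, hN])
        have hkk := b_same hF hab hTS (ek.trans ek'.symm)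
        have hh' : h.1 ∈ Win F q (S.erase i₃) := win_erase h.2 (by
          rw [mulVec_smul] at hh
          exact smul_right_injective (Fin n → F) hy0 hh)
        exact fix_congr hF hkk (fix_comm hF (c1 h k' hh' hk'))
    intro h k k' e
    have hv : ∀ k : Win F q T, Supp (insert j R) (suMat k.1 *ᵥ δ j) := fun k => by
      rw [← hST]; exact supp_image hF k.2 (supp_single (by simp [hT]))
    have hp : ∀ k : Win F q T, proj S (suMat k.1 *ᵥ δ j) = proj R (suMat k.1 *ᵥ δ j) := fun k => by
      funext i
      by_cases hi : i ∈ R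
      · rw [proj_apply hi, proj_apply (hRS hi)]
      · rw [supp_proj _ i hi]
        by_cases hiS : i ∈ S
        · rw [proj_apply hiS, hv k i]
          simp only [Finset.mem_insert, not_or]
          exact ⟨fun e => hj (e ▸ hiS), hi⟩
        · exact supp_proj _ i hiS
    have he1 : suMat h.1 *ᵥ proj R (suMat k.1 *ᵥ δ j) = proj R (suMat k'.1 *ᵥ δ j) := by
      rw [← hp, ← proj_image hF h.2, e, hp]
    have hn0 : proj R (suMat k.1 *ᵥ δ j) = 0 ↔ proj R (suMat k'.1 *ᵥ δ j) = 0 := by
      rw [← he1]
      refine ⟨fun z => by rw [z, mulVec_zero], fun z => ?_⟩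
      have := congrArg (fun x => suMat h.1⁻¹ *ᵥ x) z
      rwa [suMat_inv_mulVec, mulVec_zero] at this
    obtain ⟨s, hs, es⟩ := trans3 hF hRc.ge (supp_proj _) (supp_proj _)
      (by rw [← he1, suMat_h]) hn0
    have h1' := fix (⟨s, win_mono hRS hs⟩⁻¹ * h) k (by
      rw [Subgroup.coe_mul, Subgroup.coe_inv, suMat_mulVec_mul, he1, ← es, suMat_inv_mulVec])
    have h2' := congrArg (fun z : D ⧸ a.range => a ⟨s, win_mono hRS hs⟩ • z) h1'
    simp only [MulAction.Quotient.smul_coe, smul_eq_mul, map_mul, map_inv, ← mul_assoc,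
      mul_inv_cancel, one_mul] at h2'
    rw [h2', shift hF hab hTS (win_mono hRS hs) (win_mono hRT hs) k]
    refine b_same hF hab hTS ?_
    rw [Subgroup.coe_mul, suMat_mulVec_mul, ← e]
    show suMat s *ᵥ _ = _
    conv_rhs => rw [eq_add_single (hv k) hjR]
    conv_lhs => rw [eq_add_single (hv k) hjR]
    rw [mulVec_add, mulVec_add, es, he1, win_fix_disjoint hF hs
      ((supp_single (Finset.mem_singleton_self j)).smul _) (by simp [hjR]),
      win_fix_disjoint hF h.2 ((supp_single (Finset.mem_singleton_self j)).smul _) (by simp [hj])]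
  have huniq := uniq_of_flat flat
  -- equivariance under the short pair
  have hmove : ∀ m : Win F q T, m.1 ∈ Win F q {i₃, j} → Moves π a b j (b m) := by
    intro m hm u x hx
    have hx0 := hx
    obtain ⟨h, k, e, -⟩ := hx
    have hu : Supp (insert j S) u := by
      rw [← e]
      exact supp_image hF (mul_mem (win_mono (Finset.subset_insert _ _) h.2)
        (win_mono (by rw [hST]; exact Finset.insert_subset_insert _ hRS) k.2))
        (supp_single (Finset.mem_insert_self _ _))
    have hn : hermForm n F q u u = 1 := by rw [← e, suMat_h, h_single hF]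
    set S' := S.erase i₃ with hS'
    set w := proj S' u
    obtain ⟨w', hw', hN', h0⟩ : ∃ w' : Fin n → F, Supp {i₁, i₂} w' ∧
        hermForm n F q w w = hermForm n F q w' w' ∧ (w = 0 ↔ w' = 0) := by
      by_cases hw0 : w = 0
      · exact ⟨0, supp_zero, by rw [hw0], iff_of_true hw0 rfl⟩
      by_cases hN0 : hermForm n F q w w = 0
      · obtain ⟨w', a, b, c, -⟩ := exists_iso_pair hF h12
        exact ⟨w', a, by rw [hN0, b], iff_of_false hw0 fun e => by simp [e] at c⟩
      · obtain ⟨y, hy⟩ := exists_norm_eq hF (h_self_fixed hF w)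
        refine ⟨y • δ i₁, (supp_single (by simp)).smul y, by rw [h_smul_single hF, hy],
          iff_of_false hw0 fun e => hN0 ?_⟩
        rw [← hy, ← h_smul_single hF y i₁, e, h_zero_left]
    obtain ⟨r, hr, er⟩ := trans3 hF
      (show 3 ≤ S'.card by rw [hS', Finset.card_erase_of_mem h3]; omega) (supp_proj u)
      (hw'.mono (by simp [hS', Finset.subset_iff, h1, h2, h13, h23])) hN' h0
    have hrS : r ∈ Win F q S := win_mono (Finset.erase_subset _ _) hr
    have hru : Supp T (suMat r *ᵥ u) := fun i hi => by
      by_cases hi' : i ∈ S'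
      · have := congrFun (proj_image hF hr u) i
        rw [proj_apply hi', er] at this
        rw [this]
        refine hw' i ?_
        simp [hT] at hi
        simp [hi.1, hi.2.1]
      · rw [win_apply hF hr u hi']
        refine hu i fun hi2 => ?_
        simp [hT] at hi
        simp [hS', hi.2.2.1, hi.2.2.2] at hi' hi2
        exact hi' hi2
    obtain ⟨K, hK, eK⟩ := trans_ni hF
      (show 2 ≤ T.card by
        rw [hST, Finset.card_insert_of_notMem hjR, hRc]; omega) (v := δ j)
      (supp_single (by simp [hT])) hru
      (by rw [suMat_h, hn, h_single hF]) (by rw [h_single hF]; exact one_ne_zero)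
    have hcl : Cl a b j u (QuotientGroup.mk (a (⟨r, hrS⟩⁻¹) * b ⟨K, hK⟩)) :=
      ⟨_, _, by rw [Subgroup.coe_inv, suMat_mulVec_mul, eK, suMat_inv_mulVec], rfl⟩
    have hc := (c1 (⟨r, hrS⟩⁻¹) m (inv_mem hr) hm)
    have hc' := hc.map π
    rw [hπa, hπb] at hc'
    rw [huniq u x _ hx0 hcl, MulAction.Quotient.smul_coe, smul_eq_mul, hπb]
    refine ⟨⟨r, hrS⟩⁻¹, m * ⟨K, hK⟩, ?_, ?_⟩
    · rw [Subgroup.coe_mul, ← mul_assoc, hc'.eq, mul_assoc, Subgroup.coe_inv, suMat_mulVec_mul,
        suMat_mulVec_mul, eK, suMat_inv_mulVec]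
    · rw [map_mul b, ← mul_assoc, ← hc.eq, mul_assoc]
  refine ⟨injective_of_moves hπa huniq
    (Set.range a ∪ b '' {m | m.1 ∈ Win F q {i₃, j}}) ?_ ?_, ?_⟩
  · rintro d (⟨h, rfl⟩ | ⟨m, hm, rfl⟩)
    · exact ⟨moves_left hπa h, by rw [← map_inv]; exact moves_left hπa _⟩
    · exact ⟨hmove m hm, by rw [← map_inv]; exact hmove _ (inv_mem hm)⟩
  · set C := Subgroup.closure (Set.range a ∪ b '' {m | m.1 ∈ Win F q {i₃, j}})
    rw [eq_top_iff, ← htop]
    refine sup_le (fun d hd => Subgroup.subset_closure (Or.inl hd)) ?_
    rintro _ ⟨k, rfl⟩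
    have hle : Win F q T ≤ (C.comap b).map (Win F q T).subtype := by
      refine fun g hg => ((gen_four hF h12 h13 h23 hj1 hj2 hj3).trans (sup_le ?_ ?_))
        (show g ∈ Win F q {i₁, i₂, i₃, j} by rw [← hT]; exact hg)
      · intro g hg
        have hgT : g ∈ Win F q T := win_mono hRT hg
        refine ⟨⟨g, hgT⟩, ?_, rfl⟩
        show b ⟨g, _⟩ ∈ C
        rw [← hab g (win_mono hRS hg) hgT]
        exact Subgroup.subset_closure (Or.inl ⟨_, rfl⟩)
      · intro g hg
        exact ⟨⟨g, win_mono hpT hg⟩,
          Subgroup.subset_closure (Or.inr ⟨_, hg, rfl⟩), rfl⟩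
    obtain ⟨k', hk', e⟩ := hle k.2
    have e' : k' = k := Subtype.ext e
    rw [← e']
    exact hk'
  · have := gen_big hF (S := insert j S) (i₁ := i₂) (i₂ := i₃) (i₃ := j)
      (by rw [Finset.card_insert_of_notMem hj]; omega) (Finset.mem_insert_of_mem h2)
      (Finset.mem_insert_of_mem h3) (Finset.mem_insert_self _ _) h23 hj2 hj3
    rw [Finset.erase_insert hj] at this
    exact this.trans (sup_le_sup le_rfl (win_mono htT))

end H69.SUW
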