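import Cfsg.Agent.H11.PConstrained
import Cfsg.Agent.H31.InvariantMax
import Cfsg.Agent.H1.CoprimeAction2
import Cfsg.Agent.CompPComp
import Cfsg.Agent.H31.TwoCentres
import Cfsg.Agent.H37.GL42A7
import Mathlib

/-!
The action of a two-constrained group on the Frattini quotient of its two-core of small rank, and
the elementary section of order thirty-two below a symplectic group of dimension four.
-/

set_option autoImplicit false

namespace H69.RadicalRep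

open Matrix

theorem zmod2_mul_eq_one : ∀ a b : ZMod 2, a * b = 1 → a = 1 := by decide

/-- A group acting on an elementary abelian group of order at most sixteen, in four coordinates. -/
theorem exists_coords {V : Type*} [Group V] [Finite V] (hV : ∀ v : V, v * v = 1) (hcard : Nat.card V ≤ 16) :
    ∃ (s : MulAut V →* SpecialLinearGroup (Fin 4) (ZMod 2)) (e : V → (Fin 4 → ZMod 2)),
      Function.Injective s ∧ Function.Injective e ∧ (∀ u v, e (u * v) = e u + e v) ∧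
      (∀ φ v, e (φ v) = (s φ : Matrix (Fin 4) (Fin 4) (ZMod 2)) *ᵥ e v) ∧
      ∀ φ x, ∃ v, (s φ : Matrix (Fin 4) (Fin 4) (ZMod 2)) *ᵥ x + x = e v := by
  have : Fact (Nat.Prime 2) := ⟨Nat.prime_two⟩
  have hi : ∀ v : V, v⁻¹ = v := fun v => inv_eq_of_mul_eq_one_right (hV v)
  letI : CommGroup V :=
    { (inferInstance : Group V) with
      mul_comm := fun u v => by
        calc u * v = (u * v)⁻¹ := (hi _).symm
          _ = v * u := by rw [_root_.mul_inv_rev, hi, hi] }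
  letI : Module (ZMod 2) (Additive V) := AddCommGroup.zmodModule (fun x => by
    rw [two_nsmul]; exact hV x.toMul)
  have : Module.Finite (ZMod 2) (Additive V) := Module.Finite.of_finite
  set d := Module.finrank (ZMod 2) (Additive V) with hd
  have hd4 : d ≤ 4 := by
    have h := Module.natCard_eq_pow_finrank (K := ZMod 2) (V := Additive V)
    rw [Nat.card_zmod, Nat.card_congr (Additive.toMul (α := V))] at h
    exact (Nat.pow_le_pow_iff_right (by norm_num : 1 < 2)).1 (h ▸ hcard : 2 ^ d ≤ 2 ^ 4)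
  have e : (Additive V × (Fin (4 - d) → ZMod 2)) ≃ₗ[ZMod 2] (Fin 4 → ZMod 2) :=
    LinearEquiv.ofFinrankEq _ _ (by simp [Module.finrank_prod, ← hd]; omega)
  let lin : MulAut V → ((Additive V) →ₗ[ZMod 2] (Additive V)) := fun φ =>
    (MonoidHom.toAdditive φ.toMonoidHom).toZModLinearMap 2
  let m : MulAut V →* Matrix (Fin 4) (Fin 4) (ZMod 2) :=
    { toFun := fun φ => LinearMap.toMatrix' ((e.toLinearMap ∘ₗ (lin φ).prodMap LinearMap.id) ∘ₗ e.symm.toLinearMap)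
      map_one' := by
        rw [show (e.toLinearMap ∘ₗ (lin 1).prodMap LinearMap.id) ∘ₗ e.symm.toLinearMap = LinearMap.id from ?_,
          LinearMap.toMatrix'_id]
        refine LinearMap.ext fun x => ?_
        show e ((lin 1) (e.symm x).1, (e.symm x).2) = x
        exact e.apply_symm_apply x
      map_mul' := fun φ ψ => by
        rw [← LinearMap.toMatrix'_comp]
        congr 1
        refine LinearMap.ext fun x => ?_
        show e ((lin (φ * ψ)) (e.symm x).1, (e.symm x).2) =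
          e ((lin φ) (e.symm (e ((lin ψ) (e.symm x).1, (e.symm x).2))).1,
            (e.symm (e ((lin ψ) (e.symm x).1, (e.symm x).2))).2)
        rw [e.symm_apply_apply]
        rfl }
  have hdet : ∀ φ, (m φ).det = 1 := fun φ => by
    have h : (m φ).det * (m φ⁻¹).det = 1 := by
      rw [← Matrix.det_mul, ← map_mul, mul_inv_cancel, map_one, Matrix.det_one]
    exact zmod2_mul_eq_one _ _ h
  let s : MulAut V →* Matrix.SpecialLinearGroup (Fin 4) (ZMod 2) :=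
    { toFun := fun φ => ⟨m φ, hdet φ⟩
      map_one' := Subtype.ext (map_one m)
      map_mul' := fun φ ψ => Subtype.ext (map_mul m φ ψ) }
  have hs : Function.Injective s := by
    intro φ ψ h
    have hm : m φ = m ψ := congrArg Subtype.val h
    have hl := LinearMap.toMatrix'.injective hm
    refine MulEquiv.ext fun v => ?_
    have h2 := LinearMap.congr_fun hl (e (Additive.ofMul v, 0))
    change e ((lin φ) (e.symm (e (Additive.ofMul v, 0))).1, (e.symm (e (Additive.ofMul v, 0))).2) =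
      e ((lin ψ) (e.symm (e (Additive.ofMul v, 0))).1, (e.symm (e (Additive.ofMul v, 0))).2) at h2
    rw [e.symm_apply_apply] at h2
    exact (Prod.mk.inj (e.injective h2)).1
  have hact : ∀ φ x, (s φ : Matrix (Fin 4) (Fin 4) (ZMod 2)) *ᵥ x =
      e ((lin φ) (e.symm x).1, (e.symm x).2) := fun φ x => by
    show m φ *ᵥ x = _
    rw [← Matrix.toLin'_apply]
    show Matrix.toLin' (LinearMap.toMatrix' _) x = _
    rw [Matrix.toLin'_toMatrix']
    rfl
  refine ⟨s, fun v => e (Additive.ofMul v, 0), hs, fun u v h => (Prod.mk.inj (e.injective h)).1,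
    fun u v => ?_, fun φ v => ?_, fun φ x => ?_⟩
  · rw [← map_add, Prod.mk_add_mk, add_zero]; rfl
  · rw [hact]; dsimp only; rw [e.symm_apply_apply]; rfl
  · refine ⟨((lin φ) (e.symm x).1 + (e.symm x).1).toMul, ?_⟩
    rw [hact]
    conv_lhs => arg 2; rw [← e.apply_symm_apply x]
    rw [← map_add]
    congr 1
    refine Prod.ext rfl ?_
    show (e.symm x).2 + (e.symm x).2 = 0
    exact funext fun i => CharTwo.add_self_eq_zero _

/-- The action on the Frattini quotient of the two-core. -/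
theorem exists_rep {X : Type*} [Group X] [Finite X] (hc : Cfsg.IsPConstrained 2 X) (hO : Cfsg.oddCore X = ⊥)
    (h4 : Cfsg.SectionalPRankLE 2 4 ↥(Cfsg.pCore 2 X)) :
    ∃ (f : X →* SpecialLinearGroup (Fin 4) (ZMod 2)) (e : ↥(Cfsg.pCore 2 X) → (Fin 4 → ZMod 2)),
      f.ker = Cfsg.pCore 2 X ∧ (∀ a b : ↥(Cfsg.pCore 2 X), e (a * b) = e a + e b) ∧
      (∀ (x : X) (a b : ↥(Cfsg.pCore 2 X)), (b : X) = x * (a : X) * x⁻¹ → e b = (f x : Matrix (Fin 4) (Fin 4) (ZMod 2)) *ᵥ e a) ∧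
      ∀ x v, ∃ a, (f x : Matrix (Fin 4) (Fin 4) (ZMod 2)) *ᵥ v + v = e a := by
  have := Fact.mk Nat.prime_two
  set Q := Cfsg.pCore 2 X with hQ
  have hQ2 : IsPGroup 2 Q := Cfsg.Comp.pCore_isPGroup 2
  have hCQ : Subgroup.centralizer (Q : Set X) ≤ Q :=
    (H11.isPConstrained_iff_of_hom (MonoidHom.id X) (fun x => ⟨x, rfl⟩)
      (by rw [MonoidHom.ker_id]; exact hO.symm)).1 hc
  set Φ := frattini Q
  have hsq : ∀ v : Q ⧸ Φ, v * v = 1 := by
    intro v
    obtain ⟨x, rfl⟩ := QuotientGroup.mk'_surjective Φ v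
    rw [← map_mul, QuotientGroup.mk'_apply, QuotientGroup.eq_one_iff, ← sq]
    exact H31.pow_mem_frattini hQ2 x
  have hcard : Nat.card (Q ⧸ Φ) ≤ 16 := by
    have hr := H31.TwoCentres.pRankLE_of_section h4 (MonoidHom.id Q) Function.injective_id (QuotientGroup.mk' Φ)
      (QuotientGroup.mk'_surjective Φ)
    have hi : ∀ a : Q ⧸ Φ, a⁻¹ = a := fun a => inv_eq_of_mul_eq_one_right (hsq a)
    have h := hr ⊤ ⟨⟨fun u v => Subtype.ext (by
        calc (u : Q ⧸ Φ) * v = ((u : Q ⧸ Φ) * v)⁻¹ := (hi _).symm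
          _ = v * u := by rw [_root_.mul_inv_rev, hi, hi])⟩⟩ (fun v _ => by rw [sq]; exact hsq v)
    rw [Subgroup.card_top] at h
    exact h
  obtain ⟨s, e, hs, he, hadd, hact, hdiff⟩ := exists_coords hsq hcard
  let act : X →* MulAut (Q ⧸ Φ) :=
    { toFun := fun x => QuotientGroup.congr Φ Φ (MulAut.conjNormal x)
        (Subgroup.characteristic_iff_map_eq.1 (inferInstance : Φ.Characteristic) _)
      map_one' := by
        refine MulEquiv.ext fun v => ?_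
        obtain ⟨q, rfl⟩ := QuotientGroup.mk'_surjective Φ v
        simp
      map_mul' := fun x y => by
        refine MulEquiv.ext fun v => ?_
        obtain ⟨q, rfl⟩ := QuotientGroup.mk'_surjective Φ v
        show (QuotientGroup.mk (MulAut.conjNormal (x * y) q) : Q ⧸ Φ) =
          QuotientGroup.mk (MulAut.conjNormal x (MulAut.conjNormal y q))
        rw [map_mul]; rfl }
  have hker : act.ker = Q := by
    refine le_antisymm ?_ fun x hx => ?_
    · refine Cfsg.Comp.le_pCore inferInstance ?_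
      intro ⟨x, hx⟩
      obtain ⟨k, r, hr, hord⟩ := Nat.exists_eq_pow_mul_and_not_dvd (orderOf_pos x).ne' 2 (by norm_num)
      have hy : x ^ 2 ^ k ∈ act.ker := pow_mem hx _
      have hyo : orderOf (x ^ 2 ^ k) = r := by
        rw [orderOf_pow' _ (by positivity), hord, Nat.gcd_eq_right (dvd_mul_right _ _),
          Nat.mul_div_cancel_left _ (by positivity)]
      have hyC : Subgroup.zpowers (x ^ 2 ^ k) ≤ Subgroup.centralizer (Q : Set X) := by
        refine H1.le_centralizer_of_frattini (Cfsg.Comp.le_normalizer_of_normal) ?_ ?_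
        · rw [Nat.card_zpowers, hyo]
          obtain ⟨j, hj⟩ := IsPGroup.iff_card.1 (hQ2.to_subgroup (frattini Q))
          rw [hj]
          exact ((Nat.prime_two.coprime_iff_not_dvd.2 hr).symm).pow_right j
        · intro a ha q hq
          have hak : a ∈ act.ker := (Subgroup.zpowers_le.2 hy) ha
          have h := congrArg (fun φ : MulAut (Q ⧸ Φ) => φ (QuotientGroup.mk ⟨q, hq⟩))
            (MonoidHom.mem_ker.1 hak)
          have h' : (QuotientGroup.mk (MulAut.conjNormal a ⟨q, hq⟩) : Q ⧸ Φ) =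
              QuotientGroup.mk ⟨q, hq⟩ := h
          have h'' := QuotientGroup.eq.1 h'.symm
          refine ⟨⟨q, hq⟩ * ((⟨q, hq⟩ : Q)⁻¹ * MulAut.conjNormal a ⟨q, hq⟩) * (⟨q, hq⟩ : Q)⁻¹,
            (inferInstance : Φ.Normal).conj_mem _ h'' _, ?_⟩
          simp [mul_assoc]
      obtain ⟨j, hj⟩ := hQ2 ⟨x ^ 2 ^ k, hCQ (hyC (Subgroup.mem_zpowers _))⟩
      have hj' : (x ^ 2 ^ k) ^ 2 ^ j = 1 := congrArg Subtype.val hj
      exact ⟨k + j, Subtype.ext (by rw [pow_add, pow_mul]; exact hj')⟩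
    · refine MonoidHom.mem_ker.2 (MulEquiv.ext fun v => ?_)
      obtain ⟨q, rfl⟩ := QuotientGroup.mk'_surjective Φ v
      show (QuotientGroup.mk (MulAut.conjNormal x q) : Q ⧸ Φ) = QuotientGroup.mk q
      refine QuotientGroup.eq.2 ?_
      have h := H31.commutator_le_frattini hQ2
        (Subgroup.commutator_mem_commutator (Subgroup.mem_top (⟨x, hx⟩ : Q)) (Subgroup.mem_top q⁻¹))
      have e : (MulAut.conjNormal x q)⁻¹ * q =
          (⟨x, hx⟩ : Q) * q⁻¹ * (⟨x, hx⟩ : Q)⁻¹ * (q⁻¹)⁻¹ := by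
        apply Subtype.ext
        simp [MulAut.conjNormal_apply, mul_assoc]
      rw [e]
      exact h
  refine ⟨s.comp act, fun a => e (QuotientGroup.mk a), ?_, fun a b => by show e _ = e _ + e _; rw [QuotientGroup.mk_mul, hadd],
    fun x a b hb => ?_, fun x v => ?_⟩
  · refine Eq.trans ?_ hker
    ext x
    exact ⟨fun h => MonoidHom.mem_ker.2 (hs (h.trans (map_one s).symm)), fun h => by
      rw [MonoidHom.mem_ker, MonoidHom.comp_apply, MonoidHom.mem_ker.1 h, map_one]⟩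
  · show e (QuotientGroup.mk b) = _
    rw [show b = MulAut.conjNormal x a from Subtype.ext (by rw [MulAut.conjNormal_apply]; exact hb)]
    exact hact (act x) (QuotientGroup.mk a)
  · obtain ⟨w, hw⟩ := hdiff (act x) v
    obtain ⟨a, rfl⟩ := QuotientGroup.mk_surjective w
    exact ⟨a, hw⟩

local notation "G4" => SpecialLinearGroup (Fin 4) (ZMod 2)

/-- The elementary transvection. -/
def tv (i j : Fin 4) (h : i ≠ j := by decide) : G4 := SpecialLinearGroup.transvection h 1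

/-- Five elements of the symplectic group fixing a plane or moving it. -/
def gens : List G4 := [tv 0 2, tv 1 3, tv 0 3 * tv 1 2, tv 2 0, tv 3 1]

theorem tv_sq : tv 0 2 * tv 0 2 = 1 ∧ tv 1 3 * tv 1 3 = 1 ∧ (tv 0 3 * tv 1 2) * (tv 0 3 * tv 1 2) = 1 := by
  decide +kernel

theorem tv_pairs : (tv 0 2 * tv 1 3) * (tv 0 2 * tv 1 3) = 1 ∧
    (tv 0 2 * (tv 0 3 * tv 1 2)) * (tv 0 2 * (tv 0 3 * tv 1 2)) = 1 ∧
    (tv 1 3 * (tv 0 3 * tv 1 2)) * (tv 1 3 * (tv 0 3 * tv 1 2)) = 1 ∧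
    tv 0 2 * tv 3 1 = tv 3 1 * tv 0 2 ∧ tv 1 3 * tv 2 0 = tv 2 0 * tv 1 3 := by
  decide +kernel

theorem fix_facts : ∀ v : Fin 4 → ZMod 2,
    (((tv 0 3 * tv 1 2 : G4) : Matrix (Fin 4) (Fin 4) (ZMod 2)) *ᵥ v = v → v 2 = 0 ∧ v 3 = 0) ∧
    (((tv 0 2 * tv 1 3 : G4) : Matrix (Fin 4) (Fin 4) (ZMod 2)) *ᵥ v = v → v 2 = 0 ∧ v 3 = 0) ∧
    (((tv 0 2 * (tv 0 3 * tv 1 2) : G4) : Matrix (Fin 4) (Fin 4) (ZMod 2)) *ᵥ v = v → v 2 = 0 ∧ v 3 = 0) ∧
    (((tv 1 3 * (tv 0 3 * tv 1 2) : G4) : Matrix (Fin 4) (Fin 4) (ZMod 2)) *ᵥ v = v → v 2 = 0 ∧ v 3 = 0) ∧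
    (((tv 0 2 : G4) : Matrix (Fin 4) (Fin 4) (ZMod 2)) *ᵥ v = v → v 2 = 0) ∧
    (((tv 1 3 : G4) : Matrix (Fin 4) (Fin 4) (ZMod 2)) *ᵥ v = v → v 3 = 0) ∧
    ((((tv 3 1 : G4) : Matrix (Fin 4) (Fin 4) (ZMod 2)) *ᵥ v + v) 3 = v 1) ∧
    ((((tv 1 3 : G4) : Matrix (Fin 4) (Fin 4) (ZMod 2)) *ᵥ v + v) 1 = v 3) ∧
    ((((tv 2 0 : G4) : Matrix (Fin 4) (Fin 4) (ZMod 2)) *ᵥ v + v) 2 = v 0) ∧
    ((((tv 0 2 : G4) : Matrix (Fin 4) (Fin 4) (ZMod 2)) *ᵥ v + v) 0 = v 2) ∧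
    ((((tv 0 2 : G4) : Matrix (Fin 4) (Fin 4) (ZMod 2)) *ᵥ v + v) 1 = 0) ∧
    ((((tv 1 3 : G4) : Matrix (Fin 4) (Fin 4) (ZMod 2)) *ᵥ v + v) 0 = 0) := by
  decide +kernel

theorem u_moves : ∀ u ∈ [tv 0 2, tv 1 3, tv 0 3 * tv 1 2], ∀ v : Fin 4 → ZMod 2,
    (((u : G4) : Matrix (Fin 4) (Fin 4) (ZMod 2)) *ᵥ v + v) 2 = 0 ∧
    (((u : G4) : Matrix (Fin 4) (Fin 4) (ZMod 2)) *ᵥ v + v) 3 = 0 ∧
    (v 2 = 0 → v 3 = 0 → ((u : G4) : Matrix (Fin 4) (Fin 4) (ZMod 2)) *ᵥ v = v) := by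
  intro u hu
  rcases List.mem_cons.1 hu with rfl | hu
  · decide +kernel
  rcases List.mem_cons.1 hu with rfl | hu
  · decide +kernel
  rcases List.mem_cons.1 hu with rfl | hu
  · decide +kernel
  · simp at hu

theorem basis_moves :
    (((tv 0 2 : G4) : Matrix (Fin 4) (Fin 4) (ZMod 2)) *ᵥ Pi.single 2 1 + Pi.single 2 1 = Pi.single 0 1) ∧
    (((tv 1 3 : G4) : Matrix (Fin 4) (Fin 4) (ZMod 2)) *ᵥ Pi.single 3 1 + Pi.single 3 1 = Pi.single 1 1) ∧
    (((tv 2 0 : G4) : Matrix (Fin 4) (Fin 4) (ZMod 2)) *ᵥ Pi.single 0 1 + Pi.single 0 1 = Pi.single 2 1) ∧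
    (((tv 3 1 : G4) : Matrix (Fin 4) (Fin 4) (ZMod 2)) *ᵥ Pi.single 1 1 + Pi.single 1 1 = Pi.single 3 1) := by
  decide +kernel

/-- The combinations of three commuting elements. -/
def combo {M : Type*} [Monoid M] (g₁ g₂ g₃ : M) (p : Bool × Bool × Bool) : M :=
  (cond p.1 g₁ 1) * (cond p.2.1 g₂ 1) * (cond p.2.2 g₃ 1)

theorem combo_injective : Function.Injective (combo (tv 0 2) (tv 1 3) (tv 0 3 * tv 1 2)) := by
  decide +kernel

theorem zmod2_cases : ∀ c : ZMod 2, c = 0 ∨ c = 1 := by decide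

theorem zmod2_sum : ∀ v : Fin 4 → ZMod 2, v = v 0 • (Pi.single 0 1 : Fin 4 → ZMod 2) +
    v 1 • Pi.single 1 1 + v 2 • Pi.single 2 1 + v 3 • Pi.single 3 1 := by decide +kernel

/-- The elementary section of order thirty-two. -/
theorem not_sectional_four {X : Type*} [Group X] [Finite X] (f : X →* G4) (Q : Subgroup X) (hQ : f.ker = Q)
    (e : Q → (Fin 4 → ZMod 2)) (hadd : ∀ a b, e (a * b) = e a + e b)
    (hconj : ∀ (x : X) (a b : Q), (b : X) = x * (a : X) * x⁻¹ →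
      e b = (f x : Matrix (Fin 4) (Fin 4) (ZMod 2)) *ᵥ e a)
    (hdiff : ∀ x v, ∃ a, (f x : Matrix (Fin 4) (Fin 4) (ZMod 2)) *ᵥ v + v = e a)
    (hgens : ∀ g ∈ gens, g ∈ f.range) : ¬ Cfsg.SectionalPRankLE 2 4 X := by
  classical
  intro h4
  haveI : Fact (Nat.Prime 2) := ⟨Nat.prime_two⟩
  haveI hQn : Q.Normal := hQ ▸ f.normal_ker
  have he1 : e 1 = 0 := by
    have := hadd 1 1
    rw [mul_one] at this
    exact left_eq_add.1 this
  have heinv : ∀ a, e a⁻¹ = e a := fun a => by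
    have := hadd a a⁻¹
    rw [mul_inv_cancel, he1] at this
    exact funext fun i => (CharTwo.add_eq_zero.1 (congrFun this i).symm).symm
  have hsurj : Function.Surjective e := by
    let T : AddSubgroup (Fin 4 → ZMod 2) :=
      { carrier := Set.range e
        zero_mem' := ⟨1, he1⟩
        add_mem' := fun {p q} ⟨a, ha⟩ ⟨b, hb⟩ => ⟨a * b, by rw [hadd, ha, hb]⟩
        neg_mem' := fun {p} ⟨a, ha⟩ => ⟨a, by rw [ha]; exact funext fun i => (CharTwo.neg_eq (p i)).symm⟩ }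
    have hT : ∀ g ∈ gens, ∀ v, (g : Matrix (Fin 4) (Fin 4) (ZMod 2)) *ᵥ v + v ∈ T := fun g hg v => by
      obtain ⟨x, rfl⟩ := hgens g hg
      obtain ⟨a, ha⟩ := hdiff x v
      exact ⟨a, ha.symm⟩
    have hb : ∀ i : Fin 4, (Pi.single i 1 : Fin 4 → ZMod 2) ∈ T := by
      intro i
      fin_cases i
      · exact basis_moves.1 ▸ hT _ (by simp [gens]) _
      · exact basis_moves.2.1 ▸ hT _ (by simp [gens]) _
      · exact basis_moves.2.2.1 ▸ hT _ (by simp [gens]) _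
      · exact basis_moves.2.2.2 ▸ hT _ (by simp [gens]) _
    have hs : ∀ (c : ZMod 2) (i : Fin 4), c • (Pi.single i 1 : Fin 4 → ZMod 2) ∈ T := by
      intro c i
      rcases zmod2_cases c with rfl | rfl
      · rw [zero_smul]; exact T.zero_mem
      · rw [one_smul]; exact hb i
    intro v
    show v ∈ T
    rw [zmod2_sum v]
    exact T.add_mem (T.add_mem (T.add_mem (hs _ 0) (hs _ 1)) (hs _ 2)) (hs _ 3)
  let W : Subgroup X :=
    { carrier := {x | ∃ hx : x ∈ Q, e ⟨x, hx⟩ 2 = 0 ∧ e ⟨x, hx⟩ 3 = 0}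
      one_mem' := ⟨Q.one_mem, congrFun he1 2, congrFun he1 3⟩
      mul_mem' := fun {a b} ⟨ha, h1, h2⟩ ⟨hb, h3, h4⟩ => ⟨Q.mul_mem ha hb, by
          show e (⟨a, ha⟩ * ⟨b, hb⟩) 2 = 0
          rw [hadd, Pi.add_apply, h1, h3, add_zero], by
          show e (⟨a, ha⟩ * ⟨b, hb⟩) 3 = 0
          rw [hadd, Pi.add_apply, h2, h4, add_zero]⟩
      inv_mem' := fun {a} ⟨ha, h1, h2⟩ => ⟨Q.inv_mem ha, by
          show e (⟨a, ha⟩⁻¹) 2 = 0
          rw [heinv, h1], by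
          show e (⟨a, ha⟩⁻¹) 3 = 0
          rw [heinv, h2]⟩ }
  have hfQ : ∀ q ∈ Q, f q = 1 := fun q hq => MonoidHom.mem_ker.1 (hQ.symm ▸ hq)
  have hsqfix : ∀ x : X, f x * f x = 1 → ∃ hx : x * x ∈ Q,
      (f x : Matrix (Fin 4) (Fin 4) (ZMod 2)) *ᵥ e ⟨x * x, hx⟩ = e ⟨x * x, hx⟩ := fun x hx => by
    have hm : x * x ∈ Q := hQ ▸ MonoidHom.mem_ker.2 (by rw [map_mul, hx])
    exact ⟨hm, (hconj x ⟨x * x, hm⟩ ⟨x * x, hm⟩ (by
      show x * x = x * (x * x) * x⁻¹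
      rw [mul_assoc, mul_assoc, mul_inv_cancel, mul_one])).symm⟩
  have hsqW : ∀ x : X, f x * f x = 1 →
      (∀ v : Fin 4 → ZMod 2, (f x : Matrix (Fin 4) (Fin 4) (ZMod 2)) *ᵥ v = v → v 2 = 0 ∧ v 3 = 0) →
      x * x ∈ W := fun x hx hfix => by
    obtain ⟨hm, hv⟩ := hsqfix x hx
    exact ⟨hm, hfix _ hv⟩
  -- a lift commuting with `h` up to the kernel pins the class of the square
  have hclass : ∀ (x y : X), f x * f x = 1 → f x * f y = f y * f x → ∀ hx : x * x ∈ Q, ∃ a : Q,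
      (f y : Matrix (Fin 4) (Fin 4) (ZMod 2)) *ᵥ e ⟨x * x, hx⟩ + e ⟨x * x, hx⟩ =
        (f x : Matrix (Fin 4) (Fin 4) (ZMod 2)) *ᵥ e a + e a := by
    intro x y hx2 hxy hx
    have hn : y * x * y⁻¹ * x⁻¹ ∈ Q := hQ ▸ MonoidHom.mem_ker.2 (by
      rw [map_mul, map_mul, map_mul, map_inv, map_inv, ← hxy, mul_inv_cancel_right, mul_inv_cancel])
    refine ⟨⟨_, hn⟩, ?_⟩
    have hm : y * (x * x) * y⁻¹ ∈ Q := hQn.conj_mem _ hx y
    have hc : x * (y * x * y⁻¹ * x⁻¹) * x⁻¹ ∈ Q := hQn.conj_mem _ hn x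
    rw [← hconj y ⟨x * x, hx⟩ ⟨_, hm⟩ rfl, ← hconj x ⟨_, hn⟩ ⟨_, hc⟩ rfl]
    have e1 : (⟨_, hm⟩ : Q) = ⟨_, hn⟩ * ⟨_, hc⟩ * ⟨x * x, hx⟩ := Subtype.ext (by
      show y * (x * x) * y⁻¹ = y * x * y⁻¹ * x⁻¹ * (x * (y * x * y⁻¹ * x⁻¹) * x⁻¹) * (x * x)
      group)
    rw [e1, hadd, hadd]
    refine funext fun i => ?_
    simp only [Pi.add_apply]
    linear_combination (e ⟨x * x, hx⟩ i) * (CharTwo.two_eq_zero (R := ZMod 2))
  obtain ⟨g₁, hg₁⟩ := hgens (tv 0 2) (by simp [gens])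
  obtain ⟨g₂, hg₂⟩ := hgens (tv 1 3) (by simp [gens])
  obtain ⟨g₃, hg₃⟩ := hgens (tv 0 3 * tv 1 2) (by simp [gens])
  obtain ⟨y₁, hy₁⟩ := hgens (tv 3 1) (by simp [gens])
  obtain ⟨y₂, hy₂⟩ := hgens (tv 2 0) (by simp [gens])
  have h1W : g₁ * g₁ ∈ W := by
    have hs : f g₁ * f g₁ = 1 := by rw [hg₁]; exact tv_sq.1
    obtain ⟨hm, hv⟩ := hsqfix g₁ hs
    rw [hg₁] at hv
    refine ⟨hm, (fix_facts _).2.2.2.2.1 hv, ?_⟩
    obtain ⟨a, ha⟩ := hclass g₁ g₂ hs (by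
      rw [hg₁, hg₂]
      have h1 := tv_pairs.1
      calc tv 0 2 * tv 1 3 = (tv 0 2 * tv 1 3) * ((tv 1 3 * tv 1 3)) := by rw [tv_sq.2.1, mul_one]
        _ = tv 1 3 * tv 0 2 := by
            have h2 : tv 0 2 * tv 1 3 = (tv 1 3)⁻¹ * (tv 0 2)⁻¹ := by
              rw [← _root_.mul_inv_rev]; exact (inv_eq_of_mul_eq_one_right h1).symm
            rw [inv_eq_of_mul_eq_one_right tv_sq.1, inv_eq_of_mul_eq_one_right tv_sq.2.1] at h2
            rw [tv_sq.2.1, mul_one, h2]) hm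
    rw [hg₁, hg₂] at ha
    have h3 := congrFun ha 1
    rw [(fix_facts _).2.2.2.2.2.2.2.1, (fix_facts (e a)).2.2.2.2.2.2.2.2.2.2.1] at h3
    exact h3
  have h2W : g₂ * g₂ ∈ W := by
    have hs : f g₂ * f g₂ = 1 := by rw [hg₂]; exact tv_sq.2.1
    obtain ⟨hm, hv⟩ := hsqfix g₂ hs
    rw [hg₂] at hv
    refine ⟨hm, ?_, (fix_facts _).2.2.2.2.2.1 hv⟩
    obtain ⟨a, ha⟩ := hclass g₂ g₁ hs (by
      rw [hg₁, hg₂]
      have h2 : tv 0 2 * tv 1 3 = (tv 1 3)⁻¹ * (tv 0 2)⁻¹ := by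
        rw [← _root_.mul_inv_rev]; exact (inv_eq_of_mul_eq_one_right tv_pairs.1).symm
      rw [inv_eq_of_mul_eq_one_right tv_sq.1, inv_eq_of_mul_eq_one_right tv_sq.2.1] at h2
      exact h2.symm) hm
    rw [hg₁, hg₂] at ha
    have h3 := congrFun ha 0
    rw [(fix_facts _).2.2.2.2.2.2.2.2.2.1, (fix_facts (e a)).2.2.2.2.2.2.2.2.2.2.2] at h3
    exact h3
  have h3W : g₃ * g₃ ∈ W := hsqW g₃ (by rw [hg₃]; exact tv_sq.2.2) fun v hv => (fix_facts v).1 (hg₃ ▸ hv)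
  have h12 : g₁ * g₂ * (g₁ * g₂) ∈ W := hsqW _ (by rw [map_mul, hg₁, hg₂]; exact tv_pairs.1)
    fun v hv => (fix_facts v).2.1 (by rwa [map_mul, hg₁, hg₂] at hv)
  have h13 : g₁ * g₃ * (g₁ * g₃) ∈ W := hsqW _ (by rw [map_mul, hg₁, hg₃]; exact tv_pairs.2.1)
    fun v hv => (fix_facts v).2.2.1 (by rwa [map_mul, hg₁, hg₃] at hv)
  have h23 : g₂ * g₃ * (g₂ * g₃) ∈ W := hsqW _ (by rw [map_mul, hg₂, hg₃]; exact tv_pairs.2.2.1)
    fun v hv => (fix_facts v).2.2.2.1 (by rwa [map_mul, hg₂, hg₃] at hv)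
  set S : Set X := (Q : Set X) ∪ {g₁, g₂, g₃} with hS
  set E := Subgroup.closure S with hE
  have hQE : Q ≤ E := fun q hq => Subgroup.subset_closure (Or.inl hq)
  have hgE : g₁ ∈ E ∧ g₂ ∈ E ∧ g₃ ∈ E :=
    ⟨Subgroup.subset_closure (Or.inr (by simp)), Subgroup.subset_closure (Or.inr (by simp)),
      Subgroup.subset_closure (Or.inr (by simp))⟩
  have hWQ : W ≤ Q := fun x hx => hx.1
  -- the generators fix `W`
  have hSW : ∀ x ∈ S, ∀ w ∈ W, x * w * x⁻¹ ∈ W := by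
    rintro x hx w ⟨hw, h1, h2⟩
    refine ⟨hQn.conj_mem _ hw x, ?_⟩
    have hfix : (f x : Matrix (Fin 4) (Fin 4) (ZMod 2)) *ᵥ e ⟨w, hw⟩ = e ⟨w, hw⟩ := by
      rcases hx with hx | hx | hx | hx
      · rw [hfQ x hx]; exact one_mulVec _
      · rw [hx, hg₁]; exact ((u_moves _ (by simp)) _).2.2 h1 h2
      · rw [hx, hg₂]; exact ((u_moves _ (by simp)) _).2.2 h1 h2
      · rw [Set.mem_singleton_iff.1 hx, hg₃]; exact ((u_moves _ (by simp)) _).2.2 h1 h2
    rw [hconj x ⟨w, hw⟩ ⟨_, hQn.conj_mem _ hw x⟩ rfl, hfix]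
    exact ⟨h1, h2⟩
  have hEW : ∀ x ∈ E, ∀ w ∈ W, x * w * x⁻¹ ∈ W := by
    intro x hx
    rw [hE, ← Subgroup.mem_toSubmonoid, Subgroup.closure_toSubmonoid_of_finite] at hx
    induction hx using Submonoid.closure_induction with
    | mem y hy => exact hSW y hy
    | one => intro w hw; simpa using hw
    | mul a b _ _ ha hb =>
      intro w hw
      rw [show a * b * w * (a * b)⁻¹ = a * (b * w * b⁻¹) * a⁻¹ by group]
      exact ha _ (hb w hw)
  haveI : (W.subgroupOf E).Normal := ⟨fun w hw g => by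
    rw [Subgroup.mem_subgroupOf] at hw ⊢
    exact hEW g g.2 _ hw⟩
  -- generators commute and square into `W`
  have hsqS : ∀ x ∈ S, x * x ∈ W := by
    rintro x (hx | hx | hx | hx)
    · refine ⟨Q.mul_mem hx hx, ?_, ?_⟩ <;>
        · show e (⟨x, hx⟩ * ⟨x, hx⟩) _ = 0
          rw [hadd, Pi.add_apply]; exact CharTwo.add_self_eq_zero _
    · rw [hx]; exact h1W
    · rw [hx]; exact h2W
    · rw [Set.mem_singleton_iff.1 hx]; exact h3W
  let π : E →* E ⧸ W.subgroupOf E := QuotientGroup.mk' _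
  have hπ : ∀ x : E, π x = 1 ↔ (x : X) ∈ W := fun x =>
    (QuotientGroup.eq_one_iff x).trans Subgroup.mem_subgroupOf
  have hcommS : ∀ x y : E, (x : X) ∈ S → (y : X) ∈ S → π x * π y = π y * π x := by
    intro x y hx hy
    have ha : π x * π x = 1 := by rw [← map_mul, hπ]; exact hsqS _ hx
    have hb : π y * π y = 1 := by rw [← map_mul, hπ]; exact hsqS _ hy
    have key : ∀ a b : E, π (a * b) * π (a * b) = 1 → π a * π a = 1 → π b * π b = 1 → π a * π b = π b * π a := by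
      intro a b hab ha hb
      rw [map_mul] at hab
      have h1 := inv_eq_of_mul_eq_one_right hab
      rw [_root_.mul_inv_rev, inv_eq_of_mul_eq_one_right ha, inv_eq_of_mul_eq_one_right hb] at h1
      exact h1.symm
    by_cases hq : (x : X) ∈ Q
    · have : ∀ y : X, y ∈ S → ∀ q, ∀ hq : q ∈ Q, q * y * q⁻¹ * y⁻¹ ∈ W := by
        intro y hy q hq
        have hm : y * q⁻¹ * y⁻¹ ∈ Q := hQn.conj_mem _ (Q.inv_mem hq) y
        have he : e (⟨q, hq⟩ * ⟨_, hm⟩) = (f y : Matrix (Fin 4) (Fin 4) (ZMod 2)) *ᵥ e ⟨q, hq⟩ + e ⟨q, hq⟩ := by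
          rw [hadd, hconj y ⟨q⁻¹, Q.inv_mem hq⟩ ⟨_, hm⟩ rfl, add_comm]
          congr 2
          exact heinv ⟨q, hq⟩
        have hval : ((⟨q, hq⟩ * ⟨_, hm⟩ : Q) : X) = q * y * q⁻¹ * y⁻¹ := by
          show q * (y * q⁻¹ * y⁻¹) = _
          group
        rw [← hval]
        refine ⟨(⟨q, hq⟩ * ⟨_, hm⟩ : Q).2, ?_⟩
        show e (⟨q, hq⟩ * ⟨_, hm⟩) 2 = 0 ∧ e (⟨q, hq⟩ * ⟨_, hm⟩) 3 = 0
        rw [he]
        rcases hy with hy | hy | hy | hy
        · rw [hfQ y hy, show ((1 : G4) : Matrix (Fin 4) (Fin 4) (ZMod 2)) = 1 from rfl, one_mulVec]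
          exact ⟨CharTwo.add_self_eq_zero _, CharTwo.add_self_eq_zero _⟩
        · rw [hy, hg₁]; exact ⟨((u_moves _ (by simp)) _).1, ((u_moves _ (by simp)) _).2.1⟩
        · rw [hy, hg₂]; exact ⟨((u_moves _ (by simp)) _).1, ((u_moves _ (by simp)) _).2.1⟩
        · rw [Set.mem_singleton_iff.1 hy, hg₃]; exact ⟨((u_moves _ (by simp)) _).1, ((u_moves _ (by simp)) _).2.1⟩
      have h1 : π (x * y * x⁻¹ * y⁻¹) = 1 := (hπ _).2 (this y hy x hq)
      rw [map_mul, map_mul, map_mul, map_inv, map_inv, mul_inv_eq_one, mul_inv_eq_iff_eq_mul] at h1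
      exact h1
    by_cases hq' : (y : X) ∈ Q
    · have hm : (y : X) * (x : X) * (y : X)⁻¹ * (x : X)⁻¹ ∈ W := by
        have hm : (x : X) * (y : X)⁻¹ * (x : X)⁻¹ ∈ Q := hQn.conj_mem _ (Q.inv_mem hq') _
        have he : e (⟨y, hq'⟩ * ⟨_, hm⟩) = (f x : Matrix (Fin 4) (Fin 4) (ZMod 2)) *ᵥ e ⟨y, hq'⟩ + e ⟨y, hq'⟩ := by
          rw [hadd, hconj x ⟨(y : X)⁻¹, Q.inv_mem hq'⟩ ⟨_, hm⟩ rfl, add_comm]
          congr 2
          exact heinv ⟨y, hq'⟩
        have hval : ((⟨y, hq'⟩ * ⟨_, hm⟩ : Q) : X) = (y : X) * x * (y : X)⁻¹ * (x : X)⁻¹ := by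
          show (y : X) * ((x : X) * (y : X)⁻¹ * (x : X)⁻¹) = _
          group
        rw [← hval]
        refine ⟨(⟨y, hq'⟩ * ⟨_, hm⟩ : Q).2, ?_⟩
        show e (⟨y, hq'⟩ * ⟨_, hm⟩) 2 = 0 ∧ e (⟨y, hq'⟩ * ⟨_, hm⟩) 3 = 0
        rw [he]
        rcases hx with hx | hx | hx | hx
        · exact absurd hx hq
        · rw [hx, hg₁]; exact ⟨((u_moves _ (by simp)) _).1, ((u_moves _ (by simp)) _).2.1⟩
        · rw [hx, hg₂]; exact ⟨((u_moves _ (by simp)) _).1, ((u_moves _ (by simp)) _).2.1⟩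
        · rw [Set.mem_singleton_iff.1 hx, hg₃]; exact ⟨((u_moves _ (by simp)) _).1, ((u_moves _ (by simp)) _).2.1⟩
      have h1 : π (y * x * y⁻¹ * x⁻¹) = 1 := (hπ _).2 hm
      rw [map_mul, map_mul, map_mul, map_inv, map_inv, mul_inv_eq_one, mul_inv_eq_iff_eq_mul] at h1
      exact h1.symm
    rcases hx with hx | hx
    · exact absurd hx hq
    rcases hy with hy | hy
    · exact absurd hy hq'
    have hpair : ∀ a b : E, (a : X) * b * (a * b) ∈ W → π (a * b) * π (a * b) = 1 := fun a b h => by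
      rw [← map_mul, hπ]; exact h
    rcases hx with hx | hx | hx <;> rcases hy with hy | hy | hy <;>
      first
      | (rw [show x = y from Subtype.ext (hx.trans hy.symm)])
      | exact key x y (hpair x y (by rw [hx, hy]; first | exact h12 | exact h13 | exact h23)) ha hb
      | exact (key y x (hpair y x (by rw [hx, hy]; first | exact h12 | exact h13 | exact h23)) hb ha).symm
  have htop : Subgroup.closure (π '' ((Subtype.val : E → X) ⁻¹' S)) = ⊤ := by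
    rw [← MonoidHom.map_closure,
      show Subgroup.closure ((Subtype.val : E → X) ⁻¹' S) = ⊤ from Subgroup.closure_closure_coe_preimage,
      Subgroup.map_top_of_surjective _ (QuotientGroup.mk'_surjective _)]
  have hab : ∀ u v : E ⧸ W.subgroupOf E, u * v = v * u := by
    intro u v
    have hle : Subgroup.closure (π '' ((Subtype.val : E → X) ⁻¹' S)) ≤
        Subgroup.centralizer (π '' ((Subtype.val : E → X) ⁻¹' S)) := by
      rw [Subgroup.closure_le]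
      rintro _ ⟨a, ha, rfl⟩ _ ⟨b, hb, rfl⟩
      exact hcommS b a hb ha
    have hle2 : Subgroup.closure (π '' ((Subtype.val : E → X) ⁻¹' S)) ≤
        Subgroup.centralizer (Subgroup.closure (π '' ((Subtype.val : E → X) ⁻¹' S)) : Set (E ⧸ W.subgroupOf E)) := by
      rw [Subgroup.centralizer_closure]; exact hle
    exact (hle2 (htop ▸ Subgroup.mem_top u) v (htop ▸ Subgroup.mem_top v)).symm
  have hsq : ∀ u : E ⧸ W.subgroupOf E, u * u = 1 := by
    intro u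
    induction (htop ▸ Subgroup.mem_top u : u ∈ Subgroup.closure _) using Subgroup.closure_induction with
    | mem y hy =>
      obtain ⟨a, ha, rfl⟩ := hy
      rw [← map_mul, hπ]; exact hsqS _ ha
    | one => rw [mul_one]
    | mul a b _ _ ha hb =>
      rw [mul_assoc, ← mul_assoc b, hab b a, mul_assoc a b b, hb, mul_one, ha]
    | inv a _ ha => rw [← _root_.mul_inv_rev, ha, inv_one]
  -- thirty-two cosets
  choose sec hsec using hsurj
  have hmem : ∀ (p : (ZMod 2 × ZMod 2) × (Bool × Bool × Bool)),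
      ((sec ![0, 0, p.1.1, p.1.2] : Q) : X) * combo g₁ g₂ g₃ p.2 ∈ E := fun p => by
    refine E.mul_mem (hQE (sec _).2) (E.mul_mem (E.mul_mem ?_ ?_) ?_)
    · cases p.2.1 <;> simp [hgE.1]
    · cases p.2.2.1 <;> simp [hgE.2.1]
    · cases p.2.2.2 <;> simp [hgE.2.2]
  let ι : (ZMod 2 × ZMod 2) × (Bool × Bool × Bool) → E ⧸ W.subgroupOf E := fun p => π ⟨_, hmem p⟩
  have hι : Function.Injective ι := by
    rintro ⟨⟨a, b⟩, p⟩ ⟨⟨a', b'⟩, p'⟩ h
    have h' := (Subgroup.mem_subgroupOf.1 (QuotientGroup.eq.1 h))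
    simp only [Subgroup.coe_mul, InvMemClass.coe_inv] at h'
    have hf := hfQ _ (hWQ h')
    rw [map_mul, map_inv, inv_mul_eq_one, map_mul, map_mul, hfQ _ (sec _).2, hfQ _ (sec _).2, one_mul, one_mul] at hf
    have hc : ∀ p, f (combo g₁ g₂ g₃ p) = combo (tv 0 2) (tv 1 3) (tv 0 3 * tv 1 2) p := fun ⟨c₁, c₂, c₃⟩ => by
      cases c₁ <;> cases c₂ <;> cases c₃ <;> simp [combo, map_mul, hg₁, hg₂, hg₃]
    rw [hc, hc] at hf
    obtain rfl := combo_injective hf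
    obtain ⟨hm, h2, h3⟩ : (combo g₁ g₂ g₃ p)⁻¹ * (((sec ![0, 0, a, b] : Q) : X)⁻¹ *
        ((sec ![0, 0, a', b'] : Q) : X)) * combo g₁ g₂ g₃ p ∈ W := by
      convert h' using 1
      group
    have hcE : combo g₁ g₂ g₃ p ∈ E := by
      refine E.mul_mem (E.mul_mem ?_ ?_) ?_
      · cases p.1 <;> simp [hgE.1]
      · cases p.2.1 <;> simp [hgE.2.1]
      · cases p.2.2 <;> simp [hgE.2.2]
    obtain ⟨hm', h2', h3'⟩ := hEW _ hcE _ ⟨hm, h2, h3⟩
    have e1 : (⟨_, hm'⟩ : Q) = (sec ![0, 0, a, b])⁻¹ * sec ![0, 0, a', b'] := Subtype.ext (by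
      show _ = ((sec ![0, 0, a, b] : Q) : X)⁻¹ * ((sec ![0, 0, a', b'] : Q) : X)
      group)
    rw [e1, hadd, heinv, hsec, hsec] at h2' h3'
    simp only [Pi.add_apply] at h2' h3'
    simp at h2' h3'
    exact Prod.ext (Prod.ext (CharTwo.add_eq_zero.1 h2') (CharTwo.add_eq_zero.1 h3')) rfl
  have hle := Nat.card_le_card_of_injective ι hι
  have hr := H31.TwoCentres.pRankLE_of_section h4 E.subtype E.subtype_injective π (QuotientGroup.mk'_surjective _)
  have := hr ⊤ ⟨⟨fun u v => Subtype.ext (hab u v)⟩⟩ (fun u _ => by rw [sq]; exact hsq u)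
  rw [Subgroup.card_top] at this
  rw [Nat.card_eq_fintype_card (α := (ZMod 2 × ZMod 2) × (Bool × Bool × Bool))] at hle
  simp at hle
  omega

end H69.RadicalRep
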