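import Cfsg.Agent.H69.SectionTools
import Cfsg.Agent.H1.CoprimeAction2
import Cfsg.Agent.H1.Cores
import Cfsg.Agent.H11.PConstrained
import Cfsg.Agent.H31.InvariantMax
import Cfsg.Agent.H31.Basic
import Cfsg.Agent.H31.EightTools
import Cfsg.Agent.H67.DQHom
import Cfsg.Agent.CompBasic
import Cfsg.Prelude.Def_Transfer
import Mathlib

/-!
The two-core of a two-constrained group of sectional two-rank four above the alternating group of degree five.
-/

set_option autoImplicit false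

namespace H69.AltFive

open scoped commutatorElement

theorem alt_elements : ∃ y e t : alternatingGroup (Fin 5),
    y ^ 5 = 1 ∧ y ≠ 1 ∧ e * e = 1 ∧ e ≠ 1 ∧ e * y * e⁻¹ * y = 1 ∧ t ^ 3 = 1 ∧ t ≠ 1 := by
  refine ⟨⟨Equiv.swap 0 1 * Equiv.swap 1 2 * Equiv.swap 2 3 * Equiv.swap 3 4, by rw [Equiv.Perm.mem_alternatingGroup]; decide +kernel⟩,
    ⟨Equiv.swap 1 4 * Equiv.swap 2 3, by rw [Equiv.Perm.mem_alternatingGroup]; decide +kernel⟩,
    ⟨Equiv.swap 0 1 * Equiv.swap 1 2, by rw [Equiv.Perm.mem_alternatingGroup]; decide +kernel⟩,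
    ?_, ?_, ?_, ?_, ?_, ?_, ?_⟩ <;> decide +kernel

/-- A group over the alternating group of degree five with kernel a two-group, of sectional rank at most four. -/
structure Data (G : Type*) [Group G] where
  π : G →* alternatingGroup (Fin 5)
  surj : Function.Surjective π
  two : IsPGroup 2 π.ker
  rank : Cfsg.SectionalPRankLE 2 4 G

variable {G : Type*} [Group G]

/-- Lifts of the chosen elements. -/
structure Elems (D : Data G) (y e t : G) : Prop where
  y5 : y ^ 5 = 1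
  yne : D.π y ≠ 1
  ene : D.π e ≠ 1
  e2 : D.π (e * e) = 1
  ey : D.π (e * y * e⁻¹ * y) = 1
  t3 : t ^ 3 = 1
  tne : D.π t ≠ 1

/-- An element of prime order over an element of the same odd prime order. -/
theorem exists_lift (D : Data G) {p : ℕ} [hp : Fact p.Prime] (hp2 : p ≠ 2) (g₀ : alternatingGroup (Fin 5))
    (hg : g₀ ^ p = 1) (hg1 : g₀ ≠ 1) : ∃ (g : G) (n : ℕ), g ^ p = 1 ∧ D.π g = g₀ ^ n ∧ D.π g ≠ 1 := by
  obtain ⟨g, hgπ⟩ := D.surj g₀
  obtain ⟨k, hk⟩ := D.two ⟨g ^ p, MonoidHom.mem_ker.2 (by rw [map_pow, hgπ, hg])⟩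
  refine ⟨g ^ 2 ^ k, 2 ^ k, ?_, by rw [map_pow, hgπ], ?_⟩
  · rw [← pow_mul, mul_comm, pow_mul]; exact congrArg Subtype.val hk
  · rw [map_pow, hgπ]
    intro h
    have h1 := Nat.dvd_gcd (orderOf_dvd_of_pow_eq_one hg) (orderOf_dvd_of_pow_eq_one h)
    rw [Nat.Coprime.pow_right k ((Nat.coprime_primes hp.out Nat.prime_two).2 hp2), Nat.dvd_one, orderOf_eq_one_iff] at h1
    exact hg1 h1

theorem exists_elems (D : Data G) : ∃ y e t, Elems D y e t := by
  obtain ⟨y₀, e₀, t₀, h1, h2, h3, h4, h5, h6, h7⟩ := alt_elements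
  haveI : Fact (Nat.Prime 5) := ⟨by norm_num⟩
  haveI : Fact (Nat.Prime 3) := ⟨by norm_num⟩
  obtain ⟨y, n, hy5, hyπ, hy⟩ := exists_lift D (p := 5) (by norm_num) y₀ h1 h2
  obtain ⟨t, -, ht3, -, ht⟩ := exists_lift D (p := 3) (by norm_num) t₀ h6 h7
  obtain ⟨e, he⟩ := D.surj e₀
  refine ⟨y, e, t, hy5, hy, by rw [he]; exact h4, by rw [map_mul, he, h3], ?_, ht3, ht⟩
  rw [map_mul, map_mul, map_mul, map_inv, he, hyπ, ← conj_pow, eq_inv_of_mul_eq_one_left h5, inv_pow,
    inv_mul_cancel]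

/-- The quotient by a normal subgroup of the kernel. -/
def Data.quot (D : Data G) (N : Subgroup G) [N.Normal] (h : N ≤ D.π.ker) : Data (G ⧸ N) where
  π := QuotientGroup.lift N D.π h
  surj a := by obtain ⟨g, rfl⟩ := D.surj a; exact ⟨g, rfl⟩
  two := by
    rw [QuotientGroup.ker_lift]
    exact D.two.map _
  rank := H31.RankTwoMeta.sectional_quotient D.rank N

theorem Data.quot_ker (D : Data G) (N : Subgroup G) [N.Normal] (h : N ≤ D.π.ker) :
    (D.quot N h).π.ker = D.π.ker.map (QuotientGroup.mk' N) := QuotientGroup.ker_lift N D.π h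

theorem Elems.quot {D : Data G} {y e t : G} (E : Elems D y e t) (N : Subgroup G) [N.Normal] (h : N ≤ D.π.ker) :
    Elems (D.quot N h) (QuotientGroup.mk' N y) (QuotientGroup.mk' N e) (QuotientGroup.mk' N t) where
  y5 := by rw [← map_pow, E.y5, map_one]
  yne := E.yne
  ene := E.ene
  e2 := by rw [← map_mul]; exact E.e2
  ey := by rw [← map_inv, ← map_mul, ← map_mul, ← map_mul]; exact E.ey
  t3 := by rw [← map_pow, E.t3, map_one]
  tne := E.tne

/-- A normal subgroup above the kernel and not inside it is everything. -/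
theorem eq_top_of_normal (D : Data G) (K : Subgroup G) [K.Normal] (hK : D.π.ker ≤ K) {g : G} (hg : g ∈ K)
    (hg1 : D.π g ≠ 1) : K = ⊤ := by
  haveI : (K.map D.π).Normal := (inferInstance : K.Normal).map D.π D.surj
  rcases (inferInstance : IsSimpleGroup (alternatingGroup (Fin 5))).eq_bot_or_eq_top_of_normal (K.map D.π)
    inferInstance with h | h
  · exact absurd (Subgroup.mem_bot.1 (h ▸ Subgroup.mem_map_of_mem D.π hg)) hg1
  · have h2 := congrArg (Subgroup.comap D.π) h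
    rwa [Subgroup.comap_map_eq, sup_eq_left.2 hK, Subgroup.comap_top] at h2

/-- The whole group centralises once one outer element does. -/
theorem central_all (D : Data G) (V : Subgroup G) [V.Normal] (hQV : ∀ x ∈ D.π.ker, ∀ v ∈ V, x * v = v * x) {g : G}
    (hg1 : D.π g ≠ 1) (hg : ∀ v ∈ V, g * v = v * g) : ∀ x, ∀ v ∈ V, x * v = v * x := by
  haveI : (Subgroup.centralizer (V : Set G)).Normal := Subgroup.normal_centralizer
  have h := eq_top_of_normal D (Subgroup.centralizer (V : Set G)) (fun x hx v hv => (hQV x hx v hv).symm)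
    (fun v hv => (hg v hv).symm) hg1
  intro x v hv
  exact ((h ▸ Subgroup.mem_top x : x ∈ Subgroup.centralizer (V : Set G)) v hv).symm

theorem card_map_mk {H N : Subgroup G} [N.Normal] (h : N ≤ H) :
    Nat.card (H.map (QuotientGroup.mk' N)) * Nat.card N = Nat.card H := by
  rw [Subgroup.card_eq_card_quotient_mul_card_subgroup (N.subgroupOf H),
    Nat.card_congr (Subgroup.subgroupOfEquivOfLe h).toEquiv]
  congr 1
  have e1 : ((QuotientGroup.mk' N).comp H.subtype).ker = N.subgroupOf H := by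
    rw [← MonoidHom.comap_ker, QuotientGroup.ker_mk']; rfl
  have e2 : ((QuotientGroup.mk' N).comp H.subtype).range = H.map (QuotientGroup.mk' N) := by
    rw [MonoidHom.range_comp, Subgroup.range_subtype]
  rw [← e2, ← Nat.card_congr (QuotientGroup.quotientKerEquivRange _).toEquiv, e1]

theorem mk_mem_map {H N : Subgroup G} [N.Normal] (h : N ≤ H) {g : G} :
    QuotientGroup.mk' N g ∈ H.map (QuotientGroup.mk' N) ↔ g ∈ H := by
  rw [← Subgroup.mem_comap, Subgroup.comap_map_eq, QuotientGroup.ker_mk', sup_eq_left.2 h]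

/-- Commutators lie where the squares do. -/
theorem comm_mem_of_sq {Q F : Subgroup G} [F.Normal] (hQF : ∀ x ∈ Q, x * x ∈ F) {x z : G} (hx : x ∈ Q) (hz : z ∈ Q) :
    ⁅x, z⁆ ∈ F := by
  have h1 : ⁅x, z⁆ = x * z * (x * z) * (z⁻¹ * (x⁻¹ * x⁻¹) * z) * (z⁻¹ * z⁻¹) := by
    rw [commutatorElement_def]; group
  rw [h1]
  refine F.mul_mem (F.mul_mem (hQF _ (Q.mul_mem hx hz)) ?_) (hQF _ (Q.inv_mem hz))
  have := (inferInstance : F.Normal).conj_mem _ (hQF _ (Q.inv_mem hx)) z⁻¹
  rwa [inv_inv] at this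

/-- No element of order five fixes a nontrivial coset of `F` in the kernel. -/
def Fpf (D : Data G) (F : Subgroup G) : Prop :=
  ∀ g, g ^ 5 = 1 → D.π g ≠ 1 → ∀ a ∈ D.π.ker, ⁅g, a⁆ ∈ F → a ∈ F

theorem Fpf.quot {D : Data G} {F : Subgroup G} {y e t : G} (E : Elems D y e t) (N : Subgroup G) [N.Normal]
    (hNF : N ≤ F) (h : N ≤ D.π.ker) (hfix : ∀ a ∈ D.π.ker, ⁅y, a⁆ ∈ F → a ∈ F) :
    ∀ a ∈ (D.quot N h).π.ker, ⁅QuotientGroup.mk' N y, a⁆ ∈ F.map (QuotientGroup.mk' N) →
      a ∈ F.map (QuotientGroup.mk' N) := by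
  have := E.y5
  intro a ha hc
  rw [D.quot_ker N h] at ha
  obtain ⟨b, hb, rfl⟩ := ha
  rw [← map_commutatorElement, mk_mem_map hNF] at hc
  exact (mk_mem_map hNF).2 (hfix b hb hc)

/-- The section above a central elementary subgroup. -/
theorem from_frattini [Finite G] (D : Data G) {y e t : G} (E : Elems D y e t) (F : Subgroup G) [F.Normal]
    (hFQ : F ≤ D.π.ker) (hFc : ∀ x ∈ D.π.ker, ∀ f ∈ F, x * f = f * x) (hFe : ∀ f ∈ F, f * f = 1)
    (hQF : ∀ x ∈ D.π.ker, x * x ∈ F) (hcard : Nat.card D.π.ker = 16 * Nat.card F)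
    (hfix : ∀ a ∈ D.π.ker, ⁅y, a⁆ ∈ F → a ∈ F)
    (hC : 4 * Nat.card ↥(F ⊓ Subgroup.centralizer {e}) ≤ Nat.card F) : False := by
  classical
  let q := QuotientGroup.mk' F
  set V := D.π.ker.map q with hVdef
  have hV16 : Nat.card V = 16 := by
    have h := card_map_mk hFQ
    rw [hcard] at h
    exact Nat.eq_of_mul_eq_mul_right Nat.card_pos h
  have hV2 : ∀ v ∈ V, v * v = 1 := by
    rintro _ ⟨a, ha, rfl⟩
    rw [← map_mul]
    exact (QuotientGroup.eq_one_iff _).2 (hQF a ha)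
  have hVc : ∀ a ∈ V, ∀ b ∈ V, a * b = b * a := fun a ha b hb => by
    calc a * b = (a * b)⁻¹ := (inv_eq_of_mul_eq_one_right (hV2 _ (V.mul_mem ha hb))).symm
      _ = b * a := by
        rw [mul_inv_rev, inv_eq_of_mul_eq_one_right (hV2 a ha), inv_eq_of_mul_eq_one_right (hV2 b hb)]
  have hN : ∀ g : G, ∀ v ∈ V, q g * v * (q g)⁻¹ ∈ V := by
    rintro g _ ⟨a, ha, rfl⟩
    exact ⟨g * a * g⁻¹, (MonoidHom.normal_ker D.π).conj_mem a ha g, by simp [q]⟩
  have hker : ∀ g : G, D.π g = 1 → ∀ v ∈ V, q g * v * (q g)⁻¹ = v := fun g hg v hv => by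
    rw [hVc _ ⟨g, hg, rfl⟩ v hv, mul_inv_cancel_right]
  obtain ⟨h4, hcom, hsurj⟩ := SectTools.dihedral_fixed V hV16 hVc hV2 (q y) (q e) (hN y) (hN e)
    (fun v _ => by rw [← map_pow, E.y5, map_one]; group)
    (fun v hv => by rw [← map_mul]; exact hker _ E.e2 v hv)
    (fun v hv => by rw [← map_inv, ← map_mul, ← map_mul, ← map_mul]; exact hker _ E.ey v hv)
    (by
      rintro _ ⟨a, ha, rfl⟩ hc
      refine (QuotientGroup.eq_one_iff a).2 (hfix a ha ?_)
      rw [← QuotientGroup.eq_one_iff]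
      show q ⁅y, a⁆ = 1
      rw [map_commutatorElement, commutatorElement_eq_one_iff_mul_comm]
      exact hc)
  set C := V ⊓ Subgroup.centralizer {q e} with hCdef
  have he2C : q (e * e) ∈ C := ⟨⟨e * e, E.e2, rfl⟩, Subgroup.mem_centralizer_singleton_iff.2 (by
    rw [map_mul, mul_assoc])⟩
  obtain ⟨w, hw, hwe⟩ := hsurj _ he2C
  obtain ⟨a, ha, rfl⟩ := hw
  let S := C.comap q
  have hSQ : S ≤ D.π.ker := fun s hs => (mk_mem_map hFQ).1 (Subgroup.mem_inf.1 hs).1
  have hFS : F ≤ S := fun f hf => by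
    show q f ∈ C
    rw [show q f = 1 from (QuotientGroup.eq_one_iff f).2 hf]; exact C.one_mem
  have hSmap : S.map q = C := Subgroup.map_comap_eq_self_of_surjective (QuotientGroup.mk'_surjective F) C
  refine SectTools.gen_section D.rank D.π.ker F hFQ hFc hFe hQF (e * a) ?_ ?_ S hSQ hFS ?_ ?_ ?_
  · intro h
    rw [MonoidHom.mem_ker, map_mul, MonoidHom.mem_ker.1 ha, mul_one] at h
    exact E.ene h
  · rw [← QuotientGroup.eq_one_iff]
    show q (e * a * (e * a)) = 1
    have hea : q e * q a * (q e)⁻¹ ∈ V := hN e _ ⟨a, ha, rfl⟩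
    have hee : q e * q e ∈ V := ⟨e * e, E.e2, map_mul q e e⟩
    have haV : q a ∈ V := ⟨a, ha, rfl⟩
    calc q (e * a * (e * a)) = q e * q a * (q e)⁻¹ * ((q e * q e) * q a) := by rw [map_mul, map_mul]; group
      _ = q e * q a * (q e)⁻¹ * (q a * (q e * q e)) := by rw [hVc _ hee _ haV]
      _ = ⁅q e, q a⁆ * (q a * q a) * (q e * q e) := by rw [commutatorElement_def]; group
      _ = 1 := by rw [hV2 _ haV, mul_one, hwe, map_mul]; exact hV2 _ hee
  · intro s hs
    rw [← QuotientGroup.eq_one_iff]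
    show q ⁅e * a, s⁆ = 1
    obtain ⟨hsV, hsC⟩ := Subgroup.mem_inf.1 hs
    rw [map_commutatorElement, map_mul, commutatorElement_eq_one_iff_mul_comm, mul_assoc,
      hVc (q a) ⟨a, ha, rfl⟩ _ hsV, ← mul_assoc, ← Subgroup.mem_centralizer_singleton_iff.1 hsC, mul_assoc]
  · have h := card_map_mk hFS
    rw [hSmap, h4] at h
    exact h.symm
  · refine le_of_eq_of_le ?_ hC
    congr 2
    refine congrArg (fun K : Subgroup G => ↥K) ?_
    ext f
    simp only [Subgroup.mem_inf, Subgroup.mem_centralizer_singleton_iff]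
    refine and_congr_right fun hf => ?_
    have h1 := hFc a ha f hf
    constructor
    · intro h
      rw [← mul_assoc, mul_assoc e a f, h1, ← mul_assoc] at h
      exact mul_right_cancel h
    · intro h
      rw [← mul_assoc, h, mul_assoc, ← h1, mul_assoc]

/-- Between the Frattini subgroup and the kernel there is nothing normal. -/
theorem no_between [Finite G] (D : Data G) {y e t : G} (E : Elems D y e t) (F : Subgroup G) [F.Normal]
    (hFQ : F ≤ D.π.ker) (hcard : Nat.card D.π.ker = 16 * Nat.card F)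
    (hfix : ∀ a ∈ D.π.ker, ⁅y, a⁆ ∈ F → a ∈ F) (K : Subgroup G) [K.Normal] (hFK : F ≤ K) (hKQ : K ≤ D.π.ker) :
    K = F ∨ K = D.π.ker := by
  classical
  let q := QuotientGroup.mk' F
  have hmap := card_map_mk (N := F) hFK
  have hle : Nat.card (K.map q) ≤ 16 := by
    have := Subgroup.card_le_of_le hKQ
    rw [hcard, ← hmap] at this
    exact Nat.le_of_mul_le_mul_right this Nat.card_pos
  have hfix' : ∀ v ∈ K.map q, q y * v = v * q y → v = 1 := by
    rintro _ ⟨a, ha, rfl⟩ hc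
    refine (QuotientGroup.eq_one_iff a).2 (hfix a (hKQ ha) ?_)
    rw [← QuotientGroup.eq_one_iff]
    show q ⁅y, a⁆ = 1
    rw [map_commutatorElement, commutatorElement_eq_one_iff_mul_comm]
    exact hc
  by_cases h : ∀ v ∈ K.map q, q y * v = v * q y
  · left
    refine le_antisymm (fun k hk => ?_) hFK
    exact (QuotientGroup.eq_one_iff k).1 (hfix' _ ⟨k, hk, rfl⟩ (h _ ⟨k, hk, rfl⟩))
  · right
    have h16 := (SectTools.fpf_five (K.map q) ((D.two.to_le hKQ).map q) hle (q y)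
      (fun v hv => ((inferInstance : K.Normal).map q (QuotientGroup.mk'_surjective F)).conj_mem v hv _)
      (fun v _ => by rw [← map_pow, E.y5, map_one]; group) h).1
    refine Subgroup.eq_of_le_of_card_ge hKQ ?_
    rw [hcard, ← hmap, h16]

/-- Squares constant modulo a central subgroup are trivial there. -/
theorem sq_mem_of_const [Finite G] (D : Data G) (F L : Subgroup G) [F.Normal] (hLF : L ≤ F)
    (hFc : ∀ x ∈ D.π.ker, ∀ f ∈ F, x * f = f * x) (hFe : ∀ f ∈ F, f * f = 1) (hFQ : F ≤ D.π.ker)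
    (hQF : ∀ x ∈ D.π.ker, x * x ∈ F) (hcard : Nat.card D.π.ker = 16 * Nat.card F) (c : G) (hcF : c ∈ F)
    (hc : ∀ a ∈ D.π.ker, a ∉ F → a * a * c ∈ L) : ∀ a ∈ D.π.ker, a * a ∈ L := by
  classical
  set Q := D.π.ker with hQ
  have hQcomm : ∀ x ∈ Q, ∀ z ∈ Q, ⁅x, z⁆ ∈ F := fun x hx z hz => comm_mem_of_sq hQF hx hz
  -- the polar map
  have hpol : ∀ a ∈ Q, ∀ b ∈ Q, (a * b) * (a * b) = ⁅b, a⁆ * (a * a) * (b * b) := fun a ha b hb => by
    calc a * b * (a * b) = a * ⁅b, a⁆ * a * b * b := by rw [commutatorElement_def]; group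
      _ = ⁅b, a⁆ * a * a * b * b := by rw [hFc a ha _ (hQcomm b hb a ha)]
      _ = _ := by group
  have hadd : ∀ a ∈ Q, ∀ b ∈ Q, ∀ b' ∈ Q, ⁅b * b', a⁆ = ⁅b, a⁆ * ⁅b', a⁆ := fun a ha b hb b' hb' => by
    have h1 := hFc b hb _ (hQcomm b' hb' a ha)
    have h2 : Commute ⁅b, a⁆ ⁅b', a⁆ := hFc _ (hFQ (hQcomm b hb a ha)) _ (hQcomm b' hb' a ha)
    calc ⁅b * b', a⁆ = b * ⁅b', a⁆ * b⁻¹ * ⁅b, a⁆ := by
          rw [commutatorElement_def, commutatorElement_def, commutatorElement_def]; group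
      _ = _ := by rw [h1, mul_inv_cancel_right, h2.eq]
  have hlarge : ∀ S : Subgroup G, Nat.card S ≤ 8 * Nat.card F → ∃ a ∈ Q, a ∉ S := by
    intro S hS
    by_contra h
    push Not at h
    have := Subgroup.card_le_of_le (show Q ≤ S from h)
    have := Nat.card_pos (α := F)
    omega
  obtain ⟨a, ha, haF⟩ := hlarge F (by omega)
  have hext : ∀ (S : Subgroup G), F ≤ S → S ≤ Q → ∀ x ∈ Q, x * x ∈ S → ∃ T : Subgroup G, S ≤ T ∧ x ∈ T ∧ T ≤ Q ∧
      Nat.card T ≤ 2 * Nat.card S := by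
    intro S hFS hSQ x hx hxx
    let T : Subgroup G :=
      { carrier := {g | g ∈ Q ∧ (g ∈ S ∨ g * x ∈ S)}
        one_mem' := ⟨Q.one_mem, Or.inl S.one_mem⟩
        mul_mem' := fun {g k} ⟨hg, hg'⟩ ⟨hk, hk'⟩ => by
          refine ⟨Q.mul_mem hg hk, ?_⟩
          have key : ∀ s ∈ S, ∀ u ∈ Q, ⁅u, s⁆ ∈ S := fun s hs u hu => hFS (hQcomm u hu s (hSQ hs))
          rcases hg' with hg' | hg' <;> rcases hk' with hk' | hk'
          · exact Or.inl (S.mul_mem hg' hk')
          · right; rw [mul_assoc]; exact S.mul_mem hg' hk'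
          · right
            have e1 : g * k * x = g * x * (⁅x⁻¹, k⁆ * k) := by rw [commutatorElement_def]; group
            rw [e1]; exact S.mul_mem hg' (S.mul_mem (key k hk' _ (Q.inv_mem hx)) hk')
          · left
            have e1 : g * k = g * x * (⁅x⁻¹, k * x⁆ * (k * x)) * (x * x)⁻¹ := by rw [commutatorElement_def]; group
            rw [e1]; exact S.mul_mem (S.mul_mem hg' (S.mul_mem (key _ hk' _ (Q.inv_mem hx)) hk')) (S.inv_mem hxx)
        inv_mem' := fun {g} ⟨hg, hg'⟩ => by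
          refine ⟨Q.inv_mem hg, ?_⟩
          rcases hg' with hg' | hg'
          · exact Or.inl (S.inv_mem hg')
          · right
            have key : ⁅x, (g * x)⁻¹⁆ ∈ S := hFS (hQcomm x hx _ (hSQ (S.inv_mem hg')))
            have e1 : g⁻¹ * x = ⁅x, (g * x)⁻¹⁆ * (g * x)⁻¹ * (x * x) := by rw [commutatorElement_def]; group
            rw [e1]; exact S.mul_mem (S.mul_mem key (S.inv_mem hg')) hxx }
    refine ⟨T, fun s hs => ⟨hSQ hs, Or.inl hs⟩, ⟨hx, Or.inr hxx⟩, fun g hg => hg.1, ?_⟩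
    refine le_trans (Nat.card_le_card_of_injective (fun g : T => if h : (g : G) ∈ S then ((false, ⟨g, h⟩) : Bool × S)
      else (true, ⟨(g : G) * x, (g.2.2).resolve_left h⟩)) ?_) ?_
    · intro g k h
      refine Subtype.ext ?_
      by_cases h1 : (g : G) ∈ S <;> by_cases h2 : (k : G) ∈ S <;> simp only [h1, h2, dif_pos, dif_neg, not_false_iff] at h
      · exact congrArg (fun u : S => (u : G)) (Prod.mk.inj h).2
      · exact absurd (Prod.mk.inj h).1 Bool.false_ne_true
      · exact absurd (Prod.mk.inj h).1.symm Bool.false_ne_true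
      · exact mul_right_cancel (congrArg (fun u : S => (u : G)) (Prod.mk.inj h).2)
    · rw [Nat.card_prod, Nat.card_eq_fintype_card (α := Bool), Fintype.card_bool]
  obtain ⟨S₁, hFS₁, haS₁, hS₁Q, hS₁⟩ := hext F le_rfl hFQ a ha (hQF a ha)
  obtain ⟨b, hb, hbS₁⟩ := hlarge S₁ (by omega)
  obtain ⟨S₂, hS₁₂, hbS₂, hS₂Q, hS₂⟩ := hext S₁ hFS₁ hS₁Q b hb (hFS₁ (hQF b hb))
  obtain ⟨b', hb', hb'S₂⟩ := hlarge S₂ (by omega)
  have hnot : ∀ {S : Subgroup G} {u v : G}, u ∈ S → v ∉ S → u * v ∉ S := fun {S u v} hu hv h =>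
    hv (by simpa using S.mul_mem (S.inv_mem hu) h)
  have hF₂ : F ≤ S₂ := hFS₁.trans hS₁₂
  have hcc : c * c = 1 := hFe c hcF
  have hcomm : ∀ u ∈ Q, ∀ v ∈ Q, u ∉ F → v ∉ F → u * v ∉ F → ⁅v, u⁆ * c ∈ L := by
    intro u hu v hv huF hvF huvF
    have h1 := hc _ (Q.mul_mem hu hv) huvF
    rw [hpol u hu v hv] at h1
    have h2 := L.mul_mem h1 (L.inv_mem (L.mul_mem (hc u hu huF) (hc v hv hvF)))
    have cA : ∀ f ∈ F, ∀ g ∈ F, f * g = g * f := fun f hf g hg => hFc f (hFQ hf) g hg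
    have hA := hQF u hu; have hB := hQF v hv; have hK := hQcomm v hv u hu
    rw [show ⁅v, u⁆ * (u * u) * (v * v) * c * (u * u * c * (v * v * c))⁻¹ = ⁅v, u⁆ * c from ?_] at h2
    · exact h2
    · have : (u * u * c * (v * v * c)) = u * u * (v * v) := by
        rw [cA _ hB c hcF, ← mul_assoc, mul_assoc (u * u) c c, hcc, mul_one]
      rw [this, cA _ (F.mul_mem (F.mul_mem (F.mul_mem hK hA) hB) hcF) _ (F.inv_mem (F.mul_mem hA hB))]
      rw [mul_assoc ⁅v, u⁆, cA _ hK _ (F.mul_mem hA hB), mul_assoc (u * u * (v * v)), ← mul_assoc, inv_mul_cancel,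
        one_mul]
  have hb1 : b ∉ F := fun h => hbS₁ (hFS₁ h)
  have hb'1 : b' ∉ F := fun h => hb'S₂ (hF₂ h)
  have hab : a * b ∉ F := fun h => hnot haS₁ hbS₁ (hFS₁ h)
  have hab' : a * b' ∉ F := fun h => hnot (hS₁₂ haS₁) hb'S₂ (hF₂ h)
  have hbb' : b * b' ∉ F := fun h => hnot hbS₂ hb'S₂ (hF₂ h)
  have habb' : a * (b * b') ∉ F := fun h => hnot (S₂.mul_mem (hS₁₂ haS₁) hbS₂) hb'S₂ (by
    rw [mul_assoc]; exact hF₂ h)
  have k1 := hcomm a ha b hb haF hb1 hab
  have k2 := hcomm a ha b' hb' haF hb'1 hab'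
  have k3 := hcomm a ha (b * b') (Q.mul_mem hb hb') haF hbb' habb'
  rw [hadd a ha b hb b' hb'] at k3
  have hcL : c ∈ L := by
    have h1 := L.mul_mem (L.mul_mem k1 k2) (L.inv_mem k3)
    have hK1 := hQcomm b hb a ha; have hK2 := hQcomm b' hb' a ha
    rwa [show ⁅b, a⁆ * c * (⁅b', a⁆ * c) * (⁅b, a⁆ * ⁅b', a⁆ * c)⁻¹ = c from ?_] at h1
    rw [hFc _ (hFQ (F.mul_mem (F.mul_mem hK1 hcF) (F.mul_mem hK2 hcF))) _
      (F.inv_mem (F.mul_mem (F.mul_mem hK1 hK2) hcF))]
    calc (⁅b, a⁆ * ⁅b', a⁆ * c)⁻¹ * (⁅b, a⁆ * c * (⁅b', a⁆ * c))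
        = (⁅b, a⁆ * ⁅b', a⁆ * c)⁻¹ * (⁅b, a⁆ * (c * ⁅b', a⁆) * c) := by group
      _ = _ := by rw [hFc c (hFQ hcF) _ hK2]; group
  intro x hx
  by_cases hxF : x ∈ F
  · rw [hFe x hxF]; exact L.one_mem
  · have := L.mul_mem (hc x hx hxF) hcL
    rwa [mul_assoc, hcc, mul_one] at this

/-- Two elements outside a subgroup of index two multiply into it. -/
theorem mul_mem_of_index_two [Finite G] {M F : Subgroup G} [M.Normal] (hMF : M ≤ F)
    (hcard : Nat.card F = 2 * Nat.card M) {x z : G} (hx : x ∈ F) (hxM : x ∉ M) (hz : z ∈ F) (hzM : z ∉ M) :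
    x * z ∈ M := by
  classical
  have h := card_map_mk hMF
  rw [hcard] at h
  have h2 : Nat.card (F.map (QuotientGroup.mk' M)) = 2 := Nat.eq_of_mul_eq_mul_right Nat.card_pos h
  haveI : IsCyclic (F.map (QuotientGroup.mk' M)) := by
    haveI : Fact (Nat.Prime 2) := ⟨Nat.prime_two⟩
    exact isCyclic_of_prime_card h2
  let a : F.map (QuotientGroup.mk' M) := ⟨_, x, hx, rfl⟩
  let b : F.map (QuotientGroup.mk' M) := ⟨_, z, hz, rfl⟩
  have ha : a ≠ 1 := fun h => hxM ((QuotientGroup.eq_one_iff x).1 (congrArg Subtype.val h))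
  have hb : b ≠ 1 := fun h => hzM ((QuotientGroup.eq_one_iff z).1 (congrArg Subtype.val h))
  have hab : a = b := by
    haveI : Fintype (F.map (QuotientGroup.mk' M)) := Fintype.ofFinite _
    by_contra h
    have : ({1, a, b} : Finset (F.map (QuotientGroup.mk' M))).card ≤ 2 := by
      rw [← h2, Nat.card_eq_fintype_card]; exact Finset.card_le_univ _
    rw [Finset.card_insert_of_notMem (by simp [Ne.symm ha, Ne.symm hb]), Finset.card_pair h] at this
    omega
  have hsq : a * a = 1 := by rw [← sq, ← h2]; exact pow_card_eq_one'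
  rw [← QuotientGroup.eq_one_iff]
  have h3 := congrArg Subtype.val (hab ▸ hsq : a * b = 1)
  exact h3

/-- A second layer below the Frattini subgroup is impossible. -/
theorem step_four [Finite G] (D : Data G) {y e t : G} (E : Elems D y e t) (F M : Subgroup G) [F.Normal] [M.Normal]
    (hMF : M ≤ F) (hFQ : F ≤ D.π.ker) (hQF : ∀ x ∈ D.π.ker, x * x ∈ F)
    (hcard : Nat.card D.π.ker = 16 * Nat.card F) (hfix : ∀ a ∈ D.π.ker, ⁅y, a⁆ ∈ F → a ∈ F)
    (hFM : Nat.card F = 2 * Nat.card M) (hM : M ≠ ⊥) (hMc : ∀ x ∈ D.π.ker, ∀ f ∈ M, x * f = f * x)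
    (hMe : ∀ f ∈ M, f * f = 1) (hMle : Nat.card M ≤ 16)
    (hmin : ∀ K : Subgroup G, K.Normal → K ≤ M → K = ⊥ ∨ K = M)
    (hgen : ∀ L : Subgroup G, L.Normal → (∀ a ∈ D.π.ker, a * a ∈ L) → F ≤ L)
    (htQ : ¬ ∀ a ∈ D.π.ker, t * a = a * t) : False := by
  classical
  set Q := D.π.ker with hQdef
  have hMQ : M ≤ Q := hMF.trans hFQ
  have hFnM : ∃ f ∈ F, f ∉ M := by
    by_contra h
    push Not at h
    have := Subgroup.card_le_of_le (show F ≤ M from h)
    have := Nat.card_pos (α := M)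
    omega
  have hFsq : ∀ f ∈ F, f * f ∈ M := fun f hf => by
    by_cases h : f ∈ M
    · exact M.mul_mem h h
    · exact mul_mem_of_index_two hMF hFM hf h hf h
  have hlarge : ∀ S : Subgroup G, Nat.card S ≤ 8 * Nat.card F → ∃ a ∈ Q, a ∉ S := by
    intro S hS
    by_contra h
    push Not at h
    have := Subgroup.card_le_of_le (show Q ≤ S from h)
    have := Nat.card_pos (α := F)
    omega
  -- some commutator generates `F` modulo `M`
  obtain ⟨a, ha, b, hb, hab⟩ : ∃ a ∈ Q, ∃ b ∈ Q, ⁅a, b⁆ ∉ M := by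
    by_contra hno
    push Not at hno
    let qM := QuotientGroup.mk' M
    have hcq : ∀ x ∈ Q, ∀ z ∈ Q, Commute (qM x) (qM z) := fun x hx z hz => by
      show _ = _
      rw [← commutatorElement_eq_one_iff_mul_comm, ← map_commutatorElement]
      exact (QuotientGroup.eq_one_iff _).2 (hno x hx z hz)
    have hq1 : ∀ {x}, qM x = 1 ↔ x ∈ M := fun {x} => QuotientGroup.eq_one_iff x
    let K : Subgroup G :=
      { carrier := {x | x ∈ Q ∧ x * x ∈ M}
        one_mem' := ⟨Q.one_mem, by rw [mul_one]; exact M.one_mem⟩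
        mul_mem' := fun {x z} ⟨hx, hx'⟩ ⟨hz, hz'⟩ => ⟨Q.mul_mem hx hz, by
          rw [← hq1, map_mul, map_mul, Commute.mul_mul_mul_comm (hcq z hz x hx) , ← map_mul, ← map_mul, hq1.2 hx', hq1.2 hz',
            mul_one]⟩
        inv_mem' := fun {x} ⟨hx, hx'⟩ => ⟨Q.inv_mem hx, by rw [← mul_inv_rev]; exact M.inv_mem hx'⟩ }
    haveI : K.Normal := ⟨fun x hx g => ⟨(MonoidHom.normal_ker D.π).conj_mem x hx.1 g, by
      rw [show g * x * g⁻¹ * (g * x * g⁻¹) = g * (x * x) * g⁻¹ by group]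
      exact (inferInstance : M.Normal).conj_mem _ hx.2 g⟩⟩
    rcases no_between D E F hFQ hcard hfix K (fun f hf => ⟨hFQ hf, hFsq f hf⟩) (fun x hx => hx.1) with h | h
    · obtain ⟨x, hx, hxF⟩ := hlarge F (by omega)
      have hxx : x * x ∉ M := fun h' => hxF (h ▸ (⟨hx, h'⟩ : x ∈ K))
      obtain ⟨z, hz, hzF⟩ := hlarge (F ⊔ Subgroup.zpowers x) (by
        have h1 := card_map_mk (N := F) (H := F ⊔ Subgroup.zpowers x) le_sup_left
        rw [Subgroup.map_sup, QuotientGroup.map_mk'_self, bot_sup_eq, MonoidHom.map_zpowers, Nat.card_zpowers] at h1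
        have h2 : orderOf (QuotientGroup.mk' F x) ∣ 2 := orderOf_dvd_of_pow_eq_one (by
          rw [sq, ← map_mul]; exact (QuotientGroup.eq_one_iff _).2 (hQF x hx))
        have h3 := Nat.le_of_dvd (by norm_num) h2
        rw [← h1]
        exact Nat.mul_le_mul_right _ (by omega))
      have hzF' : z ∉ F := fun h' => hzF (Subgroup.mem_sup_left h')
      have hzz : z * z ∉ M := fun h' => hzF' (h ▸ (⟨hz, h'⟩ : z ∈ K))
      have hxz : x * z ∈ K := ⟨Q.mul_mem hx hz, by
        rw [← hq1, map_mul, map_mul, Commute.mul_mul_mul_comm (hcq z hz x hx), ← map_mul, ← map_mul, ← map_mul, hq1]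
        exact mul_mem_of_index_two hMF hFM (hQF x hx) hxx (hQF z hz) hzz⟩
      rw [h] at hxz
      exact hzF (by
        simpa using Subgroup.mul_mem _ (Subgroup.inv_mem _ (Subgroup.mem_sup_right (Subgroup.mem_zpowers x)))
          (Subgroup.mem_sup_left hxz : x * z ∈ F ⊔ Subgroup.zpowers x))
    · obtain ⟨f, hf, hfM⟩ := hFnM
      exact hfM (hgen M inferInstance (fun x hx => ((h ▸ hx : x ∈ K)).2) hf)
  set f := ⁅a, b⁆ with hfdef
  have hfF : f ∈ F := comm_mem_of_sq hQF ha hb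
  -- it is central
  have hF' : ∀ z ∈ F, z ∈ M ∨ f⁻¹ * z ∈ M := fun z hz => by
    by_cases h : z ∈ M
    · exact Or.inl h
    · exact Or.inr (mul_mem_of_index_two hMF hFM (F.inv_mem hfF) (fun h' => hab ((M.inv_mem_iff).1 h')) hz h)
  have hfg : ∀ g : G, f⁻¹ * (g * f * g⁻¹) ∈ M := fun g => by
    rcases hF' _ ((inferInstance : F.Normal).conj_mem f hfF g) with h | h
    · exfalso
      have := (inferInstance : M.Normal).conj_mem _ h g⁻¹
      rw [show g⁻¹ * (g * f * g⁻¹) * g⁻¹⁻¹ = f by group] at this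
      exact hab this
    · exact h
  have hfF' : ∀ z ∈ F, f * z = z * f := fun z hz => by
    rcases hF' z hz with h | h
    · exact hMc f (hFQ hfF) z h
    · calc f * z = f * (f * (f⁻¹ * z)) := by group
        _ = f * ((f⁻¹ * z) * f) := by rw [hMc f (hFQ hfF) _ h]
        _ = z * f := by group
  let C : Subgroup G := Q ⊓ Subgroup.centralizer {f}
  have hmemC : ∀ x, x ∈ C ↔ x ∈ Q ∧ x * f = f * x := fun x => by
    simp only [C, Subgroup.mem_inf, Subgroup.mem_centralizer_singleton_iff]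
  haveI : C.Normal := ⟨fun x hx g => by
    obtain ⟨hxQ, hxf⟩ := (hmemC x).1 hx
    refine (hmemC _).2 ⟨(MonoidHom.normal_ker D.π).conj_mem x hxQ g, ?_⟩
    have hm := hfg g⁻¹
    have h1 : x * (g⁻¹ * f * g⁻¹⁻¹) = (g⁻¹ * f * g⁻¹⁻¹) * x := by
      calc x * (g⁻¹ * f * g⁻¹⁻¹) = (x * f) * (f⁻¹ * (g⁻¹ * f * g⁻¹⁻¹)) := by group
        _ = f * (x * (f⁻¹ * (g⁻¹ * f * g⁻¹⁻¹))) := by rw [hxf, mul_assoc]
        _ = f * ((f⁻¹ * (g⁻¹ * f * g⁻¹⁻¹)) * x) := by rw [hMc x hxQ _ hm]
        _ = _ := by group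
    calc g * x * g⁻¹ * f = g * (x * (g⁻¹ * f * g⁻¹⁻¹)) * g⁻¹ := by group
      _ = g * ((g⁻¹ * f * g⁻¹⁻¹) * x) * g⁻¹ := by rw [h1]
      _ = f * (g * x * g⁻¹) := by group⟩
  have hW : ∀ w ∈ Q, ⁅w, a⁆ ∈ M → ⁅w, b⁆ ∈ M → w * f = f * w := by
    intro w hw hwa hwb
    have e1 : w * a * w⁻¹ = ⁅w, a⁆ * a := by rw [commutatorElement_def]; group
    have e2 : w * b * w⁻¹ = ⁅w, b⁆ * b := by rw [commutatorElement_def]; group
    have h1 : w * f * w⁻¹ = f := by
      have c1 : ∀ x ∈ Q, Commute ⁅w, a⁆ x := fun x hx => (hMc x hx _ hwa).symm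
      have c2 : ∀ x ∈ Q, Commute ⁅w, b⁆ x := fun x hx => (hMc x hx _ hwb).symm
      calc w * f * w⁻¹ = (w * a * w⁻¹) * (w * b * w⁻¹) * (w * a * w⁻¹)⁻¹ * (w * b * w⁻¹)⁻¹ := by
            rw [hfdef, commutatorElement_def]; group
        _ = ⁅w, a⁆ * (a * (⁅w, b⁆ * b) * a⁻¹) * ⁅w, a⁆⁻¹ * (b⁻¹ * ⁅w, b⁆⁻¹) := by rw [e1, e2]; group
        _ = (a * (⁅w, b⁆ * b) * a⁻¹) * (b⁻¹ * ⁅w, b⁆⁻¹) := by
            rw [(c1 _ (Q.mul_mem (Q.mul_mem ha (Q.mul_mem (hMQ hwb) hb)) (Q.inv_mem ha))).eq, mul_inv_cancel_right]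
        _ = ⁅w, b⁆ * (a * b * a⁻¹ * b⁻¹) * ⁅w, b⁆⁻¹ := by
            rw [← mul_assoc a, ← (c2 a ha).eq]; group
        _ = f := by rw [← commutatorElement_def a b, ← hfdef, (c2 f (hFQ hfF)).eq, mul_inv_cancel_right]
    exact mul_inv_eq_iff_eq_mul.1 h1
  have hFC : F ≤ C := fun z hz => (hmemC z).2 ⟨hFQ hz, (hfF' z hz).symm⟩
  have hCQ : C = Q := by
    rcases no_between D E F hFQ hcard hfix C hFC (fun x hx => hx.1) with h | h
    · exfalso
      have hclass : ∀ c ∈ Q, ∀ u ∈ Q, ∀ v ∈ Q, (⁅u, c⁆ ∈ M ↔ ⁅v, c⁆ ∈ M) → ⁅u⁻¹ * v, c⁆ ∈ M := by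
        intro c hc u hu v hv huv
        rw [show ⁅u⁻¹ * v, c⁆ = u⁻¹ * (⁅v, c⁆ * ⁅u, c⁆⁻¹) * u⁻¹⁻¹ by
          rw [commutatorElement_def, commutatorElement_def, commutatorElement_def]; group]
        refine (inferInstance : M.Normal).conj_mem _ ?_ _
        by_cases hm : ⁅v, c⁆ ∈ M
        · exact M.mul_mem hm (M.inv_mem (huv.2 hm))
        · exact mul_mem_of_index_two hMF hFM (comm_mem_of_sq hQF hv hc) hm (F.inv_mem (comm_mem_of_sq hQF hu hc))
            (fun h' => hm (huv.1 ((M.inv_mem_iff).1 h')))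
      let q := QuotientGroup.mk' F
      let φ : Q → (Bool × Bool) := fun w => (decide (⁅(w : G), a⁆ ∈ M), decide (⁅(w : G), b⁆ ∈ M))
      have hψ : Function.Injective fun w : Q.map q => φ ⟨(Function.surjInv (QuotientGroup.mk'_surjective F) w.1),
          (mk_mem_map hFQ).1 (by
            show q _ ∈ Q.map q
            rw [Function.surjInv_eq (QuotientGroup.mk'_surjective F) w.1]; exact w.2)⟩ := by
        intro u v huv
        obtain ⟨h1, h2⟩ := Prod.mk.inj huv
        rw [decide_eq_decide] at h1 h2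
        set su := Function.surjInv (QuotientGroup.mk'_surjective F) u.1 with hsu
        set sv := Function.surjInv (QuotientGroup.mk'_surjective F) v.1 with hsv
        have hu : su ∈ Q := (mk_mem_map hFQ).1 (by rw [hsu]; show q _ ∈ Q.map q; rw [Function.surjInv_eq (QuotientGroup.mk'_surjective F) u.1]; exact u.2)
        have hv : sv ∈ Q := (mk_mem_map hFQ).1 (by rw [hsv]; show q _ ∈ Q.map q; rw [Function.surjInv_eq (QuotientGroup.mk'_surjective F) v.1]; exact v.2)
        have hw : su⁻¹ * sv ∈ C := (hmemC _).2 ⟨Q.mul_mem (Q.inv_mem hu) hv,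
          hW _ (Q.mul_mem (Q.inv_mem hu) hv) (hclass a ha su hu sv hv h1) (hclass b hb su hu sv hv h2)⟩
        rw [h] at hw
        refine Subtype.ext ?_
        rw [← Function.surjInv_eq (QuotientGroup.mk'_surjective F) u.1,
          ← Function.surjInv_eq (QuotientGroup.mk'_surjective F) v.1]
        exact (QuotientGroup.eq (s := F)).2 hw
      have hle := Nat.card_le_card_of_injective _ hψ
      have h16 := card_map_mk hFQ
      rw [hcard] at h16
      rw [Nat.eq_of_mul_eq_mul_right Nat.card_pos h16, Nat.card_eq_fintype_card, Fintype.card_prod,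
        Fintype.card_bool] at hle
      omega
    · exact h
  have hFc : ∀ x ∈ Q, ∀ z ∈ F, x * z = z * x := fun x hx z hz => by
    have hxf : x * f = f * x := ((hmemC x).1 (hCQ.symm ▸ hx)).2
    rcases hF' z hz with h | h
    · exact hMc x hx z h
    · calc x * z = x * f * (f⁻¹ * z) := by group
        _ = f * (x * (f⁻¹ * z)) := by rw [hxf, mul_assoc]
        _ = f * ((f⁻¹ * z) * x) := by rw [hMc x hx _ h]
        _ = z * x := by group
  have hff : f * f = 1 := by
    have h1 : ⁅a * a, b⁆ = 1 :=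
      commutatorElement_eq_one_iff_mul_comm.2 (hFc b hb _ (hQF a ha)).symm
    calc f * f = a * f * a⁻¹ * f := by rw [hFc a ha f hfF, mul_inv_cancel_right]
      _ = ⁅a * a, b⁆ := by rw [hfdef, commutatorElement_def, commutatorElement_def]; group
      _ = 1 := h1
  have hFe : ∀ z ∈ F, z * z = 1 := fun z hz => by
    rcases hF' z hz with h | h
    · exact hMe z h
    · calc z * z = f * ((f⁻¹ * z) * f) * (f⁻¹ * z) := by group
        _ = f * (f * (f⁻¹ * z)) * (f⁻¹ * z) := by rw [hMc f (hFQ hfF) _ h]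
        _ = (f * f) * ((f⁻¹ * z) * (f⁻¹ * z)) := by group
        _ = 1 := by rw [hff, hMe _ h, mul_one]
  by_cases hy : ∀ m ∈ M, y * m = m * y
  · -- trivial action
    have hall := central_all D M (fun x hx m hm => hMc x hx m hm) E.yne hy
    have hM2 : Nat.card M = 2 := by
      obtain ⟨m, hm, hm1⟩ := (Subgroup.bot_or_exists_ne_one M).resolve_left hM
      haveI : (Subgroup.zpowers m).Normal := ⟨fun x hx g => by
        obtain ⟨k, rfl⟩ := Subgroup.mem_zpowers_iff.1 hx
        rw [hall g _ (M.zpow_mem hm k), mul_inv_cancel_right]; exact hx⟩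
      rcases hmin _ inferInstance (Subgroup.zpowers_le.2 hm) with h | h
      · exact absurd (Subgroup.zpowers_eq_bot.1 h) hm1
      · rw [← h, Nat.card_zpowers]
        exact orderOf_eq_prime (p := 2) (by rw [sq, hMe m hm]) hm1
    have hyF : ∀ z ∈ F, y * z = z * y := by
      have hfy : y * f * y⁻¹ = f * (f⁻¹ * (y * f * y⁻¹)) := by group
      set m := f⁻¹ * (y * f * y⁻¹) with hm
      have hmM : m ∈ M := hfg y
      have hym : y * m * y⁻¹ = m := by rw [hy m hmM, mul_inv_cancel_right]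
      have hstep : ∀ k : ℕ, y ^ k * f * (y ^ k)⁻¹ = f * m ^ k := by
        intro k
        induction k with
        | zero => simp
        | succ k ih =>
          calc y ^ (k + 1) * f * (y ^ (k + 1))⁻¹ = y * (y ^ k * f * (y ^ k)⁻¹) * y⁻¹ := by rw [pow_succ']; group
            _ = (y * f * y⁻¹) * (y * m * y⁻¹) ^ k := by rw [ih, conj_pow]; group
            _ = f * m ^ (k + 1) := by rw [hym, hfy, pow_succ', mul_assoc]
      have h5 := hstep 5
      rw [E.y5, one_mul, inv_one, mul_one, left_eq_mul] at h5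
      have hm1 : m = 1 := by
        calc m = m ^ 5 := by
              rw [pow_succ, pow_succ, pow_succ, pow_succ, pow_one, hMe m hmM, one_mul, hMe m hmM, one_mul]
          _ = 1 := h5
      have hyf : y * f = f * y := by
        rw [hm1, mul_one] at hfy
        exact mul_inv_eq_iff_eq_mul.1 hfy
      intro z hz
      rcases hF' z hz with h | h
      · exact hy z h
      · calc y * z = y * f * (f⁻¹ * z) := by group
          _ = f * (y * (f⁻¹ * z)) := by rw [hyf, mul_assoc]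
          _ = f * ((f⁻¹ * z) * y) := by rw [hy _ h]
          _ = z * y := by group
    have hallF := central_all D F (fun x hx z hz => hFc x hx z hz) E.yne hyF
    have hF4 : Nat.card F = 4 := by omega
    -- classes of squares
    haveI : Fintype G := Fintype.ofFinite G
    haveI : Fact (Nat.Prime 5) := ⟨by norm_num⟩
    haveI : Fact (Nat.Prime 3) := ⟨by norm_num⟩
    let T : G → Set G := fun c => {x | x ∈ Q ∧ x ∉ F ∧ x * x = c}
    have hTconj : ∀ g c, c ∈ F → ∀ x ∈ T c, g * x * g⁻¹ ∈ T c := by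
      rintro g c hc x ⟨hx, hxF, hxx⟩
      refine ⟨(MonoidHom.normal_ker D.π).conj_mem x hx g, fun h => hxF ?_, ?_⟩
      · have := (inferInstance : F.Normal).conj_mem _ h g⁻¹
        rwa [show g⁻¹ * (g * x * g⁻¹) * g⁻¹⁻¹ = x by group] at this
      · rw [show g * x * g⁻¹ * (g * x * g⁻¹) = g * (x * x) * g⁻¹ by group, hxx, hallF g c hc, mul_inv_cancel_right]
    have h4dvd : ∀ S : Set G, (∀ x ∈ S, ∀ z ∈ F, x * z ∈ S) → 4 ∣ Nat.card S := by
      intro S hS
      have hpre : QuotientGroup.mk ⁻¹' ((QuotientGroup.mk : G → G ⧸ F) '' S) = S := by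
        refine Set.Subset.antisymm ?_ (Set.subset_preimage_image _ _)
        rintro x ⟨u, hu, hux⟩
        have := hS u hu _ (QuotientGroup.eq.1 hux)
        rwa [mul_inv_cancel_left] at this
      rw [← hpre, Nat.card_congr (QuotientGroup.preimageMkEquivSubgroupProdSet F _), Nat.card_prod, hF4]
      exact dvd_mul_right 4 _
    have hTF : ∀ c, ∀ x ∈ T c, ∀ z ∈ F, x * z ∈ T c := by
      rintro c x ⟨hx, hxF, hxx⟩ z hz
      refine ⟨Q.mul_mem hx (hFQ hz), fun h => hxF ?_, ?_⟩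
      · simpa using F.mul_mem h (F.inv_mem hz)
      · calc x * z * (x * z) = x * (z * x) * z := by group
          _ = x * (x * z) * z := by rw [hFc x hx z hz]
          _ = (x * x) * (z * z) := by group
          _ = c := by rw [hFe z hz, mul_one, hxx]
    have hT20 : ∀ c ∈ F, Nat.card (T c) = 0 ∨ 20 ≤ Nat.card (T c) := by
      intro c hc
      have h5 : 5 ∣ Nat.card (T c) := by
        have h := SectTools.fix_modEq (p := 5) (T c) y (hTconj y c hc) (fun x _ => by rw [E.y5]; group)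
        have hempty : IsEmpty {x : G | x ∈ T c ∧ y * x = x * y} := ⟨fun ⟨x, ⟨hx, hxF, _⟩, hyx⟩ =>
          hxF (hfix x hx (by rw [commutatorElement_eq_one_iff_mul_comm.2 hyx]; exact F.one_mem))⟩
        rw [@Nat.card_of_isEmpty _ hempty] at h
        exact Nat.modEq_zero_iff_dvd.1 h
      have := h4dvd _ (hTF c)
      omega
    -- at least three classes occur
    let Fs : Finset G := (F : Set G).toFinset
    let A : Finset G := Finset.univ.filter fun x => x ∈ Q ∧ x ∉ F
    have hmaps : ∀ x ∈ A, x * x ∈ Fs := fun x hx => by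
      simp only [A, Finset.mem_filter, Finset.mem_univ, true_and] at hx
      simpa [Fs] using hQF x hx.1
    have hsum : A.card = ∑ c ∈ Fs, Nat.card (T c) := by
      rw [Finset.card_eq_sum_card_fiberwise hmaps]
      refine Finset.sum_congr rfl fun c _ => ?_
      rw [Nat.card_eq_fintype_card, ← Set.toFinset_card]
      congr 1
      ext x
      simp [A, T, and_assoc]
    have hFs : Fs.card = 4 := by
      rw [← hF4, Set.toFinset_card, ← Nat.card_eq_fintype_card]; rfl
    have hA60 : A.card = 60 := by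
      have h1 : A.card + Fs.card = (Q : Set G).toFinset.card := by
        rw [← Finset.card_union_of_disjoint]
        · congr 1
          ext x
          simp only [A, Fs, Finset.mem_union, Finset.mem_filter, Finset.mem_univ, true_and, Set.mem_toFinset,
            SetLike.mem_coe]
          exact ⟨fun h => h.elim (fun h => h.1) (fun h => hFQ h), fun h => (Classical.em (x ∈ F)).elim Or.inr fun h' => Or.inl ⟨h, h'⟩⟩
        · rw [Finset.disjoint_left]
          intro x hx hx'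
          simp only [A, Fs, Finset.mem_filter, Finset.mem_univ, true_and, Set.mem_toFinset, SetLike.mem_coe] at hx hx'
          exact hx.2 hx'
      rw [hFs, Set.toFinset_card, ← Nat.card_eq_fintype_card] at h1
      have h2 : Nat.card Q = 64 := by rw [hcard, hF4]
      change A.card + 4 = Nat.card Q at h1
      omega
    let P : Finset G := Fs.filter fun c => Nat.card (T c) ≠ 0
    have hval : ∀ x ∈ Q, x ∉ F → x * x ∈ P := fun x hx hxF => by
      simp only [P, Finset.mem_filter, Fs, Set.mem_toFinset, SetLike.mem_coe]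
      refine ⟨hQF x hx, ?_⟩
      haveI : Nonempty (T (x * x)) := ⟨⟨x, hx, hxF, rfl⟩⟩
      exact Nat.card_pos.ne'
    have hP3 : 3 ≤ P.card := by
      by_contra hlt
      obtain ⟨c, d, hcF, hdF, hsub⟩ : ∃ c d, c ∈ F ∧ d ∈ F ∧ P ⊆ {c, d} := by
        rcases Nat.lt_or_ge P.card 1 with h0 | h1
        · exact ⟨1, 1, F.one_mem, F.one_mem, by rw [Finset.card_eq_zero.1 (by omega : P.card = 0)]; simp⟩
        rcases Nat.lt_or_ge P.card 2 with h0 | h2
        · obtain ⟨c, hc⟩ := Finset.card_eq_one.1 (by omega : P.card = 1)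
          have hcF : c ∈ F := by
            have : c ∈ P := by rw [hc]; simp
            simpa [P, Fs] using (Finset.mem_filter.1 this).1
          exact ⟨c, c, hcF, hcF, by rw [hc]; simp⟩
        · obtain ⟨c, d, -, hcd⟩ := Finset.card_eq_two.1 (by omega : P.card = 2)
          have hmem : ∀ u ∈ P, u ∈ F := fun u hu => by simpa [P, Fs] using (Finset.mem_filter.1 hu).1
          exact ⟨c, d, hmem c (by rw [hcd]; simp), hmem d (by rw [hcd]; simp), hcd.le⟩
      let L := Subgroup.zpowers (c * d)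
      have hLF : L ≤ F := Subgroup.zpowers_le.2 (F.mul_mem hcF hdF)
      haveI : L.Normal := ⟨fun u hu g => by rw [hallF g u (hLF hu), mul_inv_cancel_right]; exact hu⟩
      have hL := sq_mem_of_const D F L hLF hFc hFe hFQ hQF hcard c hcF (fun u hu huF => by
        have h1 := hsub (hval u hu huF)
        simp only [Finset.mem_insert, Finset.mem_singleton] at h1
        rcases h1 with h1 | h1
        · rw [h1, hFe c hcF]; exact L.one_mem
        · rw [h1, hFc d (hFQ hdF) c hcF]; exact Subgroup.mem_zpowers _)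
      have h1 := Subgroup.card_le_of_le (hgen L inferInstance hL)
      have h2 : orderOf (c * d) ∣ 2 := orderOf_dvd_of_pow_eq_one (by rw [sq, hFe _ (F.mul_mem hcF hdF)])
      rw [hF4, Nat.card_zpowers] at h1
      have := Nat.le_of_dvd (by norm_num) h2
      omega
    have hsumP : A.card = ∑ c ∈ P, Nat.card (T c) := by rw [hsum, Finset.sum_filter_ne_zero]
    have hP20 : ∀ c ∈ P, 20 ≤ Nat.card (T c) := fun c hc => by
      simp only [P, Finset.mem_filter, Fs, Set.mem_toFinset, SetLike.mem_coe] at hc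
      exact (hT20 c hc.1).resolve_left hc.2
    have hlow := Finset.card_nsmul_le_sum P (fun c => Nat.card (T c)) 20 hP20
    rw [← hsumP, hA60, smul_eq_mul] at hlow
    have hPc : P.card = 3 := by omega
    obtain ⟨c₁, c₂, c₃, n12, n13, n23, hP⟩ := Finset.card_eq_three.1 hPc
    rw [hP, Finset.sum_insert (by simp [n12, n13]), Finset.sum_pair n23] at hsumP
    have m1 : c₁ ∈ P := by simp [hP]
    have m2 : c₂ ∈ P := by simp [hP]
    have m3 : c₃ ∈ P := by simp [hP]
    have t20 : Nat.card (T c₁) = 20 ∧ Nat.card (T c₂) = 20 ∧ Nat.card (T c₃) = 20 := by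
      have := hP20 c₁ m1; have := hP20 c₂ m2; have := hP20 c₃ m3
      omega
    -- an element of order three fixes too much
    let U : G → Set G := fun c => {x | x ∈ T c ∧ t * x = x * t}
    have hU : ∀ c ∈ P, Nat.card (T c) = 20 → 8 ≤ Nat.card (U c) ∧ (Nat.card (U c) = 8 ∨ Nat.card (U c) = 20) := by
      intro c hc h20
      have hcF : c ∈ F := by simpa [P, Fs] using (Finset.mem_filter.1 hc).1
      have h : 20 % 3 = Nat.card (U c) % 3 := by
        rw [← h20]
        exact SectTools.fix_modEq (p := 3) (T c) t (hTconj t c hcF) (fun x _ => by rw [E.t3]; group)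
      have h4 : 4 ∣ Nat.card (U c) := h4dvd _ (by
        rintro x ⟨hx, htx⟩ z hz
        exact ⟨hTF c x hx z hz, by rw [← mul_assoc, htx, mul_assoc, hallF t z hz, mul_assoc]⟩)
      have h5 : Nat.card (U c) ≤ 20 := h20 ▸ Nat.card_mono (Set.toFinite _) (fun x hx => hx.1)
      omega
    let R : Subgroup G := Q ⊓ Subgroup.centralizer {t}
    have hRQ : Nat.card R ≤ 32 := by
      by_contra h
      obtain ⟨k, hk⟩ := Subgroup.card_dvd_of_le (inf_le_left : R ≤ Q)
      rw [hcard, hF4] at hk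
      have hk1 : k = 1 := by
        have : k ≠ 0 := fun h0 => by rw [h0, mul_zero] at hk; omega
        nlinarith
      rw [hk1, mul_one] at hk
      have hRQ' : R = Q := Subgroup.eq_of_le_of_card_ge inf_le_left (by rw [hcard, hF4, ← hk])
      exact htQ fun x hx => (Subgroup.mem_centralizer_singleton_iff.1 (hRQ'.ge hx).2).symm
    have hsubR : (U c₁).toFinset ∪ ((U c₂).toFinset ∪ ((U c₃).toFinset ∪ Fs)) = (R : Set G).toFinset := by
      refine Finset.Subset.antisymm (fun x hx => ?_) (fun x hx => ?_)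
      rotate_left
      · rw [Set.mem_toFinset] at hx
        simp only [Finset.mem_union, Set.mem_toFinset, Fs]
        have hxt : t * x = x * t := (Subgroup.mem_centralizer_singleton_iff.1 hx.2).symm
        by_cases hxF : x ∈ F
        · exact Or.inr (Or.inr (Or.inr hxF))
        · have hxP := hval x hx.1 hxF
          rw [hP] at hxP
          simp only [Finset.mem_insert, Finset.mem_singleton] at hxP
          rcases hxP with h | h | h
          · exact Or.inl ⟨⟨hx.1, hxF, h⟩, hxt⟩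
          · exact Or.inr (Or.inl ⟨⟨hx.1, hxF, h⟩, hxt⟩)
          · exact Or.inr (Or.inr (Or.inl ⟨⟨hx.1, hxF, h⟩, hxt⟩))
      have : x ∈ Q ∧ t * x = x * t := by
        simp only [Finset.mem_union, Set.mem_toFinset, Fs] at hx
        rcases hx with h | h | h | h
        · exact ⟨h.1.1, h.2⟩
        · exact ⟨h.1.1, h.2⟩
        · exact ⟨h.1.1, h.2⟩
        · exact ⟨hFQ h, hallF t x h⟩
      rw [Set.mem_toFinset]
      exact ⟨this.1, Subgroup.mem_centralizer_singleton_iff.2 this.2.symm⟩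
    have hdis : ∀ c d, c ≠ d → Disjoint (U c).toFinset (U d).toFinset := fun c d hne => by
      rw [Finset.disjoint_left]
      intro x hx hx'
      rw [Set.mem_toFinset] at hx hx'
      exact hne (hx.1.2.2.symm.trans hx'.1.2.2)
    have hdisF : ∀ c, Disjoint (U c).toFinset Fs := fun c => by
      rw [Finset.disjoint_left]
      intro x hx hx'
      rw [Set.mem_toFinset] at hx hx'
      exact hx.1.2.1 hx'
    have hle := congrArg Finset.card hsubR
    rw [Finset.card_union_of_disjoint (by simp only [Finset.disjoint_union_right]; exact ⟨hdis _ _ n12, hdis _ _ n13, hdisF _⟩),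
      Finset.card_union_of_disjoint (by simp only [Finset.disjoint_union_right]; exact ⟨hdis _ _ n23, hdisF _⟩),
      Finset.card_union_of_disjoint (hdisF _), hFs, Set.toFinset_card, Set.toFinset_card, Set.toFinset_card,
      Set.toFinset_card, ← Nat.card_eq_fintype_card, ← Nat.card_eq_fintype_card, ← Nat.card_eq_fintype_card,
      ← Nat.card_eq_fintype_card] at hle
    change _ = Nat.card R at hle
    have := hU c₁ m1 t20.1; have := hU c₂ m2 t20.2.1; have := hU c₃ m3 t20.2.2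
    have hdvd : Nat.card R ∣ 64 := by
      have := Subgroup.card_dvd_of_le (inf_le_left : R ≤ Q)
      rwa [hcard, hF4] at this
    have h28 : Nat.card R = 28 := by omega
    rw [h28] at hdvd
    norm_num at hdvd
  · -- natural action
    have hy5 : ∀ v ∈ M, y ^ 5 * v * (y ^ 5)⁻¹ = v := fun v _ => by rw [E.y5]; group
    obtain ⟨h16, hfp⟩ := SectTools.fpf_five M (D.two.to_le hMQ) hMle y
      (fun v hv => (inferInstance : M.Normal).conj_mem v hv y) hy5 hy
    have hker : ∀ g : G, D.π g = 1 → ∀ v ∈ M, g * v * g⁻¹ = v := fun g hg v hv => by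
      rw [hMc g hg v hv, mul_inv_cancel_right]
    obtain ⟨hC4, -, -⟩ := SectTools.dihedral_fixed M h16 (fun u hu v hv => hMc u (hMQ hu) v hv) hMe y e
      (fun v hv => (inferInstance : M.Normal).conj_mem v hv y) (fun v hv => (inferInstance : M.Normal).conj_mem v hv e)
      hy5 (hker _ E.e2) (hker _ E.ey) hfp
    refine from_frattini D E F hFQ hFc hFe hQF hcard hfix ?_
    have h1 : Nat.card ↥(F ⊓ Subgroup.centralizer {e}) ≤ 2 * Nat.card ↥(M ⊓ Subgroup.centralizer {e}) := by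
      rw [show 2 * Nat.card ↥(M ⊓ Subgroup.centralizer {e}) =
        Nat.card (Bool × ↥(M ⊓ Subgroup.centralizer {e})) by
          rw [Nat.card_prod, Nat.card_eq_fintype_card (α := Bool), Fintype.card_bool]]
      by_cases hex : ∃ z, z ∈ F ⊓ Subgroup.centralizer {e} ∧ z ∉ M
      · obtain ⟨z, hz, hzM⟩ := hex
        refine Nat.card_le_card_of_injective (fun u : ↥(F ⊓ Subgroup.centralizer {e}) =>
          if h : (u : G) ∈ M then (false, ⟨u, h, u.2.2⟩) else
            (true, ⟨(u : G) * z, mul_mem_of_index_two hMF hFM u.2.1 h hz.1 hzM,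
              (Subgroup.centralizer {e}).mul_mem u.2.2 hz.2⟩)) ?_
        intro u v h
        refine Subtype.ext ?_
        by_cases h1 : (u : G) ∈ M <;> by_cases h2 : (v : G) ∈ M <;>
          simp only [h1, h2, dif_pos, dif_neg, not_false_iff] at h
        · exact congrArg (fun w : ↥(M ⊓ Subgroup.centralizer {e}) => (w : G)) (Prod.mk.inj h).2
        · exact absurd (Prod.mk.inj h).1 Bool.false_ne_true
        · exact absurd (Prod.mk.inj h).1.symm Bool.false_ne_true
        · exact mul_right_cancel (congrArg (fun w : ↥(M ⊓ Subgroup.centralizer {e}) => (w : G)) (Prod.mk.inj h).2)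
      · push Not at hex
        refine Nat.card_le_card_of_injective (fun u : ↥(F ⊓ Subgroup.centralizer {e}) =>
          (false, (⟨(u : G), hex u u.2, u.2.2⟩ : ↥(M ⊓ Subgroup.centralizer {e})))) ?_
        intro u v h
        exact Subtype.ext (congrArg (fun w : ↥(M ⊓ Subgroup.centralizer {e}) => (w : G)) (Prod.mk.inj h).2)
    omega

/-- The model for sixteen products of two hyperbolic pairs. -/
theorem bool_count : (Finset.univ.filter fun p : (Bool × Bool) × (Bool × Bool) × Bool =>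
    xor (p.1.1 && p.1.2) (p.2.1.1 && p.2.1.2) = false).card = 20 := by decide

set_option maxHeartbeats 2000000 in
/-- The two-core. -/
theorem radical {X : Type*} [Group X] [Finite X] (hc : Cfsg.IsPConstrained 2 X) (hO : Cfsg.oddCore X = ⊥)
    (h4 : Cfsg.SectionalPRankLE 2 4 X) (π : X →* alternatingGroup (Fin 5)) (hπ : Function.Surjective π)
    (hker : π.ker = Cfsg.pCore 2 X) :
    (Cfsg.IsElementaryAbelian 2 (Cfsg.pCore 2 X) ∧ Nat.card ↥(Cfsg.pCore 2 X) = 16) ∨
      (Nat.card ↥(Cfsg.pCore 2 X) = 32 ∧ ∃ A B : Subgroup ↥(Cfsg.pCore 2 X),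
        Nonempty (↥A ≃* QuaternionGroup 2) ∧ Nonempty (↥B ≃* DihedralGroup 4) ∧ (∀ a ∈ A, ∀ b ∈ B, a * b = b * a) ∧
          A ⊔ B = ⊤ ∧ A ⊓ B = Subgroup.center ↥(Cfsg.pCore 2 X)) := by
  classical
  haveI : Fact (Nat.Prime 2) := ⟨Nat.prime_two⟩
  haveI : Fact (Nat.Prime 5) := ⟨by norm_num⟩
  set Q := Cfsg.pCore 2 X with hQdef
  haveI : Q.Normal := H1.pCore_normal' 2 X
  have hQ2 : IsPGroup 2 Q := Cfsg.Comp.pCore_isPGroup 2
  have hCQ : Subgroup.centralizer (Q : Set X) ≤ Q :=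
    (H11.isPConstrained_iff_of_hom (MonoidHom.id X) (fun x => ⟨x, rfl⟩)
      (by rw [MonoidHom.ker_id]; exact hO.symm)).1 hc
  let D : Data X := ⟨π, hπ, hker.symm ▸ hQ2, h4⟩
  have hDQ : D.π.ker = Q := hker
  obtain ⟨y, e, t, E⟩ := exists_elems D
  -- the Frattini subgroup
  set F : Subgroup X := (frattini Q).map Q.subtype with hF
  haveI : F.Normal := inferInstance
  have hFQ : F ≤ D.π.ker := hDQ.symm ▸ Subgroup.map_subtype_le _
  have hQF : ∀ x ∈ D.π.ker, x * x ∈ F := by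
    intro x hx
    rw [hDQ] at hx
    exact ⟨⟨x, hx⟩ ^ 2, H31.pow_mem_frattini hQ2 _, by rw [map_pow, sq]; rfl⟩
  have hgen : ∀ L : Subgroup X, L.Normal → (∀ a ∈ D.π.ker, a * a ∈ L) → F ≤ L := by
    intro L hL h
    rintro _ ⟨a, ha, rfl⟩
    have h2 : frattini Q ≤ L.subgroupOf Q := by
      refine H31.frattini_le_of_pow_mem Nat.prime_two _ (Subgroup.commutator_le.mpr fun u _ v _ => ?_)
        (fun u => ?_)
      · exact Subgroup.mem_subgroupOf.2
          (comm_mem_of_sq (Q := D.π.ker) (F := L) h (hDQ.symm ▸ u.2) (hDQ.symm ▸ v.2))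
      · rw [Subgroup.mem_subgroupOf, sq, Subgroup.coe_mul]
        exact h _ (hDQ.symm ▸ u.2)
    exact Subgroup.mem_subgroupOf.1 (h2 ha)
  -- no element outside centralises `Q` or its Frattini quotient
  have hfaith : ∀ g : X, ∀ p : ℕ, p.Prime → p ≠ 2 → g ^ p = 1 → D.π g ≠ 1 → ¬ ∀ a ∈ Q, ⁅g, a⁆ ∈ F := by
    intro g p hp hp2 hgp hg h
    haveI := Fact.mk hp
    have hord : orderOf g = p := orderOf_eq_prime hgp (fun h1 => hg (by rw [h1, map_one]))
    have hle := H1.le_centralizer_of_frattini (A := Subgroup.zpowers g) (K := Q)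
      Cfsg.Comp.le_normalizer_of_normal ?_ ?_
    · exact hg (MonoidHom.mem_ker.1 (hDQ.symm ▸ hCQ (hle (Subgroup.mem_zpowers g))))
    · rw [Nat.card_zpowers, hord]
      obtain ⟨i, hi⟩ := IsPGroup.iff_card.1 (hQ2.to_subgroup (frattini Q))
      rw [hi]
      exact ((Nat.coprime_primes hp Nat.prime_two).2 hp2).pow_right i
    · intro a ha k hk
      rw [← commutatorElement_def]
      obtain ⟨n, rfl⟩ := Subgroup.mem_zpowers_iff.1 ha
      let qF := QuotientGroup.mk' F
      have h1 : qF ⁅g, k⁆ = 1 := (QuotientGroup.eq_one_iff _).2 (h k hk)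
      rw [map_commutatorElement, commutatorElement_eq_one_iff_mul_comm] at h1
      refine (QuotientGroup.eq_one_iff _).1 ?_
      show qF ⁅g ^ n, k⁆ = 1
      rw [map_commutatorElement, map_zpow, commutatorElement_eq_one_iff_mul_comm]
      exact (Commute.zpow_left h1 n).eq
  -- the quotient by it
  let q := QuotientGroup.mk' F
  set V := D.π.ker.map q with hV
  have hVsq : ∀ v ∈ V, v * v = 1 := by
    rintro _ ⟨a, ha, rfl⟩
    rw [← map_mul]
    exact (QuotientGroup.eq_one_iff _).2 (hQF a ha)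
  have hV16 : Nat.card V ≤ 16 := by
    have hr := H31.TwoCentres.pRankLE_of_section (H31.RankTwoMeta.sectional_quotient h4 F) V.subtype
      V.subtype_injective (MonoidHom.id V) Function.surjective_id
    have hi : ∀ u : V, u⁻¹ = u := fun u => inv_eq_of_mul_eq_one_right (Subtype.ext (hVsq u u.2))
    have hle := hr ⊤ ⟨⟨fun u v => Subtype.ext (by
        calc (u : V) * v = ((u : V) * v)⁻¹ := (hi _).symm
          _ = v * u := by rw [mul_inv_rev, hi, hi])⟩⟩ (fun u _ => by rw [sq]; exact Subtype.ext (hVsq (u : V) (u : V).2))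
    rwa [Subgroup.card_top] at hle
  have hyne : ¬ ∀ v ∈ V, q y * v = v * q y := fun h => hfaith y 5 (by norm_num) (by norm_num) E.y5 E.yne
    fun a ha => by
      rw [← QuotientGroup.eq_one_iff]
      show q ⁅y, a⁆ = 1
      rw [map_commutatorElement, commutatorElement_eq_one_iff_mul_comm]
      exact h _ ⟨a, hDQ.symm ▸ ha, rfl⟩
  obtain ⟨hV16', hVfix⟩ := SectTools.fpf_five V (D.two.map q) hV16 (q y)
    (fun v hv => ((MonoidHom.normal_ker D.π).map q (QuotientGroup.mk'_surjective F)).conj_mem v hv _)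
    (fun v _ => by rw [← map_pow, E.y5, map_one]; group) hyne
  have hcard : Nat.card D.π.ker = 16 * Nat.card F := by rw [← card_map_mk hFQ, ← hV, hV16']
  have hfix : ∀ a ∈ D.π.ker, ⁅y, a⁆ ∈ F → a ∈ F := by
    intro a ha hya
    refine (QuotientGroup.eq_one_iff a).1 (hVfix _ ⟨a, ha, rfl⟩ ?_)
    rw [← commutatorElement_eq_one_iff_mul_comm]
    show ⁅q y, q a⁆ = 1
    rw [← map_commutatorElement]
    exact (QuotientGroup.eq_one_iff _).2 hya
  have hQcard : Nat.card Q = 16 * Nat.card F := by rw [← hDQ]; exact hcard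
  by_cases hF1 : F = ⊥
  · left
    rw [hF1, Subgroup.card_bot, mul_one] at hQcard
    have h2 : ∀ a ∈ Q, a * a = 1 := fun a ha => by
      have := hQF a (hDQ.symm ▸ ha)
      rwa [hF1, Subgroup.mem_bot] at this
    refine ⟨⟨⟨⟨fun u v => Subtype.ext ?_⟩⟩, fun a ha => by rw [sq]; exact h2 a ha⟩, hQcard⟩
    calc (u : X) * v = ((u : X) * v)⁻¹ := (inv_eq_of_mul_eq_one_right (h2 _ (Q.mul_mem u.2 v.2))).symm
      _ = v * u := by
        rw [mul_inv_rev, inv_eq_of_mul_eq_one_right (h2 _ u.2), inv_eq_of_mul_eq_one_right (h2 _ v.2)]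
  -- the first layer has order two
  obtain ⟨N, hN, hNF, hNmax⟩ := SectTools.exists_maximal_below F hF1
  haveI := hN
  have hNQ : N ≤ D.π.ker := hNF.le.trans hFQ
  obtain ⟨hF₁ne, hF₁min⟩ := SectTools.minimal_image hNF hNmax
  have hFN : Nat.card F = 2 * Nat.card N := by
    set D₁ := D.quot N hNQ with hD₁
    have E₁ := E.quot N hNQ
    set F₁ := F.map (QuotientGroup.mk' N) with hF₁
    haveI : F₁.Normal := (inferInstance : F.Normal).map _ (QuotientGroup.mk'_surjective N)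
    have hker₁ : D₁.π.ker = D.π.ker.map (QuotientGroup.mk' N) := D.quot_ker N hNQ
    have hF₁Q : F₁ ≤ D₁.π.ker := hker₁ ▸ Subgroup.map_mono hFQ
    obtain ⟨hc₁, he₁, hle₁⟩ := SectTools.minimal_facts D₁.rank D₁.π.ker F₁ D₁.two hF₁Q hF₁ne hF₁min
    by_cases hy : ∀ m ∈ F₁, QuotientGroup.mk' N y * m = m * QuotientGroup.mk' N y
    · have hall := central_all D₁ F₁ (fun x hx m hm => hc₁ x hx m hm) E₁.yne hy
      obtain ⟨m, hm, hm1⟩ := (Subgroup.bot_or_exists_ne_one F₁).resolve_left hF₁ne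
      haveI : (Subgroup.zpowers m).Normal := ⟨fun x hx g => by
        obtain ⟨k, rfl⟩ := Subgroup.mem_zpowers_iff.1 hx
        rw [hall g _ (F₁.zpow_mem hm k), mul_inv_cancel_right]; exact hx⟩
      rcases hF₁min _ inferInstance (Subgroup.zpowers_le.2 hm) with h | h
      · exact absurd (Subgroup.zpowers_eq_bot.1 h) hm1
      · have h2 : Nat.card F₁ = 2 := by
          rw [← h, Nat.card_zpowers]; exact orderOf_eq_prime (p := 2) (by rw [sq, he₁ m hm]) hm1
        rw [← card_map_mk hNF.le, ← hF₁, h2]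
    · exfalso
      have hy5 : ∀ v ∈ F₁, QuotientGroup.mk' N y ^ 5 * v * (QuotientGroup.mk' N y ^ 5)⁻¹ = v := fun v _ => by
        rw [E₁.y5]; group
      obtain ⟨h16, hfp⟩ := SectTools.fpf_five F₁ (D₁.two.to_le hF₁Q) hle₁ _
        (fun v hv => (inferInstance : F₁.Normal).conj_mem v hv _) hy5 hy
      have hk : ∀ g, D₁.π g = 1 → ∀ v ∈ F₁, g * v * g⁻¹ = v := fun g hg v hv => by
        rw [hc₁ g hg v hv, mul_inv_cancel_right]
      obtain ⟨hC4, -, -⟩ := SectTools.dihedral_fixed F₁ h16 (fun u hu v hv => hc₁ u (hF₁Q hu) v hv) he₁ _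
        (QuotientGroup.mk' N e) (fun v hv => (inferInstance : F₁.Normal).conj_mem v hv _)
        (fun v hv => (inferInstance : F₁.Normal).conj_mem v hv _) hy5 (hk _ E₁.e2) (hk _ E₁.ey) hfp
      refine from_frattini D₁ E₁ F₁ hF₁Q hc₁ he₁ ?_ ?_ (Fpf.quot E N hNF.le hNQ hfix) (by rw [hC4, h16])
      · rw [hker₁]
        rintro _ ⟨a, ha, rfl⟩
        exact ⟨a * a, hQF a ha, map_mul _ _ _⟩
      · have h1 := card_map_mk hNQ
        rw [hcard, ← card_map_mk hNF.le, ← hker₁, ← hF₁, ← mul_assoc] at h1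
        exact Nat.eq_of_mul_eq_mul_right Nat.card_pos h1
  -- there is no second layer
  have hN1 : N = ⊥ := by
    by_contra hN1
    obtain ⟨N₂, hN₂, hN₂N, hN₂max⟩ := SectTools.exists_maximal_below N hN1
    haveI := hN₂
    have hN₂Q : N₂ ≤ D.π.ker := hN₂N.le.trans hNQ
    obtain ⟨hMne, hMmin⟩ := SectTools.minimal_image hN₂N hN₂max
    set D₂ := D.quot N₂ hN₂Q with hD₂
    have E₂ := E.quot N₂ hN₂Q
    set F₂ := F.map (QuotientGroup.mk' N₂) with hF₂
    set M := N.map (QuotientGroup.mk' N₂) with hM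
    haveI : F₂.Normal := (inferInstance : F.Normal).map _ (QuotientGroup.mk'_surjective N₂)
    haveI : M.Normal := hN.map _ (QuotientGroup.mk'_surjective N₂)
    have hker₂ : D₂.π.ker = D.π.ker.map (QuotientGroup.mk' N₂) := D.quot_ker N₂ hN₂Q
    have hMQ : M ≤ D₂.π.ker := hker₂ ▸ Subgroup.map_mono hNQ
    obtain ⟨hMc, hMe, hMle⟩ := SectTools.minimal_facts D₂.rank D₂.π.ker M D₂.two hMQ hMne hMmin
    have hN₂F : N₂ ≤ F := hN₂N.le.trans hNF.le
    refine step_four D₂ E₂ F₂ M (Subgroup.map_mono hNF.le) (hker₂ ▸ Subgroup.map_mono hFQ) ?_ ?_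
      (Fpf.quot E N₂ hN₂F hN₂Q hfix) ?_ hMne hMc hMe hMle hMmin ?_ ?_
    · rw [hker₂]
      rintro _ ⟨a, ha, rfl⟩
      exact ⟨a * a, hQF a ha, map_mul _ _ _⟩
    · have h1 := card_map_mk hN₂Q
      rw [hcard, ← card_map_mk hN₂F, ← hker₂, ← hF₂, ← mul_assoc] at h1
      exact Nat.eq_of_mul_eq_mul_right Nat.card_pos h1
    · rw [← card_map_mk hN₂F, ← card_map_mk hN₂N.le, ← mul_assoc, ← hF₂, ← hM] at hFN
      exact Nat.eq_of_mul_eq_mul_right Nat.card_pos hFN
    · intro L hL h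
      rintro _ ⟨a, ha, rfl⟩
      exact hgen (L.comap (QuotientGroup.mk' N₂)) inferInstance (fun u hu => by
        rw [Subgroup.mem_comap, map_mul]
        exact h _ (hker₂ ▸ ⟨u, hu, rfl⟩)) ha
    · intro h
      refine hfaith t 3 Nat.prime_three (by norm_num) E.t3 E.tne fun a ha => hN₂F ?_
      rw [← QuotientGroup.eq_one_iff]
      show QuotientGroup.mk' N₂ ⁅t, a⁆ = 1
      rw [map_commutatorElement, commutatorElement_eq_one_iff_mul_comm]
      exact h _ (hker₂ ▸ ⟨a, hDQ.symm ▸ ha, rfl⟩)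
  rw [hN1, Subgroup.card_bot, mul_one] at hFN
  right
  rw [hFN] at hQcard
  refine ⟨hQcard, ?_⟩
  -- extraspecial of order thirty-two
  obtain ⟨z, hzF, hz1⟩ := (Subgroup.bot_or_exists_ne_one F).resolve_left hF1
  have hFz : ∀ u ∈ F, u = 1 ∨ u = z := by
    intro u hu
    by_cases h : u = 1
    · exact Or.inl h
    by_contra h'
    push Not at h'
    haveI : Fintype F := Fintype.ofFinite F
    have hn1 : (⟨z, hzF⟩ : F) ≠ 1 := fun he => hz1 (congrArg Subtype.val he)
    have hn2 : (⟨u, hu⟩ : F) ≠ 1 := fun he => h (congrArg Subtype.val he)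
    have hn3 : (⟨z, hzF⟩ : F) ≠ ⟨u, hu⟩ := fun he => h'.2 (congrArg Subtype.val he).symm
    have h3 : ({1, ⟨z, hzF⟩, ⟨u, hu⟩} : Finset F).card ≤ 2 := by
      rw [← hFN, Nat.card_eq_fintype_card]; exact Finset.card_le_univ _
    rw [Finset.card_insert_of_notMem (by simp [Ne.symm hn1, Ne.symm hn2]), Finset.card_pair hn3] at h3
    omega
  have hzz : z * z = 1 := by
    rcases hFz _ (F.mul_mem hzF hzF) with h | h
    · exact h
    · exact absurd (mul_left_cancel (h.trans (mul_one z).symm)) hz1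
  have hzc : ∀ x : X, x * z = z * x := fun x => by
    rcases hFz _ ((inferInstance : F.Normal).conj_mem z hzF x) with h | h
    · exact absurd (conj_eq_one_iff.1 h) hz1
    · exact mul_inv_eq_iff_eq_mul.1 h
  have hFc : ∀ x ∈ D.π.ker, ∀ f ∈ F, x * f = f * x := fun x _ f hf => by
    rcases hFz f hf with rfl | rfl
    · simp
    · exact hzc x
  have hFe : ∀ f ∈ F, f * f = 1 := fun f hf => by
    rcases hFz f hf with rfl | rfl
    · simp
    · exact hzz
  have hcomF : ∀ u ∈ Q, ∀ v ∈ Q, ⁅u, v⁆ = 1 ∨ ⁅u, v⁆ = z := fun u hu v hv =>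
    hFz _ (comm_mem_of_sq hQF (hDQ.symm ▸ hu) (hDQ.symm ▸ hv))
  obtain ⟨c, hc, hcF, hcc⟩ : ∃ c ∈ Q, c ∉ F ∧ c * c = 1 := by
    by_contra hno
    push Not at hno
    have h := sq_mem_of_const D F ⊥ bot_le hFc hFe hFQ hQF hcard z hzF (fun u hu huF => by
      rcases hFz _ (hQF u hu) with h | h
      · exact absurd h (hno u (hDQ ▸ hu) huF)
      · rw [h, hzz]; exact Subgroup.one_mem _)
    exact hF1 (le_bot_iff.1 (hgen ⊥ inferInstance h))
  have hcent : ∀ x ∈ Q, (∀ w ∈ Q, ⁅x, w⁆ = 1) → x ∈ F := by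
    intro x hx h
    haveI : (Q ⊓ Subgroup.centralizer (Q : Set X)).Normal := by
      haveI : (Subgroup.centralizer (Q : Set X)).Normal := Subgroup.normal_centralizer
      infer_instance
    rcases no_between D E F hFQ hcard hfix (Q ⊓ Subgroup.centralizer (Q : Set X))
      (fun f hf => ⟨hDQ ▸ hFQ hf, fun w hw => hFc w (hDQ.symm ▸ hw) f hf⟩) (fun u hu => hDQ.symm ▸ hu.1) with h' | h'
    · rw [← h']
      exact ⟨hx, fun w hw => ((commutatorElement_eq_one_iff_mul_comm).1 (h w hw)).symm⟩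
    · exfalso
      have hab : ∀ u ∈ Q, ∀ w ∈ Q, u * w = w * u := fun u hu w hw =>
        ((h'.ge (hDQ.symm ▸ hu)).2 w hw).symm
      let K : Subgroup X :=
        { carrier := {u | u ∈ Q ∧ u * u = 1}
          one_mem' := ⟨Q.one_mem, one_mul 1⟩
          mul_mem' := fun {u w} ⟨hu, hu'⟩ ⟨hw, hw'⟩ => ⟨Q.mul_mem hu hw, by
            rw [mul_assoc, ← mul_assoc w, hab w hw u hu, mul_assoc u w w, hw', mul_one, hu']⟩
          inv_mem' := fun {u} ⟨hu, hu'⟩ => ⟨Q.inv_mem hu, by rw [← mul_inv_rev, hu', inv_one]⟩ }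
      haveI : K.Normal := ⟨fun u hu g => ⟨(inferInstance : Q.Normal).conj_mem u hu.1 g, by
        rw [show g * u * g⁻¹ * (g * u * g⁻¹) = g * (u * u) * g⁻¹ by group, hu.2, mul_one, mul_inv_cancel]⟩⟩
      rcases no_between D E F hFQ hcard hfix K (fun f hf => ⟨hDQ ▸ hFQ hf, hFe f hf⟩) (fun u hu => hDQ.symm ▸ hu.1)
        with hK | hK
      · exact hcF (hK ▸ (⟨hc, hcc⟩ : c ∈ K))
      · exact hF1 (le_bot_iff.1 (hgen ⊥ inferInstance (fun a ha => by
          rw [Subgroup.mem_bot]; exact ((hK.ge ha)).2)))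
  -- pieces of a frame
  have hconjmul : ∀ {u v w : X}, u ∈ Q → v ∈ Q → w ∈ Q → ⁅u * v, w⁆ = ⁅u, w⁆ * ⁅v, w⁆ := by
    intro u v w hu hv hw
    rw [show ⁅u * v, w⁆ = u * ⁅v, w⁆ * u⁻¹ * ⁅u, w⁆ by
      rw [commutatorElement_def, commutatorElement_def, commutatorElement_def]; group]
    rcases hcomF v hv w hw with h | h <;> rcases hcomF u hu w hw with h' | h' <;> rw [h, h']
    · group
    · group
    · rw [hzc u, mul_inv_cancel_right]; group
    · rw [hzc u, mul_inv_cancel_right]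
  have hflip : ∀ {u v : X}, u ∈ Q → v ∈ Q → ⁅v, u⁆ = ⁅u, v⁆ := by
    intro u v hu hv
    rw [← commutatorElement_inv]
    rcases hcomF u hu v hv with h | h <;> rw [h]
    · exact inv_one
    · exact inv_eq_of_mul_eq_one_right hzz
  have hpol : ∀ {u v : X}, u ∈ Q → v ∈ Q → u * v * (u * v) = ⁅v, u⁆ * (u * u) * (v * v) := by
    intro u v hu hv
    calc u * v * (u * v) = u * ⁅v, u⁆ * u * v * v := by rw [commutatorElement_def]; group
      _ = ⁅v, u⁆ * u * u * v * v := by
        rcases hcomF v hv u hu with h | h <;> rw [h]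
        · simp
        · rw [hzc u]
      _ = _ := by group
  have hpartner : ∀ {u : X}, u ∈ Q → u ∉ F → ∃ v ∈ Q, ⁅u, v⁆ = z := by
    intro u hu huF
    by_contra hno
    push Not at hno
    exact huF (hcent u hu fun w hw => (hcomF u hu w hw).resolve_right (hno w hw))
  obtain ⟨d, hd, hdd, hcd⟩ : ∃ d ∈ Q, d * d = 1 ∧ ⁅c, d⁆ = z := by
    obtain ⟨w, hw, hcw⟩ := hpartner hc hcF
    rcases hFz _ (hQF w (hDQ.symm ▸ hw)) with h | h
    · exact ⟨w, hw, h, hcw⟩
    · refine ⟨c * w, Q.mul_mem hc hw, ?_, ?_⟩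
      · rw [hpol hc hw, hflip hc hw, hcw, hcc, h, mul_one, hzz]
      · rw [hflip (Q.mul_mem hc hw) hc, hconjmul hc hw hc, commutatorElement_self, one_mul, hflip hc hw, hcw]
  have hfixcd : ∀ {w : X}, w ∈ Q → ∃ k ∈ Subgroup.closure ({c, d} : Set X) ⊔ F,
      ⁅w * k, c⁆ = 1 ∧ ⁅w * k, d⁆ = 1 ∧ k ∈ Q := by
    intro w hw
    have hdc : ⁅d, c⁆ = z := (hflip hc hd).trans hcd
    have hcm : c ∈ Subgroup.closure ({c, d} : Set X) ⊔ F := Subgroup.mem_sup_left (Subgroup.subset_closure (by simp))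
    have hdm : d ∈ Subgroup.closure ({c, d} : Set X) ⊔ F := Subgroup.mem_sup_left (Subgroup.subset_closure (by simp))
    rcases hcomF w hw c hc with h1 | h1 <;> rcases hcomF w hw d hd with h2 | h2
    · exact ⟨1, one_mem _, by rw [mul_one, h1], by rw [mul_one, h2], Q.one_mem⟩
    · exact ⟨c, hcm, by rw [hconjmul hw hc hc, h1, commutatorElement_self, one_mul],
        by rw [hconjmul hw hc hd, h2, hcd, hzz], hc⟩
    · exact ⟨d, hdm, by rw [hconjmul hw hd hc, h1, hdc, hzz],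
        by rw [hconjmul hw hd hd, h2, commutatorElement_self, one_mul], hd⟩
    · refine ⟨c * d, mul_mem hcm hdm, ?_, ?_, Q.mul_mem hc hd⟩
      · rw [hconjmul hw (Q.mul_mem hc hd) hc, hconjmul hc hd hc, h1, commutatorElement_self, one_mul, hdc, hzz]
      · rw [hconjmul hw (Q.mul_mem hc hd) hd, hconjmul hc hd hd, h2, commutatorElement_self, mul_one, hcd, hzz]
  obtain ⟨a, ha, haS, hac, had⟩ : ∃ a ∈ Q, a ∉ Subgroup.closure ({c, d} : Set X) ⊔ F ∧ ⁅a, c⁆ = 1 ∧ ⁅a, d⁆ = 1 := by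
    by_contra hno
    push Not at hno
    have hall : ∀ w ∈ Q, w ∈ Subgroup.closure ({c, d} : Set X) ⊔ F := by
      intro w hw
      by_contra hwS
      obtain ⟨k, hk, h1, h2, hkQ⟩ := hfixcd hw
      exact hno (w * k) (Q.mul_mem hw hkQ) (fun h => hwS (by simpa using Subgroup.mul_mem _ h (Subgroup.inv_mem _ hk))) h1 h2
    -- eight elements only
    let φ : Bool × Bool × Bool → X := fun p => cond p.1 c 1 * cond p.2.1 d 1 * cond p.2.2 z 1
    have hle : Q ≤ Subgroup.closure (Set.range φ) := by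
      intro w hw
      refine (sup_le ?_ ?_ : Subgroup.closure ({c, d} : Set X) ⊔ F ≤ _) (hall w hw)
      · rw [Subgroup.closure_le]
        rintro x (rfl | rfl)
        · exact Subgroup.subset_closure ⟨(true, false, false), by simp [φ]⟩
        · exact Subgroup.subset_closure ⟨(false, true, false), by simp [φ]⟩
      · intro f hf
        rcases hFz f hf with rfl | rfl
        · exact one_mem _
        · exact Subgroup.subset_closure ⟨(false, false, true), by simp [φ]⟩
    have hdc2 : d * c = z * (c * d) := by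
      rw [← hcd, ← hflip hc hd, commutatorElement_def]; group
    let H : Subgroup X :=
      { carrier := Set.range φ
        one_mem' := ⟨(false, false, false), by simp [φ]⟩
        mul_mem' := by
          rintro _ _ ⟨⟨i, j, k⟩, rfl⟩ ⟨⟨i', j', k'⟩, rfl⟩
          refine ⟨(xor i i', xor j j', xor (xor k k') (j && i')), ?_⟩
          have hc' : ∀ w, c * (c * w) = w := fun w => by rw [← mul_assoc, hcc, one_mul]
          have hd' : ∀ w, d * (d * w) = w := fun w => by rw [← mul_assoc, hdd, one_mul]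
          have hz' : ∀ w, z * (z * w) = w := fun w => by rw [← mul_assoc, hzz, one_mul]
          have hzl : ∀ x w, x * (z * w) = z * (x * w) := fun x w => by rw [← mul_assoc, hzc, mul_assoc]
          have hdcw : ∀ w, d * (c * w) = z * (c * (d * w)) := fun w => by
            rw [← mul_assoc, hdc2, mul_assoc, mul_assoc]
          cases i <;> cases j <;> cases k <;> cases i' <;> cases j' <;> cases k' <;>
            simp [φ, mul_assoc, hc', hd', hz', hcc, hdd, hzz, hzl, hdcw, hdc2, hzc c, hzc d]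
        inv_mem' := by
          rintro _ ⟨⟨i, j, k⟩, rfl⟩
          refine ⟨(i, j, xor k (i && j)), ?_⟩
          refine eq_inv_of_mul_eq_one_left ?_
          have hc' : ∀ w, c * (c * w) = w := fun w => by rw [← mul_assoc, hcc, one_mul]
          have hd' : ∀ w, d * (d * w) = w := fun w => by rw [← mul_assoc, hdd, one_mul]
          have hz' : ∀ w, z * (z * w) = w := fun w => by rw [← mul_assoc, hzz, one_mul]
          have hzl : ∀ x w, x * (z * w) = z * (x * w) := fun x w => by rw [← mul_assoc, hzc, mul_assoc]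
          have hdcw : ∀ w, d * (c * w) = z * (c * (d * w)) := fun w => by
            rw [← mul_assoc, hdc2, mul_assoc, mul_assoc]
          cases i <;> cases j <;> cases k <;>
            simp [φ, mul_assoc, hc', hd', hz', hcc, hdd, hzz, hzl, hdcw, hdc2, hzc c, hzc d] }
    have hQH : Q ≤ H := hle.trans ((Subgroup.closure_le H).2 fun x hx => hx)
    have h1 := Subgroup.card_le_of_le hQH
    have h2 : Nat.card H ≤ 8 := by
      refine le_trans (Nat.card_le_card_of_surjective (fun p => (⟨φ p, p, rfl⟩ : H)) ?_) (by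
        rw [Nat.card_eq_fintype_card]; rfl)
      rintro ⟨x, p, rfl⟩
      exact ⟨p, rfl⟩
    rw [hQcard] at h1
    omega
  have haF : a ∉ F := fun h => haS (Subgroup.mem_sup_right h)
  obtain ⟨b, hb, hbc, hbd, hab⟩ : ∃ b ∈ Q, ⁅b, c⁆ = 1 ∧ ⁅b, d⁆ = 1 ∧ ⁅a, b⁆ = z := by
    obtain ⟨w, hw, haw⟩ := hpartner ha haF
    obtain ⟨k, hk, h1, h2, hkQ⟩ := hfixcd hw
    refine ⟨w * k, Q.mul_mem hw hkQ, h1, h2, ?_⟩
    have hka : ∀ x ∈ Subgroup.closure ({c, d} : Set X) ⊔ F, a * x = x * a := by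
      have : Subgroup.closure ({c, d} : Set X) ⊔ F ≤ Subgroup.centralizer {a} := by
        refine sup_le ((Subgroup.closure_le _).2 ?_) fun f hf => ?_
        · rintro x (rfl | rfl) <;> rw [SetLike.mem_coe, Subgroup.mem_centralizer_singleton_iff]
          · exact (commutatorElement_eq_one_iff_mul_comm.1 hac).symm
          · exact (commutatorElement_eq_one_iff_mul_comm.1 had).symm
        · rw [Subgroup.mem_centralizer_singleton_iff]
          exact (hFc a (hDQ.symm ▸ ha) f hf).symm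
      intro x hx
      exact (Subgroup.mem_centralizer_singleton_iff.1 (this hx)).symm
    rw [hflip (Q.mul_mem hw hkQ) ha, hconjmul hw hkQ ha, hflip ha hw, haw,
      commutatorElement_eq_one_iff_mul_comm.2 (hka k hk).symm, mul_one]
  -- the frame
  let φ : (Bool × Bool) × (Bool × Bool) × Bool → X := fun p =>
    cond p.1.1 c 1 * cond p.1.2 d 1 * (cond p.2.1.1 a 1 * cond p.2.1.2 b 1) * cond p.2.2 z 1
  have hzQ : z ∈ Q := hDQ ▸ hFQ hzF
  have hcon : ∀ (i : Bool) (u v : X), ⁅cond i u 1, v⁆ = cond i ⁅u, v⁆ 1 := fun i u v => by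
    cases i <;> simp [commutatorElement_def]
  have hmemc : ∀ (i : Bool) (u : X), u ∈ Q → cond i u 1 ∈ Q := fun i u hu => by cases i <;> simp [hu]
  have hz1' : ∀ v : X, ⁅z, v⁆ = 1 := fun v => commutatorElement_eq_one_iff_mul_comm.2 (hzc v).symm
  have hφQ : ∀ p, φ p ∈ Q := fun p =>
    Q.mul_mem (Q.mul_mem (Q.mul_mem (hmemc _ _ hc) (hmemc _ _ hd)) (Q.mul_mem (hmemc _ _ ha) (hmemc _ _ hb)))
      (hmemc _ _ hzQ)
  have hdc : ⁅d, c⁆ = z := (hflip hc hd).trans hcd
  have hba : ⁅b, a⁆ = z := (hflip ha hb).trans hab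
  have hexp : ∀ p v, v ∈ Q → ⁅φ p, v⁆ = ⁅cond p.1.1 c 1, v⁆ * ⁅cond p.1.2 d 1, v⁆ *
      (⁅cond p.2.1.1 a 1, v⁆ * ⁅cond p.2.1.2 b 1, v⁆) * ⁅cond p.2.2 z 1, v⁆ := fun p v hv => by
    rw [hconjmul (Q.mul_mem (Q.mul_mem (hmemc _ _ hc) (hmemc _ _ hd)) (Q.mul_mem (hmemc _ _ ha) (hmemc _ _ hb)))
        (hmemc _ _ hzQ) hv,
      hconjmul (Q.mul_mem (hmemc _ _ hc) (hmemc _ _ hd)) (Q.mul_mem (hmemc _ _ ha) (hmemc _ _ hb)) hv,
      hconjmul (hmemc _ _ hc) (hmemc _ _ hd) hv, hconjmul (hmemc _ _ ha) (hmemc _ _ hb) hv]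
  have hcoord : ∀ p, ⁅φ p, d⁆ = cond p.1.1 z 1 ∧ ⁅φ p, c⁆ = cond p.1.2 z 1 ∧ ⁅φ p, b⁆ = cond p.2.1.1 z 1 ∧
      ⁅φ p, a⁆ = cond p.2.1.2 z 1 := by
    intro p
    refine ⟨?_, ?_, ?_, ?_⟩
    · rw [hexp p d hd]; simp only [hcon, hcd, commutatorElement_self, had, hbd, hz1', Bool.cond_self, one_mul, mul_one]
    · rw [hexp p c hc]; simp only [hcon, hdc, commutatorElement_self, hac, hbc, hz1', Bool.cond_self, one_mul, mul_one]
    · rw [hexp p b hb]
      simp only [hcon, hab, commutatorElement_self, hz1', (hflip hb hc).trans hbc, (hflip hb hd).trans hbd, Bool.cond_self, one_mul, mul_one]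
    · rw [hexp p a ha]
      simp only [hcon, hba, commutatorElement_self, hz1', (hflip ha hc).trans hac, (hflip ha hd).trans had, Bool.cond_self, one_mul, mul_one]
  have hcondinj : ∀ i j : Bool, cond i z (1 : X) = cond j z 1 → i = j := by
    intro i j h; cases i <;> cases j <;> first | rfl | exact absurd h hz1 | exact absurd h.symm hz1
  have hφinj : Function.Injective φ := by
    rintro ⟨⟨i, j⟩, ⟨k, l⟩, m⟩ ⟨⟨i', j'⟩, ⟨k', l'⟩, m'⟩ h
    obtain ⟨p1, p2, p3, p4⟩ := hcoord ((i, j), (k, l), m)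
    obtain ⟨q1, q2, q3, q4⟩ := hcoord ((i', j'), (k', l'), m')
    rw [h] at p1 p2 p3 p4
    obtain rfl := hcondinj _ _ (p1.symm.trans q1)
    obtain rfl := hcondinj _ _ (p2.symm.trans q2)
    obtain rfl := hcondinj _ _ (p3.symm.trans q3)
    obtain rfl := hcondinj _ _ (p4.symm.trans q4)
    obtain rfl := hcondinj m m' (mul_left_cancel h)
    rfl
  have hφsurj : ∀ x ∈ Q, ∃ p, φ p = x := by
    have hb' : Function.Bijective fun p => (⟨φ p, hφQ p⟩ : Q) := by
      refine Function.Injective.bijective_of_nat_card_le (fun p r h => hφinj (congrArg Subtype.val h)) ?_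
      rw [hQcard, Nat.card_eq_fintype_card]; rfl
    intro x hx
    obtain ⟨p, hp⟩ := hb'.2 ⟨x, hx⟩
    exact ⟨p, congrArg Subtype.val hp⟩
  -- the second pair is of quaternion type
  obtain ⟨haa, hbb⟩ : a * a = z ∧ b * b = z := by
    by_contra hno
    have hsing : ∃ u v, u ∈ Q ∧ v ∈ Q ∧ u * u = 1 ∧ v * v = 1 ∧ ⁅u, v⁆ = z ∧ ⁅u, c⁆ = 1 ∧ ⁅u, d⁆ = 1 ∧
        ⁅v, c⁆ = 1 ∧ ⁅v, d⁆ = 1 := by
      have hab' : a * b * (a * b) = z * (a * a) * (b * b) := by rw [hpol ha hb, hba]
      have mc : ⁅a * b, c⁆ = 1 := by rw [hconjmul ha hb hc, hac, hbc, one_mul]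
      have md : ⁅a * b, d⁆ = 1 := by rw [hconjmul ha hb hd, had, hbd, one_mul]
      rcases hFz _ (hQF a (hDQ.symm ▸ ha)) with h | h <;> rcases hFz _ (hQF b (hDQ.symm ▸ hb)) with h' | h'
      · exact ⟨a, b, ha, hb, h, h', hab, hac, had, hbc, hbd⟩
      · refine ⟨a, a * b, ha, Q.mul_mem ha hb, h, by rw [hab', h, h', mul_one, hzz], ?_, hac, had, mc, md⟩
        rw [hflip (Q.mul_mem ha hb) ha, hconjmul ha hb ha, commutatorElement_self, one_mul, hba]
      · refine ⟨a * b, b, Q.mul_mem ha hb, hb, by rw [hab', h, h', mul_one, hzz], h', ?_, mc, md, hbc, hbd⟩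
        rw [hconjmul ha hb hb, commutatorElement_self, mul_one, hab]
      · exact absurd ⟨h, h'⟩ hno
    obtain ⟨u, v, hu, hv, huu, hvv, huv, huc, hud, hvc, hvd⟩ := hsing
    -- twenty elements square to one
    let ψ : (Bool × Bool) × (Bool × Bool) × Bool → X := fun p =>
      cond p.1.1 c 1 * cond p.1.2 d 1 * (cond p.2.1.1 u 1 * cond p.2.1.2 v 1) * cond p.2.2 z 1
    have hψQ : ∀ p, ψ p ∈ Q := fun p =>
      Q.mul_mem (Q.mul_mem (Q.mul_mem (hmemc _ _ hc) (hmemc _ _ hd)) (Q.mul_mem (hmemc _ _ hu) (hmemc _ _ hv)))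
        (hmemc _ _ hzQ)
    have hvu : ⁅v, u⁆ = z := (hflip hu hv).trans huv
    have hψcoord : ∀ p, ⁅ψ p, d⁆ = cond p.1.1 z 1 ∧ ⁅ψ p, c⁆ = cond p.1.2 z 1 ∧ ⁅ψ p, v⁆ = cond p.2.1.1 z 1 ∧
        ⁅ψ p, u⁆ = cond p.2.1.2 z 1 := by
      intro p
      have hexp' : ∀ w, w ∈ Q → ⁅ψ p, w⁆ = ⁅cond p.1.1 c 1, w⁆ * ⁅cond p.1.2 d 1, w⁆ *
          (⁅cond p.2.1.1 u 1, w⁆ * ⁅cond p.2.1.2 v 1, w⁆) * ⁅cond p.2.2 z 1, w⁆ := fun w hw => by
        rw [hconjmul (Q.mul_mem (Q.mul_mem (hmemc _ _ hc) (hmemc _ _ hd)) (Q.mul_mem (hmemc _ _ hu) (hmemc _ _ hv)))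
            (hmemc _ _ hzQ) hw,
          hconjmul (Q.mul_mem (hmemc _ _ hc) (hmemc _ _ hd)) (Q.mul_mem (hmemc _ _ hu) (hmemc _ _ hv)) hw,
          hconjmul (hmemc _ _ hc) (hmemc _ _ hd) hw, hconjmul (hmemc _ _ hu) (hmemc _ _ hv) hw]
      refine ⟨?_, ?_, ?_, ?_⟩
      · rw [hexp' d hd]; simp only [hcon, hcd, commutatorElement_self, hud, hvd, hz1', Bool.cond_self, one_mul, mul_one]
      · rw [hexp' c hc]; simp only [hcon, hdc, commutatorElement_self, huc, hvc, hz1', Bool.cond_self, one_mul, mul_one]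
      · rw [hexp' v hv]
        simp only [hcon, huv, commutatorElement_self, hz1', (hflip hv hc).trans hvc, (hflip hv hd).trans hvd, Bool.cond_self, one_mul, mul_one]
      · rw [hexp' u hu]
        simp only [hcon, hvu, commutatorElement_self, hz1', (hflip hu hc).trans huc, (hflip hu hd).trans hud, Bool.cond_self, one_mul, mul_one]
    have hψinj : Function.Injective ψ := by
      rintro ⟨⟨i, j⟩, ⟨k, l⟩, m⟩ ⟨⟨i', j'⟩, ⟨k', l'⟩, m'⟩ h
      obtain ⟨p1, p2, p3, p4⟩ := hψcoord ((i, j), (k, l), m)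
      obtain ⟨q1, q2, q3, q4⟩ := hψcoord ((i', j'), (k', l'), m')
      rw [h] at p1 p2 p3 p4
      obtain rfl := hcondinj _ _ (p1.symm.trans q1)
      obtain rfl := hcondinj _ _ (p2.symm.trans q2)
      obtain rfl := hcondinj _ _ (p3.symm.trans q3)
      obtain rfl := hcondinj _ _ (p4.symm.trans q4)
      obtain rfl := hcondinj m m' (mul_left_cancel h)
      rfl
    have hψsq : ∀ p, (ψ p * ψ p = 1 ↔ xor (p.1.1 && p.1.2) (p.2.1.1 && p.2.1.2) = false) := by
      intro p
      have e1 : ∀ (i j : Bool) (r s : X), r ∈ Q → s ∈ Q → r * r = 1 → s * s = 1 → ⁅s, r⁆ = z →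
          cond i r 1 * cond j s 1 * (cond i r 1 * cond j s 1) = cond (i && j) z 1 := by
        intro i j r s hr hs hrr hss hsr
        cases i <;> cases j <;> simp only [cond_true, cond_false, Bool.and_true, Bool.and_false, one_mul, mul_one]
        · exact hss
        · exact hrr
        · rw [hpol hr hs, hsr, hrr, hss, mul_one, mul_one]
      have hA := e1 p.1.1 p.1.2 c d hc hd hcc hdd hdc
      have hB := e1 p.2.1.1 p.2.1.2 u v hu hv huu hvv hvu
      have hcm : ⁅cond p.2.1.1 u 1 * cond p.2.1.2 v 1, cond p.1.1 c 1 * cond p.1.2 d 1⁆ = 1 := by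
        rw [hconjmul (hmemc _ _ hu) (hmemc _ _ hv) (Q.mul_mem (hmemc _ _ hc) (hmemc _ _ hd))]
        have h1 : ∀ w, w ∈ Q → ⁅w, c⁆ = 1 → ⁅w, d⁆ = 1 → ∀ i, ⁅cond i w 1, cond p.1.1 c 1 * cond p.1.2 d 1⁆ = 1 := by
          intro w hw hwc hwd i
          rw [hcon, hflip (Q.mul_mem (hmemc _ _ hc) (hmemc _ _ hd)) hw, hconjmul (hmemc _ _ hc) (hmemc _ _ hd) hw,
            hcon, hcon, (hflip hw hc).trans hwc, (hflip hw hd).trans hwd]
          cases i <;> cases p.1.1 <;> cases p.1.2 <;> simp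
        rw [h1 u hu huc hud, h1 v hv hvc hvd, one_mul]
      have hzsq : cond p.2.2 z 1 * cond p.2.2 z (1 : X) = 1 := by cases p.2.2 <;> simp [hzz]
      have hcl : ⁅cond p.2.2 z (1 : X), cond p.1.1 c 1 * cond p.1.2 d 1 * (cond p.2.1.1 u 1 * cond p.2.1.2 v 1)⁆ = 1 := by
        rw [hcon]; cases p.2.2 <;> simp [hz1']
      show ψ p * ψ p = 1 ↔ _
      rw [hpol (Q.mul_mem (Q.mul_mem (hmemc _ _ hc) (hmemc _ _ hd)) (Q.mul_mem (hmemc _ _ hu) (hmemc _ _ hv)))
          (hmemc _ _ hzQ), hcl, one_mul, hzsq, mul_one,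
        hpol (Q.mul_mem (hmemc _ _ hc) (hmemc _ _ hd)) (Q.mul_mem (hmemc _ _ hu) (hmemc _ _ hv)), hcm, one_mul, hA, hB]
      cases (p.1.1 && p.1.2) <;> cases (p.2.1.1 && p.2.1.2) <;> simp [hzz, hz1]
    let I : Set X := {x | x ∈ Q ∧ x * x = 1}
    have hI : Nat.card I = 20 := by
      rw [← bool_count, ← Fintype.card_coe, ← Nat.card_eq_fintype_card]
      symm
      refine Nat.card_congr (Equiv.ofBijective (fun p => ⟨ψ p.1, hψQ _, (hψsq _).2 (Finset.mem_filter.1 p.2).2⟩) ?_)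
      refine ⟨fun p r h => Subtype.ext (hψinj (congrArg Subtype.val h)), ?_⟩
      rintro ⟨x, hx, hxx⟩
      have hb' : Function.Bijective fun p => (⟨ψ p, hψQ p⟩ : Q) := by
        refine Function.Injective.bijective_of_nat_card_le (fun p r h => hψinj (congrArg Subtype.val h)) ?_
        rw [hQcard, Nat.card_eq_fintype_card]; rfl
      obtain ⟨p, hp⟩ := hb'.2 ⟨x, hx⟩
      have hp' : ψ p = x := congrArg Subtype.val hp
      exact ⟨⟨p, Finset.mem_filter.2 ⟨Finset.mem_univ _, (hψsq p).1 (by rw [hp']; exact hxx)⟩⟩, Subtype.ext hp'⟩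
    have h5 := SectTools.fix_modEq (p := 5) I y (fun x hx => ⟨(inferInstance : Q.Normal).conj_mem x hx.1 y, by
        rw [show y * x * y⁻¹ * (y * x * y⁻¹) = y * (x * x) * y⁻¹ by group, hx.2, mul_one, mul_inv_cancel]⟩)
      (fun x _ => by rw [E.y5]; group)
    have hfx : {x : X | x ∈ I ∧ y * x = x * y} = (F : Set X) := by
      ext x
      refine ⟨fun ⟨hx, hyx⟩ => hfix x (hDQ.symm ▸ hx.1) (by
        rw [commutatorElement_eq_one_iff_mul_comm.2 hyx]; exact F.one_mem), fun hx => ⟨⟨hDQ ▸ hFQ hx, hFe x hx⟩, ?_⟩⟩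
      rcases hFz x hx with rfl | rfl
      · simp
      · exact hzc y
    rw [hI, hfx] at h5
    change 20 % 5 = Nat.card F % 5 at h5
    omega
  -- the factors
  let Z : Q := ⟨z, hzQ⟩
  have hZ1 : Z ≠ 1 := fun h => hz1 (congrArg Subtype.val h)
  let A : Subgroup Q := Subgroup.closure {⟨a, ha⟩, ⟨b, hb⟩}
  let B : Subgroup Q := Subgroup.closure {⟨c, hc⟩ * ⟨d, hd⟩, ⟨c, hc⟩}
  have hcomm : ∀ u ∈ A, ∀ v ∈ B, u * v = v * u := by
    have h1 : ∀ w : X, ∀ hw : w ∈ Q, ⁅w, c⁆ = 1 → ⁅w, d⁆ = 1 →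
        (⟨w, hw⟩ : Q) ∈ Subgroup.centralizer ({⟨c, hc⟩ * ⟨d, hd⟩, ⟨c, hc⟩} : Set Q) := by
      intro w hw h1 h2
      rintro v (rfl | rfl) <;> refine Subtype.ext ?_
      · show c * d * w = w * (c * d)
        rw [mul_assoc, ← commutatorElement_eq_one_iff_mul_comm.1 h2, ← mul_assoc,
          ← commutatorElement_eq_one_iff_mul_comm.1 h1, mul_assoc]
      · exact (commutatorElement_eq_one_iff_mul_comm.1 h1).symm
    have hA : A ≤ Subgroup.centralizer ({⟨c, hc⟩ * ⟨d, hd⟩, ⟨c, hc⟩} : Set Q) := by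
      rw [Subgroup.closure_le]
      rintro u (rfl | rfl)
      · exact h1 a ha hac had
      · exact h1 b hb hbc hbd
    intro u hu v hv
    have hB : B ≤ Subgroup.centralizer {u} := by
      rw [Subgroup.closure_le]
      intro w hw
      rw [SetLike.mem_coe, Subgroup.mem_centralizer_singleton_iff]
      exact hA hu w hw
    exact (Subgroup.mem_centralizer_singleton_iff.1 (hB hv)).symm
  have hgenQ : ∀ x : Q, x ∈ A ⊔ B := by
    have hcB : (⟨c, hc⟩ : Q) ∈ A ⊔ B := Subgroup.mem_sup_right (Subgroup.subset_closure (by simp))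
    have hcdB : ((⟨c, hc⟩ : Q) * ⟨d, hd⟩) ∈ A ⊔ B := Subgroup.mem_sup_right (Subgroup.subset_closure (Set.mem_insert _ _))
    have hdB : (⟨d, hd⟩ : Q) ∈ A ⊔ B := by
      have h3 := mul_mem (inv_mem hcB) hcdB
      rwa [inv_mul_cancel_left] at h3
    have haA : (⟨a, ha⟩ : Q) ∈ A ⊔ B := Subgroup.mem_sup_left (Subgroup.subset_closure (by simp))
    have hbA : (⟨b, hb⟩ : Q) ∈ A ⊔ B := Subgroup.mem_sup_left (Subgroup.subset_closure (by simp))
    have hzA : Z ∈ A ⊔ B := (show (⟨a, ha⟩ : Q) * ⟨a, ha⟩ = Z from Subtype.ext haa) ▸ mul_mem haA haA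
    intro x
    obtain ⟨⟨⟨i, j⟩, ⟨k, l⟩, m⟩, hp⟩ := hφsurj x x.2
    rw [show x = cond i ⟨c, hc⟩ 1 * cond j ⟨d, hd⟩ 1 * (cond k ⟨a, ha⟩ 1 * cond l ⟨b, hb⟩ 1) * cond m Z 1 from
      Subtype.ext (by rw [← hp]; cases i <;> cases j <;> cases k <;> cases l <;> cases m <;> rfl)]
    refine mul_mem (mul_mem (mul_mem ?_ ?_) (mul_mem ?_ ?_)) ?_
    · cases i <;> first | exact one_mem _ | exact hcB
    · cases j <;> first | exact one_mem _ | exact hdB
    · cases k <;> first | exact one_mem _ | exact haA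
    · cases l <;> first | exact one_mem _ | exact hbA
    · cases m <;> first | exact one_mem _ | exact hzA
  have hsup : A ⊔ B = ⊤ := top_le_iff.1 fun x _ => hgenQ x
  refine ⟨A, B, ?_, ?_, hcomm, hsup, ?_⟩
  · exact (H31.Eight.q8_of_pair hZ1 (Subtype.ext hzz) (Subtype.ext haa) (Subtype.ext hbb) (Subtype.ext hba)).1
  · have hcdord : orderOf (⟨c, hc⟩ * ⟨d, hd⟩ : Q) = 4 := by
      refine H31.Eight.orderOf_eq_four (z := Z) (Subtype.ext ?_) hZ1 (Subtype.ext hzz)
      show c * d * (c * d) = z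
      rw [hpol hc hd, hdc, hcc, hdd, mul_one, mul_one]
    refine H67.dih_iso _ _ (Subtype.ext hcc) (Subtype.ext ?_) hcdord ?_
    · show c * (c * d) * c⁻¹ = (c * d)⁻¹
      rw [← mul_assoc, hcc, one_mul, mul_inv_rev, inv_eq_of_mul_eq_one_right hdd]
    · intro h
      obtain ⟨n, hn⟩ := Subgroup.mem_zpowers_iff.1 h
      have h1 : Commute ((c * d) ^ n) (c * d) := (Commute.refl (c * d)).zpow_left n
      have hn' : (c * d) ^ n = c := congrArg Subtype.val hn
      rw [hn'] at h1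
      have h2 : c * (c * d) = c * (d * c) := by rw [h1.eq, mul_assoc]
      exact hz1 (hcd ▸ commutatorElement_eq_one_iff_mul_comm.2 (mul_left_cancel h2))
  · refine le_antisymm ?_ ?_
    · rintro x ⟨hxA, hxB⟩
      rw [Subgroup.mem_center_iff]
      intro g
      have hle : A ⊔ B ≤ Subgroup.centralizer {x} := by
        refine sup_le (fun u hu => ?_) (fun v hv => ?_) <;> rw [Subgroup.mem_centralizer_singleton_iff]
        · exact hcomm u hu x hxB
        · exact (hcomm x hxA v hv).symm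
      exact (Subgroup.mem_centralizer_singleton_iff.1 (hle (hgenQ g)))
    · intro x hx
      rw [Subgroup.mem_center_iff] at hx
      have hxF : (x : X) ∈ F := hcent x x.2 fun w hw =>
        commutatorElement_eq_one_iff_mul_comm.2 (congrArg Subtype.val (hx ⟨w, hw⟩)).symm
      rcases hFz _ hxF with h | h
      · rw [show x = 1 from Subtype.ext h]; exact one_mem _
      · rw [show x = Z from Subtype.ext h]
        refine ⟨?_, ?_⟩
        · rw [show Z = (⟨a, ha⟩ : Q) * ⟨a, ha⟩ from Subtype.ext haa.symm]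
          exact mul_mem (Subgroup.subset_closure (by simp)) (Subgroup.subset_closure (by simp))
        · rw [show Z = ((⟨c, hc⟩ : Q) * ⟨d, hd⟩) * (⟨c, hc⟩ * ⟨d, hd⟩) from Subtype.ext (by
            show z = c * d * (c * d)
            rw [hpol hc hd, hdc, hcc, hdd, mul_one, mul_one])]
          exact mul_mem (Subgroup.subset_closure (by simp)) (Subgroup.subset_closure (by simp))

end H69.AltFive
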