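import Cfsg.Agent.H40.GlueTools
import Cfsg.Agent.H40.SL3Pres
import Cfsg.Agent.H32.AltAut

/-!
An alternating group and `SL₃` glued along a rank one subgroup give a quotient of `SL_n`.
-/

set_option autoImplicit false
set_option linter.unusedSectionVars false
set_option linter.style.haveILetI false

namespace H69.AltGlue

open Matrix Equiv
open H40.Glue (tv tv_of)

variable {F : Type*} [Field F] {n : ℕ}

/-- The alternating group. -/
abbrev Alt (n : ℕ) : Type := ↥(alternatingGroup (Fin n))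

/-- The first four indices. -/
def q (hn : 4 ≤ n) : Fin 4 → Fin n := Fin.castLE hn

theorem q_inj (hn : 4 ≤ n) : Function.Injective (q hn) := Fin.castLE_injective hn

theorem q_ne (hn : 4 ≤ n) {a b : Fin 4} (h : a ≠ b) : q hn a ≠ q hn b := (q_inj hn).ne h

/-- The first three indices. -/
def f3 (hn : 4 ≤ n) (a : Fin 3) : Fin n := q hn a.castSucc

theorem f3_0 (hn : 4 ≤ n) : f3 hn 0 = q hn 0 := rfl

theorem f3_1 (hn : 4 ≤ n) : f3 hn 1 = q hn 1 := rfl

theorem f3_2 (hn : 4 ≤ n) : f3 hn 2 = q hn 2 := rfl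

theorem f3_inj (hn : 4 ≤ n) : Function.Injective (f3 hn) :=
  (q_inj hn).comp (Fin.castSucc_injective 3)

/-- The three-cycle. -/
def cA (hn : 4 ≤ n) : Alt n :=
  ⟨swap (q hn 0) (q hn 2) * swap (q hn 0) (q hn 1),
    Equiv.Perm.mem_alternatingGroup.2 (by
      rw [map_mul, Perm.sign_swap (q_ne hn (by decide)), Perm.sign_swap (q_ne hn (by decide))]
      rfl)⟩

/-- The swap of the block. -/
def sA (hn : 4 ≤ n) : Alt n :=
  ⟨swap (q hn 0) (q hn 1) * swap (q hn 2) (q hn 3),
    Equiv.Perm.mem_alternatingGroup.2 (by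
      rw [map_mul, Perm.sign_swap (q_ne hn (by decide)), Perm.sign_swap (q_ne hn (by decide))]
      rfl)⟩

/-- The move of the block off itself. -/
def dA (hn : 4 ≤ n) : Alt n :=
  ⟨swap (q hn 0) (q hn 2) * swap (q hn 1) (q hn 3),
    Equiv.Perm.mem_alternatingGroup.2 (by
      rw [map_mul, Perm.sign_swap (q_ne hn (by decide)), Perm.sign_swap (q_ne hn (by decide))]
      rfl)⟩

/-- The other move. -/
def dA' (hn : 4 ≤ n) : Alt n :=
  ⟨swap (q hn 0) (q hn 3) * swap (q hn 1) (q hn 2),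
    Equiv.Perm.mem_alternatingGroup.2 (by
      rw [map_mul, Perm.sign_swap (q_ne hn (by decide)), Perm.sign_swap (q_ne hn (by decide))]
      rfl)⟩

theorem swaps_apply {ι : Type*} [DecidableEq ι] (f : Fin 4 → ι) (hf : Function.Injective f)
    (a b c d x : Fin 4) :
    (swap (f a) (f b) * swap (f c) (f d) : Perm ι) (f x) = f ((swap a b * swap c d : Perm (Fin 4)) x) := by
  simp only [Perm.mul_apply, hf.swap_apply]

theorem cA_apply (hn : 4 ≤ n) (a : Fin 3) :
    (cA hn : Perm (Fin n)) (f3 hn a) = f3 hn (a + 1) := by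
  show (swap (q hn 0) (q hn 2) * swap (q hn 0) (q hn 1) : Perm (Fin n)) (q hn _) = q hn _
  rw [swaps_apply _ (q_inj hn)]
  congr 1
  revert a; decide

theorem sA_apply (hn : 4 ≤ n) (x : Fin 4) :
    (sA hn : Perm (Fin n)) (q hn x) = q hn ((swap 0 1 * swap 2 3 : Perm (Fin 4)) x) :=
  swaps_apply _ (q_inj hn) _ _ _ _ _

theorem dA_apply (hn : 4 ≤ n) (x : Fin 4) :
    (dA hn : Perm (Fin n)) (q hn x) = q hn ((swap 0 2 * swap 1 3 : Perm (Fin 4)) x) :=
  swaps_apply _ (q_inj hn) _ _ _ _ _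

theorem dA'_apply (hn : 4 ≤ n) (x : Fin 4) :
    (dA' hn : Perm (Fin n)) (q hn x) = q hn ((swap 0 3 * swap 1 2 : Perm (Fin 4)) x) :=
  swaps_apply _ (q_inj hn) _ _ _ _ _

/-- An even permutation with prescribed values on four indices, up to the last two. -/
theorem exists_even_quad (hn : 4 ≤ n) {v : Fin 4 → Fin n} (hv : Function.Injective v) :
    ∃ g : Alt n, (∀ x, (g : Perm (Fin n)) (q hn x) = v x) ∨
      ∀ x, (g : Perm (Fin n)) (q hn x) = v ((swap 2 3 : Perm (Fin 4)) x) := by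
  classical
  obtain ⟨π, hπ⟩ := Equiv.Perm.exists_extending_pair (q hn) v (q_inj hn) hv
  rcases Int.units_eq_one_or (Perm.sign π) with h | h
  · exact ⟨⟨π, Perm.mem_alternatingGroup.2 h⟩, Or.inl hπ⟩
  · refine ⟨⟨π * swap (q hn 2) (q hn 3), Perm.mem_alternatingGroup.2 ?_⟩, Or.inr fun x => ?_⟩
    · rw [map_mul, h, Perm.sign_swap (q_ne hn (by decide))]; rfl
    · show π (swap (q hn 2) (q hn 3) (q hn x)) = _
      rw [(q_inj hn).swap_apply, hπ]

/-- An even permutation with two prescribed values. -/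
theorem exists_even_pair (hn : 4 ≤ n) {i j : Fin n} (hij : i ≠ j) :
    ∃ g : Alt n, (g : Perm (Fin n)) (q hn 0) = i ∧ (g : Perm (Fin n)) (q hn 1) = j := by
  classical
  have h2 : ∀ s : Finset (Fin n), s.card ≤ 3 → ∃ k, k ∉ s := fun s hs => by
    by_contra! h
    have := Finset.card_le_card (show (Finset.univ : Finset (Fin n)) ⊆ s from fun k _ => h k)
    rw [Finset.card_univ, Fintype.card_fin] at this
    omega
  obtain ⟨k, hk⟩ := h2 {i, j} (Finset.card_le_two.trans (by norm_num))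
  obtain ⟨l, hl⟩ := h2 {i, j, k} Finset.card_le_three
  simp only [Finset.mem_insert, Finset.mem_singleton, not_or] at hk hl
  have hv : Function.Injective ![i, j, k, l] := by
    intro a b
    fin_cases a <;> fin_cases b <;>
      simp [hij, hij.symm, hk.1, hk.2, Ne.symm hk.1, Ne.symm hk.2, hl.1, hl.2.1, hl.2.2,
        Ne.symm hl.1, Ne.symm hl.2.1, Ne.symm hl.2.2]
  obtain ⟨g, hg | hg⟩ := exists_even_quad hn hv
  · exact ⟨g, hg 0, hg 1⟩
  · exact ⟨g, (hg 0).trans rfl, (hg 1).trans rfl⟩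

/-- An even permutation carrying the first three indices to a given triple, up to the block swap. -/
theorem exists_even_triple (hn : 4 ≤ n) {i j l : Fin n} (hij : i ≠ j) (hjl : j ≠ l) (hil : i ≠ l) :
    ∃ g : Alt n, ∃ π : Perm (Fin 3), (π = 1 ∨ π = swap 0 1) ∧
      ∀ a, (g : Perm (Fin n)) (f3 hn (π a)) = ![i, j, l] a := by
  classical
  obtain ⟨k, hk⟩ : ∃ k, k ∉ ({i, j, l} : Finset (Fin n)) := by
    by_contra! h
    have h3 := Finset.card_le_three (a := i) (b := j) (c := l)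
    have := Finset.card_le_card (show (Finset.univ : Finset (Fin n)) ⊆ {i, j, l} from fun k _ => h k)
    rw [Finset.card_univ, Fintype.card_fin] at this
    omega
  simp only [Finset.mem_insert, Finset.mem_singleton, not_or] at hk
  have hv : Function.Injective ![i, j, l, k] := by
    intro a b
    fin_cases a <;> fin_cases b <;>
      simp [hij, hij.symm, hjl, hjl.symm, hil, hil.symm, hk.1, hk.2.1, hk.2.2,
        Ne.symm hk.1, Ne.symm hk.2.1, Ne.symm hk.2.2]
  have hv' : Function.Injective ![j, i, k, l] := by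
    intro a b
    fin_cases a <;> fin_cases b <;>
      simp [hij, hij.symm, hjl, hjl.symm, hil, hil.symm, hk.1, hk.2.1, hk.2.2,
        Ne.symm hk.1, Ne.symm hk.2.1, Ne.symm hk.2.2]
  obtain ⟨g, hg | hg⟩ := exists_even_quad hn hv
  · exact ⟨g, 1, Or.inl rfl, fun a => by rw [Perm.one_apply, f3, hg]; fin_cases a <;> rfl⟩
  refine ⟨g * sA hn, swap 0 1, Or.inr rfl, fun a => ?_⟩
  show (g : Perm (Fin n)) ((sA hn : Perm (Fin n)) (q hn _)) = _
  rw [sA_apply, hg]
  fin_cases a <;> rfl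

/-- The glued data. -/
structure Glue (F : Type*) [Field F] (hn : 4 ≤ n) (G : Type*) [Group G] where
  /-- the alternating part -/
  α : Alt n →* G
  /-- the rank two part -/
  ψ : SpecialLinearGroup (Fin 3) F →* G
  hI : α (cA hn) = ψ H40.SL3.cT
  hK : ∀ k : Alt n, (k : Perm (Fin n)) (q hn 0) = q hn 0 → (k : Perm (Fin n)) (q hn 1) = q hn 1 →
    ∀ t : F, Commute (α k) (ψ (tv 0 1 t))
  hS : ∀ t : F, α (sA hn) * ψ (tv 0 1 t) * (α (sA hn))⁻¹ = ψ (tv 1 0 t)
  hD : Commute (ψ (tv 0 1 1)) (α (dA hn) * ψ (tv 0 1 1) * (α (dA hn))⁻¹)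
  hD' : Commute (ψ (tv 0 1 1)) (α (dA' hn) * ψ (tv 0 1 1) * (α (dA' hn))⁻¹)

namespace Glue

variable {hn : 4 ≤ n} {G : Type*} [Group G] (D : Glue F hn G)

/-- The root elements. -/
noncomputable def X (i j : Fin n) (t : F) : G :=
  if h : i ≠ j then
    D.α (exists_even_pair hn h).choose * D.ψ (tv 0 1 t) * (D.α (exists_even_pair hn h).choose)⁻¹
  else 1

theorem X_eq (g : Alt n) (t : F) :
    D.X ((g : Perm (Fin n)) (q hn 0)) ((g : Perm (Fin n)) (q hn 1)) t =
      D.α g * D.ψ (tv 0 1 t) * (D.α g)⁻¹ := by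
  have h : (g : Perm (Fin n)) (q hn 0) ≠ (g : Perm (Fin n)) (q hn 1) :=
    (g : Perm (Fin n)).injective.ne (q_ne hn (by decide))
  rw [X, dif_pos h]
  set g' := (exists_even_pair hn h).choose
  obtain ⟨h0, h1⟩ := (exists_even_pair hn h).choose_spec
  have hk := D.hK (g'⁻¹ * g) (by
    show (g' : Perm (Fin n))⁻¹ ((g : Perm (Fin n)) (q hn 0)) = _
    rw [Perm.inv_eq_iff_eq]; exact h0.symm) (by
    show (g' : Perm (Fin n))⁻¹ ((g : Perm (Fin n)) (q hn 1)) = _
    rw [Perm.inv_eq_iff_eq]; exact h1.symm) t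
  have e : g = g' * (g'⁻¹ * g) := by group
  conv_rhs => rw [e, map_mul, _root_.mul_inv_rev]
  rw [show D.α g' * D.α (g'⁻¹ * g) * D.ψ (tv 0 1 t) * ((D.α (g'⁻¹ * g))⁻¹ * (D.α g')⁻¹) =
    D.α g' * (D.α (g'⁻¹ * g) * D.ψ (tv 0 1 t) * (D.α (g'⁻¹ * g))⁻¹) * (D.α g')⁻¹ by group,
    hk.eq, mul_inv_cancel_right]

theorem X_conj (g : Alt n) {i j : Fin n} (h : i ≠ j) (t : F) :
    D.α g * D.X i j t * (D.α g)⁻¹ = D.X ((g : Perm (Fin n)) i) ((g : Perm (Fin n)) j) t := by
  obtain ⟨k, rfl, rfl⟩ := exists_even_pair hn h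
  have e := D.X_eq (g * k) t
  simp only [Subgroup.coe_mul, Perm.mul_apply] at e
  rw [e, D.X_eq, map_mul]
  group

theorem cT_tv {a b : Fin 3} (h : a ≠ b) (t : F) :
    H40.SL3.cT * tv a b t * (H40.SL3.cT : SpecialLinearGroup (Fin 3) F)⁻¹ = tv (a + 1) (b + 1) t := by
  have h' : a + 1 ≠ b + 1 := fun e => h (add_right_cancel e)
  rw [mul_inv_eq_iff_eq_mul, tv_of h, tv_of h']
  refine H40.SL3.ext3 ?_
  rw [H40.SL3.cm3, H40.SL3.cm3, H40.SL3.coe_cT, SpecialLinearGroup.transvection_coe,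
    SpecialLinearGroup.transvection_coe]
  ext u v
  fin_cases a <;> fin_cases b <;> (try exact absurd rfl h) <;> fin_cases u <;> fin_cases v <;>
    simp [Matrix.mul_apply, Fin.sum_univ_three, Matrix.single_apply, Matrix.one_apply] <;> decide

theorem X_base : ∀ {a b : Fin 3}, a ≠ b → ∀ t : F, D.X (f3 hn a) (f3 hn b) t = D.ψ (tv a b t) := by
  have rot : ∀ a b : Fin 3, a ≠ b → (∀ t : F, D.X (f3 hn a) (f3 hn b) t = D.ψ (tv a b t)) →
      ∀ t : F, D.X (f3 hn (a + 1)) (f3 hn (b + 1)) t = D.ψ (tv (a + 1) (b + 1) t) := by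
    intro a b h e t
    rw [← cA_apply, ← cA_apply, ← D.X_conj _ ((f3_inj hn).ne h), e, D.hI, ← map_inv, ← map_mul,
      ← map_mul, cT_tv h]
  have h01 : ∀ t : F, D.X (f3 hn 0) (f3 hn 1) t = D.ψ (tv 0 1 t) := fun t => by
    have := D.X_eq 1 t
    simpa [f3_0, f3_1] using this
  have h10 : ∀ t : F, D.X (f3 hn 1) (f3 hn 0) t = D.ψ (tv 1 0 t) := fun t => by
    rw [← D.hS, ← D.X_eq, sA_apply, sA_apply, f3_0, f3_1]
    rfl
  exact fun {a b} h => H40.BlockPres.all_pairs
    (P := fun a b : Fin 3 => ∀ t : F, D.X (f3 hn a) (f3 hn b) t = D.ψ (tv a b t)) rot h01 h10 h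

theorem reidx_tv {ι κ : Type*} [Fintype ι] [DecidableEq ι] [Fintype κ] [DecidableEq κ] (e : ι ≃ κ)
    {p q : ι} (h : p ≠ q) (t : F) : H40.BlockPres.reidx e (tv p q t) = tv (e p) (e q) t := by
  apply Subtype.ext
  show Matrix.reindex e e (tv p q t).1 = _
  rw [H40.Glue.coe_tv h, H40.Glue.coe_tv (e.injective.ne h)]
  ext a b
  obtain ⟨a, rfl⟩ := e.surjective a
  obtain ⟨b, rfl⟩ := e.surjective b
  simp [Matrix.one_apply, Matrix.single_apply]

/-- Every triple carries a copy of `SL₃`. -/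
theorem exists_triple {i j l : Fin n} (hij : i ≠ j) (hjl : j ≠ l) (hil : i ≠ l) :
    ∃ Ψ : SpecialLinearGroup (Fin 3) F →* G, ∀ a b : Fin 3, a ≠ b → ∀ t : F,
      Ψ (tv a b t) = D.X (![i, j, l] a) (![i, j, l] b) t := by
  obtain ⟨g, π, -, hg⟩ := exists_even_triple hn hij hjl hil
  refine ⟨((MulAut.conj (D.α g)).toMonoidHom.comp D.ψ).comp (H40.BlockPres.reidx π).toMonoidHom,
    fun a b h t => ?_⟩
  show D.α g * D.ψ (H40.BlockPres.reidx π (tv a b t)) * (D.α g)⁻¹ = _
  rw [reidx_tv π h, ← hg, ← hg, ← D.X_base (π.injective.ne h),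
    D.X_conj _ ((f3_inj hn).ne (π.injective.ne h))]

theorem X_add {i j : Fin n} (h : i ≠ j) (t u : F) : D.X i j (t + u) = D.X i j t * D.X i j u := by
  obtain ⟨g, rfl, rfl⟩ := exists_even_pair hn h
  rw [D.X_eq, D.X_eq, D.X_eq, H40.Glue.tv_strel.add 0 1 (by decide), map_mul]
  group

theorem X_chev {i j l : Fin n} (hij : i ≠ j) (hjl : j ≠ l) (hil : i ≠ l) (t u : F) :
    D.X i j t * D.X j l u * (D.X i j t)⁻¹ * (D.X j l u)⁻¹ = D.X i l (t * u) := by
  obtain ⟨Ψ, hΨ⟩ := D.exists_triple hij hjl hil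
  have e := congrArg Ψ ((H40.Glue.tv_strel (F := F)).chev (0 : Fin 3) 1 2 (by decide) (by decide)
    (by decide) t u)
  simp only [map_mul, map_inv, hΨ 0 1 (by decide), hΨ 1 2 (by decide), hΨ 0 2 (by decide)] at e
  simpa using e

theorem X_comm_row {i j l : Fin n} (hij : i ≠ j) (hil : i ≠ l) (hjl : j ≠ l) (t u : F) :
    Commute (D.X i j t) (D.X i l u) := by
  obtain ⟨Ψ, hΨ⟩ := D.exists_triple hij hjl hil
  have e := (H40.Glue.tv_strel (F := F)).comm (0 : Fin 3) 1 0 2 (by decide) (by decide) (by decide)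
    (by decide) t u
  have e' := e.map Ψ
  rw [hΨ 0 1 (by decide), hΨ 0 2 (by decide)] at e'
  simpa using e'

theorem X_comm_col {i j l : Fin n} (hij : i ≠ j) (hlj : l ≠ j) (hil : i ≠ l) (t u : F) :
    Commute (D.X i j t) (D.X l j u) := by
  obtain ⟨Ψ, hΨ⟩ := D.exists_triple hij hlj.symm hil
  have e := (H40.Glue.tv_strel (F := F)).comm (0 : Fin 3) 1 2 1 (by decide) (by decide) (by decide)
    (by decide) t u
  have e' := e.map Ψ
  rw [hΨ 0 1 (by decide), hΨ 2 1 (by decide)] at e'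
  simpa using e'

/-- The torus element of a pair. -/
noncomputable def W (i j : Fin n) (a : Fˣ) : G :=
  D.X i j a * D.X j i (-(a : F)⁻¹) * D.X i j a * (D.X i j 1 * D.X j i (-1) * D.X i j 1)⁻¹

theorem dT_word (a : Fˣ) :
    tv (0 : Fin 3) 1 (a : F) * tv 1 0 (-(a : F)⁻¹) * tv 0 1 (a : F) *
      (tv (0 : Fin 3) 1 (1 : F) * tv 1 0 (-1) * tv 0 1 1)⁻¹ = H40.SL3.dT (a, a⁻¹) := by
  rw [mul_inv_eq_iff_eq_mul]
  refine H40.SL3.ext3 ?_
  simp only [H40.SL3.cm3, H40.SL3.coe_dT, H40.Glue.coe_tv (show (0 : Fin 3) ≠ 1 by decide),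
    H40.Glue.coe_tv (show (1 : Fin 3) ≠ 0 by decide)]
  have := a.ne_zero
  ext u v
  fin_cases u <;> fin_cases v <;>
    simp [Matrix.mul_apply, Fin.sum_univ_three, Matrix.single_apply, Matrix.one_apply,
      diagonal_apply]

theorem dT_tv (a : Fˣ) {p r : Fin 3} (h : p ≠ r) (t : F) :
    H40.SL3.dT (a, a⁻¹) * tv p r t * (H40.SL3.dT (a, a⁻¹))⁻¹ =
      tv p r (![(a : F), (a : F)⁻¹, 1] p * t * (![(a : F), (a : F)⁻¹, 1] r)⁻¹) := by
  rw [mul_inv_eq_iff_eq_mul]
  refine H40.SL3.ext3 ?_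
  simp only [H40.SL3.cm3, H40.SL3.coe_dT, H40.Glue.coe_tv h]
  have := a.ne_zero
  ext u v
  fin_cases p <;> fin_cases r <;> (try exact absurd rfl h) <;> fin_cases u <;> fin_cases v <;>
    simp [Matrix.mul_apply, Fin.sum_univ_three, Matrix.single_apply, Matrix.one_apply,
      diagonal_apply] <;> field_simp

theorem W_act {i j l : Fin n} (hij : i ≠ j) (hjl : j ≠ l) (hil : i ≠ l) (a : Fˣ) (t : F) :
    D.W i j a * D.X i l t * (D.W i j a)⁻¹ = D.X i l ((a : F) * t) ∧
    D.W i j a * D.X j l t * (D.W i j a)⁻¹ = D.X j l ((a : F)⁻¹ * t) ∧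
    D.W i j a * D.X l i t * (D.W i j a)⁻¹ = D.X l i ((a : F)⁻¹ * t) := by
  obtain ⟨Ψ, hΨ⟩ := D.exists_triple hij hjl hil
  have hW : D.W i j a = Ψ (H40.SL3.dT (a, a⁻¹)) := by
    rw [← dT_word]
    simp only [map_mul, map_inv, hΨ 0 1 (by decide), hΨ 1 0 (by decide), W]
    rfl
  rw [hW]
  refine ⟨?_, ?_, ?_⟩
  · have e := congrArg Ψ (dT_tv a (show (0 : Fin 3) ≠ 2 by decide) t)
    simp only [map_mul, map_inv, hΨ 0 2 (by decide)] at e
    simpa using e
  · have e := congrArg Ψ (dT_tv a (show (1 : Fin 3) ≠ 2 by decide) t)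
    simp only [map_mul, map_inv, hΨ 1 2 (by decide)] at e
    simpa using e
  · have e := congrArg Ψ (dT_tv a (show (2 : Fin 3) ≠ 0 by decide) t)
    simp only [map_mul, map_inv, hΨ 2 0 (by decide)] at e
    simpa [mul_comm] using e

/-- Disjoint root groups commute once the elements at `1` do. -/
theorem disjoint_all [Fintype F] {i j k l : Fin n} (hij : i ≠ j) (hkl : k ≠ l) (hik : i ≠ k)
    (hil : i ≠ l) (hjk : j ≠ k) (hjl : j ≠ l) (h : Commute (D.X i j 1) (D.X k l 1)) (t u : F) :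
    Commute (D.X i j t) (D.X k l u) := by
  haveI : Finite F := Finite.of_fintype F
  have hscale : ∀ a b : Fˣ, Commute (D.X i j ((a : F) * (b : F)⁻¹))
      (D.X k l ((a : F)⁻¹ * (b : F)⁻¹)) := by
    intro a b
    have e1 := (D.W_act hik hjk.symm hij a (1 : F)).1
    have e2 := (D.W_act hik hkl hil a (1 : F)).2.1
    have h' := h.map (MulAut.conj (D.W i k a)).toMonoidHom
    simp only [MulEquiv.coe_toMonoidHom, MulAut.conj_apply, e1, e2, mul_one] at h'
    have e3 := (D.W_act hjk hik.symm hij.symm b (a : F)).2.2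
    have e4 := (D.W_act hjk hkl hjl b ((a : F)⁻¹)).2.1
    have h'' := h'.map (MulAut.conj (D.W j k b)).toMonoidHom
    simp only [MulEquiv.coe_toMonoidHom, MulAut.conj_apply, e3, e4] at h''
    rwa [mul_comm (b : F)⁻¹, mul_comm (b : F)⁻¹] at h''
  have h0 : ∀ {i j : Fin n}, i ≠ j → D.X i j 0 = 1 := fun {i j} hne => by
    have := D.X_add hne 0 0
    rwa [add_zero, left_eq_mul] at this
  have hsq : ∀ σ τ : F, Commute (D.X i j (σ * σ)) (D.X k l (τ * τ)) := by
    intro σ τ
    by_cases hσ : σ = 0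
    · subst hσ; rw [mul_zero, h0 hij]; exact Commute.one_left _
    by_cases hτ : τ = 0
    · subst hτ; rw [mul_zero, h0 hkl]; exact Commute.one_right _
    have e := hscale (Units.mk0 σ hσ * (Units.mk0 τ hτ)⁻¹) (Units.mk0 σ hσ * Units.mk0 τ hτ)⁻¹
    convert e using 2 <;> simp only [Units.val_mul, Units.val_inv_eq_inv_val, Units.val_mk0] <;> field_simp
  have hleft : ∀ τ s : F, Commute (D.X i j s) (D.X k l (τ * τ)) := by
    intro τ
    let S : AddSubgroup F :=
      { carrier := {s | Commute (D.X i j s) (D.X k l (τ * τ))}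
        zero_mem' := by simp [h0 hij]
        add_mem' := fun {a b} ha hb => by
          show Commute (D.X i j (a + b)) _
          rw [D.X_add hij]; exact Commute.mul_left ha hb
        neg_mem' := fun {a} ha => by
          show Commute (D.X i j (-a)) _
          have e : D.X i j (-a) = (D.X i j a)⁻¹ :=
            eq_inv_of_mul_eq_one_left (by rw [← D.X_add hij, neg_add_cancel, h0 hij])
          rw [e]; exact Commute.inv_left ha }
    have hS : S = ⊤ := H40.BlockPres.sq_span S fun σ => hsq σ τ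
    intro s
    show s ∈ S
    rw [hS]; trivial
  let S : AddSubgroup F :=
    { carrier := {s | Commute (D.X i j t) (D.X k l s)}
      zero_mem' := by simp [h0 hkl]
      add_mem' := fun {a b} ha hb => by
        show Commute _ (D.X k l (a + b))
        rw [D.X_add hkl]; exact Commute.mul_right ha hb
      neg_mem' := fun {a} ha => by
        show Commute _ (D.X k l (-a))
        have e : D.X k l (-a) = (D.X k l a)⁻¹ :=
          eq_inv_of_mul_eq_one_left (by rw [← D.X_add hkl, neg_add_cancel, h0 hkl])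
        rw [e]; exact Commute.inv_right ha }
  have hS : S = ⊤ := H40.BlockPres.sq_span S fun τ => hleft τ t
  show u ∈ S
  rw [hS]; trivial

theorem X_comm_disjoint [Fintype F] {i j k l : Fin n} (hij : i ≠ j) (hkl : k ≠ l) (hik : i ≠ k)
    (hil : i ≠ l) (hjk : j ≠ k) (hjl : j ≠ l) (t u : F) :
    Commute (D.X i j t) (D.X k l u) := by
  have hv : Function.Injective ![i, j, k, l] := by
    intro a b
    fin_cases a <;> fin_cases b <;>
      simp [hij, hkl, hik, hil, hjk, hjl, hij.symm, hkl.symm, hik.symm, hil.symm, hjk.symm,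
        hjl.symm]
  refine D.disjoint_all hij hkl hik hil hjk hjl ?_ t u
  have hb : D.X (q hn 0) (q hn 1) 1 = D.ψ (tv 0 1 1) := D.X_base (show (0 : Fin 3) ≠ 1 by decide) 1
  obtain ⟨g, hg | hg⟩ := exists_even_quad hn hv
  · have h := D.hD
    rw [← D.X_eq, dA_apply, dA_apply, ← hb] at h
    have h' := h.map (MulAut.conj (D.α g)).toMonoidHom
    simp only [MulEquiv.coe_toMonoidHom, MulAut.conj_apply] at h'
    rw [D.X_conj _ (q_ne hn (by decide)), D.X_conj _ (q_ne hn (by decide))] at h'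
    simp only [hg] at h'
    exact h'
  · have h := D.hD'
    rw [← D.X_eq, dA'_apply, dA'_apply, ← hb] at h
    have h' := h.map (MulAut.conj (D.α g)).toMonoidHom
    simp only [MulEquiv.coe_toMonoidHom, MulAut.conj_apply] at h'
    rw [D.X_conj _ (q_ne hn (by decide)), D.X_conj _ (q_ne hn (by decide))] at h'
    simp only [hg] at h'
    exact h'

theorem strel [Fintype F] : H40.StRel D.X where
  add _ _ h t u := D.X_add h t u
  chev _ _ _ hij hjl hil t u := D.X_chev hij hjl hil t u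
  comm i j k l hij hkl hil hjk t u := by
    by_cases hik : i = k
    · subst hik
      by_cases hjl : j = l
      · subst hjl
        show D.X i j t * D.X i j u = _
        rw [← D.X_add hij, ← D.X_add hij, add_comm]
      · exact D.X_comm_row hij hil hjl t u
    · by_cases hjl : j = l
      · subst hjl; exact D.X_comm_col hij hkl hik t u
      · exact D.X_comm_disjoint hij hkl hik hil hjk hjl t u

/-- The glued group is a quotient of `SL_n`. -/
theorem exists_surjective [Fintype F]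
    (htop : Subgroup.closure (Set.range D.α ∪ Set.range D.ψ) = ⊤) :
    ∃ Φ : SpecialLinearGroup (Fin n) F →* G, Function.Surjective Φ := by
  classical
  haveI : Finite F := Finite.of_fintype F
  let st := MulEquiv.ofBijective (H40.stHom n F) (H40.stHom_bijective (by omega))
  let Φ : SpecialLinearGroup (Fin n) F →* G :=
    (PresentedGroup.toGroup (H40.lift_stRels D.strel)).comp st.symm.toMonoidHom
  have hX : ∀ {i j : Fin n}, i ≠ j → ∀ t, Φ (tv i j t) = D.X i j t := by
    intro i j hij t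
    have h := H40.stHom_gen (K := F) hij t
    rw [H40.stGen_of hij] at h
    have : st.symm (SpecialLinearGroup.transvection hij t) =
        PresentedGroup.of (⟨(i, j), hij⟩, t) := st.symm_apply_eq.2 h.symm
    rw [tv_of hij]
    simp [Φ, this, PresentedGroup.toGroup.of]
  set N := Φ.range
  have hψ : ∀ M, D.ψ M ∈ N := H40.Glue.hom_mem D.ψ N fun a b h t =>
    ⟨tv (f3 hn a) (f3 hn b) t, by rw [hX ((f3_inj hn).ne h), D.X_base h]⟩
  have hnorm : ∀ (g : Alt n), ∀ y ∈ N, D.α g * y * (D.α g)⁻¹ ∈ N := by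
    rintro g _ ⟨S, rfl⟩
    exact H40.Glue.hom_mem ((MulAut.conj (D.α g)).toMonoidHom.comp Φ) N (fun i j h t => by
      show D.α g * Φ (tv i j t) * (D.α g)⁻¹ ∈ N
      rw [hX h, D.X_conj g h, ← hX ((g : Perm (Fin n)).injective.ne h)]
      exact ⟨_, rfl⟩) S
  have hc : D.α (cA hn) ∈ N := D.hI ▸ hψ _
  have hα : ∀ g : Alt n, D.α g ∈ N := by
    intro g
    have hab : q hn 0 ≠ q hn 1 := q_ne hn (by decide)
    have hg := H32.AltAut.mem_closure_tcyc hab g.2
    have key : ∀ x : Perm (Fin n), x ∈ Subgroup.closure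
        {y : Perm (Fin n) | ∃ c, c ≠ q hn 0 ∧ c ≠ q hn 1 ∧ y = H32.AltAut.tcyc (q hn 0) (q hn 1) c} →
        ∃ hx : x ∈ alternatingGroup (Fin n), D.α ⟨x, hx⟩ ∈ N := by
      intro x hx
      induction hx using Subgroup.closure_induction with
      | mem y hy =>
        obtain ⟨c, h0, h1, rfl⟩ := hy
        refine ⟨(H32.AltAut.tcyc_isThreeCycle hab h0.symm h1.symm).mem_alternatingGroup, ?_⟩
        obtain ⟨k, π, hπ, hk⟩ := exists_even_triple hn hab h1.symm h0.symm
        have e : H32.AltAut.tcyc (q hn 0) (q hn 1) c =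
            (k : Perm (Fin n)) * H32.AltAut.tcyc (f3 hn (π 0)) (f3 hn (π 1)) (f3 hn (π 2)) *
              (k : Perm (Fin n))⁻¹ := by
          rw [H32.AltAut.tcyc_conj, hk, hk, hk]
          rfl
        rcases hπ with rfl | rfl
        · have e' : (⟨_, (H32.AltAut.tcyc_isThreeCycle hab h0.symm h1.symm).mem_alternatingGroup⟩ :
              Alt n) = k * cA hn * k⁻¹ := Subtype.ext e
          rw [e', map_mul, map_mul, map_inv]
          exact hnorm k _ hc
        · have h3 : H32.AltAut.tcyc (f3 hn ((swap 0 1 : Perm (Fin 3)) 0))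
              (f3 hn ((swap 0 1 : Perm (Fin 3)) 1)) (f3 hn ((swap 0 1 : Perm (Fin 3)) 2)) =
              (cA hn : Perm (Fin n))⁻¹ := by
            show swap (q hn 1) (q hn 2) * swap (q hn 1) (q hn 0) =
              (swap (q hn 0) (q hn 2) * swap (q hn 0) (q hn 1))⁻¹
            rw [_root_.mul_inv_rev, Equiv.swap_inv, Equiv.swap_inv, Equiv.swap_comm (q hn 1) (q hn 0)]
            have h := Equiv.swap_apply_apply (swap (q hn 0) (q hn 1)) (q hn 0) (q hn 2)
            rw [Equiv.swap_apply_left, Equiv.swap_apply_of_ne_of_ne (q_ne hn (by decide))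
              (q_ne hn (by decide)), Equiv.swap_inv] at h
            rw [h, mul_assoc, Equiv.swap_mul_self, mul_one]
          rw [h3] at e
          have e' : (⟨_, (H32.AltAut.tcyc_isThreeCycle hab h0.symm h1.symm).mem_alternatingGroup⟩ :
              Alt n) = k * (cA hn)⁻¹ * k⁻¹ := Subtype.ext e
          rw [e', map_mul, map_mul, map_inv, map_inv]
          exact hnorm k _ (inv_mem hc)
      | one => exact ⟨one_mem _, by convert one_mem N; exact map_one D.α⟩
      | mul x y _ _ ihx ihy =>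
        obtain ⟨hx, hx'⟩ := ihx
        obtain ⟨hy, hy'⟩ := ihy
        refine ⟨mul_mem hx hy, ?_⟩
        convert mul_mem hx' hy' using 1
        rw [← map_mul]
        rfl
      | inv x _ ihx =>
        obtain ⟨hx, hx'⟩ := ihx
        refine ⟨inv_mem hx, ?_⟩
        convert inv_mem hx' using 1
        rw [← map_inv]
        rfl
    obtain ⟨_, hmem⟩ := key _ hg
    exact hmem
  refine ⟨Φ, ?_⟩
  rw [← MonoidHom.range_eq_top, eq_top_iff, ← htop, Subgroup.closure_le]
  rintro x (⟨g, rfl⟩ | ⟨M, rfl⟩)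
  · exact hα g
  · exact hψ M

end Glue

end H69.AltGlue
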