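import Mathlib

/-!
Groups with a Bruhat decomposition of rank one: the product relations propagate from a few of them.
-/

set_option autoImplicit false
set_option linter.unusedSectionVars false

namespace H69.BruhatOne

universe u v

variable {Γ : Type u} [Group Γ] {G : Type v} [Group G]

/-- A rank one decomposition of the model. -/
structure Model (Q T : Subgroup Γ) (w : Γ) : Prop where
  ww : w * w = 1
  hwt : ∀ t ∈ T, w * t * w ∈ T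
  hnorm : ∀ t ∈ T, ∀ u ∈ Q, t * u * t⁻¹ ∈ Q
  small : ∀ u ∈ Q, ∀ t ∈ T, u * t = 1 → u = 1 ∧ t = 1
  big : ∀ u ∈ Q, ∀ t ∈ T, ∀ v ∈ Q, u * w * t * v ∈ Q ⊔ T → False
  uniq : ∀ u ∈ Q, ∀ t ∈ T, ∀ v ∈ Q, ∀ u' ∈ Q, ∀ t' ∈ T, ∀ v' ∈ Q,
    u * w * t * v = u' * w * t' * v' → u = u' ∧ t = t' ∧ v = v'
  dec : ∀ u ∈ Q, u ≠ 1 → ∃ a ∈ Q, ∃ t ∈ T, ∃ b ∈ Q, w * u * w = a * w * t * b

variable {Q T : Subgroup Γ} {w : Γ}

/-- Compatible images of the pieces. -/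
structure Data (π : G →* Γ) (x : Q →* G) (h : T →* G) (w : Γ) (W : G) : Prop where
  πx : ∀ u, π (x u) = u.1
  πh : ∀ t, π (h t) = t.1
  πw : π W = w
  WW : W * W = 1
  conj : ∀ (t : T) (u : Q) (hm : t.1 * u.1 * t.1⁻¹ ∈ Q), h t * x u * (h t)⁻¹ = x ⟨_, hm⟩
  Wh : ∀ (t : T) (hm : w * t.1 * w ∈ T), W * h t * W = h ⟨_, hm⟩

/-- The product relation at an element. -/
def Rel (x : Q →* G) (h : T →* G) (w : Γ) (W : G) (u : Q) : Prop :=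
  ∀ (a : Q) (t : T) (b : Q), w * u.1 * w = a.1 * w * t.1 * b.1 →
    W * x u * W = x a * W * h t * x b

variable (M : Model Q T w) {π : G →* Γ} {x : Q →* G} {h : T →* G} {W : G} (D : Data π x h w W)
include M D

theorem rel_intro {u a : Q} {t : T} {b : Q} (e : w * u.1 * w = a.1 * w * t.1 * b.1)
    (e' : W * x u * W = x a * W * h t * x b) : Rel x h w W u := by
  intro a' t' b' e''
  obtain ⟨ea, et, eb⟩ := M.uniq _ a.2 _ t.2 _ b.2 _ a'.2 _ t'.2 _ b'.2 (e.symm.trans e'')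
  rw [e', Subtype.ext ea, Subtype.ext et, Subtype.ext eb]

theorem swap (t : T) (v : Q) : h t * x v =
    x ⟨_, M.hnorm t.1 t.2 v.1 v.2⟩ * h t := by
  rw [← D.conj t v (M.hnorm t.1 t.2 v.1 v.2), inv_mul_cancel_right]

theorem wswap (t : T) : W * h t = h ⟨_, M.hwt t.1 t.2⟩ * W := by
  rw [← D.Wh t (M.hwt t.1 t.2), mul_assoc (W * h t), D.WW, mul_one]

theorem wmul (g : G) : W * (W * g) = g := by rw [← mul_assoc, D.WW, one_mul]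

theorem rel_conj {u : Q} (hu : Rel x h w W u) (hu1 : u ≠ 1) (t : T) :
    Rel x h w W ⟨_, M.hnorm t.1 t.2 u.1 u.2⟩ := by
  obtain ⟨a, ha, s, hs, b, hb, e⟩ := M.dec u.1 u.2 (fun z => hu1 (Subtype.ext z))
  have e' := hu ⟨a, ha⟩ ⟨s, hs⟩ ⟨b, hb⟩ e
  set t' : T := ⟨_, M.hwt t.1 t.2⟩ with ht'
  have eW : W * x ⟨_, M.hnorm t.1 t.2 u.1 u.2⟩ * W = h t' * (W * x u * W) * h t'⁻¹ := by
    rw [← D.conj t u, map_inv, ← D.Wh t (M.hwt t.1 t.2), _root_.mul_inv_rev, _root_.mul_inv_rev,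
      inv_eq_of_mul_eq_one_right D.WW]
    simp only [mul_assoc, wmul M D]
  set a' : Q := ⟨_, M.hnorm t'.1 t'.2 a ha⟩
  set b' : Q := ⟨_, M.hnorm t'.1 t'.2 b hb⟩
  set s' : T := ⟨_, M.hwt t'.1 t'.2⟩ * ⟨s, hs⟩ * t'⁻¹
  have eG : W * x ⟨_, M.hnorm t.1 t.2 u.1 u.2⟩ * W = x a' * W * h s' * x b' := by
    rw [eW, e']
    calc h t' * (x ⟨a, ha⟩ * W * h ⟨s, hs⟩ * x ⟨b, hb⟩) * h t'⁻¹
        = (h t' * x ⟨a, ha⟩) * (W * h ⟨s, hs⟩ * (x ⟨b, hb⟩ * (h t')⁻¹)) := by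
          rw [map_inv]; group
      _ = x a' * (h t' * W) * h ⟨s, hs⟩ * (x ⟨b, hb⟩ * (h t')⁻¹) := by
          rw [show h t' * x ⟨a, ha⟩ = x a' * h t' from swap M D t' ⟨a, ha⟩]
          simp only [mul_assoc]
      _ = x a' * (W * h ⟨_, M.hwt t'.1 t'.2⟩) * h ⟨s, hs⟩ * ((h t')⁻¹ * x b') := by
          rw [wswap M D ⟨_, M.hwt t'.1 t'.2⟩,
            show (⟨w * (w * t'.1 * w) * w, _⟩ : T) = t' from Subtype.ext (by
              show w * (w * t'.1 * w) * w = t'.1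
              simp [← mul_assoc, M.ww, mul_assoc t'.1]),
            show x ⟨b, hb⟩ * (h t')⁻¹ = (h t')⁻¹ * x b' by
              rw [eq_inv_mul_iff_mul_eq, ← mul_assoc, swap M D t', mul_inv_cancel_right]]
      _ = x a' * W * h s' * x b' := by simp only [s', map_mul, map_inv]; group
  have eΓ := congrArg π eG
  simp only [map_mul, D.πx, D.πh, D.πw] at eΓ
  exact rel_intro M D eΓ eG

theorem rel_mul {u v : Q} (hu : Rel x h w W u) (hv : Rel x h w W v) (hu1 : u ≠ 1) (hv1 : v ≠ 1)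
    (huv : u * v ≠ 1)
    (hs : ∀ (a : Q) (t : T) (b : Q) (c : Q) (t' : T) (d : Q),
      w * u.1 * w = a.1 * w * t.1 * b.1 → w * v.1 * w = c.1 * w * t'.1 * d.1 →
      Rel x h w W ⟨_, M.hnorm t.1 t.2 (b * c).1 (b * c).2⟩) :
    Rel x h w W (u * v) := by
  obtain ⟨a, ha, t, ht, b, hb, e⟩ := M.dec u.1 u.2 (fun z => hu1 (Subtype.ext z))
  obtain ⟨c, hc, t', ht', d, hd, f⟩ := M.dec v.1 v.2 (fun z => hv1 (Subtype.ext z))
  have e' := hu ⟨a, ha⟩ ⟨t, ht⟩ ⟨b, hb⟩ e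
  have f' := hv ⟨c, hc⟩ ⟨t', ht'⟩ ⟨d, hd⟩ f
  set s : Q := ⟨_, M.hnorm t ht ((⟨b, hb⟩ : Q) * ⟨c, hc⟩).1 ((⟨b, hb⟩ : Q) * ⟨c, hc⟩).2⟩
  have hsR : Rel x h w W s := hs ⟨a, ha⟩ ⟨t, ht⟩ ⟨b, hb⟩ ⟨c, hc⟩ ⟨t', ht'⟩ ⟨d, hd⟩ e f
  set t₁ : T := ⟨_, M.hwt t ht⟩ * ⟨t', ht'⟩ with ht₁
  have eG0 : W * x (u * v) * W = x ⟨a, ha⟩ * (W * x s * W) * h t₁ * x ⟨d, hd⟩ := by
    calc W * x (u * v) * W = (W * x u * W) * (W * x v * W) := by
          rw [map_mul]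
          simp only [mul_assoc]
          rw [← mul_assoc W W, D.WW, one_mul]
      _ = x ⟨a, ha⟩ * W * (h ⟨t, ht⟩ * x (⟨b, hb⟩ * ⟨c, hc⟩)) * W * h ⟨t', ht'⟩ * x ⟨d, hd⟩ := by
          rw [e', f', map_mul]; group
      _ = x ⟨a, ha⟩ * W * x s * (h ⟨t, ht⟩ * W) * h ⟨t', ht'⟩ * x ⟨d, hd⟩ := by
          rw [show h ⟨t, ht⟩ * x (⟨b, hb⟩ * ⟨c, hc⟩) = x s * h ⟨t, ht⟩ from swap M D ⟨t, ht⟩ _]
          simp only [mul_assoc]
      _ = x ⟨a, ha⟩ * (W * x s * W) * h t₁ * x ⟨d, hd⟩ := by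
          have hh : h ⟨t, ht⟩ * W = W * h ⟨_, M.hwt t ht⟩ := by
            rw [← D.Wh ⟨t, ht⟩ (M.hwt t ht), ← mul_assoc, ← mul_assoc, D.WW, one_mul]
          rw [hh, ht₁, map_mul]; group
  have hs1 : s ≠ 1 := fun z => by
    have h1 := congrArg π eG0
    rw [z, map_one, mul_one, D.WW, mul_one] at h1
    simp only [map_mul, D.πx, D.πh, D.πw] at h1
    obtain ⟨a', ha', s', hs', b', hb', g⟩ :=
      M.dec (u.1 * v.1) (Q.mul_mem u.2 v.2) (fun z => huv (Subtype.ext z))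
    refine M.big a' ha' s' hs' b' hb' ?_
    rw [← g, h1]
    exact mul_mem (mul_mem (Subgroup.mem_sup_left ha) (Subgroup.mem_sup_right t₁.2))
      (Subgroup.mem_sup_left hd)
  obtain ⟨p, hp, ts, hts, r, hr, g⟩ := M.dec s.1 s.2 (fun z => hs1 (Subtype.ext z))
  have g' := hsR ⟨p, hp⟩ ⟨ts, hts⟩ ⟨r, hr⟩ g
  set r' : Q := ⟨_, M.hnorm t₁⁻¹.1 t₁⁻¹.2 r hr⟩
  have eG : W * x (u * v) * W =
      x (⟨a, ha⟩ * ⟨p, hp⟩) * W * h (⟨ts, hts⟩ * t₁) * x (r' * ⟨d, hd⟩) := by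
    have hr' : x ⟨r, hr⟩ * h t₁ = h t₁ * x r' := by
      rw [← show h t₁⁻¹ * x ⟨r, hr⟩ * (h t₁⁻¹)⁻¹ = x r' from D.conj t₁⁻¹ ⟨r, hr⟩ _, map_inv]
      group
    rw [eG0, g', map_mul x ⟨a, ha⟩ ⟨p, hp⟩, map_mul h ⟨ts, hts⟩ t₁, map_mul x r' ⟨d, hd⟩]
    calc x ⟨a, ha⟩ * (x ⟨p, hp⟩ * W * h ⟨ts, hts⟩ * x ⟨r, hr⟩) * h t₁ * x ⟨d, hd⟩
        = x ⟨a, ha⟩ * x ⟨p, hp⟩ * W * h ⟨ts, hts⟩ * (x ⟨r, hr⟩ * h t₁) * x ⟨d, hd⟩ := by group
      _ = _ := by rw [hr']; group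
  have eΓ := congrArg π eG
  simp only [map_mul, D.πx, D.πh, D.πw] at eΓ
  exact rel_intro M D eΓ eG

theorem injective (hall : ∀ u : Q, u ≠ 1 → Rel x h w W u)
    (hgen : Subgroup.closure (Set.range x ∪ Set.range h ∪ {W}) = ⊤) : Function.Injective π := by
  set N : Set G := {g | (∃ u t, g = x u * h t) ∨ ∃ u t v, g = x u * W * h t * x v}
  have mulx : ∀ (u : Q) (g : G), g ∈ N → x u * g ∈ N := by
    rintro u g (⟨u', t, rfl⟩ | ⟨u', t, v, rfl⟩)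
    · exact Or.inl ⟨u * u', t, by rw [map_mul, mul_assoc]⟩
    · exact Or.inr ⟨u * u', t, v, by rw [map_mul]; group⟩
  have mulh : ∀ (s : T) (g : G), g ∈ N → h s * g ∈ N := by
    rintro s g (⟨u', t, rfl⟩ | ⟨u', t, v, rfl⟩)
    · exact Or.inl ⟨⟨_, M.hnorm s.1 s.2 u'.1 u'.2⟩, s * t,
        by rw [← mul_assoc, swap M D, map_mul, mul_assoc]⟩
    · refine Or.inr ⟨⟨_, M.hnorm s.1 s.2 u'.1 u'.2⟩, ⟨_, M.hwt s.1 s.2⟩ * t, v, ?_⟩
      have hh : h s * W = W * h ⟨_, M.hwt s.1 s.2⟩ := by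
        rw [← D.Wh s (M.hwt s.1 s.2), ← mul_assoc, ← mul_assoc, D.WW, one_mul]
      rw [map_mul]
      calc h s * (x u' * W * h t * x v) = (h s * x u') * W * h t * x v := by group
        _ = x ⟨_, M.hnorm s.1 s.2 u'.1 u'.2⟩ * (h s * W) * h t * x v := by
          rw [swap M D]; group
        _ = _ := by rw [hh]; group
  have mulW : ∀ g : G, g ∈ N → W * g ∈ N := by
    rintro g (⟨u, t, rfl⟩ | ⟨u, t, v, rfl⟩)
    · refine Or.inr ⟨1, t, ⟨_, M.hnorm t⁻¹.1 t⁻¹.2 u.1 u.2⟩, ?_⟩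
      rw [← D.conj t⁻¹ u, map_one, map_inv]
      group
    · rcases eq_or_ne u 1 with rfl | hu
      · refine Or.inl ⟨⟨_, M.hnorm t.1 t.2 v.1 v.2⟩, t, ?_⟩
        rw [map_one, one_mul, ← mul_assoc, ← mul_assoc, D.WW, one_mul, swap M D]
      · obtain ⟨a, ha, s, hs, b, hb, e⟩ := M.dec u.1 u.2 (fun z => hu (Subtype.ext z))
        have e' := hall u hu ⟨a, ha⟩ ⟨s, hs⟩ ⟨b, hb⟩ e
        refine Or.inr ⟨⟨a, ha⟩, ⟨s, hs⟩ * t, ⟨_, M.hnorm t⁻¹.1 t⁻¹.2 b hb⟩ * v, ?_⟩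
        rw [map_mul, map_mul, ← D.conj t⁻¹ ⟨b, hb⟩, map_inv,
          show W * (x u * W * h t * x v) = (W * x u * W) * h t * x v by group, e']
        group
  have hall' : ∀ g, g ∈ N := by
    intro g
    have hg : g ∈ Subgroup.closure (Set.range x ∪ Set.range h ∪ {W}) := hgen ▸ Subgroup.mem_top g
    induction hg using Subgroup.closure_induction_left with
    | one => exact Or.inl ⟨1, 1, by simp⟩
    | mul_left a ha y _ ih =>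
      rcases ha with (⟨u, rfl⟩ | ⟨s, rfl⟩) | ha
      · exact mulx u y ih
      · exact mulh s y ih
      · rw [Set.mem_singleton_iff.1 ha]; exact mulW y ih
    | inv_mul_cancel a ha y _ ih =>
      rcases ha with (⟨u, rfl⟩ | ⟨s, rfl⟩) | ha
      · rw [← map_inv]; exact mulx _ y ih
      · rw [← map_inv]; exact mulh _ y ih
      · rw [Set.mem_singleton_iff.1 ha, inv_eq_of_mul_eq_one_right D.WW]; exact mulW y ih
  refine (injective_iff_map_eq_one π).2 fun g hg => ?_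
  rcases hall' g with ⟨u, t, rfl⟩ | ⟨u, t, v, rfl⟩
  · rw [map_mul, D.πx, D.πh] at hg
    obtain ⟨e1, e2⟩ := M.small _ u.2 _ t.2 hg
    rw [show u = 1 from Subtype.ext e1, show t = 1 from Subtype.ext e2, map_one, map_one, one_mul]
  · simp only [map_mul, D.πx, D.πh, D.πw] at hg
    exact absurd (M.big _ u.2 _ t.2 _ v.2 (by rw [hg]; exact one_mem _)) (fun z => z)

end H69.BruhatOne
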