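import Mathlib
import Cfsg.Agent.H6.Extraspecial
import Cfsg.Agent.H93.Basic
import Cfsg.Agent.H83.CoprimeAbelian

/-! Extraspecial subgroups of extraspecial 2-groups. -/

set_option autoImplicit false

namespace H69

open scoped commutatorElement

variable {G : Type*} [Group G]

theorem extra_comm_mem {Q : Subgroup G} {p : ℕ} (hQ : Cfsg.IsExtraspecial p Q) {x y : G}
    (hx : x ∈ Q) (hy : y ∈ Q) : ⁅x, y⁆ ∈ (Subgroup.center Q).map Q.subtype :=
  ⟨⁅(⟨x, hx⟩ : Q), (⟨y, hy⟩ : Q)⁆, H6.extraspecial_commutator_mem_center hQ _ _,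
    by simp [commutatorElement_def]⟩

theorem extra_sq_mem [Finite G] {Q : Subgroup G} (hQ : Cfsg.IsExtraspecial 2 Q) {x : G}
    (hx : x ∈ Q) : x * x ∈ (Subgroup.center Q).map Q.subtype := by
  have := Fact.mk Nat.prime_two
  exact ⟨(⟨x, hx⟩ : Q) ^ 2, H6.extraspecial_pow_mem_center hQ _, by simp [pow_two]⟩

/-- A nonabelian subgroup of an extraspecial 2-group whose centre lies in the centre of the big
group is extraspecial. -/
theorem isExtraspecial_two_sub [Finite G] {Q M : Subgroup G} (hQ : Cfsg.IsExtraspecial 2 Q)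
    (hM : M ≤ Q)
    (hc : ∀ x ∈ M, (∀ m ∈ M, m * x = x * m) → x ∈ (Subgroup.center Q).map Q.subtype)
    (hna : ∃ a ∈ M, ∃ b ∈ M, a * b ≠ b * a) : Cfsg.IsExtraspecial 2 M := by
  have := Fact.mk Nat.prime_two
  obtain ⟨z, hz, hZ⟩ := H93.exists_centre_gen hQ
  have hp : IsPGroup 2 M := IsPGroup.of_injective hQ.1.1 (Subgroup.inclusion hM)
    (Subgroup.inclusion_injective hM)
  obtain ⟨a, ha, b, hb, hab⟩ := hna
  have hzM : z ∈ M := by
    have h1 : ⁅a, b⁆ ∈ Subgroup.zpowers z := hZ ▸ extra_comm_mem hQ (hM ha) (hM hb)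
    rcases H93.zpowers_two_cases hz h1 with h | h
    · exact absurd (commutatorElement_eq_one_iff_mul_comm.mp h) hab
    · rw [← h, commutatorElement_def]
      exact mul_mem (mul_mem (mul_mem ha hb) (inv_mem ha)) (inv_mem hb)
  have hzc : ∀ q ∈ Q, q * z = z * q :=
    (H93.mem_centerMap.mp (hZ ▸ Subgroup.mem_zpowers z)).2
  -- membership in the centre of M
  have hcen : ∀ m : M, m ∈ Subgroup.center M ↔ (m : G) ∈ (Subgroup.center Q).map Q.subtype := by
    intro m
    refine ⟨fun h => hc m m.2 fun x hx => congrArg Subtype.val (Subgroup.mem_center_iff.mp h ⟨x, hx⟩),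
      fun h => Subgroup.mem_center_iff.mpr fun x => Subtype.ext ((H93.mem_centerMap.mp h).2 x (hM x.2))⟩
  have hcard : Nat.card (Subgroup.center M) = 2 := by
    have he : (Subgroup.center M).map M.subtype = (Subgroup.center Q).map Q.subtype := by
      refine le_antisymm ?_ ?_
      · rintro x ⟨m, hm, rfl⟩
        exact (hcen m).mp hm
      · intro x hx
        have hxM : x ∈ M := by
          rw [hZ] at hx
          rcases H93.zpowers_two_cases hz hx with rfl | rfl
          · exact one_mem _
          · exact hzM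
        exact ⟨⟨x, hxM⟩, (hcen _).mpr hx, rfl⟩
    rw [← H93.card_centerMap hQ, ← he]
    exact Nat.card_congr (Subgroup.equivMapOfInjective _ M.subtype M.subtype_injective).toEquiv
  have hcomm : commutator M ≤ Subgroup.center M := by
    rw [commutator_def, Subgroup.commutator_le]
    intro x _ y _
    rw [hcen]
    simpa [commutatorElement_def] using extra_comm_mem hQ (hM x.2) (hM y.2)
  have hcomm' : commutator M = Subgroup.center M := by
    refine Subgroup.eq_of_le_of_card_ge hcomm ?_
    rw [hcard]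
    refine (Subgroup.one_lt_card_iff_ne_bot _).mpr fun h => hab ?_
    have h1 : (⁅(⟨a, ha⟩ : M), (⟨b, hb⟩ : M)⁆) ∈ commutator M := by
      rw [commutator_def]
      exact Subgroup.commutator_mem_commutator (Subgroup.mem_top _) (Subgroup.mem_top _)
    rw [h, Subgroup.mem_bot, commutatorElement_eq_one_iff_mul_comm] at h1
    exact congrArg Subtype.val h1
  refine ⟨⟨hp, le_antisymm ?_ ?_, hcomm'⟩, hcard⟩
  · refine H6.frattini_le_of_quotient (p := 2) _ hcomm fun g => ?_
    rw [hcen]
    simpa [pow_two] using extra_sq_mem hQ (hM g.2)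
  · rw [← hcomm']
    exact H6.commutator_le_frattini hp

end H69

namespace H69

open scoped commutatorElement

variable {G : Type*} [Group G]

/-- Coprime action on an extraspecial 2-group centralising its centre: an element of the fixed
subgroup that commutes with the fixed subgroup is central. -/
theorem central_of_fixed [Finite G] {Q A : Subgroup G} (hE : Cfsg.IsExtraspecial 2 Q)
    (hA : A ≤ Subgroup.normalizer (Q : Set G)) (hAodd : Odd (Nat.card A))
    (hZA : ∀ x ∈ (Subgroup.center Q).map Q.subtype, ∀ a ∈ A, a * x = x * a)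
    {x : G} (hx : x ∈ Q ⊓ Subgroup.centralizer (A : Set G))
    (h : ∀ c ∈ Q ⊓ Subgroup.centralizer (A : Set G), c * x = x * c) :
    x ∈ (Subgroup.center Q).map Q.subtype := by
  have hfact := Fact.mk Nat.prime_two
  have hsol : Group.IsSolvable Q := by
    haveI := hE.1.1.isNilpotent
    infer_instance
  have hcop : (Nat.card A).Coprime (Nat.card Q) := by
    obtain ⟨n, hn⟩ := IsPGroup.iff_card.mp hE.1.1
    rw [hn]
    exact (Nat.Coprime.pow_left n (Nat.coprime_two_left.mpr hAodd)).symm
  set C := Q ⊓ Subgroup.centralizer (A : Set G) with hC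
  have hsup : ⁅Q, A⁆ ⊔ C = Q := H83.commutator_sup_centralizer hA hsol hcop
  have hAC : ⁅A, C⁆ = ⊥ := by
    rw [Subgroup.commutator_comm, Subgroup.commutator_eq_bot_iff_le_centralizer]
    exact inf_le_right
  have hCQA : ⁅⁅C, Q⁆, A⁆ = ⊥ := by
    rw [Subgroup.commutator_eq_bot_iff_le_centralizer, Subgroup.commutator_le]
    exact fun u hu y hy => Subgroup.mem_centralizer_iff.mpr (hZA _ (extra_comm_mem hE hu.1 hy))
  have hPC : ⁅⁅Q, A⁆, C⁆ = ⊥ :=
    Subgroup.commutator_commutator_eq_bot_of_rotate (H₁ := Q) (H₂ := A) (H₃ := C)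
      (by rw [hAC, Subgroup.commutator_bot_left]) hCQA
  refine H93.mem_centerMap.mpr ⟨hx.1, fun q hq => ?_⟩
  have hle : ⁅Q, A⁆ ⊔ C ≤ Subgroup.centralizer ({x} : Set G) := by
    refine sup_le (fun y hy => ?_) (fun c hc => Subgroup.mem_centralizer_singleton_iff.mpr (h c hc))
    exact Subgroup.mem_centralizer_singleton_iff.mpr (commutatorElement_eq_one_iff_mul_comm.mp
      ((Subgroup.eq_bot_iff_forall _).mp hPC _ (Subgroup.commutator_mem_commutator hy hx)))
  exact Subgroup.mem_centralizer_singleton_iff.mp (hle (hsup.symm ▸ hq))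

end H69
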