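import Mathlib
import Cfsg.Agent.CompBasic
import Cfsg.Agent.H31.InvariantMax
import Cfsg.Agent.H31.Basic
import Cfsg.Agent.H6.Basic

/-!
`2`-groups with an upper central series of small steps: the fourth term has order `16`.
-/

set_option autoImplicit false

namespace H69

open Subgroup
open scoped commutatorElement

/-- Hypotheses. -/
structure Z4Data {T : Type*} [Group T] (W : Subgroup T) : Prop where
  two : IsPGroup 2 T
  big : 2 ^ 14 ≤ Nat.card T
  four : Nat.card ↥(Subgroup.upperCentralSeries T 4) = 16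
  hW : W = centralizer ((Subgroup.upperCentralSeries T 3 : Subgroup T) : Set T)
  small : Nat.card ↥(frattini ↥W) ≤ 8
  deep : ∀ U : Subgroup ↥W, U.index ≤ 16 → frattini ↥W ≤ U

namespace Z4Data

variable {T : Type*} [Group T] [Finite T] {W : Subgroup T}

theorem mem_succ {i : ℕ} {x : T} : x ∈ Subgroup.upperCentralSeries T (i + 1) ↔ ∀ g : T, ⁅x, g⁆ ∈ Subgroup.upperCentralSeries T i := by
  rw [Subgroup.mem_upperCentralSeries_succ_iff]

theorem z0 : Subgroup.upperCentralSeries T 0 = ⊥ := Subgroup.upperCentralSeries_zero T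

theorem zs_strict (h : Z4Data W) {i : ℕ} (hi : Subgroup.upperCentralSeries T i ≠ ⊤) : Subgroup.upperCentralSeries T i < Subgroup.upperCentralSeries T (i + 1) := by
  refine lt_of_le_of_ne (Subgroup.upperCentralSeries_mono T (Nat.le_succ i)) fun he => hi ?_
  have : Group.IsNilpotent T := h.two.isNilpotent
  obtain ⟨n, hn⟩ := Group.IsNilpotent.nilpotent (G := T)
  have hst : ∀ m, Subgroup.upperCentralSeries T (i + m) = Subgroup.upperCentralSeries T i := by
    intro m
    induction m with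
    | zero => rfl
    | succ m ih =>
      refine le_antisymm (fun x hx => ?_) (Subgroup.upperCentralSeries_mono T (by omega))
      rw [he]
      refine mem_succ.2 fun g => ?_
      rw [← ih]
      exact mem_succ.1 hx g
  exact top_unique (hn.ge.trans ((Subgroup.upperCentralSeries_mono T (Nat.le_add_left n i)).trans
    (hst n).le))

theorem card_zs (h : Z4Data W) : ∀ i ≤ 4, Nat.card ↥(Subgroup.upperCentralSeries T i) = 2 ^ i := by
  have := Fact.mk Nat.prime_two
  have hne : ∀ i ≤ 4, Subgroup.upperCentralSeries T i ≠ ⊤ := by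
    intro i hi he
    have h1 : Subgroup.upperCentralSeries T 4 = ⊤ := top_unique (he.ge.trans (Subgroup.upperCentralSeries_mono T hi))
    have := h.four
    rw [h1, Subgroup.card_top] at this
    have := h.big
    omega
  have hstep : ∀ i ≤ 4, 2 * Nat.card ↥(Subgroup.upperCentralSeries T i) ≤ Nat.card ↥(Subgroup.upperCentralSeries T (i + 1)) := by
    intro i hi
    have hlt := h.zs_strict (hne i hi)
    obtain ⟨k, hk⟩ := Subgroup.card_dvd_of_le hlt.le
    rw [hk, mul_comm 2]
    refine Nat.mul_le_mul_left _ ?_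
    by_contra h2
    have : k = 0 ∨ k = 1 := by omega
    rcases this with rfl | rfl
    · rw [mul_zero] at hk; exact Nat.card_pos.ne' hk
    · rw [mul_one] at hk
      exact hlt.ne (Subgroup.eq_of_le_of_card_ge hlt.le hk.le)
  have h0 : Nat.card ↥(Subgroup.upperCentralSeries T 0) = 1 := by rw [z0, Subgroup.card_bot]
  have := hstep 0 (by omega); have := hstep 1 (by omega)
  have := hstep 2 (by omega); have := hstep 3 (by omega)
  have := h.four
  intro i hi
  simp only [zero_add] at *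
  interval_cases i <;> simp only [Nat.reducePow, Nat.reduceAdd] at * <;> omega

theorem normal_le (h : Z4Data W) : ∀ (k : ℕ) (N : Subgroup T), N.Normal → Nat.card N ≤ 2 ^ k →
    N ≤ Subgroup.upperCentralSeries T k := by
  have := Fact.mk Nat.prime_two
  intro k
  induction k with
  | zero =>
    intro N _ hN
    rw [Subgroup.eq_bot_of_card_eq N (le_antisymm (by simpa using hN) Nat.card_pos)]
    exact bot_le
  | succ k ih =>
    intro N hNn hN
    by_cases hN0 : N = ⊥
    · rw [hN0]; exact bot_le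
    have hlt : ⁅N, (⊤ : Subgroup T)⁆ < N :=
      Cfsg.Comp.commutator_lt_of_nilpotent le_top
        (by have := h.two.isNilpotent; exact (Subgroup.topEquiv (G := T)).symm |> fun e => Group.nilpotent_of_mulEquiv e)
        (by rw [Subgroup.normalizer_eq_top_iff.2 hNn]) hN0
    have hle : Nat.card ↥⁅N, (⊤ : Subgroup T)⁆ ≤ 2 ^ k := by
      obtain ⟨c, hc⟩ := Subgroup.card_dvd_of_le hlt.le
      have hc2 : 2 ≤ c := by
        by_contra h2
        have : c = 0 ∨ c = 1 := by omega
        rcases this with rfl | rfl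
        · rw [mul_zero] at hc; exact Nat.card_pos.ne' hc
        · rw [mul_one] at hc; exact hlt.ne (Subgroup.eq_of_le_of_card_ge hlt.le hc.le)
      rw [pow_succ] at hN
      nlinarith
    exact fun x hx => mem_succ.2 fun g =>
      ih _ inferInstance hle (Subgroup.commutator_mem_commutator hx (Subgroup.mem_top g))

theorem eq_zs (h : Z4Data W) {k : ℕ} (hk : k ≤ 4) {N : Subgroup T} (hn : N.Normal)
    (hN : Nat.card N = 2 ^ k) : N = Subgroup.upperCentralSeries T k :=
  Subgroup.eq_of_le_of_card_ge (h.normal_le k N hn hN.le) (by rw [h.card_zs k hk, hN])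

theorem above (h : Z4Data W) {k : ℕ} (hk : k ≤ 3) {N : Subgroup T} [N.Normal] (hle : Subgroup.upperCentralSeries T k ≤ N)
    (hne : ¬ N ≤ Subgroup.upperCentralSeries T k) : Subgroup.upperCentralSeries T (k + 1) ≤ N := by
  have := Fact.mk Nat.prime_two
  set f := QuotientGroup.mk' (Subgroup.upperCentralSeries T k)
  have hM : N.map f ≠ ⊥ := by
    rw [Ne, Subgroup.map_eq_bot_iff, QuotientGroup.ker_mk']; exact hne
  have : (N.map f).Normal := (inferInstance : N.Normal).map f (QuotientGroup.mk'_surjective _)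
  have h2 : IsPGroup 2 (T ⧸ Subgroup.upperCentralSeries T k) := h.two.to_quotient _
  have hd : 2 ∣ Nat.card (N.map f) :=
    (h2.to_subgroup _).card_eq_or_dvd.resolve_left fun he => hM (Subgroup.eq_bot_of_card_eq _ he)
  have h1 : (1 : N.map f) ∈ MulAction.fixedPoints (ConjAct (T ⧸ Subgroup.upperCentralSeries T k)) (N.map f) := fun g => smul_one g
  obtain ⟨⟨b, hb⟩, hbf, hb1⟩ :=
    (h2.of_equiv ConjAct.toConjAct).exists_fixed_point_of_prime_dvd_card_of_fixed_point _ hd h1
  obtain ⟨x, hxN, rfl⟩ := hb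
  have hx : x ∉ Subgroup.upperCentralSeries T k := fun hx => hb1 (Subtype.ext ((QuotientGroup.eq_one_iff x).2 hx).symm)
  have hx1 : x ∈ Subgroup.upperCentralSeries T (k + 1) := mem_succ.2 fun g => by
    refine (QuotientGroup.eq_one_iff _).1 ?_
    show f ⁅x, g⁆ = 1
    have hg := congrArg Subtype.val (hbf (ConjAct.toConjAct (f g)))
    rw [ConjAct.Subgroup.val_conj_smul, ConjAct.toConjAct_smul] at hg
    rw [map_commutatorElement, commutatorElement_eq_one_iff_mul_comm]
    exact (mul_inv_eq_iff_eq_mul.1 hg).symm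
  have hlt : Subgroup.upperCentralSeries T k < N ⊓ Subgroup.upperCentralSeries T (k + 1) :=
    lt_of_le_of_ne (le_inf hle (Subgroup.upperCentralSeries_mono T (Nat.le_succ k)))
      fun he => hx (he ▸ ⟨hxN, hx1⟩)
  refine le_trans (Subgroup.eq_of_le_of_card_ge inf_le_right ?_).ge inf_le_left
  obtain ⟨c, hc⟩ := Subgroup.card_dvd_of_le hlt.le
  rw [h.card_zs (k + 1) (by omega)]
  rw [h.card_zs k (by omega)] at hc
  have hc2 : 2 ≤ c := by
    by_contra h2
    have : c = 0 ∨ c = 1 := by omega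
    rcases this with rfl | rfl
    · rw [mul_zero] at hc; exact Nat.card_pos.ne' hc
    · rw [mul_one] at hc
      exact hlt.ne (Subgroup.eq_of_le_of_card_ge hlt.le (by rw [h.card_zs k (by omega), hc]))
  rw [hc, pow_succ]
  exact Nat.mul_le_mul_left _ hc2

theorem normal (h : Z4Data W) : W.Normal := by
  rw [h.hW]; infer_instance

theorem eq_of_gens (h : Z4Data W) {i : ℕ} (hi : i ≤ 3) {e : T} (he : e ∈ Subgroup.upperCentralSeries T (i + 1))
    (he' : e ∉ Subgroup.upperCentralSeries T i) : Subgroup.upperCentralSeries T i ⊔ Subgroup.zpowers e = Subgroup.upperCentralSeries T (i + 1) := by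
  have hle : Subgroup.upperCentralSeries T i ⊔ Subgroup.zpowers e ≤ Subgroup.upperCentralSeries T (i + 1) :=
    sup_le (Subgroup.upperCentralSeries_mono T (Nat.le_succ i)) (Subgroup.zpowers_le.2 he)
  have hlt : Subgroup.upperCentralSeries T i < Subgroup.upperCentralSeries T i ⊔ Subgroup.zpowers e :=
    lt_of_le_of_ne le_sup_left fun hh => he' (hh ▸ Subgroup.mem_sup_right (Subgroup.mem_zpowers e))
  refine Subgroup.eq_of_le_of_card_ge hle ?_
  obtain ⟨c, hc⟩ := Subgroup.card_dvd_of_le hlt.le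
  rw [h.card_zs (i + 1) (by omega), hc, h.card_zs i (by omega), pow_succ]
  refine Nat.mul_le_mul_left _ ?_
  by_contra h2
  have : c = 0 ∨ c = 1 := by omega
  rcases this with rfl | rfl
  · rw [mul_zero] at hc; exact Nat.card_pos.ne' hc
  · rw [mul_one] at hc; exact hlt.ne (Subgroup.eq_of_le_of_card_ge hlt.le hc.le)

theorem exists_gen (h : Z4Data W) {i : ℕ} (hi : i ≤ 3) : ∃ e, e ∈ Subgroup.upperCentralSeries T (i + 1) ∧ e ∉ Subgroup.upperCentralSeries T i := by
  refine SetLike.exists_of_lt (lt_of_le_of_ne (Subgroup.upperCentralSeries_mono T (Nat.le_succ i)) ?_)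
  intro he
  have h1 := h.card_zs (i + 1) (by omega)
  rw [← he, h.card_zs i (by omega), pow_succ] at h1
  have := Nat.two_pow_pos i
  omega

/-- Generators of the third centre. -/
theorem exists_basis (h : Z4Data W) : ∃ e1 e2 e3 : T, e1 ∈ Subgroup.upperCentralSeries T 1 ∧ e1 ≠ 1 ∧ e2 ∈ Subgroup.upperCentralSeries T 2 ∧ e2 ∉ Subgroup.upperCentralSeries T 1 ∧
    e3 ∈ Subgroup.upperCentralSeries T 3 ∧ e3 ∉ Subgroup.upperCentralSeries T 2 ∧
    (∀ t : T, t ∈ W ↔ Commute t e2 ∧ Commute t e3) := by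
  obtain ⟨e1, h1, h1'⟩ := h.exists_gen (i := 0) (by omega)
  obtain ⟨e2, h2, h2'⟩ := h.exists_gen (i := 1) (by omega)
  obtain ⟨e3, h3, h3'⟩ := h.exists_gen (i := 2) (by omega)
  refine ⟨e1, e2, e3, h1, fun he => h1' (by rw [he]; exact one_mem _), h2, h2', h3, h3', fun t => ?_⟩
  constructor
  · intro ht
    rw [h.hW, Subgroup.mem_centralizer_iff] at ht
    exact ⟨(ht e2 (Subgroup.upperCentralSeries_mono T (by omega) h2)).symm, (ht e3 h3).symm⟩
  · rintro ⟨c2, c3⟩
    rw [h.hW]
    refine Subgroup.mem_centralizer_iff.2 ?_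
    have hle : Subgroup.upperCentralSeries T 3 ≤ Subgroup.centralizer ({t} : Set T) := by
      rw [← h.eq_of_gens (i := 2) (by omega) h3 h3', ← h.eq_of_gens (i := 1) (by omega) h2 h2']
      refine sup_le (sup_le ?_ ?_) ?_
      · intro z hz
        rw [Subgroup.upperCentralSeries_one, Subgroup.mem_center_iff] at hz
        exact Subgroup.mem_centralizer_singleton_iff.2 (hz t).symm
      · exact Subgroup.zpowers_le.2 (Subgroup.mem_centralizer_singleton_iff.2 c2.eq.symm)
      · exact Subgroup.zpowers_le.2 (Subgroup.mem_centralizer_singleton_iff.2 c3.eq.symm)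
    exact fun z hz => Subgroup.mem_centralizer_singleton_iff.1 (hle hz)

theorem coset_iff {a b e : T} : Commute (a⁻¹ * b) e ↔ ⁅a, e⁆ = ⁅b, e⁆ := by
  constructor
  · intro hc
    have : (a⁻¹ * b) * e * (a⁻¹ * b)⁻¹ = e := by rw [hc.eq, mul_inv_cancel_right]
    calc ⁅a, e⁆ = a * e * a⁻¹ * e⁻¹ := commutatorElement_def a e
      _ = a * ((a⁻¹ * b) * e * (a⁻¹ * b)⁻¹) * a⁻¹ * e⁻¹ := by rw [this]
      _ = ⁅b, e⁆ := by rw [commutatorElement_def]; group
  · intro he
    simp only [commutatorElement_def, mul_left_inj] at he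
    show (a⁻¹ * b) * e = e * (a⁻¹ * b)
    calc (a⁻¹ * b) * e = a⁻¹ * (b * e * b⁻¹) * b := by group
      _ = a⁻¹ * (a * e * a⁻¹) * b := by rw [he]
      _ = e * (a⁻¹ * b) := by group

/-- The map `tW ↦ ([t,e₂],[t,e₃])` is injective into `Z₁ × Z₂`. -/
theorem exists_beta (h : Z4Data W) : ∃ (e1 e2 e3 : T), e1 ∈ Subgroup.upperCentralSeries T 1 ∧ e1 ≠ 1 ∧ e2 ∈ Subgroup.upperCentralSeries T 2 ∧ e2 ∉ Subgroup.upperCentralSeries T 1 ∧
    e3 ∈ Subgroup.upperCentralSeries T 3 ∧ e3 ∉ Subgroup.upperCentralSeries T 2 ∧ (∀ t : T, t ∈ W ↔ Commute t e2 ∧ Commute t e3) ∧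
    ∃ β : T ⧸ W → ↥(Subgroup.upperCentralSeries T 1) × ↥(Subgroup.upperCentralSeries T 2), Function.Injective β ∧
      ∀ t : T, ((β (QuotientGroup.mk t)).1 : T) = ⁅t, e2⁆ ∧ ((β (QuotientGroup.mk t)).2 : T) = ⁅t, e3⁆ := by
  obtain ⟨e1, e2, e3, h1, h1', h2, h2', h3, h3', hW⟩ := h.exists_basis
  refine ⟨e1, e2, e3, h1, h1', h2, h2', h3, h3', hW, ?_⟩
  have m : ∀ (i : ℕ) (e : T), e ∈ Subgroup.upperCentralSeries T (i + 1) → ∀ t : T, ⁅t, e⁆ ∈ Subgroup.upperCentralSeries T i := fun i e he t => by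
    rw [← commutatorElement_inv e t]; exact inv_mem (mem_succ.1 he t)
  refine ⟨Quotient.lift (fun t => (⟨⁅t, e2⁆, m 1 e2 h2 t⟩, ⟨⁅t, e3⁆, m 2 e3 h3 t⟩)) ?_, ?_, ?_⟩
  · intro a b hab
    have hm : a⁻¹ * b ∈ W := QuotientGroup.leftRel_apply.1 hab
    obtain ⟨c2, c3⟩ := (hW _).1 hm
    exact Prod.ext (Subtype.ext (coset_iff.1 c2)) (Subtype.ext (coset_iff.1 c3))
  · intro x y hxy
    obtain ⟨a, rfl⟩ := QuotientGroup.mk_surjective x
    obtain ⟨b, rfl⟩ := QuotientGroup.mk_surjective y
    refine QuotientGroup.eq.2 ((hW _).2 ⟨coset_iff.2 ?_, coset_iff.2 ?_⟩)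
    · exact congrArg (fun p : ↥(Subgroup.upperCentralSeries T 1) × ↥(Subgroup.upperCentralSeries T 2) => (p.1 : T)) hxy
    · exact congrArg (fun p : ↥(Subgroup.upperCentralSeries T 1) × ↥(Subgroup.upperCentralSeries T 2) => (p.2 : T)) hxy
  · exact fun t => ⟨rfl, rfl⟩

theorem index_le (h : Z4Data W) : W.index ≤ 8 := by
  obtain ⟨_, _, _, -, -, -, -, -, -, -, β, hβ, -⟩ := h.exists_beta
  have hle := Nat.card_le_card_of_injective β hβ
  rw [Nat.card_prod, h.card_zs 1 (by omega), h.card_zs 2 (by omega)] at hle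
  exact hle

end Z4Data

end H69
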