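import Cfsg.Agent.H69.FourthCentreForm
import Cfsg.Agent.H6.AutPGroup

/-!
Automorphisms of odd order of `T` and the subgroups conjugate to `C_T(Z₃(T))`.
-/

set_option autoImplicit false

namespace H69

open Subgroup
open scoped commutatorElement

namespace Z4Data

variable {T : Type*} [Group T] [Finite T] {W : Subgroup T}

omit [Finite T] in
theorem zs_map (α : MulAut T) : ∀ (i : ℕ) {x : T},
    x ∈ Subgroup.upperCentralSeries T i → α x ∈ Subgroup.upperCentralSeries T i := by
  intro i
  induction i with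
  | zero =>
    intro x hx
    rw [Subgroup.upperCentralSeries_zero, mem_bot] at hx ⊢
    rw [hx, map_one]
  | succ i ih =>
    intro x hx
    refine Subgroup.mem_upperCentralSeries_succ_iff.2 fun g => ?_
    have := ih (Subgroup.mem_upperCentralSeries_succ_iff.1 hx (α.symm g))
    simpa [map_commutatorElement] using this

variable [W.Normal]

/-- An automorphism of odd order is trivial. -/
theorem aut_eq_one (h : Z4Data W) (α : MulAut T) (hα : (orderOf α).Coprime 2) : α = 1 := by
  have := Fact.mk Nat.prime_two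
  have disp : ∀ {x : T}, α (x⁻¹ * α x) = x⁻¹ * α x → α x = x := fun {x} hx =>
    H6.apply_eq_self_of_displacement_fixed h.two α hα hx
  -- the first four centres are fixed
  have hfix : ∀ i ≤ 4, ∀ x ∈ Subgroup.upperCentralSeries T i, α x = x := by
    intro i
    induction i with
    | zero =>
      intro _ x hx
      rw [Subgroup.upperCentralSeries_zero, mem_bot] at hx
      rw [hx, map_one]
    | succ i ih =>
      intro hi x hx
      by_cases hx' : x ∈ Subgroup.upperCentralSeries T i
      · exact ih (by omega) x hx'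
      have hαx : α x ∉ Subgroup.upperCentralSeries T i := fun hh => hx' (by
        have := zs_map α.symm i hh
        rwa [MulEquiv.symm_apply_apply] at this)
      exact disp (ih (by omega) _ (h.zs_two (by omega) hx (zs_map α _ hx) hx' hαx))
  -- trivial on `T/W`
  have hu : ∀ t : T, t⁻¹ * α t ∈ W := by
    intro t
    rw [h.hW]
    refine mem_centralizer_iff.2 fun z hz => ?_
    have hc : t * z * t⁻¹ ∈ Subgroup.upperCentralSeries T 3 :=
      (inferInstance : (Subgroup.upperCentralSeries T 3).Normal).conj_mem z hz t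
    have e := hfix 3 (by omega) _ hc
    rw [map_mul, map_mul, map_inv, hfix 3 (by omega) z hz] at e
    calc z * (t⁻¹ * α t) = t⁻¹ * (t * z * t⁻¹) * α t := by group
      _ = t⁻¹ * (α t * z * (α t)⁻¹) * α t := by rw [e]
      _ = t⁻¹ * α t * z := by group
  have hαW : ∀ w ∈ W, α w ∈ W := fun w hw => by
    have := mul_mem hw (hu w)
    rwa [mul_inv_cancel_left] at this
  -- `W` modulo `Z₃` is commutative
  set π := QuotientGroup.mk' (Subgroup.upperCentralSeries T 3)
  have hcomm : ∀ a ∈ W, ∀ b ∈ W, π a * π b = π b * π a := by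
    intro a ha b hb
    rw [← commutatorElement_eq_one_iff_mul_comm, ← map_commutatorElement, QuotientGroup.mk'_apply,
      QuotientGroup.eq_one_iff, ← h.facts.phi]
    exact ⟨_, h.comm_mem ⟨a, ha⟩ ⟨b, hb⟩, rfl⟩
  let δ : W →* T ⧸ Subgroup.upperCentralSeries T 3 :=
    MonoidHom.mk' (fun w => π ((w : T)⁻¹ * α w)) fun a b => by
      simp only [Subgroup.coe_mul, mul_inv_rev, map_mul, map_inv]
      calc (π b)⁻¹ * (π a)⁻¹ * (π (α a) * π (α b))
          = (π b)⁻¹ * π ((a : T)⁻¹ * α a) * π (α b) := by rw [map_mul, map_inv]; group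
        _ = π ((a : T)⁻¹ * α a) * (π b)⁻¹ * π (α b) := by
            rw [← map_inv π (b : T), hcomm _ (inv_mem b.2) _ (mul_mem (inv_mem a.2) (hαW _ a.2))]
        _ = _ := by rw [map_mul, map_inv]; group
  set N := δ.range.comap π with hN
  have hNn : N.Normal := ⟨fun x hx t => by
    obtain ⟨w, hw⟩ := hx
    refine ⟨⟨t * w * t⁻¹, (inferInstance : W.Normal).conj_mem _ w.2 t⟩, ?_⟩
    have hα : α t = t * (t⁻¹ * α t) := by group
    show π ((t * w * t⁻¹)⁻¹ * α (t * w * t⁻¹)) = π (t * x * t⁻¹)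
    have hw' : π ((w : T)⁻¹ * α w) = π x := hw
    have hu' := hcomm _ (hu t) _ (hαW _ w.2)
    rw [map_mul α, map_mul α, map_inv α, hα]
    calc π ((t * w * t⁻¹)⁻¹ * (t * (t⁻¹ * α t) * α w * (t * (t⁻¹ * α t))⁻¹))
        = π t * (π (w : T))⁻¹ * (π (t⁻¹ * α t) * π (α w)) * (π (t⁻¹ * α t))⁻¹ * (π t)⁻¹ := by
          simp only [map_mul, map_inv]; group
      _ = π t * π ((w : T)⁻¹ * α w) * (π t)⁻¹ := by rw [hu']; simp only [map_mul, map_inv]; group
      _ = π (t * x * t⁻¹) := by rw [hw', map_mul, map_mul, map_inv]⟩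
  have hδ : ∀ w : W, δ w = 1 → α w = w := fun w hw =>
    disp (hfix 3 (by omega) _ ((QuotientGroup.eq_one_iff _).1 hw))
  have hle : Subgroup.upperCentralSeries T 3 ≤ N := fun z hz => by
    refine ⟨1, ?_⟩
    rw [map_one]
    exact ((QuotientGroup.eq_one_iff z).2 hz).symm
  have hW1 : ∀ w ∈ W, α w = w := by
    by_contra hc
    push Not at hc
    obtain ⟨w, hw, hw'⟩ := hc
    have hN3 : ¬ N ≤ Subgroup.upperCentralSeries T 3 := fun hh =>
      hw' (hδ ⟨w, hw⟩ ((QuotientGroup.eq_one_iff _).2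
        (hh (show w⁻¹ * α w ∈ N from ⟨⟨w, hw⟩, rfl⟩))))
    obtain ⟨y, hy, hy'⟩ := h.exists_gen (i := 3) le_rfl
    obtain ⟨v, hv⟩ := h.above le_rfl hle hN3 hy
    have hm : y⁻¹ * ((v : T)⁻¹ * α v) ∈ Subgroup.upperCentralSeries T 3 :=
      QuotientGroup.eq.1 hv.symm
    have hdfix : α ((v : T)⁻¹ * α v) = (v : T)⁻¹ * α v := by
      calc α ((v : T)⁻¹ * α v) = α y * α (y⁻¹ * ((v : T)⁻¹ * α v)) := by
            rw [← map_mul, mul_inv_cancel_left]
        _ = _ := by rw [hfix 4 le_rfl y hy, hfix 3 (by omega) _ hm, mul_inv_cancel_left]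
    rw [disp hdfix, inv_mul_cancel, mul_one] at hm
    exact hy' (inv_mem_iff.1 hm)
  exact MulEquiv.ext fun t => disp (hW1 _ (hu t))

/-- `Z₃(T)` lies in every subgroup containing the squares of a subgroup of `W` of index at most `8`. -/
theorem zs3_le_of_sq (h : Z4Data W) {G : Type*} [Group G] (j : W →* G) {U A : Subgroup G}
    (hU : U.relIndex j.range ≤ 8) (hA : ∀ u ∈ U, u * u ∈ A) : (frattini ↥W).map j ≤ A := by
  refine map_le_iff_le_comap.2 (h.deep_sq (U := U.comap j) ?_ fun u hu => ?_)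
  · rwa [Subgroup.index_comap]
  · rw [mem_comap, map_mul]; exact hA _ hu

end Z4Data

end H69
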