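import Cfsg.Agent.H69.FourthCentreModule
import Cfsg.Agent.H91.DihedralLift

/-!
The squaring form on `W = C_T(Z₃(T))` when `|Z₄(T)| = 16` and `|T| ≥ 2^14`.
-/

set_option autoImplicit false

namespace H69

open Subgroup
open scoped commutatorElement

/-! ### The finite check -/

def elt8 (i : ℕ) : DihedralGroup 4 :=
  if i < 4 then DihedralGroup.r (i : ZMod 4) else DihedralGroup.sr ((i : ZMod 4))

def fV (p q : ZMod 2) (k : DihedralGroup 4) : ZMod 2 :=
  if k = DihedralGroup.r 1 ∨ k = DihedralGroup.r 3 then p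
  else if k = DihedralGroup.sr 0 ∨ k = DihedralGroup.sr 2 then q else 0

def supp8 (n : ℕ) : List (DihedralGroup 4) :=
  ((List.range 8).filter fun i => n.testBit i).map elt8

def qL (c : ZMod 2) (f : DihedralGroup 4 → ZMod 2) : List (DihedralGroup 4) → ZMod 2
  | [] => 0
  | g :: t => c + qL c f t + (t.map fun h => f (g * h⁻¹)).sum

def bL (f : DihedralGroup 4 → ZMod 2) (l₁ l₂ : List (DihedralGroup 4)) : ZMod 2 :=
  (l₁.map fun g => (l₂.map fun h => f (g * h⁻¹)).sum).sum

def vecL (l : List (DihedralGroup 4)) (h : DihedralGroup 4) : ZMod 2 :=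
  (l.map fun g => if h = g then 1 else 0).sum

def wit (p q c : ZMod 2) : List ℕ :=
  if c = 0 then
    (if q = 0 then (if p = 0 then [1, 2, 4, 8, 16] else [1, 4, 10, 16, 64])
      else (if p = 0 then [1, 2, 4, 8, 80] else [1, 4, 10, 18, 32]))
  else
    (if q = 0 then (if p = 0 then [3, 5, 9, 17, 33] else [5, 10, 17, 34, 65])
      else (if p = 0 then [3, 5, 9, 48, 80] else [5, 10, 18, 33, 66]))

def sel (a : ℕ) (L : List ℕ) : List ℕ :=
  ((List.range 5).filter fun i => a.testBit i).map fun i => L.getD i 0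

theorem wit_zero : ∀ p q c : ZMod 2, ∀ i : Fin 5,
    qL c (fV p q) (supp8 ((wit p q c).getD i 0)) = 0 := by decide +kernel

theorem wit_orth : ∀ p q c : ZMod 2, ∀ i j : Fin 5,
    bL (fV p q) (supp8 ((wit p q c).getD i 0)) (supp8 ((wit p q c).getD j 0)) = 0 := by decide +kernel

theorem wit_indep : ∀ p q c : ZMod 2, ∀ a b : Fin 32,
    (∀ i : Fin 8, vecL ((sel a (wit p q c)).flatMap supp8) (elt8 i) =
      vecL ((sel b (wit p q c)).flatMap supp8) (elt8 i)) → a = b := by decide +kernel

theorem zmod2_cases : ∀ a : ZMod 2, a = 0 ∨ a = 1 := by decide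

theorem d4_center : ∀ k : DihedralGroup 4, k ≠ 1 →
    k = DihedralGroup.r 2 ∨ ∃ h, h * k * h⁻¹ * k⁻¹ = DihedralGroup.r 2 := by decide +kernel

theorem d4_sum (f : DihedralGroup 4 → ZMod 2) :
    ((supp8 255).map f).sum = f (.r 0) + f (.r 1) + f (.r 2) + f (.r 3) +
      f (.sr 0) + f (.sr 1) + f (.sr 2) + f (.sr 3) := by
  have h : supp8 255 = [.r 0, .r 1, .r 2, .r 3, .sr 0, .sr 1, .sr 2, .sr 3] := by decide +kernel
  rw [h]
  simp [add_assoc]

theorem vec_all : ∀ k : DihedralGroup 4, vecL (supp8 255) k = 1 := by decide +kernel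

theorem zmod2_sum8 : ∀ a b c : ZMod 2, 0 + a + 0 + a + b + 0 + c + 0 = 0 → c = b := by decide

theorem zmod2_self : ∀ z : ZMod 2, z + z = 0 := by decide

theorem zmod2_one_ne : ¬ (1 : ZMod 2) = 0 := by decide

theorem zmod2_eq_of_add : ∀ a b : ZMod 2, 0 = a + b → a = b := by decide

theorem fV_spec {f : DihedralGroup 4 → ZMod 2} (h1 : f 1 = 0) (h13 : f (.r 3) = f (.r 1))
    (h2 : f (.r 2) = 0) (hs1 : f (.sr 1) = 0) (hs3 : f (.sr 3) = 0) (hs : f (.sr 2) = f (.sr 0)) :
    f = fV (f (.r 1)) (f (.sr 0)) := by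
  have h0 : f (.r 0) = 0 := by rw [← DihedralGroup.one_def]; exact h1
  funext k
  rcases k with i | i <;> fin_cases i <;> simp [fV] <;>
    first
      | assumption
      | exact h0
      | exact (if_pos (Or.inl rfl)).symm
      | exact (if_pos (Or.inr rfl)).symm
      | (intro hh; exact absurd hh (by decide))
      | skip

namespace Z4Data

variable {T : Type*} [Group T] [Finite T] {W : Subgroup T}

/-- Squares of a subgroup of index at most `8` generate the Frattini subgroup. -/
theorem deep_sq (h : Z4Data W) {U : Subgroup W} (hU : U.index ≤ 8) {A : Subgroup W}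
    (hA : ∀ u ∈ U, u * u ∈ A) : frattini W ≤ A := by
  have := Fact.mk Nat.prime_two
  have hU2 : IsPGroup 2 U := (h.two.to_subgroup W).to_subgroup U
  let S : Subgroup U := closure {z : U | ∃ u : U, z = u * u}
  have hsqS : ∀ u : U, u * u ∈ S := fun u => subset_closure ⟨u, rfl⟩
  have hSA : S.map U.subtype ≤ A := by
    rw [Subgroup.map_le_iff_le_comap, closure_le]
    rintro _ ⟨u, rfl⟩
    exact hA u u.2
  have hcomm : commutator U ≤ S := by
    refine commutator_le.2 fun a _ b _ => ?_
    have : ⁅a, b⁆ = (a * a) * ((a⁻¹ * b) * (a⁻¹ * b)) * (b * b)⁻¹ := by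
      rw [commutatorElement_def]; group
    rw [this]
    exact mul_mem (mul_mem (hsqS _) (hsqS _)) (inv_mem (hsqS _))
  have hf : frattini U ≤ S :=
    H31.frattini_le_of_pow_mem Nat.prime_two S hcomm fun x => by rw [sq]; exact hsqS x
  refine le_trans ?_ ((Subgroup.map_mono hf).trans hSA)
  have hle : frattini W ≤ U := h.deep U (hU.trans (by norm_num))
  intro z hz
  refine ⟨⟨z, hle hz⟩, ?_, rfl⟩
  show (⟨z, hle hz⟩ : U) ∈ frattini U
  rw [H6.mem_frattini_iff]
  intro M hM
  have hM2 : M.index = 2 := H6.index_eq_prime_of_isCoatom hU2 hM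
  have hidx : (M.map U.subtype).index ≤ 16 := by
    rw [Subgroup.index_map_subtype, hM2]; omega
  obtain ⟨y, hy, hyz⟩ := h.deep _ hidx hz
  have : y = ⟨z, hle hz⟩ := Subtype.ext hyz
  exact this ▸ hy

theorem sq_mem (h : Z4Data W) (x : W) : x * x ∈ frattini W := by
  have := Fact.mk Nat.prime_two
  rw [← sq]
  exact H31.pow_mem_frattini (h.two.to_subgroup W) x

theorem comm_mem (h : Z4Data W) (x y : W) : ⁅x, y⁆ ∈ frattini W := by
  have := Fact.mk Nat.prime_two
  exact H31.commutator_le_frattini (h.two.to_subgroup W)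
    (commutator_mem_commutator (mem_top x) (mem_top y))

variable [W.Normal]

theorem phi_central (h : Z4Data W) {z : W} (hz : z ∈ frattini W) (w : W) : z * w = w * z := by
  have hzT : (z : T) ∈ Subgroup.upperCentralSeries T 3 := h.facts.phi ▸ mem_map_of_mem _ hz
  have hw : (w : T) ∈ centralizer ((Subgroup.upperCentralSeries T 3 : Subgroup T) : Set T) := by
    have h2 := w.2
    simp only [h.hW] at h2
    exact h2
  exact Subtype.ext (mem_centralizer_iff.1 hw z hzT)

/-- The functional `Z₃ → Z₃/Z₂`. -/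
noncomputable def lam (W : Subgroup T) (z : W) : ZMod 2 := by
  classical
  exact if (z : T) ∈ Subgroup.upperCentralSeries T 2 then 0 else 1

theorem lam_eq_zero {z : W} : lam W z = 0 ↔ (z : T) ∈ Subgroup.upperCentralSeries T 2 := by
  classical
  by_cases hz : (z : T) ∈ Subgroup.upperCentralSeries T 2 <;> simp [lam, hz]

theorem lam_mul (h : Z4Data W) {a b : W} (ha : a ∈ frattini W) (hb : b ∈ frattini W) :
    lam W (a * b) = lam W a + lam W b := by
  classical
  have m : ∀ z : W, z ∈ frattini W → (z : T) ∈ Subgroup.upperCentralSeries T 3 := fun z hz =>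
    h.facts.phi ▸ mem_map_of_mem _ hz
  unfold lam
  by_cases h1 : (a : T) ∈ Subgroup.upperCentralSeries T 2 <;>
    by_cases h2 : (b : T) ∈ Subgroup.upperCentralSeries T 2
  · simp [h1, h2, mul_mem h1 h2]
  · simp [h1, h2, (Subgroup.upperCentralSeries T 2).mul_mem_cancel_left h1]
  · simp [h1, h2, (Subgroup.upperCentralSeries T 2).mul_mem_cancel_right h2]
  · have hh : (a : T) * b ∈ Subgroup.upperCentralSeries T 2 := by
      have := h.zs_two (i := 2) (by omega) (inv_mem (m a ha)) (m b hb)
        (fun hh => h1 (inv_mem_iff.1 hh)) h2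
      simpa using this
    simp [h1, h2, hh, zmod2_one_add_one]

/-- The bilinear form. -/
noncomputable def bil (W : Subgroup T) (x y : W) : ZMod 2 := lam W ⁅x, y⁆

/-- The quadratic form. -/
noncomputable def quad (W : Subgroup T) (x : W) : ZMod 2 := lam W (x * x)

theorem lam_one : lam W (1 : W) = 0 := lam_eq_zero.2 (one_mem _)

theorem bil_mul_left (h : Z4Data W) (x y z : W) : bil W (x * y) z = bil W x z + bil W y z := by
  have e : ⁅x * y, z⁆ = ⁅y, z⁆ * ⁅x, z⁆ := by
    calc ⁅x * y, z⁆ = x * ⁅y, z⁆ * x⁻¹ * ⁅x, z⁆ := by simp only [commutatorElement_def]; group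
      _ = ⁅y, z⁆ * ⁅x, z⁆ := by rw [← h.phi_central (h.comm_mem y z) x, mul_inv_cancel_right]
  rw [bil, e, h.lam_mul (h.comm_mem _ _) (h.comm_mem _ _), add_comm]
  rfl

theorem bil_symm (h : Z4Data W) (x y : W) : bil W x y = bil W y x := by
  have := h.lam_mul (h.comm_mem x y) (h.comm_mem y x)
  rw [← commutatorElement_inv x y, mul_inv_cancel, lam_one, commutatorElement_inv] at this
  exact zmod2_eq_of_add _ _ this

theorem bil_mul_right (h : Z4Data W) (x y z : W) : bil W x (y * z) = bil W x y + bil W x z := by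
  rw [h.bil_symm, h.bil_mul_left, h.bil_symm y, h.bil_symm z]

theorem bil_phi (h : Z4Data W) {z : W} (hz : z ∈ frattini W) (x : W) : bil W z x = 0 := by
  rw [bil, commutatorElement_eq_one_iff_mul_comm.2 (h.phi_central hz x), lam_one]

theorem bil_congr (h : Z4Data W) {x x' y y' : W}
    (hx : (QuotientGroup.mk x : W ⧸ frattini W) = QuotientGroup.mk x')
    (hy : (QuotientGroup.mk y : W ⧸ frattini W) = QuotientGroup.mk y') :
    bil W x y = bil W x' y' := by
  have hx' := QuotientGroup.eq.1 hx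
  have hy' := QuotientGroup.eq.1 hy
  rw [show x' = x * (x⁻¹ * x') by group, show y' = y * (y⁻¹ * y') by group, h.bil_mul_left,
    h.bil_mul_right, h.bil_phi hx', h.bil_symm x (y⁻¹ * y'), h.bil_phi hy']
  simp

theorem quad_mul (h : Z4Data W) (x y : W) : quad W (x * y) = quad W x + quad W y + bil W x y := by
  have e : x * y * (x * y) = ⁅x, y⁆ * (y * ((x * x) * y)) := by
    rw [commutatorElement_def]; group
  have e2 : y * ((x * x) * y) = (x * x) * (y * y) := by
    rw [← mul_assoc, ← h.phi_central (h.sq_mem x) y, mul_assoc]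
  rw [quad, e, e2, h.lam_mul (h.comm_mem _ _) (mul_mem (h.sq_mem _) (h.sq_mem _)),
    h.lam_mul (h.sq_mem _) (h.sq_mem _), add_comm]
  rfl

theorem derived_not_le (h : Z4Data W) : ∃ x y : W, bil W x y ≠ 0 := by
  by_contra hc
  push Not at hc
  let f : W →* Multiplicative (ZMod 2) :=
    MonoidHom.mk' (fun x => Multiplicative.ofAdd (quad W x)) fun x y => by
      rw [h.quad_mul, hc, add_zero, ofAdd_add]
  have hidx : f.ker.index ≤ 8 := by
    rw [Subgroup.index_ker]
    refine (Subgroup.card_le_card_group f.range).trans ?_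
    rw [Nat.card_eq_fintype_card]; simp
  have hle := h.deep_sq hidx (A := (Subgroup.upperCentralSeries T 2).subgroupOf W) fun u hu => by
    rw [mem_subgroupOf]
    exact lam_eq_zero.1 (congrArg Multiplicative.toAdd (MonoidHom.mem_ker.1 hu))
  have := Subgroup.map_mono (f := W.subtype) hle
  rw [h.facts.phi] at this
  have hc := card_le_of_le (this.trans (map_subtype_le_aux W))
  rw [h.card_zs 3 (by omega), h.card_zs 2 (by omega)] at hc
  norm_num at hc
where
  map_subtype_le_aux (W : Subgroup T) :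
      ((Subgroup.upperCentralSeries T 2).subgroupOf W).map W.subtype ≤
        Subgroup.upperCentralSeries T 2 := by
    rintro _ ⟨z, hz, rfl⟩; exact hz

theorem commutator_eq (h : Z4Data W) :
    (commutator W).map W.subtype = Subgroup.upperCentralSeries T 3 := by
  set N := (commutator W).map W.subtype
  have hNn : N.Normal := ConjAct.normal_of_characteristic_of_normal
  have hle : N ≤ Subgroup.upperCentralSeries T 3 :=
    h.facts.phi ▸ Subgroup.map_mono (commutator_le.2 fun a _ b _ => h.comm_mem a b)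
  refine eq_of_le_of_card_ge hle ?_
  by_contra hlt
  push Not at hlt
  rw [h.card_zs 3 (by omega)] at hlt
  have := Fact.mk Nat.prime_two
  obtain ⟨j, hj⟩ := IsPGroup.iff_card.1 (h.two.to_subgroup N)
  have hj2 : j ≤ 2 := by
    rw [hj] at hlt
    have := (Nat.pow_lt_pow_iff_right (by norm_num : 1 < 2)).1 hlt
    omega
  have hN2 := h.normal_le 2 N hNn (hj ▸ Nat.pow_le_pow_right (by norm_num) hj2)
  obtain ⟨x, y, hxy⟩ := h.derived_not_le
  exact hxy (lam_eq_zero.2 (hN2 ⟨_, commutator_mem_commutator (mem_top x) (mem_top y), rfl⟩))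

theorem zs3_elementary (h : Z4Data W) : ∀ z ∈ Subgroup.upperCentralSeries T 3, z ^ 2 = 1 := by
  rw [← h.commutator_eq]
  rintro _ ⟨z, hz, rfl⟩
  rw [commutator_eq_closure] at hz
  suffices hs : z * z = 1 ∧ z ∈ frattini W by
    rw [sq]; exact congrArg Subtype.val hs.1
  induction hz using Subgroup.closure_induction with
  | mem z hz =>
    obtain ⟨a, b, rfl⟩ := hz
    refine ⟨?_, h.comm_mem a b⟩
    calc ⁅a, b⁆ * ⁅a, b⁆ = a * ⁅a, b⁆ * a⁻¹ * ⁅a, b⁆ := by
          rw [← h.phi_central (h.comm_mem a b) a, mul_inv_cancel_right]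
      _ = (a * a) * b * (a * a)⁻¹ * b⁻¹ := by rw [commutatorElement_def]; group
      _ = 1 := by rw [h.phi_central (h.sq_mem a) b]; group
  | one => exact ⟨one_mul 1, one_mem _⟩
  | mul a b _ _ ha hb =>
    refine ⟨?_, mul_mem ha.2 hb.2⟩
    rw [mul_assoc, ← mul_assoc b, ← h.phi_central ha.2 b, mul_assoc a b b, hb.1, mul_one, ha.1]
  | inv a _ ha => exact ⟨by rw [← mul_inv_rev, ha.1, inv_one], inv_mem ha.2⟩

theorem comm_mul (s t e : T) : ⁅s * t, e⁆ = s * ⁅t, e⁆ * s⁻¹ * ⁅s, e⁆ := by
  simp only [commutatorElement_def]; group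

theorem exists_coords (h : Z4Data W) :
    ∃ θ : DihedralGroup 4 ≃* T ⧸ W, ∀ k : DihedralGroup 4,
      k = .r 2 ∨ k = .sr 1 ∨ k = .sr 3 → ∀ t : T, QuotientGroup.mk t = θ k →
        ∀ z ∈ Subgroup.upperCentralSeries T 3, t * z * t⁻¹ = z →
          z ∈ Subgroup.upperCentralSeries T 2 := by
  obtain ⟨e1, e2, e3, h1, h1', h2, h2', h3, h3', hW, β, hβ, hβs⟩ := h.exists_beta
  have hc1 : ∀ t : T, t * e1 * t⁻¹ = e1 := fun t => by
    rw [Subgroup.upperCentralSeries_one, mem_center_iff] at h1
    rw [h1 t, mul_inv_cancel_right]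
  have hbij : Function.Bijective β := by
    refine ⟨hβ, ?_⟩
    have hc : Nat.card (T ⧸ W) = Nat.card (↥(Subgroup.upperCentralSeries T 1) ×
        ↥(Subgroup.upperCentralSeries T 2)) := by
      rw [Nat.card_prod, h.card_zs 1 (by omega), h.card_zs 2 (by omega), ← Subgroup.index_eq_card,
        h.facts.index]; norm_num
    exact (Nat.bijective_iff_injective_and_card β).2 ⟨hβ, hc⟩ |>.2
  obtain ⟨x', hx'⟩ := hbij.2 (⟨e1, h1⟩, 1)
  obtain ⟨y', hy'⟩ := hbij.2 (1, ⟨e2, h2⟩)
  obtain ⟨x, rfl⟩ := QuotientGroup.mk_surjective x'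
  obtain ⟨y, rfl⟩ := QuotientGroup.mk_surjective y'
  have hx2 : ⁅x, e2⁆ = e1 := by rw [← (hβs x).1, hx']
  have hx3 : ⁅x, e3⁆ = 1 := by rw [← (hβs x).2, hx']; rfl
  have hy2 : ⁅y, e2⁆ = 1 := by rw [← (hβs y).1, hy']; rfl
  have hy3 : ⁅y, e3⁆ = e2 := by rw [← (hβs y).2, hy']
  have hm : ∀ t : T, ⁅t, e2⁆ = 1 → ⁅t, e3⁆ = 1 → (QuotientGroup.mk t : T ⧸ W) = 1 :=
    fun t a b => (QuotientGroup.eq_one_iff t).2 ((hW t).2
      ⟨commutatorElement_eq_one_iff_mul_comm.1 a, commutatorElement_eq_one_iff_mul_comm.1 b⟩)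
  have hee : e1 * e1 = 1 ∧ e2 * e2 = 1 := by
    have m := fun e he => by
      have := h.zs3_elementary e he
      rwa [sq] at this
    exact ⟨m e1 (Subgroup.upperCentralSeries_mono T (by omega) h1),
      m e2 (Subgroup.upperCentralSeries_mono T (by omega) h2)⟩
  have hcj : ∀ t e : T, t * e * t⁻¹ = ⁅t, e⁆ * e := fun t e => by
    rw [commutatorElement_def]; group
  have hxx : (QuotientGroup.mk x : T ⧸ W) * QuotientGroup.mk x = 1 := by
    rw [← QuotientGroup.mk_mul]
    refine hm _ ?_ ?_
    · rw [comm_mul, hx2, hc1, hee.1]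
    · rw [comm_mul, hx3]; simp
  have hyy : (QuotientGroup.mk y : T ⧸ W) * QuotientGroup.mk y = 1 := by
    rw [← QuotientGroup.mk_mul]
    refine hm _ ?_ ?_
    · rw [comm_mul, hy2]; simp
    · rw [comm_mul, hy3, hcj, hy2, one_mul, hee.2]
  set r := x * y with hr
  have hr2e : ⁅r, e2⁆ = e1 := by rw [hr, comm_mul, hy2, hx2]; simp
  have hr3e : ⁅r, e3⁆ = e1 * e2 := by rw [hr, comm_mul, hy3, hcj, hx2, hx3, mul_one]
  have hrr2 : ⁅r * r, e2⁆ = 1 := by rw [comm_mul, hr2e, hc1, hee.1]
  have hrr3 : ⁅r * r, e3⁆ = e1 := by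
    rw [comm_mul, hr3e, show r * (e1 * e2) * r⁻¹ = (r * e1 * r⁻¹) * (r * e2 * r⁻¹) by group, hc1,
      hcj, hr2e, ← mul_assoc e1 e1 e2, hee.1, one_mul]
    calc e2 * (e1 * e2) = e2 * e1 * e2 := (mul_assoc _ _ _).symm
      _ = e1 * e2 * e2 := by
          rw [show e2 * e1 = e1 * e2 from mul_inv_eq_iff_eq_mul.1 (hc1 e2)]
      _ = e1 := by rw [mul_assoc, hee.2, mul_one]
  have hr4 : (QuotientGroup.mk r : T ⧸ W) ^ 4 = 1 := by
    rw [show (4 : ℕ) = 2 * 2 from rfl, pow_mul, sq, sq, ← QuotientGroup.mk_mul,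
      ← QuotientGroup.mk_mul]
    refine hm _ ?_ ?_
    · rw [comm_mul, hrr2]; simp
    · rw [comm_mul, hrr3, hc1, hee.1]
  set θ0 : DihedralGroup 4 →* T ⧸ W :=
    H91.dihedralLift (QuotientGroup.mk r) (QuotientGroup.mk x) hr4 hxx (by
      have hxi : (QuotientGroup.mk x : T ⧸ W)⁻¹ = QuotientGroup.mk x :=
        inv_eq_of_mul_eq_one_right hxx
      have hyi : (QuotientGroup.mk y : T ⧸ W)⁻¹ = QuotientGroup.mk y :=
        inv_eq_of_mul_eq_one_right hyy
      rw [hr, QuotientGroup.mk_mul, mul_inv_rev, hxi, hyi, ← mul_assoc, hxx, one_mul]) with hθ0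
  have hθr2 : θ0 (.r 2) = QuotientGroup.mk (r * r) := by
    show (QuotientGroup.mk r : T ⧸ W) ^ 2 = _
    rw [sq, hr]; rfl
  have hθs1 : θ0 (.sr 1) = QuotientGroup.mk y := by
    show (QuotientGroup.mk x : T ⧸ W) * (QuotientGroup.mk r) ^ 1 = _
    rw [pow_one, hr, QuotientGroup.mk_mul, ← mul_assoc, hxx, one_mul]
  have hθs3 : θ0 (.sr 3) = QuotientGroup.mk (y * (r * r)) := by
    rw [show (DihedralGroup.sr 3 : DihedralGroup 4) = .sr 1 * .r 2 by decide, map_mul, hθs1, hθr2]
    simp only [QuotientGroup.mk_mul]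
  have hinj : Function.Injective θ0 := by
    rw [injective_iff_map_eq_one]
    intro k hk
    by_contra hk1
    have hr2 : θ0 (.r 2) = 1 := by
      rcases d4_center k hk1 with rfl | ⟨g, hg⟩
      · exact hk
      · rw [← hg, map_mul, map_mul, map_mul, map_inv, map_inv, hk]; group
    rw [hθr2, QuotientGroup.eq_one_iff] at hr2
    exact h1' (hrr3.symm.trans (commutatorElement_eq_one_iff_mul_comm.2 ((hW _).1 hr2).2))
  have hcard : Nat.card (DihedralGroup 4) = Nat.card (T ⧸ W) := by
    rw [DihedralGroup.nat_card, ← Subgroup.index_eq_card, h.facts.index]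
  have hbij0 : Function.Bijective θ0 :=
    (Nat.bijective_iff_injective_and_card θ0).2 ⟨hinj, hcard⟩
  refine ⟨MulEquiv.ofBijective θ0 hbij0, fun k hk t ht z hz hfix => ?_⟩
  change QuotientGroup.mk t = θ0 k at ht
  -- `t` commutes with `e₂` but not with `e₃`
  have key : ⁅t, e2⁆ = 1 ∧ ⁅t, e3⁆ ≠ 1 := by
    have same : ∀ s : T, (QuotientGroup.mk t : T ⧸ W) = QuotientGroup.mk s →
        ⁅t, e2⁆ = ⁅s, e2⁆ ∧ ⁅t, e3⁆ = ⁅s, e3⁆ := fun s hs => by
      rw [← (hβs t).1, ← (hβs t).2, ← (hβs s).1, ← (hβs s).2, hs]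
      exact ⟨rfl, rfl⟩
    rcases hk with rfl | rfl | rfl
    · obtain ⟨a, b⟩ := same _ (ht.trans hθr2)
      rw [a, b, hrr2, hrr3]; exact ⟨rfl, h1'⟩
    · obtain ⟨a, b⟩ := same _ (ht.trans hθs1)
      rw [a, b, hy2, hy3]; exact ⟨rfl, fun hh => h2' (hh ▸ one_mem _)⟩
    · obtain ⟨a, b⟩ := same _ (ht.trans hθs3)
      rw [a, b, comm_mul y (r * r) e2, comm_mul y (r * r) e3, hrr2, hrr3, hy2, hy3, hc1]
      refine ⟨by simp, fun hh => h2' ?_⟩
      rw [eq_inv_of_mul_eq_one_right hh]
      exact inv_mem h1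
  obtain ⟨k2, k3⟩ := key
  by_contra hz2
  apply k3
  have hq : z⁻¹ * e3 ∈ Subgroup.upperCentralSeries T 2 := h.zs_two (i := 2) (by omega) hz h3 hz2 h3'
  have hfix2 : ∀ w ∈ Subgroup.upperCentralSeries T 2, t * w * t⁻¹ = w := by
    intro w hw
    have hle : Subgroup.upperCentralSeries T 2 ≤ centralizer ({t} : Set T) := by
      rw [← h.eq_of_gens (i := 1) (by omega) h2 h2']
      refine sup_le (fun v hv => ?_) (zpowers_le.2 ?_)
      · rw [Subgroup.upperCentralSeries_one, mem_center_iff] at hv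
        exact mem_centralizer_singleton_iff.2 (hv t).symm
      · exact mem_centralizer_singleton_iff.2 (commutatorElement_eq_one_iff_mul_comm.1 k2).symm
    rw [← mem_centralizer_singleton_iff.1 (hle hw), mul_inv_cancel_right]
  have h3f : t * e3 * t⁻¹ = e3 := by
    calc t * e3 * t⁻¹ = (t * z * t⁻¹) * (t * (z⁻¹ * e3) * t⁻¹) := by group
      _ = e3 := by rw [hfix, hfix2 _ hq, mul_inv_cancel_left]
  rw [commutatorElement_def, h3f, mul_inv_cancel]

theorem center_eq (h : Z4Data W) :
    (center W).map W.subtype = Subgroup.upperCentralSeries T 3 := by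
  classical
  have := Fact.mk Nat.prime_two
  set N := (center W).map W.subtype
  have hNn : N.Normal := ConjAct.normal_of_characteristic_of_normal
  have hle : Subgroup.upperCentralSeries T 3 ≤ N := by
    rw [← h.facts.phi]
    exact Subgroup.map_mono fun z hz => mem_center_iff.2 fun w => (h.phi_central hz w).symm
  refine le_antisymm ?_ hle
  by_contra hne
  have hN4 := h.above le_rfl hle hne
  obtain ⟨y, hy4, hy3⟩ := h.exists_gen (i := 3) le_rfl
  obtain ⟨yW, hyc, rfl⟩ := hN4 hy4
  obtain ⟨act, hact⟩ := h.exists_act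
  -- the coordinates
  obtain ⟨Φ, hΦ, hΦm, hΦa, hΦf⟩ := exists_regular (h.two.to_quotient W) h.frattini_sq act (by
    intro u v hu hv hu1 hv1
    have hfx : ∀ v : ↥W ⧸ frattini ↥W, (∀ k, act k v = v) → v ≠ 1 →
        ∃ x : W, QuotientGroup.mk x = v ∧ (x : T) ∈ Subgroup.upperCentralSeries T 4 ∧
          (x : T) ∉ Subgroup.upperCentralSeries T 3 := by
      intro v hv hv1
      obtain ⟨x, rfl⟩ := QuotientGroup.mk_surjective v
      refine ⟨x, rfl, inv_mem_iff.1 (mem_succ.2 fun t => ?_), fun hx => ?_⟩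
      · have hm := QuotientGroup.eq.1 ((hact t x).symm.trans (hv _)).symm
        rw [← h.facts.phi]
        exact ⟨_, hm, by simp [MulAut.conjNormal_apply, commutatorElement_def, mul_assoc]⟩
      · rw [← h.facts.phi] at hx
        obtain ⟨y, hy, hyx⟩ := hx
        exact hv1 ((QuotientGroup.eq_one_iff x).2 (Subtype.val_injective hyx ▸ hy))
    obtain ⟨a, rfl, ha, ha'⟩ := hfx u hu hu1
    obtain ⟨b, rfl, hb, hb'⟩ := hfx v hv hv1
    refine QuotientGroup.eq.2 ?_
    have hm := h.zs_two le_rfl ha hb ha' hb'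
    rw [← h.facts.phi] at hm
    obtain ⟨z, hz, hzv⟩ := hm
    rwa [show a⁻¹ * b = z from Subtype.val_injective (by simpa using hzv.symm)])
  have hbij : Function.Bijective Φ := by
    refine (Nat.bijective_iff_injective_and_card Φ).2 ⟨hΦ, ?_⟩
    rw [h.facts.cardQ, Nat.card_fun, Nat.card_zmod, ← Subgroup.index_eq_card, h.facts.index]
    norm_num
  obtain ⟨θ, hθ⟩ := h.exists_coords
  obtain ⟨v0', hv0'⟩ := hbij.2 (fun k => if k = 1 then 1 else 0)
  obtain ⟨v, rfl⟩ := QuotientGroup.mk_surjective v0'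
  choose τ hτ using fun k : DihedralGroup 4 => QuotientGroup.mk_surjective (θ k)
  let f : DihedralGroup 4 → ZMod 2 := fun k => bil W v (MulAut.conjNormal (τ k) v)
  -- invariance
  have hBc : ∀ (t : T) (a b : W), bil W (MulAut.conjNormal t a) (MulAut.conjNormal t b) = bil W a b := by
    intro t a b
    have e : ⁅MulAut.conjNormal t a, MulAut.conjNormal t b⁆ = MulAut.conjNormal t ⁅a, b⁆ :=
      (map_commutatorElement (MulAut.conjNormal t) a b).symm
    have hz : lam W (MulAut.conjNormal t ⁅a, b⁆) = lam W ⁅a, b⁆ := by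
      rcases zmod2_cases (lam W ⁅a, b⁆) with h0 | h0 <;> rw [h0]
      · rw [lam_eq_zero, MulAut.conjNormal_apply]
        exact (inferInstance : (Subgroup.upperCentralSeries T 2).Normal).conj_mem _ (lam_eq_zero.1 h0) t
      · rcases zmod2_cases (lam W (MulAut.conjNormal t ⁅a, b⁆)) with h1 | h1
        · rw [lam_eq_zero, MulAut.conjNormal_apply] at h1
          have := (inferInstance : (Subgroup.upperCentralSeries T 2).Normal).conj_mem _ h1 t⁻¹
          rw [lam_eq_zero.2 (by simpa [mul_assoc] using this)] at h0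
          exact absurd h0 (by decide)
        · exact h1
    unfold bil
    rw [e, hz]
  have hmk : ∀ (t s : T) (a : W), (QuotientGroup.mk t : T ⧸ W) = QuotientGroup.mk s →
      (QuotientGroup.mk (MulAut.conjNormal t a) : W ⧸ frattini W) =
        QuotientGroup.mk (MulAut.conjNormal s a) := fun t s a hts => by
    rw [← hact, ← hact, hts]
  have hf_eq : ∀ (t : T) (k : DihedralGroup 4), (QuotientGroup.mk t : T ⧸ W) = θ k →
      bil W v (MulAut.conjNormal t v) = f k := fun t k htk =>
    h.bil_congr rfl (hmk _ _ _ (htk.trans (hτ k).symm))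
  let w : DihedralGroup 4 → W := fun g => MulAut.conjNormal (τ g⁻¹) v
  have hBw : ∀ g k, bil W (w g) (w k) = f (g * k⁻¹) := by
    intro g k
    rw [← hf_eq ((τ g⁻¹)⁻¹ * τ k⁻¹) (g * k⁻¹) (by
      rw [QuotientGroup.mk_mul, QuotientGroup.mk_inv, hτ, hτ, map_mul, map_inv, map_inv, inv_inv])]
    rw [← hBc (τ g⁻¹) v]
    show bil W _ (MulAut.conjNormal (τ k⁻¹) v) = _
    rw [← MulAut.mul_apply, ← map_mul, mul_inv_cancel_left]
  have hquadc : ∀ g, quad W (w g) = quad W v := by
    intro g
    have hc : ∀ (t : T) (a : W), lam W a = 0 → lam W (MulAut.conjNormal t a) = 0 := fun t a ha => by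
      rw [lam_eq_zero, MulAut.conjNormal_apply]
      exact (inferInstance : (Subgroup.upperCentralSeries T 2).Normal).conj_mem _ (lam_eq_zero.1 ha) t
    show lam W (MulAut.conjNormal _ v * MulAut.conjNormal _ v) = lam W (v * v)
    rw [← map_mul]
    rcases zmod2_cases (lam W (v * v)) with h0 | h0
    · rw [h0, hc _ _ h0]
    · rcases zmod2_cases (lam W (MulAut.conjNormal (τ g⁻¹) (v * v))) with h1 | h1
      · have := hc (τ g⁻¹)⁻¹ _ h1
        rw [← MulAut.mul_apply, ← map_mul, inv_mul_cancel, map_one, MulAut.one_apply, h0] at this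
        exact absurd this zmod2_one_ne
      · rw [h1, h0]
  let P : List (DihedralGroup 4) → W := fun l => (l.map w).prod
  have hbilP1 : ∀ (a : W) l, bil W a (P l) = (l.map fun k => bil W a (w k)).sum := by
    intro a l
    induction l with
    | nil => simp [P, bil, lam_one]
    | cons g t ih =>
      show bil W a ((g :: t).map w).prod = _
      rw [List.map_cons, List.prod_cons, h.bil_mul_right, List.map_cons, List.sum_cons]
      exact congrArg _ ih
  have hquadP : ∀ l, quad W (P l) = qL (quad W v) f l := by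
    intro l
    induction l with
    | nil => simp [P, qL, quad, lam_one]
    | cons g t ih =>
      show quad W ((g :: t).map w).prod = _
      rw [List.map_cons, List.prod_cons, h.quad_mul, hquadc, qL]
      rw [show (t.map w).prod = P t from rfl, ih, hbilP1]
      simp only [hBw]
  have hbilP : ∀ l l', bil W (P l) (P l') = bL f l l' := by
    intro l l'
    induction l with
    | nil => simp [P, bL, bil, lam_one]
    | cons g t ih =>
      show bil W ((g :: t).map w).prod _ = _
      rw [List.map_cons, List.prod_cons, h.bil_mul_left, show (t.map w).prod = P t from rfl, ih,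
        hbilP1]
      simp only [hBw, bL, List.map_cons, List.sum_cons]
  have hΦw : ∀ g k, Φ (QuotientGroup.mk (w g)) (θ k) = if k = g then 1 else 0 := by
    intro g k
    show Φ (QuotientGroup.mk (MulAut.conjNormal (τ g⁻¹) v)) (θ k) = _
    rw [← hact, hΦa, hτ, ← map_mul, hv0']
    have : θ (k * g⁻¹) = 1 ↔ k = g := by
      rw [MulEquiv.map_eq_one_iff, mul_inv_eq_one]
    simp only [this]
  have hΦ1 : Φ 1 = 0 := by
    have := hΦm 1 1
    rw [mul_one] at this
    exact add_eq_left.1 this.symm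
  have hΦP : ∀ l k, Φ (QuotientGroup.mk (P l)) (θ k) = vecL l k := by
    intro l k
    induction l with
    | nil => simp [P, vecL, hΦ1]
    | cons g t ih =>
      show Φ (QuotientGroup.mk ((g :: t).map w).prod) (θ k) = _
      rw [List.map_cons, List.prod_cons, QuotientGroup.mk_mul, hΦm, Pi.add_apply, hΦw,
        show (t.map w).prod = P t from rfl, ih]
      simp [vecL]
  -- the values of `f`
  have hf1 : f 1 = 0 := by
    show bil W v _ = 0
    rw [h.bil_congr rfl (hmk _ 1 v ((hτ 1).trans (by rw [map_one]; rfl)))]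
    rw [map_one, MulAut.one_apply, bil, commutatorElement_self, lam_one]
  have hfinv : ∀ k, f k⁻¹ = f k := by
    intro k
    show bil W v _ = bil W v _
    rw [← hBc (τ k) v, ← MulAut.mul_apply, ← map_mul,
      h.bil_congr rfl (hmk (τ k * τ k⁻¹) 1 v (by
        rw [QuotientGroup.mk_mul, hτ, hτ, ← map_mul, mul_inv_cancel, map_one]; rfl)),
      map_one, MulAut.one_apply, h.bil_symm]
  have hzero : ∀ k, k = .r 2 ∨ k = .sr 1 ∨ k = .sr 3 → k * k = 1 → f k = 0 := by
    intro k hk hkk
    have hz : (⁅v, MulAut.conjNormal (τ k) v⁆ : W) ∈ frattini W := h.comm_mem _ _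
    refine lam_eq_zero.2 (hθ k hk (τ k) (hτ k) _ (h.facts.phi ▸ mem_map_of_mem _ hz) ?_)
    have e : MulAut.conjNormal (τ k) ⁅v, MulAut.conjNormal (τ k) v⁆ =
        ⁅v, MulAut.conjNormal (τ k) v⁆ := by
      set u := MulAut.conjNormal (τ k) v with hu
      have e2 : (QuotientGroup.mk (MulAut.conjNormal (τ k) u) : W ⧸ frattini W) = QuotientGroup.mk v := by
        rw [hu, ← MulAut.mul_apply, ← map_mul,
          hmk (τ k * τ k) 1 v (by rw [QuotientGroup.mk_mul, hτ, ← map_mul, hkk, map_one]; rfl),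
          map_one, MulAut.one_apply]
      have e3 := QuotientGroup.eq.1 e2.symm
      rw [map_commutatorElement, ← hu]
      set φ := v⁻¹ * MulAut.conjNormal (τ k) u
      have hvv : MulAut.conjNormal (τ k) u = v * φ := by simp [φ]
      have hzz : (⁅v, u⁆ : W) * ⁅v, u⁆ = 1 := Subtype.ext (by
        have := h.zs3_elementary _ (h.facts.phi ▸ mem_map_of_mem _ (h.comm_mem v u))
        rw [sq] at this; exact this)
      calc ⁅u, MulAut.conjNormal (τ k) u⁆ = ⁅u, v * φ⁆ := by rw [hvv]
        _ = u * v * (φ * u⁻¹) * φ⁻¹ * v⁻¹ := by rw [commutatorElement_def]; group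
        _ = u * v * (u⁻¹ * φ) * φ⁻¹ * v⁻¹ := by rw [h.phi_central e3 u⁻¹]
        _ = ⁅v, u⁆⁻¹ := by rw [commutatorElement_def]; group
        _ = ⁅v, u⁆ := inv_eq_of_mul_eq_one_right hzz
    have := congrArg Subtype.val e
    rwa [MulAut.conjNormal_apply] at this
  have hsum : f (.sr 2) = f (.sr 0) := by
    have hall : (QuotientGroup.mk (P (supp8 255)) : W ⧸ frattini W) = QuotientGroup.mk yW := by
      apply hΦ
      rw [hΦf (QuotientGroup.mk yW) ?_ ?_]
      · funext k
        rw [← θ.apply_symm_apply k, hΦP, vec_all]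
      · intro k
        obtain ⟨t, rfl⟩ := QuotientGroup.mk_surjective k
        rw [hact]
        refine QuotientGroup.eq.2 ?_
        have hm := mem_succ.1 (inv_mem hy4) t
        rw [← h.facts.phi] at hm
        obtain ⟨z, hz, hzv⟩ := hm
        have : (MulAut.conjNormal t yW)⁻¹ * yW = z⁻¹ := by
          apply Subtype.val_injective
          have hzv' : (z : T) = ⁅((yW : W) : T)⁻¹, t⁆ := hzv
          rw [Subgroup.coe_mul, Subgroup.coe_inv, Subgroup.coe_inv, MulAut.conjNormal_apply, hzv',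
            commutatorElement_def]
          group
        rw [this]; exact inv_mem hz
      · intro he
        rw [QuotientGroup.eq_one_iff] at he
        exact hy3 (h.facts.phi ▸ mem_map_of_mem W.subtype he)
    have hz : bil W v (P (supp8 255)) = 0 := by
      rw [h.bil_congr rfl hall, bil,
        commutatorElement_eq_one_iff_mul_comm.2 (mem_center_iff.1 hyc v), lam_one]
    rw [hbilP1] at hz
    have hw1 : ∀ k, bil W v (w k) = f k := fun k => by
      rw [← hfinv k]
    simp only [hw1] at hz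
    rw [d4_sum, hzero _ (.inl rfl) (by decide), hzero _ (.inr (.inl rfl)) (by decide),
      hzero _ (.inr (.inr rfl)) (by decide),
      show f (.r 3) = f (.r 1) from
        (show (DihedralGroup.r 3 : DihedralGroup 4) = (DihedralGroup.r 1)⁻¹ by decide) ▸ hfinv _,
      show f (.r 0) = 0 from (DihedralGroup.one_def (n := 4)) ▸ hf1] at hz
    exact zmod2_sum8 _ _ _ hz
  have hfV : f = fV (f (.r 1)) (f (.sr 0)) :=
    fV_spec hf1
      ((show (DihedralGroup.r 3 : DihedralGroup 4) = (DihedralGroup.r 1)⁻¹ by decide) ▸ hfinv _)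
      (hzero _ (.inl rfl) (by decide)) (hzero _ (.inr (.inl rfl)) (by decide))
      (hzero _ (.inr (.inr rfl)) (by decide)) hsum
  -- the subgroup of index `8`
  set p0 := f (.r 1)
  set q0 := f (.sr 0)
  set c0 := quad W v
  let u : Fin 5 → W := fun i => P (supp8 ((wit p0 q0 c0).getD i 0))
  set U := closure (Set.range u ∪ (frattini W : Set W)) with hU
  have horth : ∀ a ∈ U, ∀ b ∈ U, bil W a b = 0 := by
    have base : ∀ a ∈ Set.range u ∪ (frattini W : Set W), ∀ b ∈ Set.range u ∪ (frattini W : Set W),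
        bil W a b = 0 := by
      rintro a (⟨i, rfl⟩ | ha) b (⟨j, rfl⟩ | hb)
      · rw [hbilP, hfV]; exact wit_orth p0 q0 c0 i j
      · rw [h.bil_symm]; exact h.bil_phi hb _
      · exact h.bil_phi ha _
      · exact h.bil_phi ha _
    have one_l : ∀ x, bil W 1 x = 0 := fun x => h.bil_phi (one_mem _) x
    have inv_l : ∀ a x, bil W a x = 0 → bil W a⁻¹ x = 0 := fun a x ha => by
      have := h.bil_mul_left a⁻¹ a x
      rw [inv_mul_cancel, one_l, ha, add_zero] at this
      exact this.symm
    intro a ha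
    induction ha using Subgroup.closure_induction with
    | mem a ha =>
      intro b hb
      induction hb using Subgroup.closure_induction with
      | mem b hb => exact base a ha b hb
      | one => rw [h.bil_symm]; exact one_l a
      | mul x y _ _ hx hy => rw [h.bil_mul_right, hx, hy, add_zero]
      | inv x _ hx => rw [h.bil_symm] at hx ⊢; exact inv_l _ _ hx
    | one => exact fun b _ => one_l b
    | mul x y _ _ hx hy => intro b hb; rw [h.bil_mul_left, hx b hb, hy b hb, add_zero]
    | inv x _ hx => exact fun b hb => inv_l _ _ (hx b hb)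
  have hquadU : ∀ a ∈ U, quad W a = 0 := by
    intro a ha
    induction ha using Subgroup.closure_induction with
    | mem a ha =>
      rcases ha with ⟨i, rfl⟩ | ha
      · rw [hquadP, hfV]; exact wit_zero p0 q0 c0 i
      · show lam W (a * a) = 0
        rw [h.lam_mul ha ha]
        exact zmod2_self _
    | one => simp [quad, lam_one]
    | mul x y hx hy ihx ihy => rw [h.quad_mul, ihx, ihy, horth x hx y hy]; rfl
    | inv x hx ihx =>
      have := h.quad_mul x⁻¹ x
      rw [inv_mul_cancel, ihx, horth _ (inv_mem hx) _ hx] at this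
      simpa [quad, lam_one] using this.symm
  have hidx : U.index ≤ 8 := by
    let sm : Fin 32 → W := fun a => P ((sel a (wit p0 q0 c0)).flatMap supp8)
    have hP_app : ∀ l1 l2, P (l1 ++ l2) = P l1 * P l2 := fun l1 l2 => by simp [P]
    have hsm : ∀ a, sm a ∈ U := by
      intro a
      show P ((sel a (wit p0 q0 c0)).flatMap supp8) ∈ U
      unfold sel
      have hgen : ∀ L : List ℕ, (∀ i ∈ L, i < 5) →
          P ((L.map fun i => (wit p0 q0 c0).getD i 0).flatMap supp8) ∈ U := by
        intro L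
        induction L with
        | nil => intro _; simpa [P] using U.one_mem
        | cons i L ih =>
          intro hL
          rw [List.map_cons, List.flatMap_cons, hP_app]
          exact U.mul_mem (subset_closure (.inl ⟨⟨i, hL i (by simp)⟩, rfl⟩))
            (ih fun j hj => hL j (by simp [hj]))
      exact hgen _ fun i hi => List.mem_range.1 (List.mem_filter.1 hi).1
    have hinj : Function.Injective fun a => (QuotientGroup.mk (sm a) : W ⧸ frattini W) := by
      intro a b hab
      refine wit_indep p0 q0 c0 a b fun i => ?_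
      rw [← hΦP, ← hΦP]
      exact congrArg (fun x => Φ x (θ (elt8 i))) hab
    have hfrU : frattini W ≤ U := fun z hz => subset_closure (.inr hz)
    set Ub := U.map (QuotientGroup.mk' (frattini W))
    have h32 : 32 ≤ Nat.card Ub := by
      have := Nat.card_le_card_of_injective
        (fun a : Fin 32 => (⟨QuotientGroup.mk (sm a), mem_map_of_mem _ (hsm a)⟩ : Ub))
        (fun a b hab => hinj (congrArg Subtype.val hab))
      simpa using this
    have hci := Ub.card_mul_index
    rw [h.facts.cardQ, Subgroup.index_map_eq _ (QuotientGroup.mk'_surjective _)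
      (by rw [QuotientGroup.ker_mk']; exact hfrU)] at hci
    nlinarith
  have hlast := h.deep_sq hidx (A := (Subgroup.upperCentralSeries T 2).subgroupOf W) fun a ha => by
    rw [mem_subgroupOf]; exact lam_eq_zero.1 (hquadU a ha)
  have hmap := Subgroup.map_mono (f := W.subtype) hlast
  rw [h.facts.phi] at hmap
  have hsub : ((Subgroup.upperCentralSeries T 2).subgroupOf W).map W.subtype ≤
      Subgroup.upperCentralSeries T 2 := by rintro _ ⟨z, hz, rfl⟩; exact hz
  have hcard := card_le_of_le (hmap.trans hsub)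
  rw [h.card_zs 3 (by omega), h.card_zs 2 (by omega)] at hcard
  norm_num at hcard

end Z4Data

end H69
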