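import Cfsg.Agent.H69.FourthCentre

/-!
The Frattini quotient of `C_T(Z₃(T))` as a module for `T / C_T(Z₃(T))`.
-/

set_option autoImplicit false

namespace H69

open Subgroup
open scoped commutatorElement

theorem zmod2_one_add_one : (1 + 1 : ZMod 2) = 0 := by decide

theorem exists_avoid {V : Type*} [Group V] [Finite V] (hV2 : ∀ v : V, v * v = 1) {l : V}
    (hl : l ≠ 1) : ∃ H : Subgroup V, l ∉ H ∧ ∀ a b, a * b ∈ H ↔ (a ∈ H ↔ b ∈ H) := by
  have hi : ∀ a : V, a⁻¹ = a := fun a => inv_eq_of_mul_eq_one_right (hV2 a)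
  have hc : ∀ a b : V, a * b = b * a := fun a b => by
    calc a * b = (a * b)⁻¹ := (hi _).symm
      _ = b * a := by rw [mul_inv_rev, hi, hi]
  obtain ⟨H, hH, hmax⟩ := exists_maximalFor_of_wellFoundedGT
    (P := fun H : Subgroup V => l ∉ H) (f := id) ⟨⊥, by simpa using hl⟩
  have hHn : H.Normal := ⟨fun x hx g => by rwa [hc g x, mul_inv_cancel_right]⟩
  have hout : ∀ a, a ∉ H → a * l ∈ H := by
    intro a ha
    have hlmem : l ∈ H ⊔ zpowers a := by
      by_contra hn
      exact ha ((hmax (j := H ⊔ zpowers a) hn le_sup_left) (mem_sup_right (mem_zpowers a)))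
    obtain ⟨x, hx, k, hk, hxk⟩ := mem_sup_of_normal_left.1 hlmem
    obtain ⟨m, rfl⟩ := mem_zpowers_iff.1 hk
    rcases Int.even_or_odd m with ⟨j, rfl⟩ | ⟨j, rfl⟩
    · rw [zpow_add, ← (Commute.refl a).mul_zpow, hV2, one_zpow, mul_one] at hxk
      exact absurd (hxk ▸ hx) hH
    · rw [zpow_add, two_mul, zpow_add, ← (Commute.refl a).mul_zpow, hV2, one_zpow, one_mul,
        zpow_one] at hxk
      rw [← hxk, hc x a, ← mul_assoc, hV2, one_mul]
      exact hx
  refine ⟨H, hH, fun a b => ?_⟩
  by_cases ha : a ∈ H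
  · by_cases hb : b ∈ H
    · simp [ha, hb, H.mul_mem ha hb]
    · simp [ha, hb, H.mul_mem_cancel_left ha]
  · by_cases hb : b ∈ H
    · simp [ha, hb, H.mul_mem_cancel_right hb]
    · have h := H.mul_mem (hout a ha) (hout b hb)
      rw [show a * l * (b * l) = a * b by
        rw [mul_assoc, ← mul_assoc l, hc l b, mul_assoc b, hV2, mul_one]] at h
      simp [ha, hb, h]

/-- Embedding into the regular module. -/
theorem exists_regular {P V : Type*} [Group P] [Finite P] [Group V] [Finite V]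
    (hP : IsPGroup 2 P) (hV2 : ∀ v : V, v * v = 1) (act : P →* MulAut V)
    (hfix : ∀ u v : V, (∀ k, act k u = u) → (∀ k, act k v = v) → u ≠ 1 → v ≠ 1 → u = v) :
    ∃ Φ : V → P → ZMod 2, Function.Injective Φ ∧ (∀ u v, Φ (u * v) = Φ u + Φ v) ∧
      (∀ k v g, Φ (act k v) g = Φ v (g * k)) ∧
      ∀ v, (∀ k, act k v = v) → v ≠ 1 → Φ v = fun _ => 1 := by
  classical
  have := Fact.mk Nat.prime_two
  have h2V : IsPGroup 2 V := fun v => ⟨1, by rw [pow_one, sq]; exact hV2 v⟩
  letI : MulAction P V := MulAction.compHom V act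
  have hfixed : ∀ K : Subgroup V, (∀ k : P, ∀ v ∈ K, act k v ∈ K) → K ≠ ⊥ →
      ∃ v ∈ K, v ≠ 1 ∧ ∀ k, act k v = v := by
    intro K hK hne
    letI : MulAction P K :=
      { smul := fun k v => ⟨act k v, hK k v v.2⟩
        one_smul := fun v => Subtype.ext (by show act 1 (v : V) = v; rw [map_one]; rfl)
        mul_smul := fun a b v => Subtype.ext (by
          show act (a * b) (v : V) = act a (act b v); rw [map_mul]; rfl) }
    have hd : 2 ∣ Nat.card K := (h2V.to_subgroup K).card_eq_or_dvd.resolve_left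
      fun he => hne (eq_bot_of_card_eq K he)
    obtain ⟨b, hb, hb1⟩ := hP.exists_fixed_point_of_prime_dvd_card_of_fixed_point K hd
      (a := (1 : K)) (fun k => Subtype.ext (map_one (act k)))
    exact ⟨b, b.2, fun h => hb1 (Subtype.ext h.symm), fun k => congrArg Subtype.val (hb k)⟩
  by_cases hV : (⊤ : Subgroup V) = ⊥
  · have h1 : ∀ v : V, v = 1 := fun v => mem_bot.1 (hV ▸ mem_top v)
    refine ⟨fun _ _ => 0, fun u v _ => by rw [h1 u, h1 v], fun u v => ?_, fun _ _ _ => rfl,
      fun v _ hv => absurd (h1 v) hv⟩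
    funext; simp
  obtain ⟨l, -, hl1, hl⟩ := hfixed ⊤ (fun _ _ _ => mem_top _) hV
  obtain ⟨H, hlH, hH⟩ := exists_avoid hV2 hl1
  let χ : V → ZMod 2 := fun v => if v ∈ H then 0 else 1
  have hχ : ∀ u v, χ (u * v) = χ u + χ v := by
    intro u v
    have h := hH u v
    by_cases hu : u ∈ H <;> by_cases hv : v ∈ H <;> simp_all [χ] <;> exact (zmod2_one_add_one).symm
  refine ⟨fun v g => χ (act g v), ?_, fun u v => funext fun g => ?_, fun k v g => ?_, ?_⟩
  · let K : Subgroup V :=
      { carrier := {v | ∀ g, act g v ∈ H}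
        one_mem' := fun g => by rw [map_one]; exact one_mem _
        mul_mem' := fun ha hb g => by rw [map_mul]; exact mul_mem (ha g) (hb g)
        inv_mem' := fun ha g => by rw [map_inv]; exact inv_mem (ha g) }
    have hK : K = ⊥ := by
      by_contra hne
      obtain ⟨v, hv, hv1, hvf⟩ := hfixed K (fun k v hv g => by
        rw [← MulAut.mul_apply, ← map_mul]; exact hv (g * k)) hne
      exact hlH (hfix v l hvf hl hv1 hl1 ▸ (hvf 1 ▸ hv 1))
    intro u v huv
    have hmem : u * v ∈ K := fun g => by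
      have he : χ (act g u) = χ (act g v) := congrFun huv g
      rw [map_mul, hH]
      by_cases hu : act g u ∈ H <;> by_cases hv : act g v ∈ H <;> simp_all [χ]
    rw [hK, mem_bot] at hmem
    rw [eq_inv_of_mul_eq_one_left hmem, inv_eq_of_mul_eq_one_right (hV2 v)]
  · show χ (act g (u * v)) = _
    rw [map_mul, hχ]; rfl
  · show χ (act g (act k v)) = χ (act (g * k) v)
    rw [map_mul]; rfl
  · intro v hv hv1
    funext g
    show χ (act g v) = 1
    rw [hv g, hfix v l hv hl hv1 hl1]
    exact if_neg hlH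

namespace Z4Data

variable {T : Type*} [Group T] [Finite T] {W : Subgroup T}

theorem zs_two (h : Z4Data W) {i : ℕ} (hi : i ≤ 3) {x y : T}
    (hx : x ∈ Subgroup.upperCentralSeries T (i + 1)) (hy : y ∈ Subgroup.upperCentralSeries T (i + 1))
    (hx' : x ∉ Subgroup.upperCentralSeries T i) (hy' : y ∉ Subgroup.upperCentralSeries T i) :
    x⁻¹ * y ∈ Subgroup.upperCentralSeries T i := by
  set A := Subgroup.upperCentralSeries T i
  set B := Subgroup.upperCentralSeries T (i + 1)
  have hidx : (A.subgroupOf B).index = 2 := by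
    have hc := (A.subgroupOf B).card_mul_index
    rw [Cfsg.Comp.card_subgroupOf (Subgroup.upperCentralSeries_mono T (Nat.le_succ i)),
      h.card_zs i (by omega), h.card_zs (i + 1) (by omega), pow_succ] at hc
    exact Nat.eq_of_mul_eq_mul_left (Nat.two_pow_pos i) hc
  have := (mul_mem_iff_of_index_two hidx (a := (⟨x, hx⟩ : B)⁻¹) (b := ⟨y, hy⟩)).2
    ⟨fun hh => absurd ((Subgroup.inv_mem_iff _).1 hh) hx', fun hh => absurd hh hy'⟩
  exact this

/-- The basic structure. -/
structure Facts (W : Subgroup T) [W.Normal] : Prop where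
  index : W.index = 8
  phi : (frattini ↥W).map W.subtype = Subgroup.upperCentralSeries T 3
  cardQ : Nat.card (↥W ⧸ frattini ↥W) = 256
  z4_le : Subgroup.upperCentralSeries T 4 ≤ W
  cardT : Nat.card T = 2 ^ 14

/-- Action of `T ⧸ W` on `W ⧸ Φ(W)`. -/
theorem exists_act (h : Z4Data W) [W.Normal] :
    ∃ act : T ⧸ W →* MulAut (↥W ⧸ frattini ↥W), ∀ (t : T) (w : W),
      act (QuotientGroup.mk t) (QuotientGroup.mk w) = QuotientGroup.mk (MulAut.conjNormal t w) := by
  have := Fact.mk Nat.prime_two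
  let f : T →* MulAut (↥W ⧸ frattini ↥W) :=
    { toFun := fun t => QuotientGroup.congr _ _ (MulAut.conjNormal t)
        (Subgroup.characteristic_iff_map_eq.1 inferInstance _)
      map_one' := MulEquiv.ext fun v => by
        obtain ⟨x, rfl⟩ := QuotientGroup.mk'_surjective _ v
        simp
      map_mul' := fun s t => MulEquiv.ext fun v => by
        obtain ⟨x, rfl⟩ := QuotientGroup.mk'_surjective _ v
        show (QuotientGroup.mk (MulAut.conjNormal (s * t) x) : ↥W ⧸ frattini ↥W) =
          QuotientGroup.mk (MulAut.conjNormal s (MulAut.conjNormal t x))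
        rw [map_mul]; rfl }
  refine ⟨QuotientGroup.lift W f fun t ht => ?_, fun t w => rfl⟩
  refine MonoidHom.mem_ker.2 (MulEquiv.ext fun v => ?_)
  obtain ⟨x, rfl⟩ := QuotientGroup.mk'_surjective _ v
  show (QuotientGroup.mk (MulAut.conjNormal t x) : ↥W ⧸ frattini ↥W) = QuotientGroup.mk x
  refine QuotientGroup.eq.2 ?_
  have hc := H31.commutator_le_frattini (h.two.to_subgroup W)
    (commutator_mem_commutator (mem_top (⟨t, ht⟩ : W)) (mem_top x⁻¹))
  have e : (MulAut.conjNormal t x)⁻¹ * x = ⁅(⟨t, ht⟩ : W), x⁻¹⁆ := by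
    apply Subtype.ext
    simp [MulAut.conjNormal_apply, commutatorElement_def, mul_assoc]
  rw [e]; exact hc

theorem frattini_sq (h : Z4Data W) (v : ↥W ⧸ frattini ↥W) : v * v = 1 := by
  have := Fact.mk Nat.prime_two
  obtain ⟨x, rfl⟩ := QuotientGroup.mk'_surjective _ v
  rw [← map_mul, QuotientGroup.mk'_apply, QuotientGroup.eq_one_iff, ← sq]
  exact H31.pow_mem_frattini (h.two.to_subgroup W) x

theorem map_frattini_normal (h : Z4Data W) : ((frattini ↥W).map W.subtype).Normal := by
  have := h.normal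
  exact ConjAct.normal_of_characteristic_of_normal

/-- Everything except the coordinates. -/
theorem facts (h : Z4Data W) [W.Normal] : Facts W := by
  have := Fact.mk Nat.prime_two
  set N := (frattini ↥W).map W.subtype with hN
  have hNn : N.Normal := h.map_frattini_normal
  have hNc : Nat.card N = Nat.card (frattini ↥W) :=
    card_map_of_injective W.subtype_injective
  obtain ⟨j, hj⟩ := IsPGroup.iff_card.1 (h.two.to_subgroup N)
  have hj3 : j ≤ 3 := by
    have := h.small
    rw [← hNc, hj] at this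
    exact (Nat.pow_le_pow_iff_right (by norm_num : 1 < 2)).1 (this : 2 ^ j ≤ 2 ^ 3)
  have hNz := h.eq_zs (by omega) hNn hj
  obtain ⟨act, hact⟩ := h.exists_act
  have hfixed : ∀ v : ↥W ⧸ frattini ↥W, (∀ k, act k v = v) → v ≠ 1 →
      ∃ x : W, QuotientGroup.mk x = v ∧ (x : T) ∈ Subgroup.upperCentralSeries T (j + 1) ∧
        (x : T) ∉ Subgroup.upperCentralSeries T j := by
    intro v hv hv1
    obtain ⟨x, rfl⟩ := QuotientGroup.mk_surjective v
    refine ⟨x, rfl, ?_, fun hx => ?_⟩
    · refine inv_mem_iff.1 (mem_succ.2 fun t => ?_)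
      have hm := QuotientGroup.eq.1 ((hact t x).symm.trans (hv _)).symm
      rw [← hNz]
      refine ⟨_, hm, ?_⟩
      simp [MulAut.conjNormal_apply, commutatorElement_def, mul_assoc]
    · rw [← hNz] at hx
      obtain ⟨y, hy, hyx⟩ := hx
      exact hv1 ((QuotientGroup.eq_one_iff x).2 (Subtype.val_injective hyx ▸ hy))
  obtain ⟨Φ, hΦ, -, -, -⟩ := exists_regular (h.two.to_quotient W) h.frattini_sq act (by
    intro u v hu hv hu1 hv1
    obtain ⟨x, rfl, hx, hx'⟩ := hfixed u hu hu1
    obtain ⟨y, rfl, hy, hy'⟩ := hfixed v hv hv1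
    refine QuotientGroup.eq.2 ?_
    have hm := h.zs_two hj3 hx hy hx' hy'
    rw [← hNz] at hm
    obtain ⟨z, hz, hzv⟩ := hm
    rwa [show x⁻¹ * y = z from Subtype.val_injective (by simpa using hzv.symm)])
  have hcardD : Nat.card (T ⧸ W) ≤ 8 := h.index_le
  have hVle : Nat.card (↥W ⧸ frattini ↥W) ≤ 2 ^ Nat.card (T ⧸ W) := by
    have := Nat.card_le_card_of_injective Φ hΦ
    rwa [Nat.card_fun, Nat.card_zmod] at this
  have hV8 : Nat.card (↥W ⧸ frattini ↥W) ≤ 256 :=
    hVle.trans (Nat.pow_le_pow_right (by norm_num) hcardD)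
  have hT : Nat.card T = Nat.card (T ⧸ W) * (Nat.card (↥W ⧸ frattini ↥W) * Nat.card N) := by
    rw [hNc, ← card_eq_card_quotient_mul_card_subgroup, ← card_eq_card_quotient_mul_card_subgroup]
  have hN8 : 2 ^ j ≤ 8 := by
    have := Nat.pow_le_pow_right (show 1 ≤ 2 by norm_num) hj3; simpa using this
  have hbig := h.big
  rw [hT, hj] at hbig
  have e1 : Nat.card (T ⧸ W) = 8 := by
    by_contra hh
    have := Nat.mul_le_mul (show Nat.card (T ⧸ W) ≤ 7 by omega) (Nat.mul_le_mul hV8 hN8)
    norm_num at this hbig; omega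
  have e2 : Nat.card (↥W ⧸ frattini ↥W) = 256 := by
    by_contra hh
    have := Nat.mul_le_mul hcardD
      (Nat.mul_le_mul (show Nat.card (↥W ⧸ frattini ↥W) ≤ 255 by omega) hN8)
    norm_num at this hbig; omega
  have e3 : 2 ^ j = 8 := by
    rw [e1, e2] at hbig; norm_num at hbig; omega
  have hj' : j = 3 := Nat.pow_right_injective (le_refl 2) (e3.trans (by norm_num : (8 : ℕ) = 2 ^ 3))
  subst hj'
  have hNW : Subgroup.upperCentralSeries T 3 ≤ W := hNz ▸ map_subtype_le _
  refine ⟨e1, hNz, e2, h.above le_rfl hNW fun hle => ?_, by rw [hT, hj, e1, e2]; norm_num⟩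
  have hle' := card_le_of_le hle
  rw [h.card_zs 3 (by omega)] at hle'
  have : Nat.card W = 256 * 8 := by
    rw [card_eq_card_quotient_mul_card_subgroup (frattini ↥W), e2, ← hNc, hj]; norm_num
  omega

end Z4Data

end H69
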