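import Cfsg.Agent.H69.InvolFixed

/-!
Two-groups with an automorphism of order two whose fixed group is elementary abelian and carries
a transitive cyclic group of automorphisms commuting with it: class two coordinates, and the bound
on the order of a noncommutative one.
-/

set_option autoImplicit false

universe u

namespace H69.InvolFixed

open scoped commutatorElement

variable {Q : Type u} [Group Q]

/-- Coordinates for the noncommutative case. -/
structure Coord (α ρ : MulAut Q) (C : Subgroup Q) (n : ℕ) where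
  e : GaloisField 2 n → Q
  l : GaloisField 2 n
  κ : GaloisField 2 n
  ψ : Q → GaloisField 2 n × GaloisField 2 n
  e_add : ∀ a b, e (a + b) = e a * e b
  e_inj : Function.Injective e
  e_mem : ∀ a, e a ∈ C
  e_surj : ∀ x ∈ C, ∃ a, e a = x
  ψ_mul : ∀ x y, ψ (x * y) = ψ x + ψ y
  ψ_surj : Function.Surjective ψ
  ψ_ker : ∀ x, ψ x = 0 ↔ x ∈ C
  ψ_alpha : ∀ x, ψ (α x) = ((ψ x).1, (ψ x).2 + (ψ x).1)
  ψ_rho : ∀ x, ψ (ρ x) = (l * (ψ x).1, l * (ψ x).2)
  sq : ∀ x, ∃ u, x * x = e u ∧ u ^ 2 = κ * (ψ x).1 ^ 2 + (ψ x).1 * (ψ x).2 + (ψ x).2 ^ 2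
  commu : ∀ x y, ∃ w, ⁅x, y⁆ = e w ∧ w ^ 2 = (ψ x).1 * (ψ y).2 + (ψ y).1 * (ψ x).2

namespace Hyp

variable {α ρ : MulAut Q} {C : Subgroup Q} {n : ℕ} (h : Hyp α ρ C n)
include h

theorem dlt_congr [Finite Q] {u v : Q} (huv : u⁻¹ * v ∈ C) : dlt α v = dlt α u := by
  obtain ⟨c, hc, rfl⟩ : ∃ c ∈ C, u * c = v := ⟨_, huv, mul_inv_cancel_left u v⟩
  simp only [dlt, map_mul, (h.fix c).1 hc, _root_.mul_inv_rev]
  rw [mul_assoc, ← mul_assoc (u⁻¹), ← h.central hc (u⁻¹ * α u), inv_mul_cancel_left]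

theorem dlt_mul [Finite Q] {u v : Q} (hu : dlt α u ∈ C) : dlt α (u * v) = dlt α u * dlt α v := by
  calc dlt α (u * v) = v⁻¹ * (dlt α u * v) * (v⁻¹ * α v) := by simp only [dlt, map_mul]; group
    _ = _ := by rw [h.central hu, inv_mul_cancel_left]; rfl

theorem dlt_pow_rho (k : ℕ) (x : Q) : dlt α ((ρ ^ k) x) = (ρ ^ k) (dlt α x) := by
  induction k with
  | zero => rfl
  | succ k ih =>
    rw [pow_succ']
    show dlt α (ρ ((ρ ^ k) x)) = ρ ((ρ ^ k) (dlt α x))
    rw [h.dlt_rho, ih]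

theorem exists_three_coord [Finite Q] [C.Normal] (hcard : Nat.card Q = (2 ^ n) ^ 3)
    (hsq : ∀ x : Q, x * x ∈ C) : Nonempty (Coord α ρ C n) := by
  classical
  haveI : Fact (Nat.Prime 2) := ⟨Nat.prime_two⟩
  haveI : Fintype (GaloisField 2 n) := Fintype.ofFinite _
  have hqn : Nat.card (GaloisField 2 n) = 2 ^ n := GaloisField.card 2 n (by have := h.hn; omega)
  obtain ⟨e, l, hl0, hgen, hadd, hinj, heC, hsur, her⟩ := h.exists_coord
  have he0 : e 0 = 1 := by
    have := hadd 0 0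
    rw [add_zero] at this
    exact left_eq_mul.1 this
  have htop : C ≠ ⊤ := fun e' => by
    have h1 := h.card
    rw [e', Subgroup.card_top, hcard] at h1
    have : (2 ^ n) ^ 1 = (2 ^ n) ^ 3 := by rw [pow_one]; exact h1.symm
    have := Nat.pow_right_injective (by
      calc 2 ≤ 2 ^ 1 := le_rfl
        _ ≤ 2 ^ n := Nat.pow_le_pow_right two_pos (by have := h.hn; omega)) this
    omega
  obtain ⟨W, hW, hWmem⟩ := h.bar htop
  have hel : ∀ x : Q ⧸ C, x * x = 1 := fun x => by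
    induction x using QuotientGroup.induction_on with
    | H x => rw [← QuotientGroup.mk_mul, QuotientGroup.eq_one_iff]; exact hsq x
  have hab : ∀ x y : Q ⧸ C, x * y = y * x := fun x y => by
    have h1 := inv_eq_of_mul_eq_one_right (hel (x * y))
    rw [_root_.mul_inv_rev, inv_eq_of_mul_eq_one_right (hel x), inv_eq_of_mul_eq_one_right (hel y)] at h1
    exact h1.symm
  letI : CommGroup (Q ⧸ C) := { (inferInstance : Group (Q ⧸ C)) with mul_comm := hab }
  have hcl : ∀ x y : Q, ⁅x, y⁆ ∈ C := fun x y => by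
    rw [← QuotientGroup.eq_one_iff]
    show QuotientGroup.mk' C ⁅x, y⁆ = 1
    rw [map_commutatorElement, commutatorElement_eq_one_iff_mul_comm]
    exact hab _ _
  have hcomml : ∀ x y z : Q, ⁅x * y, z⁆ = ⁅x, z⁆ * ⁅y, z⁆ := fun x y z => h.comm_mul_left (hcl x z) (hcl y z)
  have hcommr : ∀ x y z : Q, ⁅z, x * y⁆ = ⁅z, x⁆ * ⁅z, y⁆ := fun x y z => by
    rw [← commutatorElement_inv, hcomml, _root_.mul_inv_rev, commutatorElement_inv, commutatorElement_inv,
      h.C_comm (hcl z y) (hcl z x)]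
  have hdd : ∀ x : Q, dlt α (dlt α x) ∈ C := fun x => by
    rw [show dlt α (dlt α x) = (dlt α x * dlt α x)⁻¹ by rw [dlt, h.alpha_dlt, _root_.mul_inv_rev]]
    exact C.inv_mem (hsq _)
  have hdW : ∀ x : Q, ((dlt α x : Q) : Q ⧸ C) ∈ W := fun x => (hWmem _).2 (hdd x)
  -- the equivariant retraction
  set r := barAut ρ h.mem_rho with hr
  obtain ⟨π0, hπ0W, hπ0⟩ : ∃ π0 : (Q ⧸ C) →* (Q ⧸ C), (∀ x, π0 x ∈ W) ∧ ∀ x ∈ W, π0 x = x := by
    letI : Module (ZMod 2) (Additive (Q ⧸ C)) :=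
      AddCommGroup.zmodModule (fun x => by
        rw [two_nsmul]; exact Additive.toMul.injective (hel x.toMul))
    let W' : Submodule (ZMod 2) (Additive (Q ⧸ C)) := AddSubgroup.toZModSubmodule 2 (Subgroup.toAddSubgroup W)
    obtain ⟨g, hg⟩ := W'.subtype.exists_leftInverse_of_injective W'.ker_subtype
    refine ⟨AddMonoidHom.toMultiplicative (W'.subtype.comp g).toAddMonoidHom, fun x => (g (Additive.ofMul x)).2,
      fun x hx => ?_⟩
    exact congrArg (fun y : W' => Additive.toMul (y : Additive (Q ⧸ C))) (LinearMap.congr_fun hg ⟨Additive.ofMul x, hx⟩)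
  have hrW : ∀ (k : ℕ), ∀ x ∈ W, (r ^ k) x ∈ W := fun k x hx => hW.rho_pow_mem hx k
  have hrW' : ∀ (k : ℕ), ∀ x ∈ W, (r ^ k)⁻¹ x ∈ W := fun k x hx => by
    have e1 : ((r ^ k)⁻¹ : MulAut (Q ⧸ C)) = r ^ ((2 ^ n - 2) * k) := by
      rw [inv_eq_iff_mul_eq_one, ← pow_add,
        show k + (2 ^ n - 2) * k = (2 ^ n - 1) * k by
          have : 2 ^ 1 ≤ 2 ^ n := Nat.pow_le_pow_right two_pos (by have := h.hn; omega)
          rw [show 2 ^ n - 1 = 2 ^ n - 2 + 1 by omega, add_mul, one_mul, add_comm],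
        pow_mul, hW.rpow, one_pow]
    rw [e1]; exact hrW _ x hx
  let f : (Q ⧸ C) → ℕ → (Q ⧸ C) := fun x k => (r ^ k) (π0 ((r ^ k)⁻¹ x))
  let π : (Q ⧸ C) →* (Q ⧸ C) := MonoidHom.mk' (fun x => ∏ k ∈ Finset.range (2 ^ n - 1), f x k) fun x y => by
    rw [← Finset.prod_mul_distrib]
    exact Finset.prod_congr rfl fun k _ => by simp only [f, map_mul]
  have hπW : ∀ x, π x ∈ W := fun x => by
    show ∏ k ∈ Finset.range (2 ^ n - 1), f x k ∈ W
    exact W.prod_mem fun k _ => hrW k _ (hπ0W _)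
  have hπid : ∀ x ∈ W, π x = x := by
    intro x hx
    show ∏ k ∈ Finset.range (2 ^ n - 1), f x k = x
    rw [Finset.prod_congr rfl (fun k _ => show f x k = x by
      show (r ^ k) (π0 ((r ^ k)⁻¹ x)) = x
      rw [hπ0 _ (hrW' k x hx)]; exact MulEquiv.apply_symm_apply (r ^ k) x), Finset.prod_const, Finset.card_range]
    obtain ⟨m, hm⟩ : ∃ m, 2 ^ n - 1 = 2 * m + 1 := ⟨2 ^ (n - 1) - 1, by
      have e1 : 2 ^ n = 2 * 2 ^ (n - 1) := by rw [← pow_succ']; congr 1; have := h.hn; omega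
      have : 1 ≤ 2 ^ (n - 1) := Nat.one_le_two_pow
      omega⟩
    rw [hm, pow_succ, pow_mul, pow_two, hW.sq x hx, one_pow, one_mul]
  have hπr : ∀ x, π (r x) = r (π x) := by
    intro x
    show ∏ k ∈ Finset.range (2 ^ n - 1), f (r x) k = r (∏ k ∈ Finset.range (2 ^ n - 1), f x k)
    rw [map_prod]
    have e1 : ∀ k, f (r x) (k + 1) = r (f x k) := fun k => by
      show (r ^ (k + 1)) (π0 ((r ^ (k + 1))⁻¹ (r x))) = r ((r ^ k) (π0 ((r ^ k)⁻¹ x)))
      rw [pow_succ', _root_.mul_inv_rev]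
      show r ((r ^ k) (π0 ((r ^ k)⁻¹ (r⁻¹ (r x))))) = _
      rw [show r⁻¹ (r x) = x from MulEquiv.symm_apply_apply r x]
    rw [← Finset.prod_congr rfl (fun k _ => e1 k)]
    have e2 := Finset.prod_range_succ' (f (r x)) (2 ^ n - 1)
    rw [Finset.prod_range_succ, show f (r x) (2 ^ n - 1) = f (r x) 0 by
      simp only [f, hW.rpow, pow_zero]] at e2
    exact mul_right_cancel e2
  -- the two coordinates
  have ha : ∀ x : Q, ∃ a, e a = dlt α (dlt α x) := fun x => hsur _ (hdd x)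
  choose A hA using ha
  have hb : ∀ x : Q, ∃ b, ∃ w : Q, (w : Q ⧸ C) = π (x : Q ⧸ C) ∧ e b = dlt α w := fun x => by
    obtain ⟨w, hw⟩ := QuotientGroup.mk_surjective (π (x : Q ⧸ C))
    obtain ⟨b, hb⟩ := hsur _ ((hWmem w).1 (by rw [hw]; exact hπW _))
    exact ⟨b, w, hw, hb⟩
  choose Bc wB hwB hB using hb
  have hBrep : ∀ x w : Q, (w : Q ⧸ C) = π (x : Q ⧸ C) → e (Bc x) = dlt α w := fun x w hw => by
    rw [hB, h.dlt_congr (QuotientGroup.eq.1 (hw.trans (hwB x).symm))]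
  have hwC : ∀ x, dlt α (wB x) ∈ C := fun x => hB x ▸ heC _
  have hAmul : ∀ x y, A (x * y) = A x + A y := fun x y => hinj (by
    rw [hadd, hA, hA, hA, ← h.dlt_mul (hdd x)]
    refine h.dlt_congr (QuotientGroup.eq.1 ?_)
    simp only [dlt, QuotientGroup.mk_mul, map_mul, QuotientGroup.mk_inv, _root_.mul_inv_rev]
    ac_rfl)
  have hBmul : ∀ x y, Bc (x * y) = Bc x + Bc y := fun x y => hinj (by
    rw [hadd, hB x, hB y, ← h.dlt_mul (hwC x)]
    exact hBrep _ _ (by rw [QuotientGroup.mk_mul, QuotientGroup.mk_mul, hwB, hwB, map_mul]))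
  have hArho : ∀ x, A (ρ x) = l * A x := fun x => hinj (by rw [← her, hA, hA, h.dlt_rho, h.dlt_rho])
  have hBrho : ∀ x, Bc (ρ x) = l * Bc x := fun x => hinj (by
    rw [← her, hB x, ← h.dlt_rho]
    exact hBrep _ _ (by rw [← barAut_mk ρ h.mem_rho, ← barAut_mk ρ h.mem_rho, hwB, hπr]))
  have hBW : ∀ x : Q, dlt α x ∈ C → e (Bc x) = dlt α x := fun x hx =>
    hBrep x x (hπid _ ((hWmem x).2 hx)).symm
  have hker : ∀ x, A x = 0 → Bc x = 0 → x ∈ C := fun x hx hx' => by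
    have h1 : dlt α x ∈ C := h.dlt_eq_one.1 (by rw [← hA, hx, he0])
    exact h.dlt_eq_one.1 (by rw [← hBW x h1, hx', he0])
  have hker' : ∀ x ∈ C, A x = 0 ∧ Bc x = 0 := fun x hx => by
    have h1 := h.dlt_eq_one.2 hx
    refine ⟨hinj ?_, hinj ?_⟩
    · rw [hA, h1, he0]; simp [dlt]
    · rw [hBW x (h1 ▸ C.one_mem), h1, he0]
  let ψ : Q → GaloisField 2 n × GaloisField 2 n := fun x => (A x, Bc x)
  have hψmul : ∀ x y, ψ (x * y) = ψ x + ψ y := fun x y => Prod.ext (hAmul x y) (hBmul x y)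
  have hψker : ∀ x, ψ x = 0 ↔ x ∈ C := fun x =>
    ⟨fun hx => hker x (congrArg Prod.fst hx) (congrArg Prod.snd hx), fun hx => Prod.ext (hker' x hx).1 (hker' x hx).2⟩
  have hψinj : ∀ u v, ψ u = ψ v → u⁻¹ * v ∈ C := fun u v huv => by
    rw [← hψker]
    have h1 := hψmul u (u⁻¹ * v)
    rw [mul_inv_cancel_left, huv] at h1
    exact left_eq_add.1 h1
  have hψsurj : Function.Surjective ψ := by
    let ψ' : Q ⧸ C → GaloisField 2 n × GaloisField 2 n := Quotient.lift ψ fun u v huv => by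
      have h1 := hψmul u (u⁻¹ * v)
      rw [mul_inv_cancel_left, (hψker _).2 (QuotientGroup.leftRel_apply.1 huv), add_zero] at h1
      exact h1.symm
    have hinj' : Function.Injective ψ' := by
      intro a b
      induction a using QuotientGroup.induction_on with
      | H u =>
        induction b using QuotientGroup.induction_on with
        | H v => intro huv; exact QuotientGroup.eq.2 (hψinj u v huv)
    have hc : Nat.card (Q ⧸ C) = Nat.card (GaloisField 2 n × GaloisField 2 n) := by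
      have h1 := Subgroup.card_eq_card_quotient_mul_card_subgroup C
      rw [hcard, h.card] at h1
      rw [Nat.card_prod, hqn]
      exact (Nat.eq_of_mul_eq_mul_right (Nat.two_pow_pos n) (by rw [← h1]; ring)).symm
    have hb' := (Nat.bijective_iff_injective_and_card ψ').2 ⟨hinj', hc⟩
    intro v
    obtain ⟨x, hx⟩ := hb'.2 v
    induction x using QuotientGroup.induction_on with
    | H x => exact ⟨x, hx⟩
  have hψalpha : ∀ x, ψ (α x) = (A x, Bc x + A x) := fun x => by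
    have h1 : α x = x * dlt α x := by rw [dlt, mul_inv_cancel_left]
    have h2 : ψ (dlt α x) = (0, A x) := Prod.ext (hinj (by rw [hA, he0, h.dlt_eq_one.2 (hdd x)]))
      (hinj (by rw [hBW _ (hdd x), hA]))
    rw [h1, hψmul, h2]
    exact Prod.ext (add_zero _) rfl
  choose s hs using hψsurj
  have hcom : ∀ x y, ∃ w, e w = ⁅x, y⁆ := fun x y => hsur _ (hcl x y)
  choose cm hcm using hcom
  have hcongl : ∀ x y c : Q, c ∈ C → cm (x * c) y = cm x y := fun x y c hc => hinj (by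
    rw [hcm, hcm, hcomml, commutatorElement_eq_one_iff_mul_comm.2 (h.central hc y), mul_one])
  have hcm_swap : ∀ x y, cm x y = cm y x := fun x y => hinj (by
    rw [hcm, hcm, ← commutatorElement_inv, h.mem_inv (hcl y x)])
  have hcong : ∀ x y, cm x y = cm (s (ψ x)) (s (ψ y)) := fun x y => by
    obtain ⟨c, hc, hxc⟩ : ∃ c ∈ C, x = s (ψ x) * c :=
      ⟨_, hψinj _ _ (hs _), (mul_inv_cancel_left _ _).symm⟩
    obtain ⟨d, hd, hyd⟩ : ∃ d ∈ C, y = s (ψ y) * d :=
      ⟨_, hψinj _ _ (hs _), (mul_inv_cancel_left _ _).symm⟩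
    conv_lhs => rw [hxc, hyd]
    rw [hcongl _ _ c hc, hcm_swap, hcongl _ _ d hd, hcm_swap]
  let β : GaloisField 2 n × GaloisField 2 n → GaloisField 2 n × GaloisField 2 n → GaloisField 2 n :=
    fun u v => cm (s u) (s v)
  have hcmβ : ∀ x y, cm x y = β (ψ x) (ψ y) := hcong
  have hβl : ∀ u v w, β (u + v) w = β u w + β v w := fun u v w => by
    have h1 : cm (s u * s v) (s w) = β u w + β v w := hinj (by rw [hcm, hcomml, hadd, hcm, hcm])
    rwa [hcmβ, hψmul, hs, hs, hs] at h1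
  have hβs : ∀ u v, β u v = β v u := fun u v => hcm_swap _ _
  have hβr : ∀ u v w, β u (v + w) = β u v + β u w := fun u v w => by rw [hβs, hβl, hβs v, hβs w]
  have hβρ : ∀ u v, β (l * u.1, l * u.2) (l * v.1, l * v.2) = l * β u v := fun u v => hinj (by
    rw [← her, hcm (s u) (s v), map_commutatorElement, ← hcm, hcmβ]
    have e1 : ∀ u, ψ (ρ (s u)) = (l * u.1, l * u.2) := fun u => by
      have h1 := congrArg Prod.fst (hs u)
      have h2 := congrArg Prod.snd (hs u)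
      exact Prod.ext (by show A (ρ (s u)) = _; rw [hArho]; exact congrArg (l * ·) h1)
        (by show Bc (ρ (s u)) = _; rw [hBrho]; exact congrArg (l * ·) h2)
    rw [e1, e1])
  have hβalt : ∀ u, β u u = 0 := fun u => hinj (by rw [hcm, commutatorElement_self, he0])
  have sq11 := biadd_sq (fun a b => β (a, 0) (b, 0))
    (fun a b c => by rw [show ((a + b, 0) : _ × GaloisField 2 n) = (a, 0) + (b, 0) by simp, hβl])
    (fun a b c => by rw [show ((b + c, 0) : _ × GaloisField 2 n) = (b, 0) + (c, 0) by simp, hβr]) l hgen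
    (fun a b => by have := hβρ (a, 0) (b, 0); simpa using this)
  have sq22 := biadd_sq (fun a b => β (0, a) (0, b))
    (fun a b c => by rw [show ((0, a + b) : GaloisField 2 n × _) = (0, a) + (0, b) by simp, hβl])
    (fun a b c => by rw [show ((0, b + c) : GaloisField 2 n × _) = (0, b) + (0, c) by simp, hβr]) l hgen
    (fun a b => by have := hβρ (0, a) (0, b); simpa using this)
  have sq12 := biadd_sq (fun a b => β (a, 0) (0, b))
    (fun a b c => by rw [show ((a + b, 0) : _ × GaloisField 2 n) = (a, 0) + (b, 0) by simp, hβl])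
    (fun a b c => by rw [show ((0, b + c) : GaloisField 2 n × _) = (0, b) + (0, c) by simp, hβr]) l hgen
    (fun a b => by have := hβρ (a, 0) (0, b); simpa using this)
  simp only [hβalt, zero_pow two_ne_zero, zero_mul, pow_eq_zero_iff two_ne_zero] at sq11 sq22
  -- squares
  have hu : ∀ x : Q, ∃ u, e u = x * x := fun x => hsur _ (hsq x)
  choose u hu using hu
  have humul : ∀ x y, u (x * y) = u x + u y + cm x y := fun x y => hinj (by
    rw [hadd, hadd, hu, hu, hu, hcm_swap x y, hcm]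
    have h1 : ⁅y, x⁆ * (x * y) = y * x := by rw [commutatorElement_def]; group
    calc x * y * (x * y) = x * (y * x) * y := by group
      _ = x * (⁅y, x⁆ * (x * y)) * y := by rw [h1]
      _ = ⁅y, x⁆ * (x * x * (y * y)) := by
          rw [← mul_assoc x, ← h.central (hcl y x) x]; group
      _ = x * x * (y * y) * ⁅y, x⁆ := h.central (hcl y x) _)
  have hucong : ∀ x, u x = u (s (ψ x)) := fun x => by
    obtain ⟨c, hc, hxc⟩ : ∃ c ∈ C, x = s (ψ x) * c :=
      ⟨_, hψinj _ _ (hs _), (mul_inv_cancel_left _ _).symm⟩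
    conv_lhs => rw [hxc]
    rw [humul, show u c = 0 from hinj (by rw [hu, h.sq c hc, he0]),
      show cm (s (ψ x)) c = 0 from hinj (by
        rw [hcm, he0, commutatorElement_eq_one_iff_mul_comm]; exact (h.central hc _).symm),
      add_zero, add_zero]
  let Φ : GaloisField 2 n × GaloisField 2 n → GaloisField 2 n := fun v => u (s v)
  have hΦadd : ∀ v w, Φ (v + w) = Φ v + Φ w + β v w := fun v w => by
    have h1 := humul (s v) (s w)
    rwa [hucong, hψmul, hs, hs] at h1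
  have hΦ2 : ∀ b, Φ (0, b) = b := fun b => hinj (by
    have h2 : ψ (dlt α (s (b, 0))) = (0, b) := by
      have h1 := hψalpha (s (b, 0))
      rw [show α (s (b, 0)) = s (b, 0) * dlt α (s (b, 0)) by rw [dlt, mul_inv_cancel_left], hψmul, hs] at h1
      have e1 : A (s (b, 0)) = b := congrArg Prod.fst (hs (b, 0))
      have e2 : Bc (s (b, 0)) = 0 := congrArg Prod.snd (hs (b, 0))
      rw [e1, e2, zero_add] at h1
      exact add_left_cancel (h1.trans (show ((b, b) : _ × GaloisField 2 n) = (b, 0) + (0, b) by simp))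
    have h3 := hucong (dlt α (s (b, 0)))
    rw [h2] at h3
    show e (u (s (0, b))) = e b
    rw [← h3, hu, show e b = dlt α (dlt α (s (b, 0))) by rw [← hA]; exact congrArg e (congrArg Prod.fst (hs (b, 0))).symm]
    set y := dlt α (s (b, 0)) with hy
    have h4 : dlt α y = (y * y)⁻¹ := by rw [dlt, hy, h.alpha_dlt, _root_.mul_inv_rev]
    rw [h4, h.mem_inv (hsq y)])
  have hc11 : β (1, 0) (0, 1) = 1 := by
    have h1 : Φ (1, 1) = Φ (1, 0) := hinj (by
      show e (u (s (1, 1))) = e (u (s (1, 0)))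
      have h2 : ψ (α (s (1, 0))) = (1, 1) := by
        rw [hψalpha, show A (s (1, 0)) = 1 from congrArg Prod.fst (hs (1, 0)),
          show Bc (s (1, 0)) = 0 from congrArg Prod.snd (hs (1, 0)), zero_add]
      have h3 := hucong (α (s (1, 0)))
      rw [h2] at h3
      rw [← h3, hu, hu, ← map_mul, (h.fix _).1 (hsq _)])
    have h4 := hΦadd (1, 0) (0, 1)
    rw [show ((1, 0) : GaloisField 2 n × GaloisField 2 n) + (0, 1) = (1, 1) by simp, h1, hΦ2] at h4
    have h5 : (1 : GaloisField 2 n) + β (1, 0) (0, 1) = 0 := by linear_combination -h4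
    exact (CharTwo.add_eq_zero.1 h5).symm
  have hΦ1 : ∀ a, Φ (a, 0) = a * Φ (1, 0) := by
    intro a
    have h00 : Φ (0, 0) = 0 := by rw [hΦ2]
    rcases eq_or_ne a 0 with rfl | ha
    · rw [h00, zero_mul]
    obtain ⟨k, rfl⟩ := hgen a ha
    clear ha
    induction k with
    | zero => rw [pow_zero, one_mul]
    | succ k ih =>
      have e1 : ψ (ρ (s (l ^ k, 0))) = (l ^ (k + 1), 0) := by
        refine Prod.ext ?_ ?_
        · show A _ = _
          rw [hArho, show A (s (l ^ k, 0)) = l ^ k from congrArg Prod.fst (hs (l ^ k, 0)), pow_succ']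
        · show Bc _ = _
          rw [hBrho, show Bc (s (l ^ k, 0)) = 0 from congrArg Prod.snd (hs (l ^ k, 0)), mul_zero]
      have e2 : Φ (l ^ (k + 1), 0) = l * Φ (l ^ k, 0) := hinj (by
        show e (u (s _)) = e (l * u (s _))
        rw [← e1, ← hucong, hu, ← her, hu, map_mul])
      rw [e2, ih, pow_succ']; ring
  have hβ12 : ∀ a b, β (a, 0) (0, b) ^ 2 = a * b := fun a b => by
    rw [sq12 a b, hc11]; ring
  refine ⟨⟨e, l, Φ (1, 0) ^ 2, ψ, hadd, hinj, heC, hsur, hψmul, fun v => ⟨s v, hs v⟩, hψker, hψalpha,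
    fun x => Prod.ext (hArho x) (hBrho x),
    fun x => ⟨u x, (hu x).symm, ?_⟩, fun x y => ⟨cm x y, (hcm x y).symm, ?_⟩⟩⟩
  · rw [hucong, show ψ x = ((ψ x).1, 0) + (0, (ψ x).2) by simp]
    show Φ _ ^ 2 = _
    rw [hΦadd, hΦ2, hΦ1, CharTwo.add_sq, CharTwo.add_sq, hβ12]
    simp only [Prod.fst_add, Prod.snd_add, add_zero, zero_add]
    ring
  · rw [hcmβ, show ψ x = ((ψ x).1, 0) + (0, (ψ x).2) by simp, show ψ y = ((ψ y).1, 0) + (0, (ψ y).2) by simp,
      hβl, hβr, hβr, sq11, sq22, hβs (0, (ψ x).2), zero_add, add_zero, CharTwo.add_sq, hβ12, hβ12]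
    simp only [Prod.fst_add, Prod.snd_add, add_zero, zero_add]

/-- There is no fourth layer above a noncommutative quotient. -/
theorem not_four [Finite Q] [C.Normal] {W : Subgroup (Q ⧸ C)}
    (hW : Hyp (barAut α h.mem_alpha) (barAut ρ h.mem_rho) W n)
    (hWmem : ∀ x : Q, (x : Q ⧸ C) ∈ W ↔ dlt α x ∈ C) (hcard : Nat.card (Q ⧸ C) = (2 ^ n) ^ 3)
    (hsq : ∀ x : Q ⧸ C, x * x ∈ W) : False := by
  classical
  haveI : Fact (Nat.Prime 2) := ⟨Nat.prime_two⟩
  haveI := hW.C_normal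
  obtain ⟨D⟩ := hW.exists_three_coord hcard hsq
  haveI : Fintype (GaloisField 2 n) := Fintype.ofFinite _
  have he0 : D.e 0 = 1 := by
    have := D.e_add 0 0
    rw [add_zero] at this
    exact left_eq_mul.1 this
  have hψ1 : D.ψ 1 = 0 := (D.ψ_ker 1).2 W.one_mem
  have hψinv : ∀ x, D.ψ x⁻¹ = D.ψ x := fun x => by
    have := D.ψ_mul x x⁻¹
    rw [mul_inv_cancel, hψ1] at this
    have h2 : D.ψ x + D.ψ x = 0 := Prod.ext (CharTwo.add_self_eq_zero _) (CharTwo.add_self_eq_zero _)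
    exact add_left_cancel (this.symm.trans h2.symm)
  let R : Subgroup Q :=
    { carrier := {x | (D.ψ (x : Q ⧸ C)).1 = 0}
      one_mem' := by show (D.ψ 1).1 = 0; rw [hψ1]; rfl
      mul_mem' := fun {a b} ha hb => by
        show (D.ψ ((a * b : Q) : Q ⧸ C)).1 = 0
        rw [QuotientGroup.mk_mul, D.ψ_mul, Prod.fst_add, ha, hb, add_zero]
      inv_mem' := fun {a} ha => by
        show (D.ψ ((a⁻¹ : Q) : Q ⧸ C)).1 = 0
        rw [QuotientGroup.mk_inv, hψinv]; exact ha }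
  have hRW : ∀ x : Q, (x : Q ⧸ C) ∈ W → x ∈ R := fun x hx => by
    show (D.ψ _).1 = 0
    rw [(D.ψ_ker _).2 hx]; rfl
  -- in the quotient
  have hM : ∀ x : Q, x ∈ R → ∀ y ∈ R, ⁅(x : Q ⧸ C), (y : Q ⧸ C)⁆ = 1 := by
    intro x hx y hy
    obtain ⟨w, hw, hw2⟩ := D.commu (x : Q ⧸ C) (y : Q ⧸ C)
    rw [show (D.ψ (x : Q ⧸ C)).1 = 0 from hx, show (D.ψ (y : Q ⧸ C)).1 = 0 from hy, zero_mul, zero_mul,
      add_zero, pow_eq_zero_iff two_ne_zero] at hw2
    rw [hw, hw2, he0]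
  have hcl : ∀ x ∈ R, ∀ y ∈ R, ⁅x, y⁆ ∈ C := fun x hx y hy => by
    rw [← QuotientGroup.eq_one_iff]
    show QuotientGroup.mk' C ⁅x, y⁆ = 1
    rw [map_commutatorElement]; exact hM x hx y hy
  have hMsq : ∀ x ∈ R, (x : Q ⧸ C) * (x : Q ⧸ C) = D.e (D.ψ (x : Q ⧸ C)).2 := by
    intro x hx
    obtain ⟨v, hv, hv2⟩ := D.sq (x : Q ⧸ C)
    rw [show (D.ψ (x : Q ⧸ C)).1 = 0 from hx] at hv2
    rw [hv]; congr 1
    exact CharTwo.sq_injective (show v ^ 2 = (D.ψ (x : Q ⧸ C)).2 ^ 2 by rw [hv2]; ring)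
  have hroot : ∀ x : Q, (x : Q ⧸ C) ∈ W → ∃ z ∈ R, ∃ c ∈ C, x = z * z * c := by
    intro x hx
    obtain ⟨b, hb⟩ := D.e_surj _ hx
    obtain ⟨zb, hz⟩ := D.ψ_surj (0, b)
    obtain ⟨z, rfl⟩ := QuotientGroup.mk_surjective zb
    have hzR : z ∈ R := by show (D.ψ _).1 = 0; rw [hz]
    refine ⟨z, hzR, (z * z)⁻¹ * x, ?_, (mul_inv_cancel_left _ _).symm⟩
    rw [← QuotientGroup.eq, QuotientGroup.mk_mul, hMsq z hzR, hz, hb]
  have hRρ : ∀ x ∈ R, ρ x ∈ R := fun x hx => by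
    show (D.ψ (barAut ρ h.mem_rho (x : Q ⧸ C))).1 = 0
    rw [D.ψ_rho]
    show D.l * (D.ψ (x : Q ⧸ C)).1 = 0
    rw [show (D.ψ (x : Q ⧸ C)).1 = 0 from hx, mul_zero]
  -- `R` is commutative
  have hRc : ∀ x ∈ R, ∀ y ∈ R, x * y = y * x := by
    have hxx : ∀ x ∈ R, dlt α (x * x) ∈ C := fun x hx =>
      (hWmem _).1 (by rw [QuotientGroup.mk_mul]; exact hsq _)
    refine h.commutative_of_layer hRρ hcl (fun x => dlt α (x * x)) hxx (fun x hx y hy => ?_)
      (fun x hx => by rw [← h.dlt_rho, map_mul]) ?_ (fun x hx hx1 y hy => ?_)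
    · show dlt α (x * y * (x * y)) = dlt α (x * x) * dlt α (y * y)
      rw [← h.dlt_mul (hxx x hx)]
      refine h.dlt_congr (QuotientGroup.eq.1 ?_)
      simp only [QuotientGroup.mk_mul]
      have e1 := commutatorElement_eq_one_iff_mul_comm.1 (hM x hx y hy)
      calc (x : Q ⧸ C) * x * (y * y) = x * (x * y) * y := by group
        _ = x * (y * x) * y := by rw [e1]
        _ = x * y * (x * y) := by group
    · obtain ⟨zb, hz⟩ := D.ψ_surj (0, 1)
      obtain ⟨z, rfl⟩ := QuotientGroup.mk_surjective zb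
      have hzR : z ∈ R := by show (D.ψ _).1 = 0; rw [hz]
      refine ⟨z, hzR, fun e1 => ?_⟩
      have h1 := hMsq z hzR
      rw [← QuotientGroup.mk_mul, (QuotientGroup.eq_one_iff _).2 (h.dlt_eq_one.1 e1), hz, ← he0] at h1
      exact zero_ne_one (D.e_inj h1)
    · have h1 := hMsq x hx
      rw [← QuotientGroup.mk_mul, (QuotientGroup.eq_one_iff _).2 (h.dlt_eq_one.1 hx1), ← he0] at h1
      have hxW : (x : Q ⧸ C) ∈ W := by
        rw [← D.ψ_ker]; exact Prod.ext hx (D.e_inj h1).symm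
      obtain ⟨z, hz, c, hc, rfl⟩ := hroot x hxW
      have h2 : ⁅z * z, y⁆ = 1 := by rw [h.comm_mul_left (hcl z hz y hy) (hcl z hz y hy), h.sq _ (hcl z hz y hy)]
      rw [mul_assoc, h.central hc y, ← mul_assoc, commutatorElement_eq_one_iff_mul_comm.1 h2, mul_assoc]
  -- `R` is inverted
  have hdR : ∀ x : Q, ∃ z : Q, (z : Q ⧸ C) = dlt (barAut α h.mem_alpha) (x : Q ⧸ C) ∧ z = dlt α x := fun x =>
    ⟨dlt α x, by simp only [dlt, QuotientGroup.mk_mul, QuotientGroup.mk_inv, barAut_mk], rfl⟩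
  have hsplit : ∀ y ∈ R, ∃ x : Q, (((dlt α x)⁻¹ * y : Q) : Q ⧸ C) ∈ W := by
    intro y hy
    obtain ⟨xb, hx⟩ := D.ψ_surj ((D.ψ (y : Q ⧸ C)).2, 0)
    obtain ⟨x, rfl⟩ := QuotientGroup.mk_surjective xb
    refine ⟨x, ?_⟩
    obtain ⟨z, hz, rfl⟩ := hdR x
    rw [QuotientGroup.mk_mul, QuotientGroup.mk_inv, hz, ← D.ψ_ker, D.ψ_mul, hψinv, dlt, D.ψ_mul, hψinv,
      D.ψ_alpha, hx]
    refine Prod.ext ?_ ?_
    · simp only [Prod.fst_add, Prod.fst_zero, show (D.ψ (y : Q ⧸ C)).1 = 0 from hy, add_zero]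
      exact CharTwo.add_self_eq_zero _
    · simp only [Prod.snd_add, Prod.snd_zero, zero_add]
      exact CharTwo.add_self_eq_zero _
  have hdltR : ∀ x : Q, dlt α x ∈ R := by
    intro x
    obtain ⟨z, hz, rfl⟩ := hdR x
    show (D.ψ _).1 = 0
    rw [hz, dlt, D.ψ_mul, hψinv, D.ψ_alpha, Prod.fst_add]
    exact CharTwo.add_self_eq_zero _
  have hzz : ∀ z ∈ R, z * α z ∈ C := by
    intro z hz
    obtain ⟨x, hx⟩ := hsplit z hz
    obtain ⟨w, hw⟩ : ∃ w, w = (dlt α x)⁻¹ * z := ⟨_, rfl⟩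
    rw [← hw] at hx
    have hzw : z = dlt α x * w := by rw [hw, mul_inv_cancel_left]
    rw [← QuotientGroup.eq_one_iff, hzw, map_mul, h.alpha_dlt]
    simp only [QuotientGroup.mk_mul, QuotientGroup.mk_inv]
    rw [← barAut_mk α h.mem_alpha w, (hW.fix _).1 hx]
    generalize ((dlt α x : Q) : Q ⧸ C) = d
    calc d * (w : Q ⧸ C) * (d⁻¹ * w) = d * (((w : Q ⧸ C) * d⁻¹) * w) := by group
      _ = d * ((d⁻¹ * w) * w) := by rw [hW.central hx]
      _ = 1 := by rw [mul_assoc, hW.sq _ hx, mul_one, mul_inv_cancel]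
  have hR1inv : ∀ x : Q, (x : Q ⧸ C) ∈ W → α x = x⁻¹ := by
    intro x hx
    obtain ⟨z, hz, c, hc, rfl⟩ := hroot x hx
    have h1 : α z = z⁻¹ * (z * α z) := (inv_mul_cancel_left z _).symm
    rw [map_mul, map_mul, (h.fix c).1 hc, h1, _root_.mul_inv_rev, _root_.mul_inv_rev, h.mem_inv hc]
    have hd := hzz z hz
    generalize z * α z = d at hd ⊢
    rw [show z⁻¹ * d * (z⁻¹ * d) * c = z⁻¹ * (d * z⁻¹ * d) * c by group, h.central hd z⁻¹,
      mul_assoc z⁻¹ d d, h.sq d hd, mul_one, h.central hc]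
  have hinvR : ∀ y ∈ R, α y = y⁻¹ := by
    intro y hy
    obtain ⟨x, hx⟩ := hsplit y hy
    have hyr : y = dlt α x * ((dlt α x)⁻¹ * y) := (mul_inv_cancel_left _ _).symm
    have hr' := hR1inv _ hx
    have hmem := hRW _ hx
    generalize (dlt α x)⁻¹ * y = w at hyr hr' hmem
    rw [hyr, map_mul, h.alpha_dlt, hr', hRc _ (R.inv_mem (hdltR x)) _ (R.inv_mem hmem), _root_.mul_inv_rev]
  have hinv2 : ∀ y ∈ R, y * y = 1 → y ∈ C := fun y hy hy2 =>
    (h.fix y).2 (by rw [hinvR y hy, inv_eq_of_mul_eq_one_right hy2])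
  -- the contradiction
  obtain ⟨xb, hxb⟩ := D.ψ_surj (1, 0)
  obtain ⟨x, rfl⟩ := QuotientGroup.mk_surjective xb
  obtain ⟨b, hb0, hb1⟩ : ∃ b : GaloisField 2 n, b ≠ 0 ∧ b ≠ 1 := by
    by_contra hc
    push Not at hc
    have h4 : 4 ≤ Nat.card (GaloisField 2 n) := by
      rw [GaloisField.card 2 n (by have := h.hn; omega)]
      calc 4 = 2 ^ 2 := rfl
        _ ≤ 2 ^ n := Nat.pow_le_pow_right two_pos h.hn
    have h5 : (Finset.univ : Finset (GaloisField 2 n)) ⊆ {0, 1} := fun a _ => by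
      rcases eq_or_ne a 0 with rfl | ha
      · simp
      · simp [hc a ha]
    have := (Finset.card_le_card h5).trans Finset.card_le_two
    rw [Finset.card_univ, ← Nat.card_eq_fintype_card] at this
    omega
  obtain ⟨yb, hyb⟩ := D.ψ_surj (0, b)
  obtain ⟨y, rfl⟩ := QuotientGroup.mk_surjective yb
  have hyR : y ∈ R := by show (D.ψ _).1 = 0; rw [hyb]
  have hφ : ∀ z ∈ R, ∃ w, w ^ 2 = (D.ψ (z : Q ⧸ C)).2 ∧ ((⁅x, z⁆ : Q) : Q ⧸ C) = D.e w := by
    intro z hz
    obtain ⟨w, hw, hw2⟩ := D.commu (x : Q ⧸ C) (z : Q ⧸ C)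
    rw [hxb, show (D.ψ (z : Q ⧸ C)).1 = 0 from hz] at hw2
    exact ⟨w, by rw [hw2]; ring, (map_commutatorElement (QuotientGroup.mk' C) x z).trans hw⟩
  obtain ⟨w, hw2, hw⟩ := hφ y hyR
  rw [hyb] at hw2
  have hφW : ∀ z ∈ R, ((⁅x, z⁆ : Q) : Q ⧸ C) ∈ W := fun z hz => by
    obtain ⟨v, -, hv⟩ := hφ z hz; rw [hv]; exact D.e_mem v
  obtain ⟨y', hy', c, hc, hyc⟩ := hroot _ (hφW y hyR)
  obtain ⟨w', hw2', hw'⟩ := hφ y' hy'
  have hy'2 : (D.ψ (y' : Q ⧸ C)).2 = w := D.e_inj (by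
    rw [← hMsq y' hy', ← hw, hyc, QuotientGroup.mk_mul _ (y' * y') c, (QuotientGroup.eq_one_iff c).2 hc,
      mul_one, QuotientGroup.mk_mul])
  have hf : ⁅x, y⁆ ∈ R := hRW _ (hφW y hyR)
  have hf' : ⁅x, y'⁆ ∈ R := hRW _ (hφW y' hy')
  have hxx : x * x ∈ R := hRW _ (by rw [QuotientGroup.mk_mul]; exact hsq _)
  have e1 : x * (x * y * x⁻¹) * x⁻¹ = y := by
    rw [show x * (x * y * x⁻¹) * x⁻¹ = (x * x) * y * (x * x)⁻¹ by group, hRc _ hxx y hyR, mul_inv_cancel_right]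
  have hk : ∀ z, x * z * x⁻¹ = ⁅x, z⁆ * z := fun z => by rw [commutatorElement_def]; group
  have e2 : x * ⁅x, y⁆ * x⁻¹ = ⁅x, y'⁆ * ⁅x, y'⁆ * ⁅x, y⁆ := by
    conv_lhs => rw [hyc]
    rw [show x * (y' * y' * c) * x⁻¹ = x * y' * x⁻¹ * (x * y' * x⁻¹) * (x * c * x⁻¹) by group, hk y',
      show x * c * x⁻¹ = c by rw [← h.central hc x, mul_inv_cancel_right], hyc]
    have hcm := hRc y' hy' _ hf'
    generalize ⁅x, y'⁆ = g at hcm ⊢
    calc g * y' * (g * y') * c = g * (y' * g) * y' * c := by group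
      _ = g * (g * y') * y' * c := by rw [hcm]
      _ = g * g * (y' * y' * c) := by group
  rw [hk y, show x * (⁅x, y⁆ * y) * x⁻¹ = x * ⁅x, y⁆ * x⁻¹ * (x * y * x⁻¹) by group, hk y, e2] at e1
  have e3 : ⁅x, y'⁆ * ⁅x, y⁆ * (⁅x, y'⁆ * ⁅x, y⁆) = 1 := by
    have hcm := hRc _ hf' _ hf
    generalize ⁅x, y'⁆ = g at hcm e1 ⊢
    generalize ⁅x, y⁆ = f at hcm e1 ⊢
    have h6 : g * g * f * f = 1 := by
      refine mul_right_cancel (b := y) ?_
      rw [one_mul]
      exact (mul_assoc (g * g * f) f y).trans e1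
    calc g * f * (g * f) = g * (f * g) * f := by group
      _ = g * (g * f) * f := by rw [hcm]
      _ = g * g * f * f := by group
      _ = 1 := h6
  have e4 := (QuotientGroup.eq_one_iff _).2 (hinv2 _ (R.mul_mem hf' hf) e3)
  rw [QuotientGroup.mk_mul, hw', hw, ← D.e_add, ← he0] at e4
  have e5 : w' = w := CharTwo.add_eq_zero.1 (D.e_inj e4)
  rw [e5, hy'2] at hw2'
  -- so `w ^ 2 = w`
  rcases mul_eq_zero.1 (show w * (w - 1) = 0 by linear_combination hw2') with h6 | h6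
  · exact hb0 (by rw [h6] at hw2; simpa using hw2.symm)
  · exact hb1 (by rw [sub_eq_zero.1 h6] at hw2; simpa using hw2.symm)

end Hyp

/-- A noncommutative group with these automorphisms has order `q ^ 3` and elementary quotient. -/
theorem commutative_or : ∀ (m : ℕ) {Q : Type u} [Group Q] [Finite Q] {α ρ : MulAut Q} {C : Subgroup Q}
    {n : ℕ}, Hyp α ρ C n → Nat.card Q = m →
    (∀ x y : Q, x * y = y * x) ∨ (Nat.card Q = (2 ^ n) ^ 3 ∧ ∀ x : Q, x * x ∈ C) := by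
  intro m
  induction m using Nat.strong_induction_on with
  | _ m ih =>
    intro Q _ _ α ρ C n h hm
    haveI := h.C_normal
    by_cases htop : C = ⊤
    · exact Or.inl fun x y => h.central (htop ▸ Subgroup.mem_top x) y
    obtain ⟨W, hW, hWmem⟩ := h.bar htop
    have hlt : Nat.card (Q ⧸ C) < m := by
      rw [← hm, Subgroup.card_eq_card_quotient_mul_card_subgroup C, h.card]
      refine Nat.lt_mul_iff_one_lt_right Nat.card_pos |>.2 (Nat.one_lt_two_pow ?_)
      have := h.hn; omega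
    rcases ih _ hlt hW rfl with hab | ⟨hcard, hsq⟩
    · exact h.commutative_or_of_quotient hab
    · exact (h.not_four hW hWmem hcard hsq).elim

end H69.InvolFixed
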