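import Mathlib
import Cfsg.Prelude.Def_Transfer

/-!
Two-groups with an automorphism of order two whose fixed group is elementary abelian and carries
a transitive cyclic group of automorphisms commuting with it: the layers.
-/

set_option autoImplicit false

namespace H69.InvolFixed

open scoped commutatorElement

/-- A scale-equivariant biadditive map on a finite field of characteristic two. -/
theorem biadd_sq {F : Type*} [Field F] [Fintype F] [CharP F 2] (B : F → F → F)
    (hl : ∀ a b c, B (a + b) c = B a c + B b c) (hr : ∀ a b c, B a (b + c) = B a b + B a c) (l : F)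
    (hgen : ∀ a : F, a ≠ 0 → ∃ k : ℕ, a = l ^ k) (hB : ∀ a b, B (l * a) (l * b) = l * B a b) :
    ∀ a b, B a b ^ 2 = B 1 1 ^ 2 * (a * b) := by
  have hscal : ∀ t a b : F, t ≠ 0 → B (t * a) (t * b) = t * B a b := by
    intro t a b ht
    obtain ⟨k, rfl⟩ := hgen t ht
    induction k generalizing a b with
    | zero => simp
    | succ k ih =>
      rcases eq_or_ne l 0 with rfl | hl0
      · simp at ht
      · rw [pow_succ, mul_assoc, mul_assoc, ih _ _ (pow_ne_zero _ hl0), hB, mul_assoc]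
  have hk0 : B 0 1 = 0 := by
    have := hl 0 0 1
    rw [add_zero] at this
    exact left_eq_add.1 this
  have hinv : ∀ t : F, t ≠ 0 → B t 1 = t * B 1 t⁻¹ := fun t ht => by
    have := hscal t 1 t⁻¹ ht
    rwa [mul_one, mul_inv_cancel₀ ht] at this
  have hsq : ∀ t : F, B (t * t) 1 = B 1 1 * t := by
    intro t
    rcases eq_or_ne t 0 with rfl | ht
    · rw [mul_zero, mul_zero, hk0]
    rcases eq_or_ne t 1 with rfl | ht1
    · rw [mul_one, mul_one]
    have ht' : t + 1 ≠ 0 := fun h => ht1 (CharTwo.add_eq_zero.1 h)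
    have ht'' : t * t + t ≠ 0 := by
      rw [show t * t + t = t * (t + 1) by ring]; exact mul_ne_zero ht ht'
    have e1 := hinv _ ht''
    have e2 : (t * t + t)⁻¹ = t⁻¹ + (t + 1)⁻¹ := by
      field_simp
      linear_combination -(t : F) * (CharTwo.two_eq_zero (R := F))
    rw [e2, hr, hl] at e1
    have e3 := hinv t ht
    have e4 := hinv (t + 1) ht'
    rw [hl] at e4
    linear_combination e1 - (t + 1) * e3 - t * e4 + (t * B t 1) * (CharTwo.two_eq_zero (R := F))
  intro a b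
  rcases eq_or_ne b 0 with rfl | hb
  · have h0 : B a 0 = 0 := by
      have := hr a 0 0
      rw [add_zero] at this
      exact left_eq_add.1 this
    rw [h0]; ring
  have e : B a b = b * B (a / b) 1 := by
    have := hscal b (a / b) 1 hb
    rwa [mul_one, mul_div_cancel₀ _ hb] at this
  obtain ⟨s, hs'⟩ := (bijective_frobenius F 2).2 (a / b)
  rw [frobenius_def, pow_two] at hs'
  rw [e, ← hs', hsq]
  rw [eq_div_iff hb] at hs'
  linear_combination (b * B 1 1 ^ 2) * hs'

variable {Q : Type*} [Group Q]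

/-- The hypotheses. -/
structure Hyp (α ρ : MulAut Q) (C : Subgroup Q) (n : ℕ) : Prop where
  two : IsPGroup 2 Q
  hn : 2 ≤ n
  invol : ∀ x, α (α x) = x
  rpow : ρ ^ (2 ^ n - 1) = 1
  comm : ∀ x, α (ρ x) = ρ (α x)
  fix : ∀ x, x ∈ C ↔ α x = x
  sq : ∀ x ∈ C, x * x = 1
  card : Nat.card C = 2 ^ n
  trans : ∀ x y, x ∈ C → y ∈ C → x ≠ 1 → y ≠ 1 → ∃ k : ℕ, (ρ ^ k) x = y

/-- The defect of an element from being fixed. -/
def dlt (α : MulAut Q) (x : Q) : Q := x⁻¹ * α x

namespace Hyp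

variable {α ρ : MulAut Q} {C : Subgroup Q} {n : ℕ} (h : Hyp α ρ C n)
include h

theorem alpha_dlt (x : Q) : α (dlt α x) = (dlt α x)⁻¹ := by
  rw [dlt, map_mul, map_inv, h.invol, _root_.mul_inv_rev, inv_inv]

theorem dlt_rho (x : Q) : dlt α (ρ x) = ρ (dlt α x) := by
  rw [dlt, dlt, map_mul, map_inv, h.comm]

theorem dlt_eq_one {x : Q} : dlt α x = 1 ↔ x ∈ C := by
  rw [h.fix, dlt, inv_mul_eq_one]; exact eq_comm

theorem rho_mem {x : Q} (hx : x ∈ C) : ρ x ∈ C := by
  rw [h.fix, h.comm, (h.fix x).1 hx]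

theorem rho_pow_mem {x : Q} (hx : x ∈ C) (k : ℕ) : (ρ ^ k) x ∈ C := by
  induction k with
  | zero => simpa
  | succ k ih => rw [pow_succ']; exact h.rho_mem ih

theorem mem_inv {x : Q} (hx : x ∈ C) : x⁻¹ = x := inv_eq_of_mul_eq_one_right (h.sq x hx)

theorem C_comm {x y : Q} (hx : x ∈ C) (hy : y ∈ C) : x * y = y * x := by
  rw [← h.mem_inv (C.mul_mem hx hy), _root_.mul_inv_rev, h.mem_inv hx, h.mem_inv hy]

/-- A nontrivial inverted subgroup contains all fixed points, if stable under `ρ`. -/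
theorem le_of_inverted {D : Subgroup Q} (hD : D ≠ ⊥) (hinv : ∀ x ∈ D, α x = x⁻¹)
    (hρ : ∀ x ∈ D, ρ x ∈ D) : C ≤ D := by
  obtain ⟨⟨x, hxD⟩, hx1'⟩ := D.ne_bot_iff_exists_ne_one.1 hD
  have hx1 : x ≠ 1 := fun e => hx1' (Subtype.ext e)
  clear hx1'
  obtain ⟨k, hk⟩ := h.two x
  obtain ⟨w, hwD, hw1, hw2⟩ : ∃ w ∈ D, w ≠ 1 ∧ w * w = 1 := by
    induction k generalizing x with
    | zero => exact absurd (by simpa using hk) hx1
    | succ k ih =>
      by_cases hsq : x * x = 1
      · exact ⟨x, hxD, hx1, hsq⟩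
      · exact ih (x * x) (D.mul_mem hxD hxD) hsq (by rw [← pow_two, ← pow_mul, ← pow_succ']; exact hk)
  have hwC : w ∈ C := (h.fix w).2 (by rw [hinv w hwD, inv_eq_of_mul_eq_one_right hw2])
  intro y hy
  rcases eq_or_ne y 1 with rfl | hy1
  · exact D.one_mem
  obtain ⟨j, rfl⟩ := h.trans w y hwC hy hw1 hy1
  clear hy hy1
  induction j with
  | zero => simpa
  | succ j ih => rw [pow_succ']; exact hρ _ ih

/-- The fixed points are central. -/
theorem central [Finite Q] {x : Q} (hx : x ∈ C) (y : Q) : x * y = y * x := by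
  rcases subsingleton_or_nontrivial Q with hQ | hQ
  · exact Subsingleton.elim _ _
  haveI : Fact (Nat.Prime 2) := ⟨Nat.prime_two⟩
  haveI := h.two.center_nontrivial
  obtain ⟨z, hz⟩ := exists_ne (1 : Subgroup.center Q)
  obtain ⟨c, hc, hcC, hc1⟩ : ∃ c, c ∈ Subgroup.center Q ∧ c ∈ C ∧ c ≠ 1 := by
    by_cases hd : dlt α (z : Q) = 1
    · exact ⟨z, z.2, h.dlt_eq_one.1 hd, fun e => hz (Subtype.ext e)⟩
    have hdc : dlt α (z : Q) ∈ Subgroup.center Q :=
      Subgroup.mul_mem _ (Subgroup.inv_mem _ z.2) (MulEquivClass.apply_mem_center α z.2)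
    obtain ⟨k, hk⟩ := h.two (dlt α (z : Q))
    have key : ∀ (k : ℕ) (w : Q), w ∈ Subgroup.center Q → α w = w⁻¹ → w ≠ 1 → w ^ 2 ^ k = 1 →
        ∃ c, c ∈ Subgroup.center Q ∧ c ∈ C ∧ c ≠ 1 := by
      intro k
      induction k with
      | zero => intro w _ _ hw hk; exact absurd (by simpa using hk) hw
      | succ k ih =>
        intro w hw hwi hw1 hk
        by_cases hsq : w * w = 1
        · exact ⟨w, hw, (h.fix w).2 (by rw [hwi, inv_eq_of_mul_eq_one_right hsq]), hw1⟩
        · exact ih (w * w) (Subgroup.mul_mem _ hw hw) (by rw [map_mul, hwi, _root_.mul_inv_rev]) hsq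
            (by rw [← pow_two, ← pow_mul, ← pow_succ']; exact hk)
    exact key k _ hdc (h.alpha_dlt _) hd hk
  rcases eq_or_ne x 1 with rfl | hx1
  · rw [one_mul, mul_one]
  obtain ⟨j, rfl⟩ := h.trans c x hcC hx hc1 hx1
  exact (Subgroup.mem_center_iff.1 (MulEquivClass.apply_mem_center (ρ ^ j) hc) y).symm

/-- Coordinates on the fixed group. -/
theorem exists_coord [Finite Q] :
    ∃ (e : GaloisField 2 n → Q) (l : GaloisField 2 n), l ≠ 0 ∧ (∀ a, a ≠ 0 → ∃ k : ℕ, a = l ^ k) ∧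
      (∀ a b, e (a + b) = e a * e b) ∧ Function.Injective e ∧ (∀ a, e a ∈ C) ∧
      (∀ x ∈ C, ∃ a, e a = x) ∧ ∀ a, ρ (e a) = e (l * a) := by
  classical
  haveI : Fact (Nat.Prime 2) := ⟨Nat.prime_two⟩
  letI : CommGroup C := { (inferInstance : Group C) with
    mul_comm := fun x y => Subtype.ext (h.C_comm x.2 y.2) }
  let σ : AddMonoid.End (Additive C) := AddMonoidHom.mk'
    (fun x => Additive.ofMul ⟨ρ (x.toMul : Q), h.rho_mem x.toMul.2⟩)
    (fun x y => by
      apply Additive.toMul.injective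
      exact Subtype.ext (map_mul ρ (x.toMul : Q) (y.toMul : Q)))
  have hσ : ∀ (k : ℕ) (x : Additive C), (((σ ^ k) x).toMul : Q) = (ρ ^ k) (x.toMul : Q) := by
    intro k
    induction k with
    | zero => intro x; rfl
    | succ k ih =>
      intro x
      rw [pow_succ', pow_succ']
      show ρ (((σ ^ k) x).toMul : Q) = _
      rw [ih]; rfl
  have hσq : σ ^ (2 ^ n - 1) = 1 := DFunLike.ext _ _ fun x =>
    Additive.toMul.injective (Subtype.ext (by rw [hσ, h.rpow]; rfl))
  have hnt : ∃ z : Additive C, z ≠ 0 := by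
    haveI : Nontrivial C := Finite.one_lt_card_iff_nontrivial.1 (by
      rw [h.card]; exact Nat.one_lt_two_pow (by have := h.hn; omega))
    exact exists_ne 0
  obtain ⟨z, hz⟩ := hnt
  have htr : ∀ x : Additive C, x ≠ 0 → ∃ k : ℕ, (σ ^ k) z = x := by
    intro x hx
    obtain ⟨k, hk⟩ := h.trans (z.toMul : Q) (x.toMul : Q) z.toMul.2 x.toMul.2
      (fun e => hz (Additive.toMul.injective (Subtype.ext e)))
      (fun e => hx (Additive.toMul.injective (Subtype.ext e)))
    exact ⟨k, Additive.toMul.injective (Subtype.ext (by rw [hσ]; exact hk))⟩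
  let S : Subring (AddMonoid.End (Additive C)) := Subring.closure {σ}
  letI : CommRing S := Subring.closureCommRingOfComm (fun a ha b hb => by
    rw [Set.mem_singleton_iff.1 ha, Set.mem_singleton_iff.1 hb])
  let g : S := ⟨σ, Subring.subset_closure rfl⟩
  have hg : ∀ k : ℕ, ((g ^ k : S) : AddMonoid.End (Additive C)) = σ ^ k := fun k => by
    rw [SubmonoidClass.coe_pow]
  have hev : Function.Bijective fun r : S => r.1 z := by
    refine ⟨fun r r' hr => ?_, fun x => ?_⟩
    · refine Subtype.ext (DFunLike.ext _ _ fun x => ?_)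
      rcases eq_or_ne x 0 with rfl | hx
      · rw [map_zero, map_zero]
      · obtain ⟨k, rfl⟩ := htr x hx
        have e1 := congrArg Subtype.val (mul_comm r (g ^ k))
        have e2 := congrArg Subtype.val (mul_comm r' (g ^ k))
        simp only [Subring.coe_mul, hg] at e1 e2
        calc r.1 ((σ ^ k) z) = (σ ^ k) (r.1 z) := DFunLike.congr_fun e1 z
          _ = (σ ^ k) (r'.1 z) := by rw [show r.1 z = r'.1 z from hr]
          _ = r'.1 ((σ ^ k) z) := (DFunLike.congr_fun e2 z).symm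
    · rcases eq_or_ne x 0 with rfl | hx
      · exact ⟨0, rfl⟩
      · obtain ⟨k, hk⟩ := htr x hx
        exact ⟨g ^ k, by show (g ^ k : S).1 z = x; rw [hg, hk]⟩
  have hpow : ∀ r : S, r ≠ 0 → ∃ k : ℕ, r = g ^ k := fun r hr => by
    obtain ⟨k, hk⟩ := htr (r.1 z) (fun e => hr (hev.1 (e.trans rfl)))
    exact ⟨k, hev.1 (by show r.1 z = (g ^ k : S).1 z; rw [hg, hk])⟩
  have hq : 1 ≤ 2 ^ n - 1 := by
    have : 2 ^ 1 ≤ 2 ^ n := Nat.pow_le_pow_right two_pos (by have := h.hn; omega)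
    omega
  have hgone : g ^ (2 ^ n - 1) = 1 := Subtype.ext (by rw [hg, hσq]; rfl)
  haveI : Nontrivial S := ⟨0, 1, fun e => hz (congrArg (fun r : S => r.1 z) e).symm⟩
  have hS : IsField S := by
    refine ⟨exists_pair_ne S, mul_comm, fun {r} hr => ?_⟩
    obtain ⟨k, rfl⟩ := hpow r hr
    refine ⟨(g ^ (2 ^ n - 2)) ^ k, ?_⟩
    rw [← mul_pow, ← pow_succ', show 2 ^ n - 2 + 1 = 2 ^ n - 1 by omega, hgone, one_pow]
  letI : Field S := hS.toField
  haveI : Finite S := Finite.of_injective _ hev.1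
  haveI : Fintype S := Fintype.ofFinite _
  haveI : Fintype (GaloisField 2 n) := Fintype.ofFinite _
  have hcard : Fintype.card (GaloisField 2 n) = Fintype.card S := by
    rw [← Nat.card_eq_fintype_card, ← Nat.card_eq_fintype_card, GaloisField.card 2 n (by have := h.hn; omega),
      Nat.card_eq_of_bijective _ hev]
    exact h.card.symm
  let i : GaloisField 2 n ≃+* S := FiniteField.ringEquivOfCardEq hcard
  refine ⟨fun a => (((i a).1 z).toMul : Q), i.symm g, ?_, fun a ha => ?_, fun a b => ?_, fun a b hab => ?_,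
    fun a => ((i a).1 z).toMul.2, fun x hx => ?_, fun a => ?_⟩
  · intro h0
    have h1 : g = 0 := by rw [← i.apply_symm_apply g, h0, map_zero]
    rw [h1, zero_pow (by omega)] at hgone
    exact zero_ne_one hgone
  · obtain ⟨k, hk⟩ := hpow (i a) (fun e => ha (i.injective (e.trans (map_zero i).symm)))
    exact ⟨k, i.injective (by rw [map_pow, i.apply_symm_apply, hk])⟩
  · show (((i (a + b)).1 z).toMul : Q) = _
    rw [map_add i]; rfl
  · exact i.injective (hev.1 (Additive.toMul.injective (Subtype.ext hab)))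
  · obtain ⟨r, hr⟩ := hev.2 (Additive.ofMul ⟨x, hx⟩)
    exact ⟨i.symm r, by show (((i (i.symm r)).1 z).toMul : Q) = x; rw [i.apply_symm_apply, show r.1 z = _ from hr]; rfl⟩
  · show _ = (((i (i.symm g * a)).1 z).toMul : Q)
    rw [map_mul i, i.apply_symm_apply]
    rfl

theorem comm_mul_left [Finite Q] {x y z : Q} (h1 : ⁅x, z⁆ ∈ C) (h2 : ⁅y, z⁆ ∈ C) :
    ⁅x * y, z⁆ = ⁅x, z⁆ * ⁅y, z⁆ := by
  rw [show ⁅x * y, z⁆ = x * ⁅y, z⁆ * x⁻¹ * ⁅x, z⁆ by simp only [commutatorElement_def]; group,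
    show x * ⁅y, z⁆ * x⁻¹ = ⁅y, z⁆ by rw [← h.central h2, mul_inv_cancel_right]]
  exact h.C_comm h2 h1

/-- A class two subgroup factored by a single layer is commutative. -/
theorem commutative_of_layer [Finite Q] {R : Subgroup Q} (hρ : ∀ x ∈ R, ρ x ∈ R)
    (hcl : ∀ x ∈ R, ∀ y ∈ R, ⁅x, y⁆ ∈ C) (π : Q → Q) (hπ : ∀ x ∈ R, π x ∈ C)
    (hπm : ∀ x ∈ R, ∀ y ∈ R, π (x * y) = π x * π y) (hπr : ∀ x ∈ R, π (ρ x) = ρ (π x))
    (hπne : ∃ x ∈ R, π x ≠ 1) (hker : ∀ x ∈ R, π x = 1 → ∀ y ∈ R, x * y = y * x) :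
    ∀ x ∈ R, ∀ y ∈ R, x * y = y * x := by
  haveI : Fact (Nat.Prime 2) := ⟨Nat.prime_two⟩
  haveI : Fintype (GaloisField 2 n) := Fintype.ofFinite _
  obtain ⟨e, l, hl0, hgen, hadd, hinj, heC, hsur, her⟩ := h.exists_coord
  have he0 : e 0 = 1 := by
    have := hadd 0 0
    rw [add_zero] at this
    exact left_eq_mul.1 this
  have hwit : ∀ a, ∃ x ∈ R, π x = e a := by
    obtain ⟨x0, hx0, hne⟩ := hπne
    intro a
    rcases eq_or_ne a 0 with rfl | ha
    · exact ⟨1, R.one_mem, by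
        rw [he0]
        have := hπm 1 R.one_mem 1 R.one_mem
        rw [mul_one] at this
        exact left_eq_mul.1 this⟩
    · obtain ⟨k, hk⟩ := h.trans _ _ (hπ x0 hx0) (heC a) hne (fun e1 => ha (hinj (e1.trans he0.symm)))
      clear ha
      induction k generalizing a with
      | zero => exact ⟨x0, hx0, by simpa using hk⟩
      | succ k ih =>
        obtain ⟨b, hb⟩ := hsur _ (h.rho_pow_mem (hπ x0 hx0) k)
        obtain ⟨x, hx, hxe⟩ := ih b hb.symm
        refine ⟨ρ x, hρ x hx, ?_⟩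
        rw [hπr x hx, hxe, hb, ← hk, pow_succ']; rfl
  choose s hsR hs using hwit
  have hB : ∀ a b, ∃ c, e c = ⁅s a, s b⁆ := fun a b => hsur _ (hcl _ (hsR a) _ (hsR b))
  choose B hB using hB
  have hdep : ∀ x ∈ R, ∀ a, π x = e a → ∀ y ∈ R, ⁅x, y⁆ = ⁅s a, y⁆ := by
    intro x hx a hxa y hy
    have hw : (s a)⁻¹ * x ∈ R := R.mul_mem (R.inv_mem (hsR a)) hx
    have h1 : π ((s a)⁻¹ * x) = 1 := by
      have := hπm _ (hsR a) _ hw
      rw [mul_inv_cancel_left, hxa, hs] at this
      exact left_eq_mul.1 this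
    have := h.comm_mul_left (x := s a) (y := (s a)⁻¹ * x) (z := y) (hcl _ (hsR a) _ hy) (hcl _ hw _ hy)
    rw [mul_inv_cancel_left, commutatorElement_eq_one_iff_mul_comm.2 (hker _ hw h1 y hy), mul_one] at this
    exact this
  have hdep2 : ∀ x ∈ R, ∀ a, π x = e a → ∀ y ∈ R, ∀ b, π y = e b → ⁅x, y⁆ = e (B a b) := by
    intro x hx a hxa y hy b hyb
    rw [hB, hdep x hx a hxa y hy, ← commutatorElement_inv, hdep y hy b hyb _ (hsR a), commutatorElement_inv]
  have halt : ∀ a, B a a = 0 := fun a => hinj (by rw [hB, he0, commutatorElement_self])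
  have hBl : ∀ a b c, B (a + b) c = B a c + B b c := fun a b c => hinj (by
    rw [hadd, hB a c, hB b c, ← h.comm_mul_left (hcl _ (hsR a) _ (hsR c)) (hcl _ (hsR b) _ (hsR c)),
      hdep2 (s a * s b) (R.mul_mem (hsR a) (hsR b)) (a + b) (by rw [hπm _ (hsR a) _ (hsR b), hs, hs, hadd])
        (s c) (hsR c) c (hs c)])
  have hBs : ∀ a b, B a b = B b a := fun a b => hinj (by
    rw [hB, hB, ← commutatorElement_inv, h.mem_inv (hcl _ (hsR b) _ (hsR a))])
  have hBe : ∀ a b, B (l * a) (l * b) = l * B a b := fun a b => hinj (by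
    rw [← her, hB a b, map_commutatorElement]
    exact (hdep2 (ρ (s a)) (hρ _ (hsR a)) (l * a) (by rw [hπr _ (hsR a), hs, her]) (ρ (s b))
      (hρ _ (hsR b)) (l * b) (by rw [hπr _ (hsR b), hs, her])).symm)
  have hzero := biadd_sq B hBl (fun a b c => by rw [hBs, hBl, hBs b a, hBs c a]) l hgen hBe
  intro x hx y hy
  obtain ⟨a, ha⟩ := hsur _ (hπ x hx)
  obtain ⟨b, hb⟩ := hsur _ (hπ y hy)
  rw [← commutatorElement_eq_one_iff_mul_comm, hdep2 x hx a ha.symm y hy b hb.symm]
  have := hzero a b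
  rw [halt 1, zero_pow two_ne_zero, zero_mul] at this
  rw [pow_eq_zero_iff two_ne_zero] at this
  rw [this, he0]

theorem C_normal [Finite Q] : C.Normal :=
  ⟨fun x hx g => by rw [← h.central hx, mul_inv_cancel_right]; exact hx⟩

end Hyp

/-- The automorphism induced on the quotient by the fixed group. -/
noncomputable def barAut {C : Subgroup Q} [C.Normal] (f : MulAut Q) (hf : ∀ x, x ∈ C ↔ f x ∈ C) :
    MulAut (Q ⧸ C) :=
  QuotientGroup.congr C C f (by
    ext x
    constructor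
    · rintro ⟨y, hy, rfl⟩; exact (hf y).1 hy
    · intro hx; exact ⟨f.symm x, (hf _).2 (by rwa [MulEquiv.apply_symm_apply]), MulEquiv.apply_symm_apply f x⟩)

theorem barAut_mk {C : Subgroup Q} [C.Normal] (f : MulAut Q) (hf : ∀ x, x ∈ C ↔ f x ∈ C) (x : Q) :
    barAut f hf (x : Q ⧸ C) = (f x : Q ⧸ C) := rfl

theorem barAut_pow {C : Subgroup Q} [C.Normal] (f : MulAut Q) (hf : ∀ x, x ∈ C ↔ f x ∈ C) (k : ℕ) (x : Q) :
    (barAut f hf ^ k) (x : Q ⧸ C) = ((f ^ k) x : Q ⧸ C) := by
  induction k with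
  | zero => rfl
  | succ k ih =>
    rw [pow_succ', pow_succ']
    show barAut f hf ((barAut f hf ^ k) (x : Q ⧸ C)) = _
    rw [ih, barAut_mk]; rfl

namespace Hyp

variable {α ρ : MulAut Q} {C : Subgroup Q} {n : ℕ} (h : Hyp α ρ C n)
include h

theorem mem_alpha (x : Q) : x ∈ C ↔ α x ∈ C := by
  rw [h.fix, h.fix, h.invol]; exact eq_comm

theorem mem_rho (x : Q) : x ∈ C ↔ ρ x ∈ C := by
  rw [h.fix, h.fix, h.comm]; exact (ρ.injective.eq_iff).symm

/-- Either all of `Q` is fixed, or the quotient satisfies the same hypotheses. -/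
theorem bar [Finite Q] [C.Normal] (hne : C ≠ ⊤) : ∃ W : Subgroup (Q ⧸ C),
    Hyp (barAut α h.mem_alpha) (barAut ρ h.mem_rho) W n ∧ ∀ x : Q, (x : Q ⧸ C) ∈ W ↔ dlt α x ∈ C := by
  haveI : Fact (Nat.Prime 2) := ⟨Nat.prime_two⟩
  let W : Subgroup (Q ⧸ C) :=
    { carrier := {x | barAut α h.mem_alpha x = x}
      one_mem' := map_one (barAut α h.mem_alpha)
      mul_mem' := fun {a b} ha hb => by
        show barAut α h.mem_alpha (a * b) = a * b
        rw [map_mul, ha, hb]
      inv_mem' := fun {a} ha => by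
        show barAut α h.mem_alpha a⁻¹ = a⁻¹
        rw [map_inv, ha] }
  have hW : ∀ x : Q, (x : Q ⧸ C) ∈ W ↔ dlt α x ∈ C := fun x => by
    show barAut α h.mem_alpha (x : Q ⧸ C) = (x : Q ⧸ C) ↔ _
    rw [barAut_mk, eq_comm]; exact QuotientGroup.eq
  -- the preimage
  let R : Subgroup Q := W.comap (QuotientGroup.mk' C)
  have hR : ∀ x, x ∈ R ↔ dlt α x ∈ C := fun x => hW x
  let d : R →* C := MonoidHom.mk' (fun x => ⟨dlt α x.1, (hR _).1 x.2⟩) fun x y => Subtype.ext (by
    show dlt α (x.1 * y.1) = dlt α x.1 * dlt α y.1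
    have h1 := h.central ((hR _).1 x.2) y.1
    calc dlt α (x.1 * y.1) = y.1⁻¹ * (dlt α x.1 * y.1) * (y.1⁻¹ * α y.1) := by
          simp only [dlt, map_mul]; group
      _ = dlt α x.1 * dlt α y.1 := by rw [h1, inv_mul_cancel_left]; rfl)
  have hdrho : ∀ x, x ∈ R → ρ x ∈ R := fun x hx => by
    rw [hR, h.dlt_rho]; exact h.rho_mem ((hR x).1 hx)
  obtain ⟨x0, hx0R, hx0⟩ : ∃ x ∈ R, dlt α x ≠ 1 := by
    obtain ⟨x, -, hx⟩ := SetLike.exists_of_lt (lt_top_iff_ne_top.2 hne)
    by_cases hy : dlt α x ∈ C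
    · exact ⟨x, (hR x).2 hy, fun e => hx (h.dlt_eq_one.1 e)⟩
    obtain ⟨k, hk⟩ := h.two (dlt α x)
    have key : ∀ (k : ℕ) (w : Q), α w = w⁻¹ → w ∉ C → w ^ 2 ^ k ∈ C → ∃ v ∈ R, dlt α v ≠ 1 := by
      intro k
      induction k with
      | zero => intro w _ hw hk; exact absurd (by simpa using hk) hw
      | succ k ih =>
        intro w hwi hw hk
        by_cases hsq : w * w ∈ C
        · refine ⟨w, (hR w).2 ?_, fun e => hw (h.dlt_eq_one.1 e)⟩
          rw [dlt, hwi, ← _root_.mul_inv_rev]; exact C.inv_mem hsq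
        · exact ih (w * w) (by rw [map_mul, hwi, _root_.mul_inv_rev]) hsq
            (by rw [← pow_two, ← pow_mul, ← pow_succ']; exact hk)
    exact key k _ (h.alpha_dlt x) hy (by rw [hk]; exact C.one_mem)
  have hdsur : Function.Surjective d := by
    rintro ⟨c, hc⟩
    rcases eq_or_ne c 1 with rfl | hc1
    · exact ⟨1, map_one d⟩
    obtain ⟨k, rfl⟩ := h.trans _ _ ((hR x0).1 hx0R) hc hx0 hc1
    refine ⟨⟨(ρ ^ k) x0, ?_⟩, Subtype.ext ?_⟩
    · clear hc hc1
      induction k with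
      | zero => simpa
      | succ k ih => rw [pow_succ']; exact hdrho _ ih
    · show dlt α ((ρ ^ k) x0) = (ρ ^ k) (dlt α x0)
      clear hc hc1
      induction k with
      | zero => rfl
      | succ k ih =>
        rw [pow_succ']
        show dlt α (ρ ((ρ ^ k) x0)) = ρ ((ρ ^ k) (dlt α x0))
        rw [h.dlt_rho, ih]
  refine ⟨W, ⟨?_, h.hn, ?_, ?_, ?_, fun x => Iff.rfl, ?_, ?_, ?_⟩, hW⟩
  · exact h.two.to_quotient C
  · intro x
    induction x using QuotientGroup.induction_on with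
    | H x => rw [barAut_mk, barAut_mk, h.invol]
  · refine MulEquiv.ext fun x => ?_
    induction x using QuotientGroup.induction_on with
    | H x => rw [barAut_pow, h.rpow]; rfl
  · intro x
    induction x using QuotientGroup.induction_on with
    | H x => simp only [barAut_mk, h.comm]
  · intro x hx
    induction x using QuotientGroup.induction_on with
    | H x =>
      rw [← QuotientGroup.mk_mul, QuotientGroup.eq_one_iff, h.fix, map_mul]
      have hd := (hW x).1 hx
      rw [show α x = x * dlt α x by rw [dlt, mul_inv_cancel_left]]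
      rw [mul_assoc, ← mul_assoc (dlt α x), h.central hd, mul_assoc x (dlt α x), h.sq _ hd, mul_one]
  · have hker : d.ker = C.subgroupOf R := by
      ext x
      rw [MonoidHom.mem_ker, Subgroup.mem_subgroupOf, ← Subtype.coe_inj]
      exact h.dlt_eq_one
    have e1 : Nat.card R = Nat.card C * Nat.card W := QuotientGroup.card_preimage_mk C (W : Set (Q ⧸ C))
    have e2 := Subgroup.card_eq_card_quotient_mul_card_subgroup d.ker
    have hCR : C ≤ R := fun c hc => (hR c).2 (by rw [h.dlt_eq_one.2 hc]; exact C.one_mem)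
    rw [Nat.card_congr (QuotientGroup.quotientKerEquivOfSurjective d hdsur).toEquiv, hker,
      Nat.card_congr (Subgroup.subgroupOfEquivOfLe hCR).toEquiv, e1, h.card] at e2
    exact Nat.eq_of_mul_eq_mul_left (Nat.two_pow_pos n) e2
  · intro a b ha hb ha1 hb1
    induction a using QuotientGroup.induction_on with
    | H x =>
      induction b using QuotientGroup.induction_on with
      | H y =>
        rw [Ne, QuotientGroup.eq_one_iff] at ha1 hb1
        obtain ⟨k, hk⟩ := h.trans _ _ ((hW x).1 ha) ((hW y).1 hb)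
          (fun e => ha1 (h.dlt_eq_one.1 e)) (fun e => hb1 (h.dlt_eq_one.1 e))
        refine ⟨k, ?_⟩
        rw [barAut_pow]
        refine (QuotientGroup.eq).2 ?_
        have hkey : dlt α ((ρ ^ k) x) = (ρ ^ k) (dlt α x) := by
          clear hk
          induction k with
          | zero => rfl
          | succ k ih =>
            rw [pow_succ']
            show dlt α (ρ ((ρ ^ k) x)) = ρ ((ρ ^ k) (dlt α x))
            rw [h.dlt_rho, ih]
        rw [← hkey] at hk
        rw [h.fix]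
        have : α y = y * dlt α y := by rw [dlt, mul_inv_cancel_left]
        rw [map_mul, map_inv, this, show α ((ρ ^ k) x) = (ρ ^ k) x * dlt α ((ρ ^ k) x) by
          rw [dlt, mul_inv_cancel_left], hk, _root_.mul_inv_rev, h.mem_inv ((hW y).1 hb)]
        rw [show dlt α y * ((ρ ^ k) x)⁻¹ * (y * dlt α y) = dlt α y * (((ρ ^ k) x)⁻¹ * y) * dlt α y by group,
          h.central ((hW y).1 hb), mul_assoc, h.sq _ ((hW y).1 hb), mul_one]

/-- The quotient being commutative forces commutativity or class two of order `q ^ 3`. -/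
theorem commutative_or_of_quotient [Finite Q] [C.Normal] (hab : ∀ x y : Q ⧸ C, x * y = y * x) :
    (∀ x y : Q, x * y = y * x) ∨ (Nat.card Q = (2 ^ n) ^ 3 ∧ ∀ x : Q, x * x ∈ C) := by
  classical
  haveI : Fact (Nat.Prime 2) := ⟨Nat.prime_two⟩
  by_cases htop : C = ⊤
  · exact Or.inl fun x y => h.central (htop ▸ Subgroup.mem_top x) y
  obtain ⟨W, hW, hWmem⟩ := h.bar htop
  letI : CommGroup (Q ⧸ C) := { (inferInstance : Group (Q ⧸ C)) with mul_comm := hab }
  set a := barAut α h.mem_alpha with ha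
  set r := barAut ρ h.mem_rho with hr
  have hcl : ∀ x y : Q, ⁅x, y⁆ ∈ C := fun x y => by
    rw [← QuotientGroup.eq_one_iff]
    show QuotientGroup.mk' C ⁅x, y⁆ = 1
    rw [map_commutatorElement, commutatorElement_eq_one_iff_mul_comm]
    exact hab _ _
  let π : Q →* Q ⧸ C := QuotientGroup.mk' C
  -- finishing by a layer
  have finish : ∀ (p : (Q ⧸ C) →* (Q ⧸ C)), (∀ x, p x ∈ W) → (∀ x, p (r x) = r (p x)) →
      (∃ x, p x ≠ 1) → (∀ x, p x = 1 → ∃ z, x = z * z) → ∀ x y : Q, x * y = y * x := by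
    intro p hpW hpr hpne hpk
    have hd : ∀ x : Q, ∃ w : Q, (w : Q ⧸ C) = p (x : Q ⧸ C) := fun x => QuotientGroup.mk_surjective _
    choose w hw using hd
    have hwC : ∀ x, dlt α (w x) ∈ C := fun x => (hWmem _).1 (by rw [hw]; exact hpW _)
    have hdep : ∀ u v : Q, (u : Q ⧸ C) = (v : Q ⧸ C) → dlt α u = dlt α v := fun u v huv => by
      have hc := QuotientGroup.eq.1 huv
      obtain ⟨c, hc', rfl⟩ : ∃ c ∈ C, u * c = v := ⟨_, hc, mul_inv_cancel_left u v⟩
      simp only [dlt, map_mul, (h.fix c).1 hc', _root_.mul_inv_rev]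
      rw [mul_assoc, ← mul_assoc (u⁻¹), ← h.central hc' (u⁻¹ * α u), inv_mul_cancel_left]
    have hmul : ∀ x y, dlt α (w x * w y) = dlt α (w x) * dlt α (w y) := fun x y => by
      calc dlt α (w x * w y) = (w y)⁻¹ * (dlt α (w x) * w y) * ((w y)⁻¹ * α (w y)) := by
            simp only [dlt, map_mul]; group
        _ = _ := by rw [h.central (hwC x), inv_mul_cancel_left]; rfl
    have := h.commutative_of_layer (R := ⊤) (fun x _ => Subgroup.mem_top _) (fun x _ y _ => hcl x y)
      (fun x => dlt α (w x)) (fun x _ => hwC x)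
      (fun x _ y _ => by
        rw [← hmul]; exact hdep _ _ (by rw [hw, QuotientGroup.mk_mul, QuotientGroup.mk_mul, hw, hw, map_mul]))
      (fun x _ => by
        rw [← h.dlt_rho]
        exact hdep _ _ (by rw [hw, ← barAut_mk ρ h.mem_rho, ← barAut_mk ρ h.mem_rho, hw]; exact hpr _))
      (by
        obtain ⟨xb, hxb⟩ := hpne
        obtain ⟨x, rfl⟩ := QuotientGroup.mk_surjective xb
        refine ⟨x, Subgroup.mem_top _, fun e => hxb ?_⟩
        rw [← hw, QuotientGroup.eq_one_iff]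
        exact h.dlt_eq_one.1 e)
      (fun x _ hx y _ => by
        have hp : p (x : Q ⧸ C) = 1 := by
          rw [← hw, QuotientGroup.eq_one_iff]; exact h.dlt_eq_one.1 hx
        obtain ⟨zb, hz⟩ := hpk _ hp
        obtain ⟨z, rfl⟩ := QuotientGroup.mk_surjective zb
        rw [← QuotientGroup.mk_mul] at hz
        obtain ⟨c, hc, rfl⟩ : ∃ c ∈ C, x = z * z * c :=
          ⟨(z * z)⁻¹ * x, QuotientGroup.eq.1 hz.symm, (mul_inv_cancel_left _ _).symm⟩
        have h2 : ⁅z * z, y⁆ = 1 := by rw [h.comm_mul_left (hcl z y) (hcl z y), h.sq _ (hcl z y)]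
        rw [mul_assoc, h.central hc y, ← mul_assoc, commutatorElement_eq_one_iff_mul_comm.1 h2, mul_assoc])
    exact fun x y => this x (Subgroup.mem_top x) y (Subgroup.mem_top y)
  by_cases hWtop : W = ⊤
  · exact Or.inl (finish (MonoidHom.id _) (fun x => hWtop ▸ Subgroup.mem_top x) (fun x => rfl)
      (by
        obtain ⟨x, -, hx⟩ := SetLike.exists_of_lt (lt_top_iff_ne_top.2 htop)
        exact ⟨(x : Q ⧸ C), fun e => hx ((QuotientGroup.eq_one_iff x).1 e)⟩)
      fun x hx => ⟨1, by simpa using hx⟩)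
  let δ : (Q ⧸ C) →* (Q ⧸ C) := MonoidHom.mk' (fun x => dlt a x) fun x y => by
    simp only [dlt, map_mul, _root_.mul_inv_rev]; ac_rfl
  have hδker : δ.ker = W := by
    ext x; exact hW.dlt_eq_one
  have hDinv : ∀ y ∈ δ.range, a y = y⁻¹ := by
    rintro _ ⟨x, rfl⟩; exact hW.alpha_dlt x
  have hDr : ∀ y ∈ δ.range, r y ∈ δ.range := by
    rintro _ ⟨x, rfl⟩; exact ⟨r x, hW.dlt_rho x⟩
  have hDne : δ.range ≠ ⊥ := fun e => hWtop (eq_top_iff.2 fun x _ => by
    rw [← hδker, MonoidHom.mem_ker]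
    exact Subgroup.mem_bot.1 (e ▸ (⟨x, rfl⟩ : δ x ∈ δ.range)))
  have hWD : W ≤ δ.range := hW.le_of_inverted hDne hDinv hDr
  have hcardP : Nat.card (Q ⧸ C) = 2 ^ n * Nat.card δ.range := by
    rw [Subgroup.card_eq_card_quotient_mul_card_subgroup δ.ker,
      Nat.card_congr (QuotientGroup.quotientKerEquivRange δ).toEquiv, hδker, hW.card, mul_comm]
  let s : (Q ⧸ C) →* (Q ⧸ C) := MonoidHom.mk' (fun x => x * x) fun x y => by ac_rfl
  have hsr : ∀ x, s (r x) = r (s x) := fun x => (map_mul r x x).symm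
  have hdec : ∀ x, x * x = x * a x * (δ x)⁻¹ := fun x => by
    show _ = x * a x * (x⁻¹ * a x)⁻¹
    rw [_root_.mul_inv_rev, inv_inv, mul_assoc, mul_inv_cancel_left]
  have hxa : ∀ x, x * a x ∈ W := fun x => by
    rw [hW.fix, map_mul, hW.invol, mul_comm]
  have hsD : s.range ≤ δ.range := by
    rintro _ ⟨x, rfl⟩
    show x * x ∈ δ.range
    rw [hdec]; exact δ.range.mul_mem (hWD (hxa x)) (δ.range.inv_mem ⟨x, rfl⟩)
  by_cases hel : ∀ x : Q ⧸ C, x * x = 1
  · refine Or.inr ⟨?_, fun x => (QuotientGroup.eq_one_iff (x * x)).1 ((QuotientGroup.mk_mul C x x).trans (hel (x : Q ⧸ C)))⟩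
    have hDW : δ.range = W := le_antisymm (fun y hy => by
      rw [hW.fix, hDinv y hy, inv_eq_of_mul_eq_one_right (hel y)]) hWD
    rw [Subgroup.card_eq_card_quotient_mul_card_subgroup C, hcardP, hDW, hW.card, h.card]; ring
  refine Or.inl ?_
  have hDs : δ.range ≤ s.range := by
    have hsrρ : ∀ y ∈ s.range, r y ∈ s.range := by
      rintro _ ⟨x, rfl⟩; exact ⟨r x, hsr x⟩
    have hWs : W ≤ s.range := by
      by_cases hsd : δ.range.map s = ⊥
      · have hDW : δ.range ≤ W := fun y hy => by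
          have : s y = 1 := Subgroup.mem_bot.1 (hsd ▸ Subgroup.mem_map_of_mem s hy)
          rw [hW.fix, hDinv y hy, inv_eq_of_mul_eq_one_right this]
        refine hW.le_of_inverted (fun e => hel fun x => Subgroup.mem_bot.1 (e ▸ (⟨x, rfl⟩ : s x ∈ s.range)))
          (fun y hy => hDinv y (hsD hy)) hsrρ
      · refine (hW.le_of_inverted hsd ?_ ?_).trans (Subgroup.map_le_range s δ.range)
        · rintro _ ⟨y, hy, rfl⟩
          show a (y * y) = (y * y)⁻¹
          rw [map_mul, hDinv y hy, _root_.mul_inv_rev]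
        · rintro _ ⟨y, hy, rfl⟩
          exact ⟨r y, hDr y hy, hsr y⟩
    rintro _ ⟨x, rfl⟩
    have e : δ x = x * a x * (s x)⁻¹ := by
      show δ x = x * a x * (x * x)⁻¹
      rw [hdec x, _root_.mul_inv_rev, inv_inv, mul_comm (δ x), mul_inv_cancel_left]
    rw [e]; exact s.range.mul_mem (hWs (hxa x)) (s.range.inv_mem ⟨x, rfl⟩)
  have hrange : s.range = δ.range := le_antisymm hsD hDs
  have hsk : ∀ x : Q ⧸ C, x * x = 1 → x ∈ W := by
    have h1 : Nat.card (Q ⧸ C) = Nat.card s.ker * Nat.card δ.range := by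
      rw [Subgroup.card_eq_card_quotient_mul_card_subgroup s.ker,
        Nat.card_congr (QuotientGroup.quotientKerEquivRange s).toEquiv, hrange, mul_comm]
    have h2 : Nat.card s.ker = 2 ^ n := (Nat.eq_of_mul_eq_mul_right Nat.card_pos (hcardP.symm.trans h1)).symm
    have h3 : W = s.ker := Subgroup.eq_of_le_of_card_ge (fun w hw => MonoidHom.mem_ker.2 (hW.sq w hw))
      (by rw [h2, hW.card])
    intro x hx
    rw [h3]; exact MonoidHom.mem_ker.2 hx
  have hex : ∃ b : ℕ, ∀ x : Q ⧸ C, x ^ 2 ^ (b + 1) = 1 := by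
    obtain ⟨k, hk⟩ := IsPGroup.iff_card.1 hW.two
    exact ⟨k, fun x => by rw [pow_succ, pow_mul, ← hk, pow_card_eq_one', one_pow]⟩
  set b := Nat.find hex with hb
  let p : (Q ⧸ C) →* (Q ⧸ C) := powMonoidHom (2 ^ b)
  have hpW : ∀ x, p x ∈ W := fun x => hsk _ (by
    show x ^ 2 ^ b * x ^ 2 ^ b = 1
    rw [← pow_add, ← two_mul, ← pow_succ']; exact Nat.find_spec hex x)
  have hpr : ∀ x, p (r x) = r (p x) := fun x => (map_pow r x _).symm
  have hpne : ∃ x, p x ≠ 1 := by
    by_contra hc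
    push Not at hc
    rcases Nat.eq_zero_or_pos b with hb0 | hb0
    · refine hel fun x => ?_
      have := Nat.find_spec hex x
      rw [← hb, hb0] at this
      rwa [pow_one, pow_two] at this
    · exact Nat.find_min hex (m := b - 1) (by omega) fun x => by
        rw [show b - 1 + 1 = b by omega]; exact hc x
  refine finish p hpW hpr hpne ?_
  have hple : W ≤ p.range := hW.le_of_inverted
    (fun e => by
      obtain ⟨x, hx⟩ := hpne
      exact hx (Subgroup.mem_bot.1 (e ▸ (⟨x, rfl⟩ : p x ∈ p.range))))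
    (by rintro _ ⟨x, rfl⟩; rw [(hW.fix _).1 (hpW x), inv_eq_of_mul_eq_one_right (hW.sq _ (hpW x))])
    (by rintro _ ⟨x, rfl⟩; exact ⟨r x, hpr x⟩)
  have hpW' : p.range = W := le_antisymm (by rintro _ ⟨x, rfl⟩; exact hpW x) hple
  have hkereq : s.range = p.ker := by
    refine Subgroup.eq_of_le_of_card_ge ?_ ?_
    · rintro _ ⟨x, rfl⟩
      rw [MonoidHom.mem_ker]
      show (x * x) ^ 2 ^ b = 1
      rw [← pow_two, ← pow_mul, ← pow_succ']; exact Nat.find_spec hex x
    · have h1 : Nat.card (Q ⧸ C) = 2 ^ n * Nat.card p.ker := by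
        rw [Subgroup.card_eq_card_quotient_mul_card_subgroup p.ker,
          Nat.card_congr (QuotientGroup.quotientKerEquivRange p).toEquiv, hpW', hW.card]
      rw [hrange, Nat.eq_of_mul_eq_mul_left (Nat.two_pow_pos n) (h1.symm.trans hcardP)]
  intro x hx
  obtain ⟨z, hz⟩ := hkereq ▸ MonoidHom.mem_ker.2 hx
  exact ⟨z, hz.symm⟩

end Hyp

end H69.InvolFixed
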