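import Cfsg.Agent.H50.SuzukiU3
import Cfsg.Agent.CompBasic
import Cfsg.Agent.H1.Cores

/-!
The automorphism group of the Sylow 2-subgroup of `SU_3(q)`, `q` even, in coordinates.
-/

set_option autoImplicit false

namespace H69.SuzU3Aut

open H50 H50.SuzU3

variable {F : Type*} [Field F] [Fintype F] {q : ℕ}

/-- The additive maps `A` preserving the norm up to an additive map are semilinear. -/
theorem semilinear_of_norm_compat (hF : Fintype.card F = q ^ 2) (h2 : (2 : F) = 0)
    (A : F →+ F) (hA : Function.Injective A) (h : F →+ F)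
    (hN : ∀ a, A a ^ q * A a = h (a ^ q * a)) :
    ∃ c : F, c ≠ 0 ∧ ∃ σ : F →+* F, ∀ a, A a = c * σ a := by
  haveI : CharP F 2 := CharTwo.of_one_ne_zero_of_two_eq_zero one_ne_zero h2
  have hq0 := q_ne_zero hF
  set c := A 1 with hc
  have hc0 : c ≠ 0 := fun h0 => one_ne_zero (hA (h0.trans (map_zero A).symm))
  refine ⟨c, hc0, ?_⟩
  let B : F →+ F := (AddMonoidHom.mulLeft c⁻¹).comp A
  let g : F →+ F := (AddMonoidHom.mulLeft (c⁻¹ ^ q * c⁻¹)).comp h
  have hAB : ∀ a, A a = c * B a := fun a => by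
    show A a = c * (c⁻¹ * A a)
    rw [← mul_assoc, mul_inv_cancel₀ hc0, one_mul]
  have hB : Function.Injective B := fun a b hab => hA (by rw [hAB, hAB, hab])
  have hB1 : B 1 = 1 := inv_mul_cancel₀ hc0
  have hg : ∀ a, B a ^ q * B a = g (a ^ q * a) := fun a => by
    show (c⁻¹ * A a) ^ q * (c⁻¹ * A a) = c⁻¹ ^ q * c⁻¹ * h (a ^ q * a)
    rw [← hN, mul_pow]; ring
  have hβ : ∀ a b, B a ^ q * B b + B b ^ q * B a = g (a ^ q * b + b ^ q * a) := fun a b => by
    have e := hg (a + b)
    rw [map_add, add_pow_q hF, add_pow_q hF,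
      show (a ^ q + b ^ q) * (a + b) = a ^ q * a + b ^ q * b + (a ^ q * b + b ^ q * a) by ring,
      map_add g, map_add g, ← hg, ← hg] at e
    linear_combination e
  -- scalars from the fixed field
  have hscal : ∀ t x : F, t ^ q = t → ∃ u : F, u ^ q = u ∧ B (t * x) = u * B x := by
    intro t x ht
    rcases eq_or_ne x 0 with rfl | hx
    · exact ⟨0, zero_pow hq0, by simp⟩
    have hBx : B x ≠ 0 := fun h0 => hx (hB (h0.trans (map_zero B).symm))
    refine ⟨B (t * x) / B x, ?_, (div_mul_cancel₀ _ hBx).symm⟩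
    have e := hβ x (t * x)
    rw [mul_pow, ht, show x ^ q * (t * x) + t * x ^ q * x = (0 : F) by
      linear_combination (x ^ q * t * x) * h2, map_zero] at e
    rw [div_pow, div_eq_div_iff (pow_ne_zero _ hBx) hBx]
    linear_combination e - B x ^ q * B (t * x) * h2
  choose u hu1 hu2 using hscal
  obtain ⟨w, hw⟩ := exists_trace_ne_zero hF
  have hwfix : w ^ q ≠ w := fun h' => hw (by rw [h']; linear_combination w * h2)
  have hBfix : ∀ t, t ^ q = t → B t ^ q = B t := fun t ht => by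
    have e := hu2 t 1 ht
    rw [mul_one, hB1, mul_one] at e
    rw [e]; exact hu1 t 1 ht
  -- a fixed vector of the line of `1` against a vector outside it
  have hind : ∀ y, y ^ q ≠ y → B y ^ q ≠ B y := by
    intro y hy h'
    have e := hβ 1 y
    rw [one_pow, one_mul, mul_one, hB1, one_pow, one_mul, mul_one, h'] at e
    have e0 : B (y + y ^ q) = 0 := by
      have ht : (y + y ^ q) ^ q = y + y ^ q := trace_fixed hF y
      have e2 : g ((y + y ^ q) ^ q * (y + y ^ q)) = B (y + y ^ q) ^ q * B (y + y ^ q) := (hg _).symm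
      rw [ht] at e2
      rw [hBfix _ ht] at e2
      have e3 : g ((y + y ^ q) * (y + y ^ q)) = 0 := by
        obtain ⟨m, hm⟩ : ∃ m, m = y + y ^ q := ⟨_, rfl⟩
        rw [← hm] at e ht ⊢
        have e4 : g (y * m + y ^ q * m) = 0 := by
          have e5 := hβ m y
          rw [ht, hBfix m ht, h'] at e5
          rw [mul_comm y m, ← e5]; linear_combination (B m * B y) * h2
        rwa [← add_mul, ← hm] at e4
      rw [e3] at e2
      rcases mul_eq_zero.1 e2.symm with h0 | h0 <;> exact h0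
    have : y + y ^ q = 0 := hB (e0.trans (map_zero B).symm)
    exact hy (by linear_combination this - y * h2)
  -- the scalar map does not depend on the vector
  have hout : ∀ t y, ∀ ht : t ^ q = t, y ^ q ≠ y → u t y ht = B t := by
    intro t y ht hy
    have e := hu2 t (1 + y) ht
    rw [mul_add, mul_one, map_add, map_add, hB1, hu2 t y ht] at e
    by_contra hne
    have h1 := hu1 t y ht
    have h3 := hu1 t (1 + y) ht
    have h4 : u t (1 + y) ht ≠ u t y ht := by
      intro h'; rw [h'] at e; exact hne (by linear_combination -e)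
    have h5 : B y = (B t - u t (1 + y) ht) / (u t (1 + y) ht - u t y ht) := by
      rw [eq_div_iff (sub_ne_zero.2 h4)]; linear_combination -e
    refine hind y hy ?_
    rw [h5, div_pow, sub_pow_q hF, sub_pow_q hF, hBfix t ht, h1, h3]
  have hline : ∀ t x, t ^ q = t → B (t * x) = B t * B x := by
    intro t x ht
    by_cases hx : x ^ q = x
    · have hxw : (x + w) ^ q ≠ x + w := by
        rw [add_pow_q hF, hx]; exact fun h' => hwfix (add_left_cancel h')
      have e := hu2 t (x + w) ht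
      rw [hout t _ ht hxw, mul_add, map_add, hu2 t w ht, hout t _ ht hwfix, map_add, mul_add] at e
      exact add_right_cancel e
    · rw [hu2 t x ht, hout t x ht hx]
  -- the norm map in new coordinates
  have hgfix : ∀ t, t ^ q = t → g t = B t := by
    intro t ht
    obtain ⟨m, hm⟩ := (bijective_frobenius F 2).2 t
    rw [frobenius_def] at hm
    have hmf : m ^ q = m := (bijective_frobenius F 2).1 (by
      simp only [frobenius_def]; rw [← pow_mul, mul_comm, pow_mul, hm, ht])
    have e := hg m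
    rw [hmf, hBfix m hmf, ← hline m m hmf, ← pow_two, hm] at e
    exact e.symm
  have hww : B (w * w) = B w * B w := by
    have e1 := hβ 1 w
    rw [one_pow, one_mul, mul_one, hB1, one_pow, one_mul, mul_one, hgfix _ (trace_fixed hF w)] at e1
    have e2 := hg w
    have hN' : (w ^ q * w) ^ q = w ^ q * w := by rw [mul_pow, pow_q_pow_q hF, mul_comm]
    rw [hgfix _ hN'] at e2
    rw [show w * w = (w + w ^ q) * w + w ^ q * w by linear_combination -(w ^ q * w) * h2,
      map_add, hline _ _ (trace_fixed hF w), ← e2, ← e1]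
    linear_combination (B w ^ q * B w) * h2
  have hdec : ∀ x : F, ∃ a b, a ^ q = a ∧ b ^ q = b ∧ x = a + b * w := by
    intro x
    have hb : ((x + x ^ q) / (w + w ^ q)) ^ q = (x + x ^ q) / (w + w ^ q) := by
      rw [div_pow, trace_fixed hF, trace_fixed hF]
    refine ⟨x + (x + x ^ q) / (w + w ^ q) * w, _, ?_, hb, ?_⟩
    · rw [add_pow_q hF, mul_pow, hb]
      have e : (x + x ^ q) / (w + w ^ q) * (w + w ^ q) = x + x ^ q := div_mul_cancel₀ _ hw
      linear_combination e + (x ^ q - (x + x ^ q) / (w + w ^ q) * w) * h2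
    · linear_combination -((x + x ^ q) / (w + w ^ q) * w) * h2
  have hwmul : ∀ y, B (w * y) = B w * B y := by
    intro y
    obtain ⟨a, b, ha, hb, rfl⟩ := hdec y
    rw [mul_add, map_add, mul_comm w a, hline a w ha, show w * (b * w) = b * (w * w) by ring,
      hline b _ hb, hww, map_add, hline b w hb]
    ring
  refine ⟨{ toFun := B
            map_one' := hB1
            map_zero' := map_zero B
            map_add' := map_add B
            map_mul' := fun x y => ?_ }, hAB⟩
  obtain ⟨a, b, ha, hb, rfl⟩ := hdec x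
  rw [add_mul, map_add, hline a y ha, mul_assoc, hline b _ hb, hwmul, map_add, hline b w hb]
  ring

/-- A ring endomorphism of the field of `2 ^ k` elements is a power of squaring. -/
theorem exists_pow_of_ringHom (h2 : (2 : F) = 0) {k : ℕ} (hk : Fintype.card F = 2 ^ k) (σ : F →+* F) :
    ∃ j < k, ∀ a, σ a = a ^ 2 ^ j := by
  haveI : CharP F 2 := CharTwo.of_one_ne_zero_of_two_eq_zero one_ne_zero h2
  letI : Algebra (ZMod 2) F := ZMod.algebra F 2
  let e : Gal(F/ZMod 2) := AlgEquiv.ofRingEquiv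
    (f := RingEquiv.ofBijective σ ⟨σ.injective, Finite.injective_iff_surjective.1 σ.injective⟩)
    fun t => by
      show (σ.comp (algebraMap (ZMod 2) F)) t = algebraMap (ZMod 2) F t
      rw [Subsingleton.elim (σ.comp (algebraMap (ZMod 2) F)) (algebraMap (ZMod 2) F)]
  obtain ⟨⟨j, hj⟩, hje⟩ := (FiniteField.bijective_frobeniusAlgEquivOfAlgebraic_pow (ZMod 2) F).2 e
  have hfr : Module.finrank (ZMod 2) F = k := by
    have := Module.card_eq_pow_finrank (K := ZMod 2) (V := F)
    rw [hk, ZMod.card] at this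
    exact (Nat.pow_right_injective (le_refl 2) this).symm
  refine ⟨j, hfr ▸ hj, fun a => ?_⟩
  have := DFunLike.congr_fun hje a
  simp only at this
  rw [AlgEquiv.coe_pow, FiniteField.coe_frobeniusAlgEquivOfAlgebraic_iterate, ZMod.card] at this
  exact this.symm

variable (hF : Fintype.card F = q ^ 2)

/-- A point above a given first coordinate. -/
noncomputable def lift (a : F) : UPt hF :=
  ⟨a, (exists_trace_eq hF (c := a * a ^ q) (by rw [mul_pow, pow_q_pow_q hF, mul_comm])).choose,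
    (exists_trace_eq hF (c := a * a ^ q) (by rw [mul_pow, pow_q_pow_q hF, mul_comm])).choose_spec⟩

/-- The fixed field as an additive group. -/
def fixedAdd : AddSubgroup F where
  carrier := {b | b ^ q = b}
  zero_mem' := zero_pow (q_ne_zero hF)
  add_mem' {a b} ha hb := by
    show (a + b) ^ q = a + b
    rw [add_pow_q hF, ha, hb]
  neg_mem' {a} ha := by
    show (-a) ^ q = -a
    rw [neg_pow_q hF, ha]

section

variable (h2 : (2 : F) = 0)

theorem fixed_of_a_zero {z : UPt hF} (hz : z.a = 0) (h2 : (2 : F) = 0) : z.b ^ q = z.b := by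
  have := z.eqn
  rw [hz, zero_mul] at this
  linear_combination this - z.b * h2

theorem exists_mul_center (x : UPt hF) : ∃ z : UPt hF, z.a = 0 ∧ x = lift hF x.a * z :=
  ⟨(lift hF x.a)⁻¹ * x, by simp [lift], by rw [mul_inv_cancel_left]⟩

include h2 in
theorem map_a_zero (φ : MulAut (UPt hF)) {z : UPt hF} (hz : z.a = 0) : (φ z).a = 0 :=
  (UPt.mem_center hF h2).1 (MulEquivClass.apply_mem_center φ ((UPt.mem_center hF h2).2 hz))

include h2 in
theorem map_a (φ : MulAut (UPt hF)) (x : UPt hF) : (φ x).a = (φ (lift hF x.a)).a := by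
  obtain ⟨z, hz, hx⟩ := exists_mul_center hF x
  conv_lhs => rw [hx, map_mul, UPt.mul_a, map_a_zero hF h2 φ hz, add_zero]

/-- The action on first coordinates. -/
noncomputable def coordA (φ : MulAut (UPt hF)) : F →+ F :=
  AddMonoidHom.mk' (fun a => (φ (lift hF a)).a) fun a b => by
    show (φ (lift hF (a + b))).a = _
    have := map_a hF h2 φ (lift hF a * lift hF b)
    rw [map_mul, UPt.mul_a] at this
    exact this.symm

theorem coordA_apply (φ : MulAut (UPt hF)) (x : UPt hF) : coordA hF h2 φ x.a = (φ x).a :=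
  (map_a hF h2 φ x).symm

theorem coordA_lift (φ : MulAut (UPt hF)) (a : F) : coordA hF h2 φ a = (φ (lift hF a)).a := rfl

/-- The action on first coordinates as a homomorphism. -/
noncomputable def coordHom : MulAut (UPt hF) →* Equiv.Perm F :=
  MonoidHom.mk' (fun φ =>
    ⟨coordA hF h2 φ, coordA hF h2 φ⁻¹,
      fun a => by
        rw [coordA_lift (φ := φ), coordA_apply]
        show (φ⁻¹ (φ (lift hF a))).a = a
        simp [lift],
      fun a => by
        rw [coordA_lift (φ := φ⁻¹), coordA_apply]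
        show (φ (φ⁻¹ (lift hF a))).a = a
        simp [lift]⟩)
    fun φ ψ => by
      ext a
      show coordA hF h2 (φ * ψ) a = coordA hF h2 φ (coordA hF h2 ψ a)
      rw [coordA_lift (φ := ψ), coordA_apply]
      rfl

theorem coordHom_apply (φ : MulAut (UPt hF)) (x : UPt hF) : coordHom hF h2 φ x.a = (φ x).a :=
  coordA_apply hF h2 φ x

theorem coordHom_lift (φ : MulAut (UPt hF)) (a : F) : coordHom hF h2 φ a = (φ (lift hF a)).a := rfl

theorem zpt_eqn (hF : Fintype.card F = q ^ 2) (h2 : (2 : F) = 0) (b : F) : b + b ^ q + (b + b ^ q) ^ q = (0 : F) * 0 ^ q := by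
  rw [zero_mul, trace_fixed hF]; linear_combination (b + b ^ q) * h2

/-- The action on the centre. -/
noncomputable def coordZ (φ : MulAut (UPt hF)) : F →+ F :=
  AddMonoidHom.mk' (fun b => (φ ⟨0, b + b ^ q, zpt_eqn hF h2 b⟩).b) fun a b => by
    rw [show (⟨0, a + b + (a + b) ^ q, zpt_eqn hF h2 (a + b)⟩ : UPt hF) =
        ⟨0, a + a ^ q, zpt_eqn hF h2 a⟩ * ⟨0, b + b ^ q, zpt_eqn hF h2 b⟩
        from UPt.ext (by simp) (by simp [add_pow_q hF, zero_pow (q_ne_zero hF)]; ring),
      map_mul, UPt.mul_b, map_a_zero hF h2 φ (z := ⟨0, a + a ^ q, zpt_eqn hF h2 a⟩) rfl,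
      zero_pow (q_ne_zero hF), zero_mul, add_zero]

include h2 in
theorem norm_compat (φ : MulAut (UPt hF)) :
    ∃ h : F →+ F, ∀ a, coordHom hF h2 φ a ^ q * coordHom hF h2 φ a = h (a ^ q * a) := by
  obtain ⟨d, hd⟩ := exists_trace_eq hF (c := (1 : F)) (one_pow q)
  refine ⟨(coordZ hF h2 φ).comp (AddMonoidHom.mulLeft d), fun a => ?_⟩
  have hn : (a ^ q * a) ^ q = a ^ q * a := by rw [mul_pow, pow_q_pow_q hF, mul_comm]
  show _ = (φ _).b
  rw [coordHom_lift, ← (UPt.mul_self hF h2 _).2, ← map_mul]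
  congr 2
  refine UPt.ext (UPt.mul_self hF h2 _).1 ((UPt.mul_self hF h2 _).2.trans ?_)
  show (lift hF a).a ^ q * (lift hF a).a = d * (a ^ q * a) + (d * (a ^ q * a)) ^ q
  rw [mul_pow d, hn, ← add_mul, hd]
  simp [lift]

/-- The semilinear maps. -/
def semiMap (c : Fˣ) (j : ℕ) : F → F := fun a => (c : F) * a ^ 2 ^ j

include h2 in
theorem exists_aut (c : Fˣ) (j : ℕ) : ∃ φ : MulAut (UPt hF), ∀ a, coordHom hF h2 φ a = semiMap c j a := by
  haveI : CharP F 2 := CharTwo.of_one_ne_zero_of_two_eq_zero one_ne_zero h2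
  have hadd : ∀ a b : F, (a + b) ^ 2 ^ j = a ^ 2 ^ j + b ^ 2 ^ j := fun a b => add_pow_char_pow a b 2 j
  have hinj : Function.Injective fun a : F => a ^ 2 ^ j := fun a b h =>
    (iterateFrobenius F 2 j).injective (by simpa [iterateFrobenius_def] using h)
  let f : UPt hF →* UPt hF := MonoidHom.mk'
    (fun x => ⟨(c : F) * x.a ^ 2 ^ j, (c : F) ^ q * c * x.b ^ 2 ^ j, by
      rw [mul_pow, mul_pow, mul_pow, pow_q_pow_q hF]
      have e := congrArg (fun t : F => t ^ 2 ^ j) x.eqn
      simp only [hadd, mul_pow] at e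
      rw [pow_right_comm _ q (2 ^ j)] at e
      rw [pow_right_comm x.a q (2 ^ j)] at e
      linear_combination ((c : F) ^ q * c) * e⟩)
    fun x y => UPt.ext (by simp [hadd]; ring) (by
      simp [hadd, mul_pow]
      rw [pow_right_comm x.a q (2 ^ j)]
      ring)
  have hf : Function.Injective f := fun x y h => by
    have ha := congrArg UPt.a h
    have hb := congrArg UPt.b h
    simp only [f, MonoidHom.mk'_apply] at ha hb
    exact UPt.ext (hinj (mul_left_cancel₀ c.ne_zero ha))
      (hinj (mul_left_cancel₀ (mul_ne_zero (pow_ne_zero _ c.ne_zero) c.ne_zero) hb))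
  exact ⟨MulEquiv.ofBijective f ⟨hf, Finite.injective_iff_surjective.1 hf⟩, fun a => rfl⟩

/-- The automorphism attached to an additive map into the fixed field. -/
def transAut (h2 : (2 : F) = 0) (g : F →+ fixedAdd hF) : UPt hF ≃* UPt hF where
  toFun x := ⟨x.a, x.b + g x.a, by
    have := (g x.a).2
    change (g x.a : F) ^ q = g x.a at this
    rw [add_pow_q hF, this]; linear_combination x.eqn + (g x.a : F) * h2⟩
  invFun x := ⟨x.a, x.b + g x.a, by
    have := (g x.a).2
    change (g x.a : F) ^ q = g x.a at this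
    rw [add_pow_q hF, this]; linear_combination x.eqn + (g x.a : F) * h2⟩
  left_inv x := UPt.ext rfl (by show x.b + g x.a + g x.a = x.b; linear_combination (g x.a : F) * h2)
  right_inv x := UPt.ext rfl (by show x.b + g x.a + g x.a = x.b; linear_combination (g x.a : F) * h2)
  map_mul' x y := UPt.ext rfl (by simp; ring)

include h2 in
theorem ker_eq_trans (φ : MulAut (UPt hF)) (hφ : φ ∈ (coordHom hF h2).ker) :
    ∃ g : F →+ fixedAdd hF, φ = transAut hF h2 g := by
  have ha : ∀ x, (φ x).a = x.a := fun x => by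
    rw [← coordHom_apply hF h2 φ x, MonoidHom.mem_ker.1 hφ]; rfl
  have hcen : ∀ z : UPt hF, z.a = 0 → φ z = z := fun z hz => by
    obtain ⟨w, hw⟩ := exists_norm_eq hF (fixed_of_a_zero hF hz h2)
    have : z = lift hF w * lift hF w :=
      UPt.ext (by rw [hz, (UPt.mul_self hF h2 _).1]) (by
        rw [(UPt.mul_self hF h2 _).2, ← hw, pow_succ]; rfl)
    rw [this, map_mul]
    exact UPt.ext (by rw [(UPt.mul_self hF h2 _).1, (UPt.mul_self hF h2 _).1]) (by
      rw [(UPt.mul_self hF h2 _).2, (UPt.mul_self hF h2 _).2, ha])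
  have hd : ∀ x : UPt hF, (φ x).b - x.b = (φ (lift hF x.a)).b - (lift hF x.a).b := fun x => by
    obtain ⟨z, hz, hx⟩ := exists_mul_center hF x
    conv_lhs => rw [hx, map_mul, hcen z hz, UPt.mul_b, UPt.mul_b, ha]
    ring
  let g : F →+ fixedAdd hF := AddMonoidHom.mk' (fun a => ⟨(φ (lift hF a)).b - (lift hF a).b, by
      show ((φ (lift hF a)).b - (lift hF a).b) ^ q = (φ (lift hF a)).b - (lift hF a).b
      have e1 := (φ (lift hF a)).eqn
      rw [ha, ← (lift hF a).eqn] at e1
      rw [sub_pow_q hF]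
      linear_combination e1 + ((lift hF a).b - (φ (lift hF a)).b) * h2⟩)
    fun a b => Subtype.ext (by
      have e := hd (lift hF a * lift hF b)
      rw [map_mul, UPt.mul_b, UPt.mul_b] at e
      simp only [ha] at e
      show (φ (lift hF (a + b))).b - (lift hF (a + b)).b = _
      exact e.symm.trans (by simp; ring))
  refine ⟨g, MulEquiv.ext fun x => UPt.ext (ha x) ?_⟩
  show (φ x).b = x.b + ((φ (lift hF x.a)).b - (lift hF x.a).b)
  rw [← hd]; ring

theorem transAut_mul (g g' : F →+ fixedAdd hF) :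
    (transAut hF h2 g : MulAut (UPt hF)) * transAut hF h2 g' = transAut hF h2 (g + g') :=
  MulEquiv.ext fun x => UPt.ext rfl (by
    show x.b + g' x.a + g x.a = x.b + ((g x.a + g' x.a : fixedAdd hF) : F)
    push_cast; ring)

theorem transAut_mem_ker (g : F →+ fixedAdd hF) : (transAut hF h2 g : MulAut (UPt hF)) ∈ (coordHom hF h2).ker :=
  MonoidHom.mem_ker.2 (Equiv.ext fun a => rfl)

theorem transAut_injective : Function.Injective (transAut hF h2) := fun g g' h =>
  AddMonoidHom.ext fun a => Subtype.ext (by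
    have e := congrArg UPt.b (DFunLike.congr_fun h (lift hF a))
    exact add_left_cancel (show (lift hF a).b + (g a : F) = (lift hF a).b + (g' a : F) from e))

theorem card_ker {n : ℕ} (hq : q = 2 ^ n) :
    Nat.card (coordHom hF h2).ker = 2 ^ (2 * n ^ 2) := by
  haveI : CharP F 2 := CharTwo.of_one_ne_zero_of_two_eq_zero one_ne_zero h2
  letI : Algebra (ZMod 2) F := ZMod.algebra F 2
  let W : Submodule (ZMod 2) F := AddSubgroup.toZModSubmodule 2 (fixedAdd hF)
  have e : (coordHom hF h2).ker ≃ (F →+ fixedAdd hF) :=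
    (Equiv.ofBijective (fun g => (⟨_, transAut_mem_ker hF h2 g⟩ : (coordHom hF h2).ker))
      ⟨fun g g' h => transAut_injective hF h2 (congrArg Subtype.val h), fun φ => by
        obtain ⟨g, hg⟩ := ker_eq_trans hF h2 φ.1 φ.2
        exact ⟨g, Subtype.ext hg.symm⟩⟩).symm
  have e2 : (F →+ fixedAdd hF) ≃ (F →ₗ[ZMod 2] W) :=
    (AddMonoidHom.toZModLinearMapEquiv 2 (M := F) (M₁ := W)).toEquiv
  have h1 : Module.finrank (ZMod 2) F = 2 * n := by
    have := Module.card_eq_pow_finrank (K := ZMod 2) (V := F)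
    rw [hF, hq, ZMod.card, ← pow_mul] at this
    rw [← Nat.pow_right_injective (le_refl 2) this, mul_comm]
  have h3 : Module.finrank (ZMod 2) W = n := by
    have := Module.natCard_eq_pow_finrank (K := ZMod 2) (V := W)
    rw [Nat.card_zmod, show Nat.card W = q from card_fixed hF, hq] at this
    exact (Nat.pow_right_injective (le_refl 2) this).symm
  rw [Nat.card_congr (e.trans e2), Module.natCard_eq_pow_finrank (K := ZMod 2), Nat.card_zmod,
    Module.finrank_linearMap, h1, h3]
  congr 1; ring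

theorem ker_elementary : Cfsg.IsElementaryAbelian 2 (coordHom hF h2).ker := by
  refine ⟨⟨⟨fun φ ψ => Subtype.ext ?_⟩⟩, fun φ hφ => ?_⟩
  · obtain ⟨g, hg⟩ := ker_eq_trans hF h2 φ.1 φ.2
    obtain ⟨g', hg'⟩ := ker_eq_trans hF h2 ψ.1 ψ.2
    show φ.1 * ψ.1 = ψ.1 * φ.1
    rw [hg, hg', transAut_mul, transAut_mul, add_comm]
  · obtain ⟨g, hg⟩ := ker_eq_trans hF h2 φ hφ
    rw [hg, pow_two, transAut_mul]
    exact MulEquiv.ext fun x => UPt.ext rfl (by
      show x.b + ((g x.a + g x.a : fixedAdd hF) : F) = x.b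
      push_cast; linear_combination (g x.a : F) * h2)

include h2 in
theorem semiMap_spec {n : ℕ} (hq : q = 2 ^ n) (φ : MulAut (UPt hF)) :
    ∃ (c : Fˣ) (j : Fin (2 * n)), ∀ a, coordHom hF h2 φ a = semiMap c j a := by
  obtain ⟨h, hh⟩ := norm_compat hF h2 φ
  obtain ⟨c, hc, σ, hσ⟩ := semilinear_of_norm_compat hF h2 (coordA hF h2 φ)
    (coordHom hF h2 φ).injective h hh
  obtain ⟨j, hj, hjs⟩ := exists_pow_of_ringHom h2 (k := 2 * n) (by rw [hF, hq, ← pow_mul, mul_comm]) σ
  exact ⟨Units.mk0 c hc, ⟨j, hj⟩, fun a => by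
    show coordHom hF h2 φ a = c * a ^ 2 ^ j
    rw [← hjs]; exact hσ a⟩

include h2 in
theorem card_range {n : ℕ} (hq : q = 2 ^ n) (hn : 1 ≤ n) :
    Nat.card (coordHom hF h2).range = 2 * n * (q ^ 2 - 1) := by
  have hcard : Nat.card Fˣ = q ^ 2 - 1 := by
    rw [Nat.card_units, Nat.card_eq_fintype_card, hF]
  let f : Fˣ × Fin (2 * n) → (coordHom hF h2).range := fun p =>
    ⟨coordHom hF h2 (exists_aut hF h2 p.1 p.2).choose, _, rfl⟩
  have hf : ∀ p a, (f p).1 a = semiMap p.1 p.2 a := fun p a => (exists_aut hF h2 p.1 p.2).choose_spec a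
  have hbij : Function.Bijective f := by
    refine ⟨fun p p' h => ?_, fun ⟨g, φ, hφ⟩ => ?_⟩
    · have h' : ∀ a, semiMap p.1 p.2 a = semiMap p'.1 p'.2 a := fun a => by rw [← hf, ← hf, h]
      have e1 : p.1 = p'.1 := Units.ext (by simpa [semiMap] using h' 1)
      obtain ⟨g, hg⟩ := IsCyclic.exists_ofOrder_eq_natCard (α := Fˣ)
      have e2 : g ^ 2 ^ (p.2 : ℕ) = g ^ 2 ^ (p'.2 : ℕ) := Units.ext (by
        have := h' (g : F)
        simp only [semiMap, e1] at this
        rw [Units.val_pow_eq_pow_val, Units.val_pow_eq_pow_val]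
        exact mul_left_cancel₀ p'.1.ne_zero this)
      have hlt : ∀ j : Fin (2 * n), 2 ^ (j : ℕ) < orderOf g := fun j => by
        rw [hg, hcard, hq, ← pow_mul]
        have h4 : 2 ^ (j : ℕ) ≤ 2 ^ (2 * n - 1) := Nat.pow_le_pow_right two_pos (by omega)
        have h5 : 2 * 2 ^ (2 * n - 1) = 2 ^ (n * 2) := by
          rw [← pow_succ']; congr 1; omega
        have h6 : 2 ≤ 2 ^ (2 * n - 1) := by
          calc 2 = 2 ^ 1 := rfl
            _ ≤ _ := Nat.pow_le_pow_right two_pos (by omega)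
        omega
      exact Prod.ext e1 (Fin.ext (Nat.pow_right_injective (le_refl 2)
        (pow_injOn_Iio_orderOf (Set.mem_Iio.2 (hlt _)) (Set.mem_Iio.2 (hlt _)) e2)))
    · obtain ⟨c, j, hcj⟩ := semiMap_spec hF h2 hq φ
      exact ⟨(c, j), Subtype.ext (Equiv.ext fun a => by rw [hf, ← hcj, hφ])⟩
  rw [← Nat.card_eq_of_bijective f hbij, Nat.card_prod, Nat.card_fin, hcard, mul_comm]

include h2 in
theorem pCore_eq {n : ℕ} (hq : q = 2 ^ n) :
    Cfsg.pCore 2 (MulAut (UPt hF)) = (coordHom hF h2).ker := by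
  haveI : CharP F 2 := CharTwo.of_one_ne_zero_of_two_eq_zero one_ne_zero h2
  refine le_antisymm (fun φ hφ => ?_) (Cfsg.Comp.le_pCore inferInstance fun x => ⟨1, ?_⟩)
  swap
  · exact Subtype.ext ((ker_elementary hF h2).2 x.1 x.2)
  have hP := Cfsg.Comp.pCore_isPGroup (G := MulAut (UPt hF)) 2
  have hnorm : (Cfsg.pCore 2 (MulAut (UPt hF))).Normal := H1.pCore_normal' 2 _
  -- a multiplication in the image of the core is trivial
  have hscal : ∀ ψ ∈ Cfsg.pCore 2 (MulAut (UPt hF)), ∀ v : F,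
      (∀ a, coordHom hF h2 ψ a = v * a) → v = 1 := by
    intro ψ hψ v hv
    obtain ⟨k, hk⟩ := hP ⟨ψ, hψ⟩
    have hk' : ψ ^ 2 ^ k = 1 := congrArg Subtype.val hk
    have hpow : ∀ m : ℕ, coordHom hF h2 (ψ ^ m) 1 = v ^ m := by
      intro m
      induction m with
      | zero => rw [pow_zero, map_one (coordHom hF h2)]; simp
      | succ m ih =>
        rw [pow_succ', map_mul]
        show coordHom hF h2 ψ (coordHom hF h2 (ψ ^ m) 1) = _
        rw [hv, ih, pow_succ']
    have h1 := hpow (2 ^ k)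
    rw [hk', map_one (coordHom hF h2), Equiv.Perm.one_apply] at h1
    exact (iterateFrobenius F 2 k).injective (by
      simp only [iterateFrobenius_def, one_pow]; exact h1.symm)
  obtain ⟨c, j, hcj⟩ := semiMap_spec hF h2 hq φ
  have hσ : ∀ u : F, u ^ 2 ^ (j : ℕ) = u := by
    intro u
    rcases eq_or_ne u 0 with rfl | hu
    · exact zero_pow (by positivity)
    obtain ⟨μ, hμ⟩ := exists_aut hF h2 (Units.mk0 u hu) 0
    have hμ' : ∀ a, coordHom hF h2 μ a = u * a := fun a => by rw [hμ]; simp [semiMap]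
    have hμi : ∀ a, coordHom hF h2 μ⁻¹ a = u⁻¹ * a := fun a => by
      apply (coordHom hF h2 μ).injective
      have e : coordHom hF h2 μ (coordHom hF h2 μ⁻¹ a) = a := by
        show (coordHom hF h2 μ * coordHom hF h2 μ⁻¹) a = a
        rw [← map_mul, mul_inv_cancel, map_one]; rfl
      rw [e, hμ', ← mul_assoc, mul_inv_cancel₀ hu, one_mul]
    have hφi : ∀ a, coordHom hF h2 φ (coordHom hF h2 φ⁻¹ a) = a := fun a => by
      show (coordHom hF h2 φ * coordHom hF h2 φ⁻¹) a = a
      rw [← map_mul, mul_inv_cancel, map_one]; rfl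
    have hmem : φ * (μ * φ⁻¹ * μ⁻¹) ∈ Cfsg.pCore 2 (MulAut (UPt hF)) :=
      Subgroup.mul_mem _ hφ (hnorm.conj_mem _ (Subgroup.inv_mem _ hφ) μ)
    have h1 := hscal _ hmem (u ^ 2 ^ (j : ℕ) * u⁻¹) fun a => by
      rw [map_mul, map_mul, map_mul]
      show coordHom hF h2 φ (coordHom hF h2 μ (coordHom hF h2 φ⁻¹ (coordHom hF h2 μ⁻¹ a))) = _
      have e := hφi (coordHom hF h2 μ⁻¹ a)
      generalize coordHom hF h2 φ⁻¹ (coordHom hF h2 μ⁻¹ a) = r at e ⊢
      rw [hμi] at e
      rw [hμ', hcj, semiMap, mul_pow]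
      rw [hcj, semiMap] at e
      linear_combination (u ^ 2 ^ (j : ℕ)) * e
    exact (mul_inv_eq_one₀ hu).1 h1
  have hc : (c : F) = 1 := hscal φ hφ c fun a => by rw [hcj, semiMap, hσ]
  exact MonoidHom.mem_ker.2 (Equiv.ext fun a => by rw [hcj, semiMap, hσ, hc, one_mul]; rfl)

include h2 in
theorem card_aut {n : ℕ} (hq : q = 2 ^ n) (hn : 1 ≤ n) :
    Nat.card (MulAut (UPt hF)) = 2 ^ (2 * n ^ 2) * (2 * n * (q ^ 2 - 1)) := by
  rw [Subgroup.card_eq_card_quotient_mul_card_subgroup (coordHom hF h2).ker, card_ker hF h2 hq,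
    Nat.card_congr (QuotientGroup.quotientKerEquivRange (coordHom hF h2)).toEquiv,
    card_range hF h2 hq hn, mul_comm]

end

include hF in
/-- A Sylow 2-subgroup of `SU_3(q)` in coordinates. -/
theorem sylow_equiv {n : ℕ} (hn : 2 ≤ n) (hq : q = 2 ^ n) (h2 : (2 : F) = 0)
    (P : Sylow 2 ↥(Cfsg.SU 3 F q)) : Nonempty (UPt hF ≃* ↥(P : Subgroup ↥(Cfsg.SU 3 F q))) := by
  obtain ⟨f, hf⟩ := exists_hom hF h2
  have hp : IsPGroup 2 f.range := (UPt.isPGroup hF h2).of_equiv (MonoidHom.ofInjective hf)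
  obtain ⟨R, hR⟩ := hp.exists_le_sylow
  have e : UPt hF ≃* f.range := MonoidHom.ofInjective hf
  have hU : Nat.card f.range = q ^ 3 := by rw [← Nat.card_congr e.toEquiv, UPt.card hF]
  let π := QuotientGroup.mk' (Subgroup.center ↥(Cfsg.SU 3 F q))
  have hRcard : Nat.card (R : Subgroup ↥(Cfsg.SU 3 F q)) ≤ q ^ 3 := by
    let S := R.mapSurjective (f := π) (QuotientGroup.mk'_surjective _)
    rw [← (sylow_two hF hn hq S).1]
    have hS : (S : Subgroup (Cfsg.PSU 3 F q)) = (R : Subgroup ↥(Cfsg.SU 3 F q)).map π := rfl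
    rw [hS]
    refine le_of_eq (Nat.card_congr (Equiv.ofBijective
      (fun x => (⟨π x.1, x.1, x.2, rfl⟩ : (R : Subgroup ↥(Cfsg.SU 3 F q)).map π)) ⟨?_, ?_⟩))
    · intro x y hxy
      have hxy' : π x.1 = π y.1 := congrArg Subtype.val hxy
      have hc : ((x⁻¹ * y : (R : Subgroup ↥(Cfsg.SU 3 F q))) : ↥(Cfsg.SU 3 F q)) ∈
          Subgroup.center ↥(Cfsg.SU 3 F q) := QuotientGroup.eq.1 hxy'
      have h1 : orderOf (x⁻¹ * y : (R : Subgroup ↥(Cfsg.SU 3 F q))) = 1 := by
        obtain ⟨k, hk⟩ := IsPGroup.iff_orderOf.1 R.isPGroup' (x⁻¹ * y)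
        have hd : orderOf (x⁻¹ * y : (R : Subgroup ↥(Cfsg.SU 3 F q))) ∣ Nat.gcd 3 (q + 1) := by
          rw [← Subgroup.orderOf_coe, ← Subgroup.orderOf_mk _ hc, ← card_center_SU hF (n := 3) (by norm_num)]
          exact orderOf_dvd_natCard _
        refine Nat.eq_one_of_dvd_coprimes (a := 2 ^ k) (b := Nat.gcd 3 (q + 1)) ?_ hk.dvd hd
        exact Nat.Coprime.pow_left _ (Nat.Coprime.coprime_dvd_right (Nat.gcd_dvd_left _ _) (by norm_num))
      exact inv_mul_eq_one.1 (orderOf_eq_one_iff.1 h1)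
    · rintro ⟨_, x, hx, rfl⟩
      exact ⟨⟨x, hx⟩, rfl⟩
  have heq : f.range = (R : Subgroup ↥(Cfsg.SU 3 F q)) :=
    Subgroup.eq_of_le_of_card_ge hR (hU ▸ hRcard)
  exact ⟨(e.trans (MulEquiv.subgroupCongr heq)).trans (R.equiv P)⟩

end H69.SuzU3Aut
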