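import Cfsg.Agent.H69.InvolCoord
import Cfsg.Agent.H69.SuzU3Aut
import Cfsg.Agent.H37.Sylow

/-!
Identification of the class two groups of `InvolCoord` with Sylow subgroups of `U_3` and `L_3`.
-/

set_option autoImplicit false

namespace H69.InvolFixed

open scoped commutatorElement

/-- A central extension by elementary groups described by its squaring map. -/
structure Ext (Q : Type*) [Group Q] (n : ℕ) (κ : GaloisField 2 n) where
  e : GaloisField 2 n → Q
  ψ : Q → GaloisField 2 n × GaloisField 2 n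
  e_add : ∀ a b, e (a + b) = e a * e b
  e_inj : Function.Injective e
  cen : ∀ a x, e a * x = x * e a
  ψ_mul : ∀ x y, ψ (x * y) = ψ x + ψ y
  ψ_surj : Function.Surjective ψ
  ψ_ker : ∀ x, ψ x = 0 → ∃ a, e a = x
  ψ_e : ∀ a, ψ (e a) = 0
  sq : ∀ x, ∃ u, x * x = e u ∧ u ^ 2 = κ * (ψ x).1 ^ 2 + (ψ x).1 * (ψ x).2 + (ψ x).2 ^ 2

/-- The squaring map determines the extension. -/
theorem Ext.equiv {Q₁ Q₂ : Type*} [Group Q₁] [Finite Q₁] [Group Q₂] [Finite Q₂] {n : ℕ}
    {κ : GaloisField 2 n} (D₁ : Ext Q₁ n κ) (D₂ : Ext Q₂ n κ) : Nonempty (Q₁ ≃* Q₂) := by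
  classical
  haveI : Fact (Nat.Prime 2) := ⟨Nat.prime_two⟩
  have one₁ : D₁.e 0 = 1 := by
    have := D₁.e_add 0 0
    rw [add_zero] at this
    exact left_eq_mul.1 this
  have one₂ : D₂.e 0 = 1 := by
    have := D₂.e_add 0 0
    rw [add_zero] at this
    exact left_eq_mul.1 this
  have z₁ : D₁.ψ 1 = 0 := by rw [← one₁, D₁.ψ_e]
  have z₂ : D₂.ψ 1 = 0 := by rw [← one₂, D₂.ψ_e]
  let P : Subgroup (Q₁ × Q₂) :=
    { carrier := {v | D₁.ψ v.1 = D₂.ψ v.2}
      one_mem' := z₁.trans z₂.symm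
      mul_mem' := fun {u v} hu hv => by
        show D₁.ψ (u.1 * v.1) = D₂.ψ (u.2 * v.2)
        rw [D₁.ψ_mul, D₂.ψ_mul, hu, hv]
      inv_mem' := fun {u} hu => by
        show D₁.ψ u.1⁻¹ = D₂.ψ u.2⁻¹
        have a1 := D₁.ψ_mul u.1⁻¹ u.1
        have a2 := D₂.ψ_mul u.2⁻¹ u.2
        rw [inv_mul_cancel, z₁, hu] at a1
        rw [inv_mul_cancel, z₂] at a2
        exact add_right_cancel (a1.symm.trans a2) }
  have hmk : ∀ a b, ((D₁.e a, D₂.e b) : Q₁ × Q₂) ∈ P := fun a b => (D₁.ψ_e a).trans (D₂.ψ_e b).symm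
  let d : Multiplicative (GaloisField 2 n) →* P := MonoidHom.mk'
    (fun a => ⟨_, hmk a.toAdd a.toAdd⟩)
    fun a b => Subtype.ext (Prod.ext (D₁.e_add _ _) (D₂.e_add _ _))
  let D : Subgroup P := d.range
  haveI hDn : D.Normal := ⟨fun v ⟨a, ha⟩ g => ⟨a, by
    rw [← ha]
    refine Subtype.ext (Prod.ext ?_ ?_)
    · show D₁.e a.toAdd = g.1.1 * D₁.e a.toAdd * g.1.1⁻¹
      rw [← D₁.cen, mul_inv_cancel_right]
    · show D₂.e a.toAdd = g.1.2 * D₂.e a.toAdd * g.1.2⁻¹
      rw [← D₂.cen, mul_inv_cancel_right]⟩⟩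
  have hsqD : ∀ v : P, v * v ∈ D := by
    intro v
    obtain ⟨u, hu, hu2⟩ := D₁.sq v.1.1
    obtain ⟨u', hu', hu2'⟩ := D₂.sq v.1.2
    rw [show D₁.ψ v.1.1 = D₂.ψ v.1.2 from v.2] at hu2
    have e1 : u = u' := CharTwo.sq_injective (show u ^ 2 = u' ^ 2 by rw [hu2, hu2'])
    exact ⟨Multiplicative.ofAdd u, Subtype.ext (Prod.ext hu.symm (e1 ▸ hu'.symm))⟩
  have hel : ∀ v : P ⧸ D, v * v = 1 := fun v => by
    induction v using QuotientGroup.induction_on with
    | H v => rw [← QuotientGroup.mk_mul, QuotientGroup.eq_one_iff]; exact hsqD v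
  letI : CommGroup (P ⧸ D) := { (inferInstance : Group (P ⧸ D)) with
    mul_comm := fun x y => by
      have h1 := inv_eq_of_mul_eq_one_right (hel (x * y))
      rw [_root_.mul_inv_rev, inv_eq_of_mul_eq_one_right (hel x), inv_eq_of_mul_eq_one_right (hel y)] at h1
      exact h1.symm }
  let z : Multiplicative (GaloisField 2 n) →* P := MonoidHom.mk'
    (fun a => ⟨_, hmk a.toAdd 0⟩)
    fun a b => Subtype.ext (Prod.ext (D₁.e_add _ _) (by
      show D₂.e 0 = D₂.e 0 * D₂.e 0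
      rw [one₂, one_mul]))
  let Z : Subgroup (P ⧸ D) := ((QuotientGroup.mk' D).comp z).range
  letI : Module (ZMod 2) (Additive (P ⧸ D)) := AddCommGroup.zmodModule (fun x => by
    rw [two_nsmul]; exact Additive.toMul.injective (hel x.toMul))
  obtain ⟨K, hK⟩ := (AddSubgroup.toZModSubmodule 2 (Subgroup.toAddSubgroup Z)).exists_isCompl
  let G : Subgroup P := (K.toAddSubgroup.toSubgroup').comap (QuotientGroup.mk' D)
  have hG : ∀ v : P, v ∈ G ↔ Additive.ofMul (v : P ⧸ D) ∈ K := fun v => Iff.rfl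
  have hsplit : ∀ v : P, ∃ a, v * (z a)⁻¹ ∈ G := by
    intro v
    have hv : Additive.ofMul (v : P ⧸ D) ∈
        AddSubgroup.toZModSubmodule 2 (Subgroup.toAddSubgroup Z) ⊔ K := hK.sup_eq_top ▸ Submodule.mem_top
    obtain ⟨y, hy, k, hk, hyk⟩ := Submodule.mem_sup.1 hv
    obtain ⟨a, ha⟩ := hy
    refine ⟨a, (hG _).2 ?_⟩
    rw [QuotientGroup.mk_mul, QuotientGroup.mk_inv,
      show ((z a : P) : P ⧸ D) = y.toMul from ha]
    have e : Additive.ofMul ((v : P ⧸ D) * (y.toMul)⁻¹) = k := by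
      rw [ofMul_mul, ofMul_inv, ← hyk]
      show y + k + -y = k
      abel
    rw [e]; exact hk
  have hdisj : ∀ a, z a ∈ G → a = 1 := by
    intro a ha
    have h0 : Additive.ofMul ((z a : P) : P ⧸ D) = 0 :=
      (Submodule.mem_bot (ZMod 2)).1 (hK.inf_eq_bot ▸ ⟨⟨a, rfl⟩, (hG _).1 ha⟩)
    have h1 : ((z a : P) : P ⧸ D) = 1 := h0
    obtain ⟨b, hb⟩ := (QuotientGroup.eq_one_iff _).1 h1
    have e1 : D₁.e b.toAdd = D₁.e a.toAdd := congrArg (fun t : P => t.1.1) hb
    have e2 : D₂.e b.toAdd = D₂.e 0 := congrArg (fun t : P => t.1.2) hb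
    have e3 := D₁.e_inj e1
    rw [D₂.e_inj e2] at e3
    exact Multiplicative.toAdd.injective e3.symm
  let p₁ : G →* Q₁ := ((MonoidHom.fst Q₁ Q₂).comp P.subtype).comp G.subtype
  let p₂ : G →* Q₂ := ((MonoidHom.snd Q₁ Q₂).comp P.subtype).comp G.subtype
  have hp₂ : Function.Bijective p₂ := by
    constructor
    · rw [injective_iff_map_eq_one]
      rintro ⟨v, hv⟩ hv2
      have hv2' : v.1.2 = 1 := hv2
      obtain ⟨a, ha⟩ := D₁.ψ_ker v.1.1 (by rw [show D₁.ψ v.1.1 = D₂.ψ v.1.2 from v.2, hv2', z₂])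
      have e : v = z (Multiplicative.ofAdd a) :=
        Subtype.ext (Prod.ext ha.symm (hv2'.trans one₂.symm))
      refine Subtype.ext ?_
      show v = 1
      have hzG : z (Multiplicative.ofAdd a) ∈ G := by rw [← e]; exact hv
      rw [e, hdisj _ hzG, map_one]
    · intro y
      obtain ⟨x, hx⟩ := D₁.ψ_surj (D₂.ψ y)
      obtain ⟨a, ha⟩ := hsplit ⟨(x, y), hx⟩
      refine ⟨⟨_, ha⟩, ?_⟩
      show y * (D₂.e 0)⁻¹ = y
      rw [one₂, inv_one, mul_one]
  have hp₁ : Function.Bijective p₁ := by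
    have hz : ∀ a, ∃ dd ∈ D, dd * z a = ⟨_, hmk 0 a.toAdd⟩ := fun a => ⟨d a, ⟨a, rfl⟩,
      Subtype.ext (Prod.ext (by
        show D₁.e a.toAdd * D₁.e a.toAdd = D₁.e 0
        rw [← D₁.e_add, CharTwo.add_self_eq_zero]) (by
        show D₂.e a.toAdd * D₂.e 0 = D₂.e a.toAdd
        rw [one₂, mul_one]))⟩
    have hDG : ∀ dd ∈ D, dd ∈ G := fun dd hdd => (hG _).2 (by
      rw [(QuotientGroup.eq_one_iff dd).2 hdd]; exact K.zero_mem)
    constructor
    · rw [injective_iff_map_eq_one]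
      rintro ⟨v, hv⟩ hv1
      have hv1' : v.1.1 = 1 := hv1
      obtain ⟨a, ha⟩ := D₂.ψ_ker v.1.2 (by rw [← show D₁.ψ v.1.1 = D₂.ψ v.1.2 from v.2, hv1', z₁])
      have e : v = ⟨_, hmk 0 a⟩ := Subtype.ext (Prod.ext (hv1'.trans one₁.symm) ha.symm)
      obtain ⟨dd, hdd, he⟩ := hz (Multiplicative.ofAdd a)
      have h1 : z (Multiplicative.ofAdd a) = dd⁻¹ * v := by
        rw [e]; exact eq_inv_mul_of_mul_eq he
      have h2 := hdisj _ (h1 ▸ G.mul_mem (G.inv_mem (hDG dd hdd)) hv)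
      refine Subtype.ext ?_
      show v = 1
      have h3 : a = 0 := congrArg Multiplicative.toAdd h2
      rw [e]
      refine Subtype.ext (Prod.ext one₁ ?_)
      show D₂.e a = 1
      rw [h3, one₂]
    · intro x
      obtain ⟨y, hy⟩ := D₂.ψ_surj (D₁.ψ x)
      obtain ⟨a, ha⟩ := hsplit ⟨(x, y), hy.symm⟩
      obtain ⟨dd, hdd, he⟩ := hz a
      refine ⟨⟨⟨(x, y), hy.symm⟩ * (⟨_, hmk 0 a.toAdd⟩ : P)⁻¹, ?_⟩, ?_⟩
      · rw [← he, _root_.mul_inv_rev, ← mul_assoc]
        exact G.mul_mem ha (G.inv_mem (hDG dd hdd))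
      · show x * (D₁.e 0)⁻¹ = x
        rw [one₁, inv_one, mul_one]
  exact ⟨(MulEquiv.ofBijective p₁ hp₁).symm.trans (MulEquiv.ofBijective p₂ hp₂)⟩

/-- A group with coordinates as an extension. -/
def Coord.toExt {Q : Type*} [Group Q] [Finite Q] {α ρ : MulAut Q} {C : Subgroup Q} {n : ℕ}
    (h : Hyp α ρ C n) (D : Coord α ρ C n) : Ext Q n D.κ where
  e := D.e
  ψ := D.ψ
  e_add := D.e_add
  e_inj := D.e_inj
  cen a x := h.central (D.e_mem a) x
  ψ_mul := D.ψ_mul
  ψ_surj := D.ψ_surj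
  ψ_ker x hx := D.e_surj x ((D.ψ_ker x).1 hx)
  ψ_e a := (D.ψ_ker _).2 (D.e_mem a)
  sq := D.sq

/-- A surjection with odd order central kernel preserves the Sylow two-subgroups. -/
theorem sylow_map_iso {G H : Type*} [Group G] [Finite G] [Group H] [Finite H] (f : G →* H)
    (hf : Function.Surjective f) (P : Sylow 2 G) (hk : ∀ x ∈ (P : Subgroup G), f x = 1 → x = 1) :
    ∃ S : Sylow 2 H, Nonempty (↥(P : Subgroup G) ≃* ↥(S : Subgroup H)) := by
  haveI : Fact (Nat.Prime 2) := ⟨Nat.prime_two⟩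
  let g : ↥(P : Subgroup G) →* H := f.comp (P : Subgroup G).subtype
  have hg : Function.Injective g :=
    (injective_iff_map_eq_one g).2 fun x hx => Subtype.ext (hk x.1 x.2 hx)
  have hr : g.range = (P : Subgroup G).map f := by
    rw [MonoidHom.range_comp, Subgroup.range_subtype]
  exact ⟨P.mapSurjective hf, ⟨(MonoidHom.ofInjective hg).trans (MulEquiv.subgroupCongr hr)⟩⟩

section Linear

open Matrix

variable {F : Type*} [Field F] [Fintype F]

/-- The upper unitriangular element with given entries. -/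
def triEl (x y z : F) : SpecialLinearGroup (Fin 3) F :=
  ⟨!![1, x, z; 0, 1, y; 0, 0, 1], by simp [Matrix.det_fin_three]⟩

theorem triEl_mem (x y z : F) : triEl x y z ∈ H37.unitriangularSL 3 F := by
  refine ⟨fun i j hij => ?_, fun i => ?_⟩
  · show (triEl x y z).1 i j = 0
    revert hij
    fin_cases i <;> fin_cases j <;> simp [triEl]
  · show (triEl x y z).1 i i = 1
    fin_cases i <;> simp [triEl]

theorem tri_eq {g : SpecialLinearGroup (Fin 3) F} (hg : g ∈ H37.unitriangularSL 3 F) :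
    ∃ x y z : F, g = triEl x y z := by
  obtain ⟨h1, h2⟩ := hg
  refine ⟨g.1 0 1, g.1 1 2, g.1 0 2, Subtype.ext (Matrix.ext fun i j => ?_)⟩
  have e10 := h1 (i := 1) (j := 0) (by decide)
  have e20 := h1 (i := 2) (j := 0) (by decide)
  have e21 := h1 (i := 2) (j := 1) (by decide)
  have d0 := h2 0
  have d1 := h2 1
  have d2 := h2 2
  simp only [SpecialLinearGroup.coe_GL_coe_matrix, SpecialLinearGroup.toGL] at e10 e20 e21 d0 d1 d2
  fin_cases i <;> fin_cases j <;> simp [triEl]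
  all_goals first
    | rfl
    | exact e10
    | exact e20
    | exact e21
    | exact d0
    | exact d1
    | exact d2

theorem triEl_mul (x y z x' y' z' : F) :
    triEl x y z * triEl x' y' z' = triEl (x + x') (y + y') (z + z' + x * y') := by
  refine Subtype.ext ?_
  show !![1, x, z; 0, 1, y; 0, 0, 1] * !![1, x', z'; 0, 1, y'; 0, 0, 1] = _
  ext i j
  fin_cases i <;> fin_cases j <;> simp [triEl, Matrix.mul_apply, Fin.sum_univ_three] <;> ring

theorem triEl_inj {x y z x' y' z' : F} (h : triEl x y z = triEl x' y' z') : x = x' ∧ y = y' ∧ z = z' := by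
  have h' := congrArg Subtype.val h
  exact ⟨by simpa [triEl] using congrFun (congrFun h' 0) 1, by simpa [triEl] using congrFun (congrFun h' 1) 2,
    by simpa [triEl] using congrFun (congrFun h' 0) 2⟩

end Linear

/-- The isotropic model. -/
theorem exists_linear_ext {n : ℕ} (hn : n ≠ 0) (r : GaloisField 2 n) :
    ∃ (F : Type) (_ : Field F) (_ : Fintype F), Fintype.card F = 2 ^ n ∧
      ∃ S : Sylow 2 (Matrix.ProjectiveSpecialLinearGroup (Fin 3) F),
        Nonempty (Ext ↥(S : Subgroup (Matrix.ProjectiveSpecialLinearGroup (Fin 3) F)) n ((r ^ 2 + r) ^ 2)) := by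
  classical
  haveI : Fact (Nat.Prime 2) := ⟨Nat.prime_two⟩
  letI : Fintype (GaloisField 2 n) := Fintype.ofFinite _
  have h2 : (2 : GaloisField 2 n) = 0 := CharTwo.two_eq_zero
  refine ⟨GaloisField 2 n, inferInstance, inferInstance,
    by rw [← Nat.card_eq_fintype_card, GaloisField.card 2 n hn], ?_⟩
  obtain ⟨S, ⟨eS0⟩⟩ := sylow_map_iso (QuotientGroup.mk' (Subgroup.center (Matrix.SpecialLinearGroup (Fin 3) (GaloisField 2 n))))
    (QuotientGroup.mk'_surjective _) (H37.sylowSL (F := GaloisField 2 n) 2 3) (fun x hx hx1 => by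
      obtain ⟨t, ht3, ht⟩ := Matrix.SpecialLinearGroup.mem_center_iff.1 ((QuotientGroup.eq_one_iff x).1 hx1)
      obtain ⟨a, b, c, rfl⟩ := tri_eq (show x ∈ H37.unitriangularSL 3 _ from hx)
      have e0 := congrFun (congrFun ht 0) 0
      have e1 := congrFun (congrFun ht 0) 1
      have e2 := congrFun (congrFun ht 1) 2
      have e3 := congrFun (congrFun ht 0) 2
      simp [triEl] at e0 e1 e2 e3
      subst e1 e2 e3
      refine Subtype.ext (Matrix.ext fun i j => ?_)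
      fin_cases i <;> fin_cases j <;> simp [triEl])
  refine ⟨S, ?_⟩
  let eS : ↥(H37.unitriangularSL 3 (GaloisField 2 n)) ≃* ↥S.toSubgroup :=
    (MulEquiv.subgroupCongr (H37.coe_sylowSL (F := GaloisField 2 n) 2 3).symm).trans eS0
  have hex : ∀ g : ↥(H37.unitriangularSL 3 (GaloisField 2 n)), ∃ x y z, (g : Matrix.SpecialLinearGroup (Fin 3) (GaloisField 2 n)) = triEl x y z :=
    fun g => tri_eq g.2
  choose X Y Z hg using hex
  have hcoord : ∀ g x y z, (g : ↥(H37.unitriangularSL 3 (GaloisField 2 n))).1 = triEl x y z → X g = x ∧ Y g = y ∧ Z g = z :=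
    fun g x y z e => triEl_inj ((hg g).symm.trans e)
  have hmul : ∀ g g', X (g * g') = X g + X g' ∧ Y (g * g') = Y g + Y g' ∧ Z (g * g') = Z g + Z g' + X g * Y g' :=
    fun g g' => hcoord _ _ _ _ (by rw [Subgroup.coe_mul, hg g, hg g', triEl_mul])
  let e0 : GaloisField 2 n → ↥(H37.unitriangularSL 3 (GaloisField 2 n)) := fun a => ⟨triEl 0 0 a, triEl_mem 0 0 a⟩
  have hsqz : ∀ a : GaloisField 2 n, a + a = 0 := CharTwo.add_self_eq_zero
  refine ⟨{
    e := fun a => eS (e0 a)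
    ψ := fun s => ((X (eS.symm s) + Y (eS.symm s)) ^ 2,
      (X (eS.symm s) + r * (X (eS.symm s) + Y (eS.symm s))) ^ 2)
    e_add := ?_, e_inj := ?_, cen := ?_, ψ_mul := ?_, ψ_surj := ?_, ψ_ker := ?_, ψ_e := ?_, sq := ?_ }⟩
  · intro a b
    rw [← map_mul]
    refine congrArg eS (Subtype.ext ?_)
    show triEl 0 0 (a + b) = triEl 0 0 a * triEl 0 0 b
    rw [triEl_mul]; simp
  · intro a b hab
    exact (triEl_inj (congrArg Subtype.val (eS.injective hab))).2.2
  · intro a s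
    obtain ⟨g, rfl⟩ := eS.surjective s
    show eS (e0 a) * eS g = eS g * eS (e0 a)
    rw [← map_mul, ← map_mul]
    refine congrArg eS (Subtype.ext ?_)
    show triEl 0 0 a * g.1 = g.1 * triEl 0 0 a
    rw [hg g, triEl_mul, triEl_mul]
    simp [add_comm]
  · intro s s'
    simp only [map_mul, (hmul _ _).1, (hmul _ _).2.1, Prod.mk_add_mk, ← CharTwo.add_sq]
    exact Prod.ext (by ring) (by ring)
  · rintro ⟨a, b⟩
    obtain ⟨a', rfl⟩ := (bijective_frobenius (GaloisField 2 n) 2).2 a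
    obtain ⟨b', rfl⟩ := (bijective_frobenius (GaloisField 2 n) 2).2 b
    refine ⟨eS ⟨triEl (b' + r * a') (b' + r * a' + a') 0, triEl_mem _ _ _⟩, ?_⟩
    obtain ⟨h1, h2', -⟩ := hcoord ⟨triEl (b' + r * a') (b' + r * a' + a') 0, triEl_mem _ _ _⟩ _ _ _ rfl
    simp only [MulEquiv.symm_apply_apply, h1, h2', frobenius_def]
    refine Prod.ext ?_ ?_
    · show (b' + r * a' + (b' + r * a' + a')) ^ 2 = a' ^ 2
      congr 1
      linear_combination (b' + r * a') * h2
    · show (b' + r * a' + r * (b' + r * a' + (b' + r * a' + a'))) ^ 2 = b' ^ 2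
      congr 1
      linear_combination (r * a' + r * (b' + r * a')) * h2
  · intro s hs
    obtain ⟨g, rfl⟩ := eS.surjective s
    simp only [Prod.mk_eq_zero, MulEquiv.symm_apply_apply, pow_eq_zero_iff two_ne_zero] at hs
    have hX : X g = 0 := by linear_combination hs.2 - r * hs.1
    have hY : Y g = 0 := by linear_combination hs.1 - hX
    exact ⟨Z g, congrArg eS (Subtype.ext (by rw [hg g, hX, hY]))⟩
  · intro a
    obtain ⟨h1, h2', -⟩ := hcoord (e0 a) 0 0 a rfl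
    simp [MulEquiv.symm_apply_apply, h1, h2']
  · intro s
    obtain ⟨g, rfl⟩ := eS.surjective s
    refine ⟨X g * Y g, ?_, ?_⟩
    · show eS g * eS g = eS (e0 (X g * Y g))
      rw [← map_mul]
      refine congrArg eS (Subtype.ext ?_)
      show g.1 * g.1 = triEl 0 0 (X g * Y g)
      rw [hg g, triEl_mul, hsqz, hsqz, hsqz, zero_add]
    · simp only [MulEquiv.symm_apply_apply]
      have key : X g * Y g = (r ^ 2 + r) * (X g + Y g) ^ 2 + (X g + Y g) * (X g + r * (X g + Y g)) +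
          (X g + r * (X g + Y g)) ^ 2 := by
        linear_combination -(r ^ 2 * (X g + Y g) ^ 2 + r * (X g + Y g) ^ 2 + r * (X g + Y g) * X g + X g ^ 2) * h2
      rw [key, CharTwo.add_sq, CharTwo.add_sq]
      ring

/-- The anisotropic model over a given field. -/
theorem unitary_ext_aux {n : ℕ} (hn : 2 ≤ n) {K : Type} [Field K] [Fintype K]
    (hF : Fintype.card K = (2 ^ n) ^ 2) (h2 : (2 : K) = 0)
    (k : GaloisField 2 n) (hk : ∀ r : GaloisField 2 n, r ^ 2 + r ≠ k) :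
    ∃ S : Sylow 2 (Cfsg.PSU 3 K (2 ^ n)),
      Nonempty (Ext ↥(S : Subgroup (Cfsg.PSU 3 K (2 ^ n))) n (k ^ 2)) := by
  classical
  haveI : CharP K 2 := CharTwo.of_one_ne_zero_of_two_eq_zero one_ne_zero h2
  haveI : Fact (Nat.Prime 2) := ⟨Nat.prime_two⟩
  letI : Fintype (GaloisField 2 n) := Fintype.ofFinite _
  -- the embedding of the subfield
  let S0 : Subfield (K) :=
    RingHom.eqLocusField (H50.conjHom hF) (RingHom.id _)
  letI : Fintype S0 := Fintype.ofFinite _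
  have hS0 : Fintype.card (GaloisField 2 n) = Fintype.card S0 := by
    rw [← Nat.card_eq_fintype_card, ← Nat.card_eq_fintype_card, GaloisField.card 2 n (by omega)]
    exact (H50.card_fixed hF).symm
  let iso := FiniteField.ringEquivOfCardEq hS0
  let ι : GaloisField 2 n →+* K := S0.subtype.comp iso.toRingHom
  have hι : ∀ a, ι a ^ (2 ^ n) = ι a := fun a => (iso a).2
  have hιs : ∀ x : K, x ^ (2 ^ n) = x → ∃ a, ι a = x := fun x hx =>
    ⟨iso.symm ⟨x, hx⟩, by
      show ((iso (iso.symm ⟨x, hx⟩) : S0) : K) = x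
      rw [RingEquiv.apply_symm_apply]⟩
  -- the root
  obtain ⟨w, hw⟩ := H50.exists_trace_eq hF (hι k)
  have hsum : ∀ m : ℕ, (∑ i ∈ Finset.range m, w ^ 2 ^ i) ^ 2 + ∑ i ∈ Finset.range m, w ^ 2 ^ i = w ^ 2 ^ m + w := by
    intro m
    induction m with
    | zero => simp only [Finset.range_zero, Finset.sum_empty, pow_zero, pow_one]; linear_combination -w * h2
    | succ m ih =>
      rw [Finset.sum_range_succ, CharTwo.add_sq, ← pow_mul, ← pow_succ]
      linear_combination ih + w ^ 2 ^ m * h2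
  obtain ⟨ζ, hζ⟩ : ∃ ζ, ζ = ∑ i ∈ Finset.range n, w ^ 2 ^ i := ⟨_, rfl⟩
  have hroot : ζ ^ 2 + ζ = ι k := by rw [hζ, hsum n, add_comm, hw]
  have htr : ζ + ζ ^ (2 ^ n) = 1 := by
    have hr2 : (ζ ^ (2 ^ n)) ^ 2 + ζ ^ (2 ^ n) = ι k := by
      rw [← hι k, ← hroot, H50.add_pow_q hF, pow_right_comm]
    have hne : ζ ^ (2 ^ n) ≠ ζ := fun h => by
      obtain ⟨a, ha⟩ := hιs ζ h
      exact hk a (ι.injective (by rw [map_add, map_pow, ha, hroot]))
    have h3 : (ζ ^ (2 ^ n) + ζ) * (ζ ^ (2 ^ n) + ζ + 1) = 0 := by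
      linear_combination hr2 + hroot + (ζ ^ (2 ^ n) * ζ + ι k) * h2 - 0 * h2
    rcases mul_eq_zero.1 h3 with h4 | h4
    · exact absurd (CharTwo.add_eq_zero.1 h4) hne
    · rw [add_comm]; exact CharTwo.add_eq_zero.1 h4
  have hnorm : ζ ^ (2 ^ n) * ζ = ι k := by
    linear_combination hroot + ζ * htr - (ζ ^ 2) * h2
  -- the Sylow subgroup
  obtain ⟨P⟩ : Nonempty (Sylow 2 ↥(Cfsg.SU 3 (K) (2 ^ n))) := inferInstance
  obtain ⟨eU⟩ := H69.SuzU3Aut.sylow_equiv hF hn rfl h2 P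
  obtain ⟨S, ⟨eP⟩⟩ := sylow_map_iso (QuotientGroup.mk' (Subgroup.center ↥(Cfsg.SU 3 (K) (2 ^ n))))
    (QuotientGroup.mk'_surjective _) P (fun x hx hx1 => by
      have hc := (QuotientGroup.eq_one_iff x).1 hx1
      obtain ⟨j, hj⟩ := IsPGroup.iff_orderOf.1 P.isPGroup' ⟨x, hx⟩
      have h1 : orderOf x ∣ Nat.gcd 3 (2 ^ n + 1) := by
        rw [← Subgroup.orderOf_mk _ hc, ← H50.card_center_SU hF (n := 3) (by norm_num)]
        exact orderOf_dvd_natCard _
      rw [← Subgroup.orderOf_coe] at hj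
      exact orderOf_eq_one_iff.1 (Nat.eq_one_of_dvd_coprimes (a := 2 ^ j) (b := Nat.gcd 3 (2 ^ n + 1))
        (Nat.Coprime.pow_left _ (Nat.Coprime.coprime_dvd_right (Nat.gcd_dvd_left _ _) (by norm_num))) hj.dvd h1))
  refine ⟨S, ?_⟩
  let eS := eU.trans eP
  have hA : ∀ x : H50.SuzU3.UPt hF, ∃ a, ι a = x.a + x.a ^ (2 ^ n) := fun x =>
    hιs _ (H50.trace_fixed hF _)
  choose A hA using hA
  have hB : ∀ x : H50.SuzU3.UPt hF, ∃ b, ι b = x.a + ζ * ι (A x) := fun x => hιs _ (by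
    have e1 := hA x
    rw [H50.add_pow_q hF, mul_pow, hι, hA x]
    linear_combination (x.a + x.a ^ (2 ^ n)) * htr - (ζ * (x.a + x.a ^ (2 ^ n)) - x.a ^ (2 ^ n)) * h2)
  choose B hB using hB
  have hAm : ∀ x y, A (x * y) = A x + A y := fun x y => ι.injective (by
    rw [map_add, hA, hA, hA, H50.SuzU3.UPt.mul_a, H50.add_pow_q hF]; ring)
  have hBm : ∀ x y, B (x * y) = B x + B y := fun x y => ι.injective (by
    rw [map_add, hB, hB, hB, hAm, map_add, H50.SuzU3.UPt.mul_a]; ring)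
  have hdec : ∀ x : H50.SuzU3.UPt hF, x.a = ζ * ι (A x) + ι (B x) := fun x => by
    rw [hB]; linear_combination -ζ * ι (A x) * h2
  let e0 : GaloisField 2 n → H50.SuzU3.UPt hF := fun a => ⟨0, ι a, by
    rw [hι, zero_mul]; exact CharTwo.add_self_eq_zero _⟩
  have hfix : ∀ x : H50.SuzU3.UPt hF, x.a = 0 → ∃ a, e0 a = x := fun x hx => by
    obtain ⟨a, ha⟩ := hιs _ (H69.SuzU3Aut.fixed_of_a_zero hF hx h2)
    exact ⟨a, H50.SuzU3.UPt.ext hx.symm ha⟩
  refine ⟨{
    e := fun a => eS (e0 a)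
    ψ := fun s => (A (eS.symm s) ^ 2, B (eS.symm s) ^ 2)
    e_add := ?_, e_inj := ?_, cen := ?_, ψ_mul := ?_, ψ_surj := ?_, ψ_ker := ?_, ψ_e := ?_, sq := ?_ }⟩
  · intro a b
    rw [← map_mul]
    refine congrArg eS (H50.SuzU3.UPt.ext (by simp [e0]) ?_)
    show ι (a + b) = ι a + ι b + (0 : K) ^ (2 ^ n) * 0
    rw [mul_zero, add_zero, map_add]
  · intro a b hab
    exact ι.injective (congrArg H50.SuzU3.UPt.b (eS.injective hab))
  · intro a s
    obtain ⟨g, rfl⟩ := eS.surjective s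
    show eS (e0 a) * eS g = eS g * eS (e0 a)
    rw [← map_mul, ← map_mul]
    exact congrArg eS (Subgroup.mem_center_iff.1 ((H50.SuzU3.UPt.mem_center hF h2).2 rfl) g).symm
  · intro s s'
    simp only [map_mul, hAm, hBm, Prod.mk_add_mk, CharTwo.add_sq]
  · rintro ⟨a, b⟩
    obtain ⟨a', rfl⟩ := (bijective_frobenius (GaloisField 2 n) 2).2 a
    obtain ⟨b', rfl⟩ := (bijective_frobenius (GaloisField 2 n) 2).2 b
    obtain ⟨x, hx⟩ : ∃ x : H50.SuzU3.UPt hF, x.a = ζ * ι a' + ι b' :=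
      ⟨H69.SuzU3Aut.lift hF _, rfl⟩
    have h1 : A x = a' := ι.injective (by
      rw [hA, hx, H50.add_pow_q hF, mul_pow, hι, hι]
      linear_combination (ι a') * htr + ι b' * h2)
    have h3 : B x = b' := ι.injective (by
      rw [hB, hx, h1]; linear_combination ζ * ι a' * h2)
    exact ⟨eS x, by simp [frobenius_def, h1, h3]⟩
  · intro s hs
    obtain ⟨g, rfl⟩ := eS.surjective s
    simp only [Prod.mk_eq_zero, MulEquiv.symm_apply_apply, pow_eq_zero_iff two_ne_zero] at hs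
    obtain ⟨a, ha⟩ := hfix g (by rw [hdec g, hs.1, hs.2, map_zero, mul_zero, add_zero])
    exact ⟨a, congrArg eS ha⟩
  · intro a
    have h1 : A (e0 a) = 0 := ι.injective (by
      rw [hA, map_zero]; show (0 : K) + 0 ^ (2 ^ n) = 0
      rw [zero_pow (by positivity), add_zero])
    have h3 : B (e0 a) = 0 := ι.injective (by
      rw [hB, h1, map_zero, mul_zero, add_zero])
    simp [MulEquiv.symm_apply_apply, h1, h3]
  · intro s
    obtain ⟨g, rfl⟩ := eS.surjective s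
    refine ⟨k * A g ^ 2 + A g * B g + B g ^ 2, ?_, ?_⟩
    · show eS g * eS g = eS (e0 _)
      rw [← map_mul]
      refine congrArg eS (H50.SuzU3.UPt.ext (H50.SuzU3.UPt.mul_self hF h2 g).1 ?_)
      rw [(H50.SuzU3.UPt.mul_self hF h2 g).2]
      show g.a ^ (2 ^ n) * g.a = ι _
      rw [hdec g, H50.add_pow_q hF, mul_pow, hι, hι]
      simp only [map_add, map_mul, map_pow]
      linear_combination (ι (A g) ^ 2) * hnorm + (ι (A g) * ι (B g)) * htr
    · simp only [MulEquiv.symm_apply_apply]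
      rw [CharTwo.add_sq, CharTwo.add_sq]
      ring

/-- The anisotropic model. -/
theorem exists_unitary_ext {n : ℕ} (hn : 2 ≤ n) (k : GaloisField 2 n) (hk : ∀ r : GaloisField 2 n, r ^ 2 + r ≠ k) :
    ∃ (F : Type) (_ : Field F) (_ : Fintype F), Fintype.card F = 4 ^ n ∧
      ∃ S : Sylow 2 (Cfsg.PSU 3 F (2 ^ n)),
        Nonempty (Ext ↥(S : Subgroup (Cfsg.PSU 3 F (2 ^ n))) n (k ^ 2)) := by
  classical
  haveI : Fact (Nat.Prime 2) := ⟨Nat.prime_two⟩
  letI : Fintype (GaloisField 2 (2 * n)) := Fintype.ofFinite _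
  have hF : Fintype.card (GaloisField 2 (2 * n)) = (2 ^ n) ^ 2 := by
    rw [← Nat.card_eq_fintype_card, GaloisField.card 2 _ (by omega), ← pow_mul, mul_comm]
  exact ⟨GaloisField 2 (2 * n), inferInstance, inferInstance,
    by rw [hF, ← pow_mul, mul_comm, pow_mul]; norm_num,
    unitary_ext_aux hn hF CharTwo.two_eq_zero k hk⟩

end H69.InvolFixed
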