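import Cfsg.Prelude.Def_CaseTheorems
import Cfsg.Agent.H65.CyclicSylow
import Mathlib.GroupTheory.Sylow

/-!
Sylow `2`-intersections inside centres: the involution of a cyclic characteristic subgroup of a
Sylow `2`-subgroup is isolated.
-/

set_option autoImplicit false

namespace H69

open Subgroup

variable {G : Type*} [Group G] [Finite G]

open scoped Pointwise in
theorem mem_smul_sylow {p : ℕ} (k : G) (S : Sylow p G) {x : G} :
    x ∈ ((k • S : Sylow p G) : Subgroup G) ↔ k⁻¹ * x * k ∈ (S : Subgroup G) := by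
  rw [Sylow.coe_subgroup_smul, Subgroup.mem_pointwise_smul_iff_inv_smul_mem]
  simp [MulAut.smul_def, MulAut.conj_symm_apply]

open scoped Pointwise in
/-- If intersections of distinct Sylow `2`-subgroups lie in Sylow centres, the involution of a
cyclic characteristic subgroup of a Sylow `2`-subgroup is isolated. -/
theorem isolated_of_ci
    (hCI : ∀ S T : Sylow 2 G, S ≠ T → ∃ U : Sylow 2 G,
      (S : Subgroup G) ⊓ (T : Subgroup G) ≤ (center ↥(U : Subgroup G)).map (U : Subgroup G).subtype)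
    (S : Sylow 2 G) (C : Subgroup ↥(S : Subgroup G)) (hCc : IsCyclic ↥C) (hCh : C.Characteristic)
    (c : ↥(S : Subgroup G)) (hc : c ∈ C) (hc2 : orderOf c = 2) :
    ∀ g : G, g * (c : G) * g⁻¹ ∈ (S : Subgroup G) → g * (c : G) * g⁻¹ = c := by
  have := Fact.mk Nat.prime_two
  have hfix : ∀ φ : (S : Subgroup G) ≃* (S : Subgroup G), φ c = c := by
    intro φ
    have hm : φ c ∈ C := by
      have h := Subgroup.characteristic_iff_map_eq.1 hCh φ
      exact h ▸ mem_map_of_mem φ.toMonoidHom hc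
    exact H65.two_unique hCc (by rw [MulEquiv.orderOf_eq, hc2]) hc2 hm hc
  have hN : ∀ n ∈ normalizer ((S : Subgroup G) : Set G), n * (c : G) * n⁻¹ = c := by
    intro n hn
    have hmap : ∀ x : G, x ∈ (S : Subgroup G) → n * x * n⁻¹ ∈ (S : Subgroup G) := fun x hx =>
      (mem_normalizer_iff.1 hn x).1 hx
    have hmap' : ∀ x : G, x ∈ (S : Subgroup G) → n⁻¹ * x * n ∈ (S : Subgroup G) := fun x hx =>
      (mem_normalizer_iff.1 hn _).2 (by simpa [mul_assoc] using hx)
    let φ : (S : Subgroup G) ≃* (S : Subgroup G) :=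
      { toFun := fun x => ⟨n * x * n⁻¹, hmap x x.2⟩
        invFun := fun x => ⟨n⁻¹ * x * n, hmap' x x.2⟩
        left_inv := fun x => Subtype.ext (by simp [mul_assoc])
        right_inv := fun x => Subtype.ext (by simp [mul_assoc])
        map_mul' := fun x y => Subtype.ext (by simp [mul_assoc]) }
    exact congrArg Subtype.val (hfix φ)
  have hcent : ∀ s ∈ (S : Subgroup G), s * (c : G) = (c : G) * s := fun s hs =>
    mul_inv_eq_iff_eq_mul.1 (hN s (le_normalizer hs))
  -- a conjugate of `c` central in `S` is `c`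
  have hcentral : ∀ x : G, (∀ s ∈ (S : Subgroup G), s * (x * (c : G) * x⁻¹) = (x * (c : G) * x⁻¹) * s) →
      x * (c : G) * x⁻¹ = c := by
    intro x hx
    obtain ⟨n, hn, h⟩ := S.conj_eq_normalizer_conj_of_mem_centralizer (c : G) x⁻¹
      (mem_centralizer_iff.2 hcent) (mem_centralizer_iff.2 (fun s hs => by rw [inv_inv]; exact hx s hs))
    rw [inv_inv] at h
    rw [h]
    simpa using hN n⁻¹ (inv_mem hn)
  intro g hg
  set c' := g * (c : G) * g⁻¹ with hc'
  by_contra hne
  -- a Sylow subgroup centralising `c'` and containing `C_S(c')`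
  have hP : ((g • S : Sylow 2 G) : Subgroup G) ≤ centralizer ({c'} : Set G) := by
    intro x hx
    rw [mem_smul_sylow] at hx
    refine mem_centralizer_singleton_iff.2 ?_
    have := hcent _ hx
    rw [hc']
    calc x * (g * c * g⁻¹) = g * ((g⁻¹ * x * g) * c) * g⁻¹ := by group
      _ = g * (c * (g⁻¹ * x * g)) * g⁻¹ := by rw [this]
      _ = g * c * g⁻¹ * x := by group
  obtain ⟨R, hR⟩ := (S.2.to_le (inf_le_left :
    (S : Subgroup G) ⊓ centralizer ({c'} : Set G) ≤ _)).comap_of_injective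
      (centralizer ({c'} : Set G)).subtype Subtype.val_injective |>.exists_le_sylow
  obtain ⟨h, hh⟩ := MulAction.exists_smul_eq (centralizer ({c'} : Set G)) ((g • S).subtype hP) R
  set k := (h : G) * g with hk
  have hkc : k * (c : G) * k⁻¹ = c' := by
    have := mem_centralizer_singleton_iff.1 h.2
    calc k * (c : G) * k⁻¹ = (h : G) * c' * (h : G)⁻¹ := by
          show (h : G) * g * (c : G) * ((h : G) * g)⁻¹ = (h : G) * (g * (c : G) * g⁻¹) * (h : G)⁻¹
          group
      _ = c' := by rw [this]; group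
  have hle : (S : Subgroup G) ⊓ centralizer ({c'} : Set G) ≤ ((k • S : Sylow 2 G) : Subgroup G) := by
    intro x hx
    have hxR : (⟨x, hx.2⟩ : centralizer ({c'} : Set G)) ∈ (R : Subgroup _) :=
      hR (mem_comap.2 hx)
    rw [← hh, mem_smul_sylow, Sylow.coe_subtype, mem_subgroupOf, mem_smul_sylow] at hxR
    rw [mem_smul_sylow, hk]
    simpa [mul_assoc] using hxR
  have hne' : k • S ≠ S := fun he => by
    have := hN k (Sylow.smul_eq_iff_mem_normalizer.1 he)
    exact hne (hkc ▸ this)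
  obtain ⟨U, hU⟩ := hCI S (k • S) (Ne.symm hne')
  have hcU : (c : G) ∈ (center ↥(U : Subgroup G)).map (U : Subgroup G).subtype := by
    have hc1 : (c : G) ∈ (S : Subgroup G) ⊓ centralizer ({c'} : Set G) :=
      ⟨c.2, mem_centralizer_singleton_iff.2 (hcent c' hg).symm⟩
    exact hU ⟨c.2, hle hc1⟩
  have hc'U : c' ∈ (center ↥(U : Subgroup G)).map (U : Subgroup G).subtype :=
    hU ⟨hg, hle ⟨hg, mem_centralizer_singleton_iff.2 rfl⟩⟩
  obtain ⟨m, rfl⟩ := MulAction.exists_smul_eq G S U
  have hm : ∀ x : G, x * (c : G) * x⁻¹ ∈ (center ↥((m • S : Sylow 2 G) : Subgroup G)).map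
      ((m • S : Sylow 2 G) : Subgroup G).subtype → m⁻¹ * (x * (c : G) * x⁻¹) * m = c := by
    intro x hx
    obtain ⟨⟨y, hy⟩, hyc, hyx⟩ := hx
    have hyx' : y = x * (c : G) * x⁻¹ := hyx
    rw [show m⁻¹ * (x * (c : G) * x⁻¹) * m = (m⁻¹ * x) * (c : G) * (m⁻¹ * x)⁻¹ by group]
    refine hcentral _ fun s hs => ?_
    have hsm : m * s * m⁻¹ ∈ ((m • S : Sylow 2 G) : Subgroup G) := by
      rw [mem_smul_sylow]; simpa [mul_assoc] using hs
    have := congrArg Subtype.val (mem_center_iff.1 hyc ⟨_, hsm⟩)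
    change m * s * m⁻¹ * y = y * (m * s * m⁻¹) at this
    rw [hyx'] at this
    calc s * ((m⁻¹ * x) * (c : G) * (m⁻¹ * x)⁻¹)
        = m⁻¹ * ((m * s * m⁻¹) * (x * (c : G) * x⁻¹)) * m := by group
      _ = m⁻¹ * ((x * (c : G) * x⁻¹) * (m * s * m⁻¹)) * m := by rw [this]
      _ = ((m⁻¹ * x) * (c : G) * (m⁻¹ * x)⁻¹) * s := by group
  have h1 := hm 1 (by simpa using hcU)
  have h2 := hm g hc'U
  rw [← hc'] at h2
  simp only [one_mul, inv_one, mul_one] at h1
  exact hne (mul_left_cancel (mul_right_cancel (h2.trans h1.symm)))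

end H69
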