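import Cfsg.Agent.H69.AltFiveRadical
import Cfsg.Agent.H37.Card
import Cfsg.Agent.H37.Generation
import Cfsg.Agent.S0249
import Mathlib

/-!
Groups over the linear group of dimension three over two elements with kernel a two-group: coordinates on natural
sections and the shape of sections of order sixteen.
-/

set_option autoImplicit false

namespace H69.LinThree

open scoped commutatorElement Matrix
open H69.AltFive (card_map_mk mk_mem_map comm_mem_of_sq)

/-- The linear group. -/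
abbrev L3 := Matrix.SpecialLinearGroup (Fin 3) (ZMod 2)

/-- The elementary transvection. -/
def tr (i j : Fin 3) (h : i ≠ j := by decide) : L3 := Matrix.SpecialLinearGroup.transvection h 1

/-- An element of order seven. -/
def y₀ : L3 := ⟨!![0, 0, 1; 1, 0, 1; 0, 1, 0], by decide⟩

/-- An element of order four. -/
def g₀ : L3 := tr 0 1 * tr 1 2

theorem g₀_facts : g₀ ^ 4 = 1 ∧ g₀ * g₀ = tr 0 2 ∧ tr 0 2 * tr 0 2 = 1 ∧ tr 0 2 ≠ 1 ∧ g₀ * g₀ ≠ 1 := by
  decide +kernel

theorem y₀_facts : y₀ ^ 7 = 1 ∧ y₀ ≠ 1 := by decide +kernel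

theorem comm_eqs : ⁅tr 0 2, tr 2 1⁆ = tr 0 1 ∧ ⁅tr 1 0, tr 0 2⁆ = tr 1 2 := by
  simp only [commutatorElement_def]
  decide +kernel

/-- Two further conjugates of the central transvection generating with it. -/
def p₁ : L3 := ⟨!![0, 0, 1; 1, 0, 0; 0, 1, 0], by decide⟩

theorem p₁_facts : p₁ * tr 0 2 * p₁⁻¹ = tr 1 0 ∧ p₁ * (p₁ * tr 0 2 * p₁⁻¹) * p₁⁻¹ = tr 2 1 := by decide +kernel

/-- Fixed vectors of elements of order four. -/
theorem fixed_four : ∀ m : L3, m * m * (m * m) = 1 → m * m ≠ 1 →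
    (∀ v : Fin 3 → ZMod 2, (m : Matrix (Fin 3) (Fin 3) (ZMod 2)) *ᵥ v = v →
      ∃ w : Fin 3 → ZMod 2, ((m * m : L3) : Matrix (Fin 3) (Fin 3) (ZMod 2)) *ᵥ w + w = v) := by
  intro ⟨m, hm⟩
  revert m
  decide +kernel

/-- The cross product. -/
def cross (v w : Fin 3 → ZMod 2) : Fin 3 → ZMod 2 :=
  ![v 1 * w 2 + v 2 * w 1, v 2 * w 0 + v 0 * w 2, v 0 * w 1 + v 1 * w 0]

set_option synthInstance.maxSize 4000 in
/-- An element fixing two vectors and moving a third one outside their span. -/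
theorem third_point : ∀ v w x : Fin 3 → ZMod 2, v ≠ 0 → x ≠ 0 → x ≠ v → x ≠ w → x ≠ v + w → w ≠ 0 → w ≠ v →
    (1 + Matrix.vecMulVec v (cross v w)).det = 1 ∧ (1 + Matrix.vecMulVec v (cross v w)) *ᵥ v = v ∧
      (1 + Matrix.vecMulVec v (cross v w)) *ᵥ w = w ∧ (1 + Matrix.vecMulVec v (cross v w)) *ᵥ x ≠ x ∧
      (1 + Matrix.vecMulVec v (cross v w)) *ᵥ x = x + v := by
  decide +kernel

theorem zmod2_cases : ∀ c : ZMod 2, c = 0 ∨ c = 1 := by decide

theorem y₀_transitive : ∀ v w : Fin 3 → ZMod 2, v ≠ 0 → w ≠ 0 →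
    ∃ i : Fin 7, ((y₀ ^ (i : ℕ) : L3) : Matrix (Fin 3) (Fin 3) (ZMod 2)) *ᵥ v = w := by
  decide +kernel

theorem card_L3 : Nat.card L3 = 168 := by
  have h := H37.card_SL_fin (F := ZMod 2) 3 (by norm_num)
  rw [Nat.card_zmod] at h
  norm_num [Fin.prod_univ_three, -Nat.card_eq_fintype_card] at h ⊢
  omega

theorem center_L3 : Subgroup.center L3 = ⊥ := by
  haveI : Fact (Nat.Prime 2) := ⟨Nat.prime_two⟩
  rw [← Subgroup.card_eq_one, H37.card_center_SL]
  simp

theorem simple_L3 : IsSimpleGroup L3 := by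
  haveI : Fact (Nat.Prime 2) := ⟨Nat.prime_two⟩
  haveI := Cfsg.Agent.S0249.result (F := ZMod 2) 3 le_rfl
  exact ((QuotientGroup.quotientMulEquivOfEq center_L3).trans QuotientGroup.quotientBot).symm.isSimpleGroup

theorem ordCompl_L3 : ∀ k : ℕ, (2 ^ k : ℕ) % 7 ≠ 0 := fun k h =>
  (Nat.Prime.coprime_iff_not_dvd (by norm_num : Nat.Prime 7)).1
    (((Nat.coprime_primes (by norm_num : Nat.Prime 7) Nat.prime_two).2 (by norm_num)).pow_right k)
    (Nat.dvd_of_mod_eq_zero h)

/-- A group over the linear group with kernel a two-group, of sectional rank at most four. -/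
structure Data (G : Type*) [Group G] where
  π : G →* L3
  surj : Function.Surjective π
  two : IsPGroup 2 π.ker
  rank : Cfsg.SectionalPRankLE 2 4 G

variable {G : Type*} [Group G]

/-- The quotient by a normal subgroup of the kernel. -/
def Data.quot (D : Data G) (N : Subgroup G) [N.Normal] (h : N ≤ D.π.ker) : Data (G ⧸ N) where
  π := QuotientGroup.lift N D.π h
  surj a := by obtain ⟨g, rfl⟩ := D.surj a; exact ⟨g, rfl⟩
  two := by
    rw [QuotientGroup.ker_lift]
    exact D.two.map _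
  rank := H31.RankTwoMeta.sectional_quotient D.rank N

theorem Data.quot_ker (D : Data G) (N : Subgroup G) [N.Normal] (h : N ≤ D.π.ker) :
    (D.quot N h).π.ker = D.π.ker.map (QuotientGroup.mk' N) := QuotientGroup.ker_lift N D.π h

/-- An element of order seven. -/
theorem exists_seven (D : Data G) : ∃ y : G, y ^ 7 = 1 ∧ D.π y ≠ 1 := by
  obtain ⟨g, hg⟩ := D.surj y₀
  obtain ⟨k, hk⟩ := D.two ⟨g ^ 7, MonoidHom.mem_ker.2 (by rw [map_pow, hg, y₀_facts.1])⟩
  refine ⟨g ^ 2 ^ k, ?_, ?_⟩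
  · rw [← pow_mul, mul_comm, pow_mul]; exact congrArg Subtype.val hk
  · rw [map_pow, hg]
    intro h
    have h7 : orderOf y₀ = 7 := by
      haveI : Fact (Nat.Prime 7) := ⟨by norm_num⟩
      exact orderOf_eq_prime y₀_facts.1 y₀_facts.2
    exact ordCompl_L3 k (Nat.mod_eq_zero_of_dvd (h7 ▸ orderOf_dvd_of_pow_eq_one h))

/-- A normal subgroup above the kernel and not inside it is everything. -/
theorem eq_top_of_normal (D : Data G) (K : Subgroup G) [K.Normal] (hK : D.π.ker ≤ K) {g : G} (hg : g ∈ K)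
    (hg1 : D.π g ≠ 1) : K = ⊤ := by
  haveI : (K.map D.π).Normal := (inferInstance : K.Normal).map D.π D.surj
  rcases simple_L3.eq_bot_or_eq_top_of_normal (K.map D.π) inferInstance with h | h
  · exact absurd (Subgroup.mem_bot.1 (h ▸ Subgroup.mem_map_of_mem D.π hg)) hg1
  · have h2 := congrArg (Subgroup.comap D.π) h
    rwa [Subgroup.comap_map_eq, sup_eq_left.2 hK, Subgroup.comap_top] at h2

/-- The whole group centralises once one outer element does. -/
theorem central_all (D : Data G) (V : Subgroup G) [V.Normal] (hQV : ∀ x ∈ D.π.ker, ∀ v ∈ V, x * v = v * x) {g : G}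
    (hg1 : D.π g ≠ 1) (hg : ∀ v ∈ V, g * v = v * g) : ∀ x, ∀ v ∈ V, x * v = v * x := by
  haveI : (Subgroup.centralizer (V : Set G)).Normal := Subgroup.normal_centralizer
  have h := eq_top_of_normal D (Subgroup.centralizer (V : Set G)) (fun x hx v hv => (hQV x hx v hv).symm)
    (fun v hv => (hg v hv).symm) hg1
  intro x v hv
  exact ((h ▸ Subgroup.mem_top x : x ∈ Subgroup.centralizer (V : Set G)) v hv).symm

/-- A subgroup containing the kernel and three transvections is everything. -/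
theorem eq_top_of_gens (D : Data G) (K : Subgroup G) (hK : D.π.ker ≤ K) {a b c : G} (ha : a ∈ K) (hb : b ∈ K)
    (hc : c ∈ K) (ha' : D.π a = tr 0 2) (hb' : D.π b = tr 1 0) (hc' : D.π c = tr 2 1) : K = ⊤ := by
  have gen : ∀ (H : Subgroup L3), tr 0 2 ∈ H → tr 1 0 ∈ H → tr 2 1 ∈ H → H = ⊤ := by
    intro H h1 h2 h3
    have hcomm : ∀ {u v : L3}, u ∈ H → v ∈ H → ⁅u, v⁆ ∈ H := fun hu hv => by
      rw [commutatorElement_def]; exact H.mul_mem (H.mul_mem (H.mul_mem hu hv) (H.inv_mem hu)) (H.inv_mem hv)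
    have h4 : tr 0 1 ∈ H := comm_eqs.1 ▸ hcomm h1 h3
    have h5 : tr 1 2 ∈ H := comm_eqs.2 ▸ hcomm h2 h1
    have h6 : tr 2 0 ∈ H := by
      have : ⁅tr 2 1, tr 1 0⁆ = tr 2 0 := by rw [commutatorElement_def]; decide +kernel
      exact this ▸ hcomm h3 h2
    have hall : ∀ (i j : Fin 3) (h : i ≠ j), tr i j h ∈ H := by
      intro i j h
      fin_cases i <;> fin_cases j <;> first | exact absurd rfl h | exact h4 | exact h1 | exact h2 | exact h5 | exact h6 | exact h3
    haveI : Fact (Nat.Prime 2) := ⟨Nat.prime_two⟩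
    refine H37.eq_top_of_transvection_mem H fun i j h c => ?_
    rcases zmod2_cases c with rfl | rfl
    · convert H.one_mem
      exact Subtype.ext (Matrix.transvection_zero i j)
    · exact hall i j h
  have h := congrArg (Subgroup.comap D.π) (gen (K.map D.π) (ha' ▸ Subgroup.mem_map_of_mem D.π ha)
    (hb' ▸ Subgroup.mem_map_of_mem D.π hb) (hc' ▸ Subgroup.mem_map_of_mem D.π hc))
  rwa [Subgroup.comap_map_eq, sup_eq_left.2 hK, Subgroup.comap_top] at h

/-- An element of order seven modulo the centralizer of a two-subgroup of order at most sixteen. -/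
theorem fpf_seven [Finite G] (V : Subgroup G) (hV : IsPGroup 2 V) (hcard : Nat.card V ≤ 16) (y : G)
    (hy : ∀ v ∈ V, y * v * y⁻¹ ∈ V) (hy7 : ∀ v ∈ V, y ^ 7 * v * (y ^ 7)⁻¹ = v)
    (hne : ¬ ∀ v ∈ V, y * v = v * y) :
    (Nat.card V = 8 ∧ ∀ v ∈ V, y * v = v * y → v = 1) ∨
      (Nat.card V = 16 ∧ Nat.card ↥(V ⊓ Subgroup.centralizer {y}) = 2) := by
  haveI : Fact (Nat.Prime 7) := ⟨by norm_num⟩
  haveI : Fact (Nat.Prime 2) := ⟨Nat.prime_two⟩
  have h := SectTools.fix_modEq (p := 7) (V : Set G) y hy hy7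
  set C : Subgroup G := V ⊓ Subgroup.centralizer {y} with hC
  have hset : {x : G | x ∈ (V : Set G) ∧ y * x = x * y} = (C : Set G) := by
    ext x
    simp only [Set.mem_ofPred_eq, SetLike.mem_coe, hC, Subgroup.mem_inf, Subgroup.mem_centralizer_singleton_iff]
    exact and_congr_right fun _ => ⟨fun h => h.symm, fun h => h.symm⟩
  rw [hset] at h
  change Nat.card V ≡ Nat.card C [MOD 7] at h
  obtain ⟨i, hi⟩ := IsPGroup.iff_card.1 hV
  obtain ⟨j, hj⟩ := IsPGroup.iff_card.1 (hV.to_le (inf_le_left : C ≤ V))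
  have hlt : Nat.card C < Nat.card V := by
    refine lt_of_le_of_ne (Subgroup.card_le_of_le inf_le_left) fun he => hne fun v hv => ?_
    have hVC : C = V := Subgroup.eq_of_le_of_card_ge inf_le_left he.ge
    rw [← hVC] at hv
    exact (Subgroup.mem_centralizer_singleton_iff.1 hv.2).symm
  have hi4 : i ≤ 4 := (Nat.pow_le_pow_iff_right (by norm_num : 1 < 2)).1 (hi ▸ hcard)
  have hji : j < i := (Nat.pow_lt_pow_iff_right (by norm_num : 1 < 2)).1 (hi ▸ hj ▸ hlt)
  rw [hi, hj] at h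
  have key : ∀ a < 5, ∀ b < a, 2 ^ a % 7 = 2 ^ b % 7 → (a = 3 ∧ b = 0) ∨ (a = 4 ∧ b = 1) := by decide
  rcases key i (by omega) j hji h with ⟨rfl, rfl⟩ | ⟨rfl, rfl⟩
  · left
    refine ⟨hi, fun v hv hvy => ?_⟩
    have hbot : C = ⊥ := Subgroup.card_eq_one.1 hj
    have hm : v ∈ C := ⟨hv, Subgroup.mem_centralizer_singleton_iff.2 hvy.symm⟩
    rwa [hbot, Subgroup.mem_bot] at hm
  · exact Or.inr ⟨hi, hj⟩

theorem zmod2_mul_one : ∀ a b : ZMod 2, a * b = 1 → a = 1 := by decide

/-- Coordinates on a natural section. -/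
theorem natural [Finite G] (D : Data G) (W F : Subgroup G) [W.Normal] [F.Normal] (hFW : F ≤ W) (hWQ : W ≤ D.π.ker)
    (hcard : Nat.card W = 8 * Nat.card F) (hsq : ∀ a ∈ W, a * a ∈ F)
    (hQW : ∀ x ∈ D.π.ker, ∀ a ∈ W, ⁅x, a⁆ ∈ F) {y : G} (hy : D.π y ≠ 1) (hfix : ∀ a ∈ W, ⁅y, a⁆ ∈ F → a ∈ F) :
    ∃ (τ : G →* L3) (c : W → (Fin 3 → ZMod 2)), Function.Surjective τ ∧ τ.ker = D.π.ker ∧ Function.Surjective c ∧
      (∀ a b, c (a * b) = c a + c b) ∧ (∀ a : W, c a = 0 ↔ (a : G) ∈ F) ∧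
      ∀ (g : G) (a b : W), (b : G) = g * (a : G) * g⁻¹ →
        c b = (τ g : Matrix (Fin 3) (Fin 3) (ZMod 2)) *ᵥ c a := by
  classical
  haveI : Fact (Nat.Prime 2) := ⟨Nat.prime_two⟩
  let K := F.subgroupOf W
  let V := W ⧸ K
  have hVsq : ∀ v : V, v * v = 1 := by
    intro v
    obtain ⟨a, rfl⟩ := QuotientGroup.mk_surjective v
    rw [← QuotientGroup.mk_mul, QuotientGroup.eq_one_iff]
    exact hsq a a.2
  have hi : ∀ v : V, v⁻¹ = v := fun v => inv_eq_of_mul_eq_one_right (hVsq v)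
  letI : CommGroup V :=
    { (inferInstance : Group V) with
      mul_comm := fun u v => by
        calc u * v = (u * v)⁻¹ := (hi _).symm
          _ = v * u := by rw [_root_.mul_inv_rev, hi, hi] }
  letI : Module (ZMod 2) (Additive V) := AddCommGroup.zmodModule (fun x => by
    rw [two_nsmul]; exact hVsq x.toMul)
  haveI : Module.Finite (ZMod 2) (Additive V) := Module.Finite.of_finite
  have h8 : Nat.card V = 8 := by
    have h := Subgroup.card_eq_card_quotient_mul_card_subgroup K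
    rw [Nat.card_congr (Subgroup.subgroupOfEquivOfLe hFW).toEquiv, hcard] at h
    exact (Nat.eq_of_mul_eq_mul_right Nat.card_pos h).symm
  have hd : Module.finrank (ZMod 2) (Additive V) = 3 := by
    have h := Module.natCard_eq_pow_finrank (K := ZMod 2) (V := Additive V)
    rw [Nat.card_zmod, Nat.card_congr (Additive.toMul (α := V)), h8] at h
    exact (Nat.pow_right_injective le_rfl (h.symm.trans (by norm_num : (8 : ℕ) = 2 ^ 3)))
  let E : Additive V ≃ₗ[ZMod 2] (Fin 3 → ZMod 2) :=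
    LinearEquiv.ofFinrankEq _ _ (by rw [hd]; simp)
  let act : G →* MulAut V :=
    { toFun := fun g => QuotientGroup.congr K K (MulAut.conjNormal g) (by
        ext a
        constructor
        · rintro ⟨b, hb, rfl⟩
          show g * (b : G) * g⁻¹ ∈ F
          exact (inferInstance : F.Normal).conj_mem _ hb g
        · intro ha
          refine ⟨(MulAut.conjNormal g).symm a, ?_, MulEquiv.apply_symm_apply _ _⟩
          show ((MulAut.conjNormal g).symm a : G) ∈ F
          rw [MulAut.conjNormal_symm_apply]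
          have := (inferInstance : F.Normal).conj_mem _ (ha : (a : G) ∈ F) g⁻¹
          rwa [inv_inv] at this)
      map_one' := by
        refine MulEquiv.ext fun v => ?_
        obtain ⟨q, rfl⟩ := QuotientGroup.mk'_surjective K v
        simp
      map_mul' := fun g h => by
        refine MulEquiv.ext fun v => ?_
        obtain ⟨q, rfl⟩ := QuotientGroup.mk'_surjective K v
        show (QuotientGroup.mk (MulAut.conjNormal (g * h) q) : V) =
          QuotientGroup.mk (MulAut.conjNormal g (MulAut.conjNormal h q))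
        rw [map_mul]; rfl }
  let lin : MulAut V → (Additive V →ₗ[ZMod 2] Additive V) := fun φ =>
    (MonoidHom.toAdditive φ.toMonoidHom).toZModLinearMap 2
  let m : G →* Matrix (Fin 3) (Fin 3) (ZMod 2) :=
    { toFun := fun g => LinearMap.toMatrix' ((E.toLinearMap ∘ₗ lin (act g)) ∘ₗ E.symm.toLinearMap)
      map_one' := by
        rw [show (E.toLinearMap ∘ₗ lin (act 1)) ∘ₗ E.symm.toLinearMap = LinearMap.id from ?_, LinearMap.toMatrix'_id]
        refine LinearMap.ext fun x => ?_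
        rw [map_one]
        show E (E.symm x) = x
        exact E.apply_symm_apply x
      map_mul' := fun g h => by
        rw [← LinearMap.toMatrix'_comp]
        congr 1
        refine LinearMap.ext fun x => ?_
        show E ((lin (act (g * h))) (E.symm x)) = E ((lin (act g)) (E.symm (E ((lin (act h)) (E.symm x)))))
        rw [E.symm_apply_apply, map_mul]
        rfl }
  let τ : G →* L3 :=
    { toFun := fun g => ⟨m g, zmod2_mul_one _ (m g⁻¹).det (by
        rw [← Matrix.det_mul, ← map_mul, mul_inv_cancel, map_one, Matrix.det_one])⟩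
      map_one' := Subtype.ext (map_one m)
      map_mul' := fun g h => Subtype.ext (map_mul m g h) }
  let c : W → (Fin 3 → ZMod 2) := fun a => E (Additive.ofMul (QuotientGroup.mk a : V))
  have hc0 : ∀ a : W, c a = 0 ↔ (a : G) ∈ F := fun a => by
    show E _ = 0 ↔ _
    rw [LinearEquiv.map_eq_zero_iff, ← ofMul_one]
    exact (Additive.ofMul.injective.eq_iff).trans (QuotientGroup.eq_one_iff a)
  have hequiv : ∀ (g : G) (a b : W), (b : G) = g * (a : G) * g⁻¹ →
      c b = (τ g : Matrix (Fin 3) (Fin 3) (ZMod 2)) *ᵥ c a := by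
    intro g a b hb
    show E _ = m g *ᵥ E _
    rw [← Matrix.toLin'_apply]
    show E _ = Matrix.toLin' (LinearMap.toMatrix' _) (E _)
    rw [Matrix.toLin'_toMatrix']
    show E _ = E ((lin (act g)) (E.symm (E _)))
    rw [E.symm_apply_apply, show b = MulAut.conjNormal g a from Subtype.ext (by rw [MulAut.conjNormal_apply]; exact hb)]
    rfl
  have hQker : D.π.ker ≤ τ.ker := by
    intro x hx
    refine MonoidHom.mem_ker.2 (Subtype.ext ?_)
    show m x = 1
    show LinearMap.toMatrix' _ = 1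
    have h1 : act x = 1 := by
      refine MulEquiv.ext fun v => ?_
      obtain ⟨q, rfl⟩ := QuotientGroup.mk'_surjective K v
      show (QuotientGroup.mk (MulAut.conjNormal x q) : V) = QuotientGroup.mk q
      refine (QuotientGroup.eq (s := K)).2 ?_
      have h2 := F.inv_mem ((inferInstance : F.Normal).conj_mem _ (hQW x hx q q.2) (q : G)⁻¹)
      have h3 : (q : G)⁻¹ * ⁅x, (q : G)⁆ * (q : G) = (q : G)⁻¹ * (x * q * x⁻¹) := by
        rw [commutatorElement_def]; group
      have h4 := F.inv_mem ((inferInstance : F.Normal).conj_mem _ (hQW x hx q q.2) (q : G)⁻¹)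
      rw [inv_inv, h3, mul_inv_rev, inv_inv] at h4
      show ((MulAut.conjNormal x q)⁻¹ * q : W).1 ∈ F
      simpa [MulAut.conjNormal_apply] using h4
    rw [h1, show (E.toLinearMap ∘ₗ lin 1) ∘ₗ E.symm.toLinearMap = LinearMap.id from
      LinearMap.ext fun z => E.apply_symm_apply z, LinearMap.toMatrix'_id]
  have hker : τ.ker = D.π.ker := by
    refine le_antisymm (fun x hx => ?_) hQker
    by_contra hxQ
    have htop := eq_top_of_normal D τ.ker hQker hx fun h => hxQ (MonoidHom.mem_ker.2 h)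
    obtain ⟨a, ha, haF⟩ : ∃ a ∈ W, a ∉ F := by
      by_contra h
      push Not at h
      have := Subgroup.card_le_of_le (show W ≤ F from h)
      have := Nat.card_pos (α := F)
      omega
    refine haF (hfix a ha ?_)
    let a' : W := ⟨a, ha⟩
    let b' : W := ⟨y * a * y⁻¹, (inferInstance : W.Normal).conj_mem a ha y⟩
    have h1 := hequiv y a' b' rfl
    rw [MonoidHom.mem_ker.1 (htop ▸ Subgroup.mem_top y : y ∈ τ.ker)] at h1
    rw [show ((1 : L3) : Matrix (Fin 3) (Fin 3) (ZMod 2)) = 1 from rfl, Matrix.one_mulVec] at h1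
    have h2 : (QuotientGroup.mk b' : V) = QuotientGroup.mk a' := Additive.ofMul.injective (E.injective h1)
    have h3 := (QuotientGroup.eq (s := K)).1 h2
    have h4 := F.inv_mem ((inferInstance : F.Normal).conj_mem _ (Subgroup.mem_subgroupOf.1 h3) (y * a * y⁻¹))
    convert h4 using 1
    simp [a', b', commutatorElement_def, mul_assoc]
  have hsurj : Function.Surjective τ := by
    rw [← MonoidHom.range_eq_top]
    refine Subgroup.eq_top_of_card_eq _ ?_
    rw [← Nat.card_congr (QuotientGroup.quotientKerEquivRange τ).toEquiv, hker,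
      Nat.card_congr (QuotientGroup.quotientKerEquivOfSurjective D.π D.surj).toEquiv]
  refine ⟨τ, c, hsurj, hker, ?_, fun a b => ?_, hc0, hequiv⟩
  · intro v
    obtain ⟨q, hq⟩ := QuotientGroup.mk_surjective ((E.symm v).toMul)
    refine ⟨q, ?_⟩
    show E (Additive.ofMul _) = v
    rw [hq]
    exact E.apply_symm_apply v
  · show E _ = E _ + E _
    rw [← map_add]; rfl

/-- Fixed points of size eight of an involution force a fixed point and an invariant complement. -/
theorem transvection_case [Finite G] (D : Data G) (V : Subgroup G) [V.Normal] (h16 : Nat.card V = 16)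
    (hQV : ∀ x ∈ D.π.ker, ∀ v ∈ V, x * v = v * x) (hV2 : ∀ v ∈ V, v * v = 1)
    (hVc : ∀ a ∈ V, ∀ b ∈ V, a * b = b * a) (e : G) (he : D.π e = tr 0 2)
    (h8 : 8 ≤ Nat.card ↥(V ⊓ Subgroup.centralizer {e})) :
    (∃ u ∈ V, u ≠ 1 ∧ ∀ g, g * u = u * g) ∧
      ∃ R : Subgroup G, R.Normal ∧ R ≤ V ∧ Nat.card R ≤ 8 ∧ ∀ g : G, ∀ v ∈ V, ⁅g, v⁆ ∈ R := by
  classical
  obtain ⟨c, hc⟩ := D.surj p₁
  let e₂ := c * e * c⁻¹
  let e₃ := c * (c * e * c⁻¹) * c⁻¹
  have he₂ : D.π e₂ = tr 1 0 := by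
    simp only [e₂, map_mul, map_inv, hc, he]; exact p₁_facts.1
  have he₃ : D.π e₃ = tr 2 1 := by
    simp only [e₃, map_mul, map_inv, hc, he]; exact p₁_facts.2
  have hN : ∀ g : G, ∀ v ∈ V, g * v * g⁻¹ ∈ V := fun g v hv => (inferInstance : V.Normal).conj_mem v hv g
  have hconj : ∀ g z : G, Nat.card ↥(V ⊓ Subgroup.centralizer {g * z * g⁻¹}) =
      Nat.card ↥(V ⊓ Subgroup.centralizer {z}) := fun g z => by
    rw [← Subgroup.card_map_of_injective (K := V ⊓ Subgroup.centralizer {z}) (f := (MulAut.conj g).toMonoidHom)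
      (MulAut.conj g).injective]
    refine congrArg (fun K : Subgroup G => Nat.card K) ?_
    ext w
    simp only [Subgroup.mem_inf, Subgroup.mem_centralizer_singleton_iff, Subgroup.mem_map]
    constructor
    · rintro ⟨hw, hwc⟩
      refine ⟨g⁻¹ * w * g, ⟨?_, ?_⟩, by simp [mul_assoc]⟩
      · have := hN g⁻¹ w hw; rwa [inv_inv] at this
      · calc g⁻¹ * w * g * z = g⁻¹ * (w * (g * z * g⁻¹)) * g := by group
          _ = g⁻¹ * (g * z * g⁻¹ * w) * g := by rw [hwc]
          _ = z * (g⁻¹ * w * g) := by group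
    · rintro ⟨x, ⟨hx, hxc⟩, rfl⟩
      refine ⟨hN g x hx, ?_⟩
      show g * x * g⁻¹ * (g * z * g⁻¹) = g * z * g⁻¹ * (g * x * g⁻¹)
      rw [show g * x * g⁻¹ * (g * z * g⁻¹) = g * (x * z) * g⁻¹ by group, hxc]; group
  have h8₂ : 8 ≤ Nat.card ↥(V ⊓ Subgroup.centralizer {e₂}) := by rw [hconj]; exact h8
  have h8₃ : 8 ≤ Nat.card ↥(V ⊓ Subgroup.centralizer {e₃}) := by rw [hconj, hconj]; exact h8
  -- meeting of two subgroups of `V`
  have hinter : ∀ A B : Subgroup G, A ≤ V → B ≤ V → Nat.card A * Nat.card B ≤ Nat.card ↥(A ⊓ B) * 16 := by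
    intro A B hA hB
    rw [← h16]
    let f : A × B → V := fun q => ⟨(q.1 : G) * q.2, V.mul_mem (hA q.1.2) (hB q.2.2)⟩
    haveI : Fintype (A × B) := Fintype.ofFinite _
    haveI : Fintype V := Fintype.ofFinite _
    haveI : Fintype (A ⊓ B : Subgroup G) := Fintype.ofFinite _
    rw [← Nat.card_prod, Nat.card_eq_fintype_card, Nat.card_eq_fintype_card (α := V)]
    rw [← Finset.card_univ]
    refine Finset.card_le_mul_card_image_of_maps_to (f := f) (fun x _ => Finset.mem_univ _) _ (fun v _ => ?_)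
    rw [Nat.card_eq_fintype_card]
    by_cases hne : (Finset.univ.filter fun q => f q = v).Nonempty
    · obtain ⟨⟨a₀, b₀⟩, hq₀⟩ := hne
      rw [Finset.mem_filter] at hq₀
      refine le_trans (Finset.card_le_card_of_injOn (t := (Finset.univ : Finset (A ⊓ B : Subgroup G)))
        (fun q => if h : (a₀ : G)⁻¹ * q.1 ∈ B then (⟨(a₀ : G)⁻¹ * q.1, A.mul_mem (A.inv_mem a₀.2) q.1.2, h⟩) else 1)
        (fun x _ => Finset.mem_univ _) ?_) (le_of_eq Finset.card_univ)
      intro q hq r hr h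
      rw [Finset.coe_filter, Set.mem_setOf_eq] at hq hr
      have key : ∀ s : A × B, f s = v → (a₀ : G)⁻¹ * s.1 ∈ B := fun s hs => by
        have h1 : (s.1 : G) * s.2 = a₀ * b₀ := congrArg Subtype.val (hs.trans hq₀.2.symm)
        rw [show (a₀ : G)⁻¹ * s.1 = b₀ * (s.2 : G)⁻¹ by rw [eq_mul_inv_iff_mul_eq, mul_assoc, h1, inv_mul_cancel_left]]
        exact B.mul_mem b₀.2 (B.inv_mem s.2.2)
      simp only [dif_pos (key q hq.2), dif_pos (key r hr.2)] at h
      have h1 : (q.1 : G) = r.1 := mul_left_cancel (congrArg (fun z : (A ⊓ B : Subgroup G) => (z : G)) h)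
      have h2 : (q.1 : G) * q.2 = r.1 * r.2 := congrArg Subtype.val (hq.2.trans hr.2.symm)
      rw [h1] at h2
      exact Prod.ext (Subtype.ext h1) (Subtype.ext (mul_left_cancel h2))
    · rw [Finset.not_nonempty_iff_eq_empty.1 hne]; simp
  have hC : ∀ z, V ⊓ Subgroup.centralizer {z} ≤ V := fun z => inf_le_left
  set C₁ := V ⊓ Subgroup.centralizer {e} with hC₁
  set C₂ := V ⊓ Subgroup.centralizer {e₂} with hC₂
  set C₃ := V ⊓ Subgroup.centralizer {e₃} with hC₃
  have h12 : 4 ≤ Nat.card ↥(C₁ ⊓ C₂) := by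
    have := hinter C₁ C₂ (hC _) (hC _)
    nlinarith
  have h123 : 2 ≤ Nat.card ↥(C₁ ⊓ C₂ ⊓ C₃) := by
    have := hinter (C₁ ⊓ C₂) C₃ (inf_le_left.trans (hC _)) (hC _)
    nlinarith
  obtain ⟨u, hu, hu1⟩ := (Subgroup.bot_or_exists_ne_one (C₁ ⊓ C₂ ⊓ C₃)).resolve_left (fun h => by
    rw [h, Subgroup.card_bot] at h123; omega)
  refine ⟨⟨u, hu.1.1.1, hu1, ?_⟩, ?_⟩
  · have h := eq_top_of_gens D (Subgroup.centralizer {u})
      (fun x hx => Subgroup.mem_centralizer_singleton_iff.2 (hQV x hx u hu.1.1.1))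
      (Subgroup.mem_centralizer_singleton_iff.2 (Subgroup.mem_centralizer_singleton_iff.1 hu.1.1.2).symm)
      (Subgroup.mem_centralizer_singleton_iff.2 (Subgroup.mem_centralizer_singleton_iff.1 hu.1.2.2).symm)
      (Subgroup.mem_centralizer_singleton_iff.2 (Subgroup.mem_centralizer_singleton_iff.1 hu.2.2).symm) he he₂ he₃
    intro g
    exact Subgroup.mem_centralizer_singleton_iff.1 (h ▸ Subgroup.mem_top g)
  -- the commutators
  have hsmall : ∀ z, 8 ≤ Nat.card ↥(V ⊓ Subgroup.centralizer {z}) →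
      ∃ r ∈ V, r * r = 1 ∧ ∀ v ∈ V, ⁅z, v⁆ = 1 ∨ ⁅z, v⁆ = r := by
    intro z hz
    by_cases hall : ∀ v ∈ V, ⁅z, v⁆ = 1
    · exact ⟨1, V.one_mem, one_mul 1, fun v hv => Or.inl (hall v hv)⟩
    push Not at hall
    obtain ⟨v₀, hv₀, hne⟩ := hall
    have hmem : ⁅z, v₀⁆ ∈ V := by rw [commutatorElement_def]; exact V.mul_mem (hN z v₀ hv₀) (V.inv_mem hv₀)
    refine ⟨_, hmem, hV2 _ hmem, fun v hv => ?_⟩
    by_contra hcon
    push Not at hcon
    set C := V ⊓ Subgroup.centralizer {z} with hCdef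
    have hiff : ∀ w ∈ V, w ∈ C ↔ ⁅z, w⁆ = 1 := fun w hw => by
      rw [hCdef, Subgroup.mem_inf, Subgroup.mem_centralizer_singleton_iff, commutatorElement_eq_one_iff_mul_comm]
      exact ⟨fun h => h.2.symm, fun h => ⟨hw, h.symm⟩⟩
    have hhom : ∀ a ∈ V, ∀ b ∈ V, ⁅z, a * b⁆ = ⁅z, a⁆ * ⁅z, b⁆ := fun a ha b hb => by
      have hcb : ⁅z, b⁆ ∈ V := by rw [commutatorElement_def]; exact V.mul_mem (hN z b hb) (V.inv_mem hb)
      calc ⁅z, a * b⁆ = ⁅z, a⁆ * (a * ⁅z, b⁆ * a⁻¹) := by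
            rw [commutatorElement_def, commutatorElement_def, commutatorElement_def]; group
        _ = _ := by rw [hVc a ha _ hcb, mul_inv_cancel_right]
    have hnot : ∀ a ∈ V, ⁅z, a⁆ ≠ 1 → a ∉ C := fun a ha h hm => h ((hiff a ha).1 hm)
    haveI : Fintype G := Fintype.ofFinite G
    -- three cosets of eight
    let f : C ⊕ C ⊕ C → V := Sum.elim (fun w => ⟨w, w.2.1⟩) (Sum.elim (fun w => ⟨v₀ * w, V.mul_mem hv₀ w.2.1⟩)
      (fun w => ⟨v * w, V.mul_mem hv w.2.1⟩))
    have hval : ∀ w : C, ⁅z, (w : G)⁆ = 1 := fun w => (hiff _ w.2.1).1 w.2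
    have hfz : ∀ q, ⁅z, ((f q : V) : G)⁆ = Sum.elim (fun _ => 1) (Sum.elim (fun _ => ⁅z, v₀⁆) (fun _ => ⁅z, v⁆)) q := by
      rintro (w | w | w)
      · exact hval w
      · show ⁅z, v₀ * (w : G)⁆ = _
        rw [hhom _ hv₀ _ w.2.1, hval, mul_one]; rfl
      · show ⁅z, v * (w : G)⁆ = _
        rw [hhom _ hv _ w.2.1, hval, mul_one]; rfl
    have hinj : Function.Injective f := by
      intro q r h
      have h' := congrArg (fun w : V => ⁅z, (w : G)⁆) h
      simp only [hfz] at h'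
      rcases q with w | w | w <;> rcases r with w' | w' | w' <;> simp only [Sum.elim_inl, Sum.elim_inr] at h'
      · exact congrArg Sum.inl (Subtype.ext (congrArg (fun q : V => (q : G)) h))
      · exact absurd h'.symm hne
      · exact absurd h'.symm hcon.1
      · exact absurd h' hne
      · exact congrArg (Sum.inr ∘ Sum.inl) (Subtype.ext (mul_left_cancel (congrArg (fun q : V => (q : G)) h)))
      · exact absurd h'.symm hcon.2
      · exact absurd h' hcon.1
      · exact absurd h' hcon.2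
      · exact congrArg (Sum.inr ∘ Sum.inr) (Subtype.ext (mul_left_cancel (congrArg (fun q : V => (q : G)) h)))
    have := Nat.card_le_card_of_injective f hinj
    rw [Nat.card_sum, Nat.card_sum, h16] at this
    omega
  obtain ⟨r₁, hr₁, hr₁2, hr₁c⟩ := hsmall e h8
  obtain ⟨r₂, hr₂, hr₂2, hr₂c⟩ := hsmall e₂ h8₂
  obtain ⟨r₃, hr₃, hr₃2, hr₃c⟩ := hsmall e₃ h8₃
  let R := Subgroup.closure ({r₁, r₂, r₃} : Set G)
  have hRV : R ≤ V := by
    rw [Subgroup.closure_le]
    rintro x (rfl | rfl | rfl) <;> assumption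
  have hm1 : r₁ ∈ R := Subgroup.subset_closure (by simp)
  have hm2 : r₂ ∈ R := Subgroup.subset_closure (by simp)
  have hm3 : r₃ ∈ R := Subgroup.subset_closure (by simp)
  let K : Subgroup G :=
    { carrier := {g | (∀ v ∈ V, ⁅g, v⁆ ∈ R) ∧ ∀ v ∈ V, ⁅g⁻¹, v⁆ ∈ R}
      one_mem' := ⟨fun v _ => by rw [commutatorElement_def]; simp, fun v _ => by rw [commutatorElement_def]; simp⟩
      mul_mem' := by
        intro a b ⟨ha, ha'⟩ ⟨hb, hb'⟩
        have step : ∀ a b : G, (∀ v ∈ V, ⁅a, v⁆ ∈ R) → (∀ v ∈ V, ⁅b, v⁆ ∈ R) → ∀ v ∈ V, ⁅a * b, v⁆ ∈ R := by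
          intro a b ha hb v hv
          rw [show ⁅a * b, v⁆ = ⁅a, ⁅b, v⁆⁆ * ⁅b, v⁆ * ⁅a, v⁆ by
            rw [commutatorElement_def, commutatorElement_def, commutatorElement_def, commutatorElement_def]; group]
          exact R.mul_mem (R.mul_mem (ha _ (hRV (hb v hv))) (hb v hv)) (ha v hv)
        exact ⟨step a b ha hb, by rw [mul_inv_rev]; exact step _ _ hb' ha'⟩
      inv_mem' := fun {a} ⟨ha, ha'⟩ => ⟨ha', by rw [inv_inv]; exact ha⟩ }
  have hQK : D.π.ker ≤ K := fun x hx => by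
    refine ⟨fun v hv => ?_, fun v hv => ?_⟩
    · rw [commutatorElement_eq_one_iff_mul_comm.2 (hQV x hx v hv)]; exact R.one_mem
    · rw [commutatorElement_eq_one_iff_mul_comm.2 (hQV _ (D.π.ker.inv_mem hx) v hv)]; exact R.one_mem
  have hinvol : ∀ z r, r ∈ R → D.π (z * z) = 1 → (∀ v ∈ V, ⁅z, v⁆ = 1 ∨ ⁅z, v⁆ = r) → z ∈ K := by
    intro z r hr hz hzc
    have h1 : ∀ v ∈ V, ⁅z, v⁆ ∈ R := fun v hv => by rcases hzc v hv with h | h <;> rw [h]; exacts [R.one_mem, hr]
    refine ⟨h1, fun v hv => ?_⟩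
    have h2 : ⁅z⁻¹, v⁆ = ⁅z, v⁆ := by
      have h3 := hQV (z * z) (MonoidHom.mem_ker.2 hz) (z⁻¹ * v * z) (by have := hN z⁻¹ v hv; rwa [inv_inv] at this)
      rw [commutatorElement_def, commutatorElement_def]
      calc z⁻¹ * v * z⁻¹⁻¹ * v⁻¹ = z * z * (z⁻¹ * v * z) * (z * z)⁻¹ * v⁻¹ := by
            rw [h3, mul_inv_cancel_right, inv_inv]
        _ = z * v * z⁻¹ * v⁻¹ := by group
    rw [h2]; exact h1 v hv
  have hsq : ∀ z, D.π z = tr 0 2 → D.π (z * z) = 1 := fun z hz => by rw [map_mul, hz]; exact g₀_facts.2.2.1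
  have hK := eq_top_of_gens D K hQK (hinvol e r₁ hm1 (hsq e he) hr₁c)
    (hinvol e₂ r₂ hm2 (by
      rw [show e₂ * e₂ = c * (e * e) * c⁻¹ by simp only [e₂]; group, map_mul, map_mul, hsq e he, mul_one, ← map_mul,
        mul_inv_cancel, map_one]) hr₂c)
    (hinvol e₃ r₃ hm3 (by
      rw [show e₃ * e₃ = c * c * (e * e) * (c * c)⁻¹ by simp only [e₃]; group, map_mul, map_mul, hsq e he, mul_one,
        ← map_mul, mul_inv_cancel, map_one]) hr₃c) he he₂ he₃
  have hKall : ∀ g, ∀ v ∈ V, ⁅g, v⁆ ∈ R := fun g v hv => (hK ▸ Subgroup.mem_top g : g ∈ K).1 v hv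
  refine ⟨R, ⟨fun x hx g => ?_⟩, hRV, ?_, hKall⟩
  · rw [show g * x * g⁻¹ = ⁅g, x⁆ * x by rw [commutatorElement_def]; group]
    exact R.mul_mem (hKall g x (hRV hx)) hx
  · let H : Subgroup G :=
      { carrier := Set.range fun p : Bool × Bool × Bool => cond p.1 r₁ 1 * cond p.2.1 r₂ 1 * cond p.2.2 r₃ 1
        one_mem' := ⟨(false, false, false), by simp⟩
        mul_mem' := by
          rintro _ _ ⟨⟨i, j, k⟩, rfl⟩ ⟨⟨i', j', k'⟩, rfl⟩
          refine ⟨(xor i i', xor j j', xor k k'), ?_⟩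
          have key : ∀ r, r * r = 1 → ∀ i i' : Bool, cond (xor i i') r (1 : G) = cond i r 1 * cond i' r 1 := by
            intro r hr i i'; cases i <;> cases i' <;> simp [hr]
          have mem : ∀ r ∈ V, ∀ i : Bool, cond i r (1 : G) ∈ V := fun r hr i => by cases i <;> simp [hr]
          dsimp only
          rw [key _ hr₁2, key _ hr₂2, key _ hr₃2]
          set a := cond i r₁ (1 : G)
          set a' := cond i' r₁ (1 : G)
          set b := cond j r₂ (1 : G)
          set b' := cond j' r₂ (1 : G)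
          set d := cond k r₃ (1 : G)
          set d' := cond k' r₃ (1 : G)
          have c1 : Commute a' b := hVc _ (mem _ hr₁ i') _ (mem _ hr₂ j)
          have c2 : Commute (a' * b') d := hVc _ (V.mul_mem (mem _ hr₁ i') (mem _ hr₂ j')) _ (mem _ hr₃ k)
          calc a * a' * (b * b') * (d * d') = a * (a' * b) * b' * (d * d') := by group
            _ = a * (b * a') * b' * (d * d') := by rw [c1.eq]
            _ = a * b * ((a' * b') * d) * d' := by group
            _ = a * b * (d * (a' * b')) * d' := by rw [c2.eq]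
            _ = a * b * d * (a' * b' * d') := by group
        inv_mem' := by
          rintro _ ⟨p, rfl⟩
          have mem : ∀ r ∈ V, ∀ i : Bool, cond i r (1 : G) ∈ V := fun r hr i => by cases i <;> simp [hr]
          exact ⟨p, (inv_eq_of_mul_eq_one_right (hV2 _
            (V.mul_mem (V.mul_mem (mem _ hr₁ _) (mem _ hr₂ _)) (mem _ hr₃ _)))).symm⟩ }
    have hle : R ≤ H := by
      rw [Subgroup.closure_le]
      rintro x (rfl | rfl | rfl)
      · exact ⟨(true, false, false), by simp⟩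
      · exact ⟨(false, true, false), by simp⟩
      · exact ⟨(false, false, true), by simp⟩
    refine (Subgroup.card_le_of_le hle).trans ((Nat.card_le_card_of_surjective
      (fun p : Bool × Bool × Bool => (⟨_, p, rfl⟩ : H)) ?_).trans (by rw [Nat.card_eq_fintype_card]; rfl))
    rintro ⟨x, p, rfl⟩
    exact ⟨p, rfl⟩

end H69.LinThree
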