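import Cfsg.Agent.H69.LinThreeBase
import Mathlib

/-!
Two commuting lifts of transvections produce an elementary section; the homocyclic group of exponent four.
-/

set_option autoImplicit false

namespace H69.LinThree

open scoped commutatorElement Matrix

variable {G : Type*} [Group G]

theorem four_images : Function.Injective fun p : Bool × Bool => cond p.1 (tr 0 2) 1 * cond p.2 (tr 0 1) 1 := by
  decide +kernel

theorem two_lift_facts : tr 0 2 * tr 0 2 = 1 ∧ tr 0 1 * tr 1 2 = g₀ := by decide +kernel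

/-- An elementary section of order thirty-two from two commuting involutions over a large elementary subgroup. -/
theorem rank_two_lifts [Finite G] (D : Data G) (A N : Subgroup G) (hA : A ≤ D.π.ker) (hNA : N ≤ A)
    (hsq : ∀ a ∈ A, a * a ∈ N) (hN : ∀ a ∈ A, ∀ n ∈ N, a * n * a⁻¹ ∈ N) (e x : G) (he : D.π e = tr 0 2)
    (hx : D.π x = tr 0 1) (hee : e * e ∈ N) (hxx : x * x ∈ N) (hex : ⁅e, x⁆ ∈ N) (hea : ∀ a ∈ A, ⁅e, a⁆ ∈ N)
    (hxa : ∀ a ∈ A, ⁅x, a⁆ ∈ N) (hcard : 8 * Nat.card N ≤ Nat.card A) : False := by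
  classical
  have hcomm : ∀ a ∈ A, ∀ b ∈ A, ⁅a, b⁆ ∈ N := by
    intro a ha b hb
    have h1 : ⁅a, b⁆ = a * b * (a * b) * (b⁻¹ * (a⁻¹ * a⁻¹) * b⁻¹⁻¹) * (b⁻¹ * b⁻¹) := by
      rw [commutatorElement_def]; group
    rw [h1]
    exact N.mul_mem (N.mul_mem (hsq _ (A.mul_mem ha hb)) (hN _ (A.inv_mem hb) _ (hsq _ (A.inv_mem ha))))
      (hsq _ (A.inv_mem hb))
  have hconj : ∀ z, (∀ a ∈ A, ⁅z, a⁆ ∈ N) → ∀ n ∈ N, z * n * z⁻¹ ∈ N := fun z hz n hn => by
    rw [show z * n * z⁻¹ = ⁅z, n⁆ * n by rw [commutatorElement_def]; group]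
    exact N.mul_mem (hz n (hNA hn)) hn
  set S : Set G := (A : Set G) ∪ {e, x} with hS
  have hmem : ∀ s ∈ S, s ∈ A ∨ s = e ∨ s = x := by
    rintro s (h | h | h)
    exacts [Or.inl h, Or.inr (Or.inl h), Or.inr (Or.inr h)]
  refine SectTools.not_rank D.rank N S (fun n hn => Subgroup.subset_closure (Or.inl (hNA hn))) ?_ ?_ ?_ ?_
  · intro s hs
    rcases hmem s hs with h | rfl | rfl
    exacts [hsq s h, hee, hxx]
  · intro s hs t ht
    rcases hmem s hs with h | rfl | rfl <;> rcases hmem t ht with h' | rfl | rfl <;>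
      first
        | exact hcomm s h t h'
        | exact hea t h'
        | exact hxa t h'
        | exact hex
        | (rw [commutatorElement_self]; exact N.one_mem)
        | (rw [← commutatorElement_inv]; first | exact N.inv_mem (hea s h) | exact N.inv_mem (hxa s h) | exact N.inv_mem hex)
  · intro s hs
    rcases hmem s hs with h | rfl | rfl
    exacts [hN s h, hconj _ hea, hconj _ hxa]
  · have he' : e ∈ Subgroup.closure S := Subgroup.subset_closure (by simp [hS])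
    have hx' : x ∈ Subgroup.closure S := Subgroup.subset_closure (by simp [hS])
    let φ : A × Bool × Bool → Subgroup.closure S := fun p =>
      ⟨cond p.2.1 e 1 * cond p.2.2 x 1 * (p.1 : G), by
        refine Subgroup.mul_mem _ (Subgroup.mul_mem _ ?_ ?_) (Subgroup.subset_closure (Or.inl p.1.2))
        · cases p.2.1 <;> simp [he']
        · cases p.2.2 <;> simp [hx']⟩
    have hφ : Function.Injective φ := by
      rintro ⟨a, i, j⟩ ⟨b, k, l⟩ h
      have h1 : cond i e 1 * cond j x 1 * (a : G) = cond k e 1 * cond l x 1 * (b : G) := congrArg Subtype.val h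
      have himg : ∀ (i j : Bool) (a : A), D.π (cond i e 1 * cond j x 1 * (a : G)) =
          cond i (tr 0 2) 1 * cond j (tr 0 1) 1 := by
        intro i j a
        rw [map_mul, map_mul, MonoidHom.mem_ker.1 (hA a.2), mul_one]
        cases i <;> cases j <;> simp [he, hx]
      have h2 := congrArg D.π h1
      rw [himg, himg] at h2
      obtain ⟨rfl, rfl⟩ := Prod.mk.inj (four_images h2 : (i, j) = (k, l))
      exact Prod.ext (Subtype.ext (mul_left_cancel h1)) rfl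
    have := Nat.card_le_card_of_injective φ hφ
    rw [Nat.card_prod, Nat.card_prod, Nat.card_eq_fintype_card (α := Bool), Fintype.card_bool] at this
    omega

/-- A commutator from three squares. -/
theorem comm_of_sq (N : Subgroup G) {e x : G} (hN : ∀ n ∈ N, x * n * x⁻¹ ∈ N) (hee : e * e ∈ N) (hxx : x * x ∈ N)
    (hex : e * x * (e * x) ∈ N) : ⁅e, x⁆ ∈ N := by
  have h1 : x⁻¹ * (e⁻¹ * e⁻¹) * x ∈ N := by
    rw [show x⁻¹ * (e⁻¹ * e⁻¹) * x = (x * x)⁻¹ * (x * (e * e)⁻¹ * x⁻¹) * (x * x) by group]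
    exact N.mul_mem (N.mul_mem (N.inv_mem hxx) (hN _ (N.inv_mem hee))) hxx
  rw [show ⁅e, x⁆ = e * x * (e * x) * (x⁻¹ * (e⁻¹ * e⁻¹) * x) * (x * x)⁻¹ by rw [commutatorElement_def]; group]
  exact N.mul_mem (N.mul_mem hex h1) (N.inv_mem hxx)

/-! ### Matrices over the integers modulo four -/

/-- Triples. -/
abbrev V4 := ZMod 4 × ZMod 4 × ZMod 4

/-- Rows. -/
abbrev M4 := V4 × V4 × V4

/-- Scalar product. -/
def dot (r v : V4) : ZMod 4 := r.1 * v.1 + r.2.1 * v.2.1 + r.2.2 * v.2.2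

/-- Application. -/
def ap (m : M4) (v : V4) : V4 := (dot m.1 v, dot m.2.1 v, dot m.2.2 v)

/-- Application twice. -/
def ap2 (m : M4) (v : V4) : V4 := ap m (ap m v)

/-- Determinant. -/
def det3 (m : M4) : ZMod 4 :=
  m.1.1 * (m.2.1.2.1 * m.2.2.2.2 - m.2.1.2.2 * m.2.2.2.1) - m.1.2.1 * (m.2.1.1 * m.2.2.2.2 - m.2.1.2.2 * m.2.2.1)
    + m.1.2.2 * (m.2.1.1 * m.2.2.2.1 - m.2.1.2.1 * m.2.2.1)

/-- The small subgroup. -/
def InN (v : V4) : Prop := (v.1 = 0 ∨ v.1 = 2) ∧ v.2 = 0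

instance h69InN (v : V4) : Decidable (InN v) := by unfold InN; infer_instance

/-- Doubling. -/
def dd (b : Bool) : ZMod 4 := cond b 2 0

/-- Matrices lifting the element of order four. -/
def lift4 (a b c : Bool × Bool × Bool) : M4 :=
  ((1 + dd a.1, 1 + dd a.2.1, 1 + dd a.2.2), (dd b.1, 1 + dd b.2.1, 1 + dd b.2.2), (dd c.1, dd c.2.1, 1 + dd c.2.2))

/-- The properties needed. -/
def Facts (m : M4) : Prop :=
  det3 m = 1 → (∀ v ∈ ([(1, 0, 0), (0, 1, 0), (0, 0, 1)] : List V4), ap2 m (ap2 m v) = v) → ∀ z : V4,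
    (ap m z = z → ∃ w : V4, ap2 m w + w = z) ∧
    (z.2.1 + z.2.1 = 0 → z.2.2 + z.2.2 = 0 → InN (ap2 m z - z)) ∧
    ((ap2 m z - z) + (ap2 m z - z) = 0 → InN (ap2 m z + z))

instance h69Facts (m : M4) : Decidable (Facts m) := by unfold Facts; infer_instance

theorem facts4 : ∀ a b c, Facts (lift4 a b c) := by decide +kernel

/-- No fourth power is minus the identity. -/
def NoMinus (m : M4) : Prop := ¬ ∀ v ∈ ([(1, 0, 0), (0, 1, 0), (0, 0, 1)] : List V4), ap2 m (ap2 m v) = -v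

instance h69NoMinus (m : M4) : Decidable (NoMinus m) := by unfold NoMinus; infer_instance

theorem nominus4 : ∀ a b c, NoMinus (lift4 a b c) := by decide +kernel

theorem odd4 : ∀ x : ZMod 4, (x.val : ZMod 2) = 1 → ∃ b : Bool, x = 1 + dd b := by decide
theorem even4 : ∀ x : ZMod 4, (x.val : ZMod 2) = 0 → ∃ b : Bool, x = dd b := by decide
theorem half4 : ∀ x : ZMod 4, (x.val : ZMod 2) = 0 → x + x = 0 ∧ ∃ u, x = u + u ∧ ((u.val : ZMod 2) = 0 → u + u = 0) := by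
  decide
theorem g₀_entries : (g₀ : Matrix (Fin 3) (Fin 3) (ZMod 2)) = !![1, 1, 1; 0, 1, 1; 0, 0, 1] := by decide +kernel

/-- A vector as a triple. -/
def tup (z : Fin 3 → ZMod 4) : V4 := (z 0, z 1, z 2)

/-- A matrix as its rows. -/
def rows (R : Matrix (Fin 3) (Fin 3) (ZMod 4)) : M4 :=
  ((R 0 0, R 0 1, R 0 2), (R 1 0, R 1 1, R 1 2), (R 2 0, R 2 1, R 2 2))

theorem ap_rows (R : Matrix (Fin 3) (Fin 3) (ZMod 4)) (z : Fin 3 → ZMod 4) : ap (rows R) (tup z) = tup (R *ᵥ z) := by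
  simp [ap, rows, tup, dot, Matrix.mulVec, dotProduct, Fin.sum_univ_three]

theorem det3_rows (R : Matrix (Fin 3) (Fin 3) (ZMod 4)) : det3 (rows R) = R.det := by
  simp only [det3, rows, Matrix.det_fin_three]; ring

theorem tup_injective : Function.Injective tup := fun u v h => by
  obtain ⟨h0, h1, h2⟩ := (Prod.mk.injEq _ _ _ _ ▸ h : u 0 = v 0 ∧ (u 1, u 2) = (v 1, v 2)) |> fun h =>
    (⟨h.1, (Prod.mk.inj h.2).1, (Prod.mk.inj h.2).2⟩ : u 0 = v 0 ∧ u 1 = v 1 ∧ u 2 = v 2)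
  funext k; fin_cases k <;> assumption

/-- Coordinates of a homocyclic section. -/
theorem coords4 [Finite G] (π : G →* L3) (Q F : Subgroup G) [Q.Normal] (h64 : Nat.card Q = 64)
    (hab : ∀ a ∈ Q, ∀ b ∈ Q, a * b = b * a) (hsq : ∀ a ∈ Q, a * a ∈ F) (hinj : ∀ a ∈ Q, a * a = 1 → a ∈ F)
    (hFe : ∀ f ∈ F, f * f = 1) (c : Q → (Fin 3 → ZMod 2)) (hc : Function.Surjective c)
    (hadd : ∀ a b, c (a * b) = c a + c b) (hc0 : ∀ a : Q, c a = 0 ↔ (a : G) ∈ F)
    (hequiv : ∀ (g : G) (a b : Q), (b : G) = g * (a : G) * g⁻¹ →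
      c b = (π g : Matrix (Fin 3) (Fin 3) (ZMod 2)) *ᵥ c a) :
    ∃ (ι : (Fin 3 → ZMod 4) → Q) (R : G → Matrix (Fin 3) (Fin 3) (ZMod 4)), Function.Bijective ι ∧
      (∀ u v, ι (u + v) = ι u * ι v) ∧ (∀ z, c (ι z) = fun k => ((z k).val : ZMod 2)) ∧
      (∀ g z, (ι (R g *ᵥ z) : G) = g * (ι z : G) * g⁻¹) ∧ (∀ g h, R (g * h) = R g * R h) ∧
      ∀ g i j, ((R g i j).val : ZMod 2) = (π g : Matrix (Fin 3) (Fin 3) (ZMod 2)) i j := by
  classical
  letI : CommGroup Q := { (inferInstance : Group Q) with mul_comm := fun u v => Subtype.ext (hab u u.2 v v.2) }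
  have h4 : ∀ a : Q, a ^ 4 = 1 := fun a => Subtype.ext (by
    rw [SubmonoidClass.coe_pow, show 4 = 2 + 2 from rfl, pow_add, sq]
    exact hFe _ (hsq a a.2))
  have hp : ∀ (a : Q) (i j : ZMod 4), a ^ (i + j).val = a ^ i.val * a ^ j.val := fun a i j => by
    rw [ZMod.val_add, ← pow_add, pow_eq_pow_mod (i.val + j.val) (h4 a)]
  choose b hb using fun j : Fin 3 => hc (Pi.single j 1)
  let ι : (Fin 3 → ZMod 4) → Q := fun z => b 0 ^ (z 0).val * b 1 ^ (z 1).val * b 2 ^ (z 2).val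
  have hι : ∀ u v, ι (u + v) = ι u * ι v := fun u v => by
    simp only [ι, Pi.add_apply, hp]; ac_rfl
  have hc1 : c 1 = 0 := (hc0 1).2 F.one_mem
  have hcpow : ∀ (a : Q) (n : ℕ), c (a ^ n) = n • c a := fun a n => by
    induction n with
    | zero => rw [pow_zero, hc1, zero_smul]
    | succ n ih => rw [pow_succ, hadd, ih, succ_nsmul]
  have hm2 : ∀ z, c (ι z) = fun k => ((z k).val : ZMod 2) := fun z => by
    funext k
    simp only [ι, hadd, hcpow, hb, Pi.add_apply, Pi.smul_apply, Pi.single_apply, nsmul_eq_mul]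
    fin_cases k <;> simp [-ZMod.natCast_val]
  have hι0 : ι 0 = 1 := by simp [ι]
  have hker : ∀ z, ι z = 1 → z = 0 := by
    intro z hz
    have hm := hm2 z
    rw [hz, hc1] at hm
    choose _ u hu hu' using fun k => half4 (z k) (congrFun hm k).symm
    have hzu : z = u + u := funext hu
    have hF' : ((ι u : Q) : G) ∈ F := hinj _ (ι u).2 (by
      rw [← Subgroup.coe_mul, ← hι, ← hzu, hz]; rfl)
    have h0 := (hc0 _).2 hF'
    rw [hm2] at h0
    funext k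
    rw [hu k]
    exact hu' k (congrFun h0 k)
  have hinv : ∀ u, ι (-u) = (ι u)⁻¹ := fun u => eq_inv_of_mul_eq_one_left (by rw [← hι, neg_add_cancel, hι0])
  have hinjι : Function.Injective ι := fun u v h =>
    sub_eq_zero.1 (hker (u - v) (by rw [sub_eq_add_neg, hι, hinv, h, mul_inv_cancel]))
  have hbij : Function.Bijective ι := (Nat.bijective_iff_injective_and_card ι).2
    ⟨hinjι, by rw [h64, Nat.card_eq_fintype_card]; rfl⟩
  let e := Equiv.ofBijective ι hbij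
  let L : G → (Fin 3 → ZMod 4) →+ (Fin 3 → ZMod 4) := fun g =>
    { toFun := fun z => e.symm (MulAut.conjNormal g (ι z))
      map_zero' := by rw [hι0, map_one, ← hι0]; exact e.symm_apply_apply 0
      map_add' := fun u v => e.injective (by
        rw [Equiv.apply_symm_apply]
        show _ = ι (_ + _)
        rw [hι, hι, map_mul]
        show _ = e (e.symm _) * e (e.symm _)
        rw [Equiv.apply_symm_apply, Equiv.apply_symm_apply]) }
  let R : G → Matrix (Fin 3) (Fin 3) (ZMod 4) := fun g => LinearMap.toMatrix' ((L g).toZModLinearMap 4)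
  have hR : ∀ g z, (ι (R g *ᵥ z) : G) = g * (ι z : G) * g⁻¹ := by
    intro g z
    rw [show R g *ᵥ z = L g z by rw [← Matrix.toLin'_apply, Matrix.toLin'_toMatrix']; rfl]
    show ((e (e.symm _) : Q) : G) = _
    rw [Equiv.apply_symm_apply, MulAut.conjNormal_apply]
  refine ⟨ι, R, hbij, hι, hm2, hR, fun g h => ?_, fun g i j => ?_⟩
  · refine Matrix.toLin'.injective (LinearMap.ext fun z => hinjι (Subtype.ext ?_))
    rw [Matrix.toLin'_apply, Matrix.toLin'_apply, ← Matrix.mulVec_mulVec, hR, hR, hR]; group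
  · have h1 : c (ι (R g *ᵥ Pi.single j 1)) = _ := hequiv g (ι (Pi.single j 1)) _ (hR g _)
    rw [hm2, hm2] at h1
    have h2 : (fun k => (((Pi.single j 1 : Fin 3 → ZMod 4) k).val : ZMod 2)) = Pi.single j 1 := by
      funext k
      by_cases hk : k = j
      · subst hk; simp [ZMod.val_one]
      · simp [hk]
    have h3 := congrFun h1 i
    rw [h2, Matrix.mulVec_single_one, Matrix.mulVec_single_one] at h3
    exact h3

theorem rows_eq {R : Matrix (Fin 3) (Fin 3) (ZMod 4)}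
    (h : ∀ i j, ((R i j).val : ZMod 2) = (g₀ : Matrix (Fin 3) (Fin 3) (ZMod 2)) i j) :
    ∃ a b c, rows R = lift4 a b c := by
  rw [g₀_entries] at h
  obtain ⟨a0, ha0⟩ := odd4 _ (h 0 0)
  obtain ⟨a1, ha1⟩ := odd4 _ (h 0 1)
  obtain ⟨a2, ha2⟩ := odd4 _ (h 0 2)
  obtain ⟨b0, hb0⟩ := even4 _ (h 1 0)
  obtain ⟨b1, hb1⟩ := odd4 _ (h 1 1)
  obtain ⟨b2, hb2⟩ := odd4 _ (h 1 2)
  obtain ⟨c0, hc0⟩ := even4 _ (h 2 0)
  obtain ⟨c1, hc1⟩ := even4 _ (h 2 1)
  obtain ⟨c2, hc2⟩ := odd4 _ (h 2 2)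
  exact ⟨(a0, a1, a2), (b0, b1, b2), (c0, c1, c2), by
    simp only [rows, lift4, ha0, ha1, ha2, hb0, hb1, hb2, hc0, hc1, hc2]⟩

/-- A permutation matrix. -/
def s₁ : L3 := ⟨!![1, 0, 0; 0, 0, 1; 0, 1, 0], by decide⟩

/-- Another one. -/
def s₂ : L3 := ⟨!![0, 1, 0; 1, 0, 0; 0, 0, 1], by decide⟩

theorem perm_facts : s₁ * tr 0 2 * s₁⁻¹ = tr 0 1 ∧ s₂ * tr 0 2 * s₂⁻¹ = tr 1 2 ∧
    (s₁ : Matrix (Fin 3) (Fin 3) (ZMod 2)) *ᵥ ![1, 0, 0] = ![1, 0, 0] ∧
    (g₀ : Matrix (Fin 3) (Fin 3) (ZMod 2)) *ᵥ ![1, 0, 0] = ![1, 0, 0] := by decide +kernel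

theorem adjust_facts : ∀ v : Fin 3 → ZMod 2,
    (tr 0 2 : Matrix (Fin 3) (Fin 3) (ZMod 2)) *ᵥ ![0, v 1, 0] = ![0, v 1, 0] ∧
    (tr 0 1 : Matrix (Fin 3) (Fin 3) (ZMod 2)) *ᵥ ![0, 0, v 2] = ![0, 0, v 2] ∧
    ((((tr 0 1)⁻¹ : L3) : Matrix (Fin 3) (Fin 3) (ZMod 2)) *ᵥ ![0, v 1, 0] + ![0, 0, v 2] + v = 0 ∨
      (((tr 0 1)⁻¹ : L3) : Matrix (Fin 3) (Fin 3) (ZMod 2)) *ᵥ ![0, v 1, 0] + ![0, 0, v 2] + v = ![1, 0, 0]) := by
  decide +kernel

/-- The homocyclic group of exponent four and rank three is impossible. -/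
theorem cyclic_case [Finite G] (D : Data G) (Q F : Subgroup G) [Q.Normal] [F.Normal] (hQ : Q ≤ D.π.ker)
    (hFQ : F ≤ Q) (h64 : Nat.card Q = 64) (hF8 : Nat.card F = 8)
    (hab : ∀ a ∈ Q, ∀ b ∈ Q, a * b = b * a) (hsq : ∀ a ∈ Q, a * a ∈ F) (hinj : ∀ a ∈ Q, a * a = 1 → a ∈ F)
    (hFe : ∀ f ∈ F, f * f = 1) (c : Q → (Fin 3 → ZMod 2)) (hc : Function.Surjective c)
    (hadd : ∀ a b, c (a * b) = c a + c b) (hc0 : ∀ a : Q, c a = 0 ↔ (a : G) ∈ F)
    (hequiv : ∀ (g : G) (a b : Q), (b : G) = g * (a : G) * g⁻¹ →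
      c b = (D.π g : Matrix (Fin 3) (Fin 3) (ZMod 2)) *ᵥ c a)
    (hfour : ∀ g, D.π g = g₀ → g * g * (g * g) ∈ Q) : False := by
  classical
  obtain ⟨ι, R, hι, hadd4, hm2, hR, hRmul, hRmod⟩ := coords4 D.π Q F h64 hab hsq hinj hFe c hc hadd hc0 hequiv
  have hι0 : (ι 0 : G) = 1 := by
    have h := hadd4 0 0
    rw [add_zero, left_eq_mul] at h
    rw [h]; rfl
  have hιinv : ∀ u, (ι (-u) : G) = (ι u : G)⁻¹ := fun u => eq_inv_of_mul_eq_one_left (by
    rw [← Subgroup.coe_mul, ← hadd4, neg_add_cancel, hι0])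
  have hsub : ∀ u v, (ι (u - v) : G) = (ι u : G) * (ι v : G)⁻¹ := fun u v => by
    rw [sub_eq_add_neg, hadd4, Subgroup.coe_mul, hιinv]
  have hkerR : ∀ q ∈ Q, R q = 1 := fun q hq => Matrix.toLin'.injective (LinearMap.ext fun z =>
    hι.1 (Subtype.ext (by rw [Matrix.toLin'_apply, Matrix.toLin'_apply, Matrix.one_mulVec, hR, hab q hq _ (ι z).2,
      mul_inv_cancel_right])))
  have hR1 : R 1 = 1 := hkerR 1 Q.one_mem
  have hdet1 : ∀ g, (R g).det * (R g⁻¹).det = 1 := fun g => by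
    rw [← Matrix.det_mul, ← hRmul, mul_inv_cancel, hR1, Matrix.det_one]
  have hdconj : ∀ s f, (R (s * f * s⁻¹)).det = (R f).det := fun s f => by
    rw [hRmul, hRmul, Matrix.det_mul, Matrix.det_mul, mul_comm (R s).det, mul_assoc, hdet1, mul_one]
  have hdcomm : ∀ a b, (R ⁅a, b⁆).det = 1 := fun a b => by
    rw [commutatorElement_def, hRmul, Matrix.det_mul, hdconj, hdet1]
  -- the two subgroups
  set e₀ : Fin 3 → ZMod 2 := ![1, 0, 0] with he₀
  let A : Subgroup G :=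
    { carrier := {x | ∃ h : x ∈ Q, c ⟨x, h⟩ = 0 ∨ c ⟨x, h⟩ = e₀}
      one_mem' := ⟨Q.one_mem, Or.inl ((hc0 _).2 F.one_mem)⟩
      mul_mem' := by
        rintro x y ⟨hx, hx'⟩ ⟨hy, hy'⟩
        refine ⟨Q.mul_mem hx hy, ?_⟩
        rw [show (⟨x * y, Q.mul_mem hx hy⟩ : Q) = ⟨x, hx⟩ * ⟨y, hy⟩ from rfl, hadd]
        rcases hx' with h | h <;> rcases hy' with h' | h' <;> rw [h, h']
        · exact Or.inl (add_zero _)
        · exact Or.inr (zero_add _)
        · exact Or.inr (add_zero _)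
        · exact Or.inl (funext fun k => CharTwo.add_self_eq_zero _)
      inv_mem' := by
        rintro x ⟨hx, hx'⟩
        refine ⟨Q.inv_mem hx, ?_⟩
        have h := hadd ⟨x, hx⟩ ⟨x, hx⟩⁻¹
        rw [mul_inv_cancel, (hc0 _).2 F.one_mem] at h
        have h2 : c ⟨x⁻¹, Q.inv_mem hx⟩ = c ⟨x, hx⟩ := by
          funext k
          exact (CharTwo.add_eq_zero.1 (congrFun h k).symm).symm
        rw [h2]; exact hx' }
  let N : Subgroup G :=
    { carrier := {x | ∃ a ∈ A, a * a = x}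
      one_mem' := ⟨1, A.one_mem, one_mul 1⟩
      mul_mem' := by
        rintro _ _ ⟨a, ha, rfl⟩ ⟨b, hb, rfl⟩
        refine ⟨a * b, A.mul_mem ha hb, ?_⟩
        calc a * b * (a * b) = a * (b * a) * b := by group
          _ = a * (a * b) * b := by rw [hab b hb.1 a ha.1]
          _ = a * a * (b * b) := by group
      inv_mem' := by
        rintro _ ⟨a, ha, rfl⟩
        exact ⟨a⁻¹, A.inv_mem ha, by group⟩ }
  have hAQ : A ≤ Q := fun x hx => hx.1
  have hFA : F ≤ A := fun x hx => ⟨hFQ hx, Or.inl ((hc0 _).2 hx)⟩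
  have hNF : N ≤ F := by rintro _ ⟨a, ha, rfl⟩; exact hsq a (hAQ ha)
  have hNA : N ≤ A := hNF.trans hFA
  have hP : ∀ s, (D.π s : Matrix (Fin 3) (Fin 3) (ZMod 2)) *ᵥ e₀ = e₀ →
      (∀ a ∈ A, s * a * s⁻¹ ∈ A) ∧ ∀ n ∈ N, s * n * s⁻¹ ∈ N := by
    intro s hs
    have h1 : ∀ a ∈ A, s * a * s⁻¹ ∈ A := by
      rintro a ⟨ha, ha'⟩
      refine ⟨(inferInstance : Q.Normal).conj_mem a ha s, ?_⟩
      rw [hequiv s ⟨a, ha⟩ _ rfl]
      rcases ha' with h | h <;> rw [h]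
      · exact Or.inl (Matrix.mulVec_zero _)
      · exact Or.inr hs
    exact ⟨h1, by rintro _ ⟨a, ha, rfl⟩; exact ⟨s * a * s⁻¹, h1 a ha, by group⟩⟩
  have hPinv : ∀ s, (D.π s : Matrix (Fin 3) (Fin 3) (ZMod 2)) *ᵥ e₀ = e₀ →
      (D.π s⁻¹ : Matrix (Fin 3) (Fin 3) (ZMod 2)) *ᵥ e₀ = e₀ := by
    intro s hs
    conv_lhs => rw [← hs]
    rw [Matrix.mulVec_mulVec, ← Matrix.SpecialLinearGroup.coe_mul, ← map_mul, inv_mul_cancel, map_one,
      Matrix.SpecialLinearGroup.coe_one, Matrix.one_mulVec]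
  have hInN : ∀ z, InN (tup z) → (ι z : G) ∈ N := by
    intro z hz
    obtain ⟨h0, h12⟩ := hz
    obtain ⟨h1, h2⟩ : z 1 = 0 ∧ z 2 = 0 := Prod.mk.inj h12
    rcases h0 with h0 | h0 <;> change z 0 = _ at h0
    · rw [show z = 0 by funext k; fin_cases k <;> simp [h0, h1, h2], hι0]; exact N.one_mem
    · refine ⟨ι ![1, 0, 0], ⟨(ι _).2, Or.inr ?_⟩, ?_⟩
      · show c (ι ![1, 0, 0]) = e₀
        rw [hm2]; funext k; fin_cases k <;> simp [e₀, ZMod.val_one]
      · rw [← Subgroup.coe_mul, ← hadd4]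
        congr 2
        funext k; fin_cases k <;> simp [h0, h1, h2] <;> decide
  -- good involutions
  let Good : G → Prop := fun f => f * f = 1 ∧ (∀ a ∈ A, ⁅f, a⁆ ∈ N) ∧ ∀ a ∈ Q, ⁅f, a⁆ ∈ F → f * a * (f * a) ∈ N
  have hGoodConj : ∀ s, (D.π s : Matrix (Fin 3) (Fin 3) (ZMod 2)) *ᵥ e₀ = e₀ → ∀ f, Good f → Good (s * f * s⁻¹) := by
    rintro s hs f ⟨g1, g2, g3⟩
    refine ⟨?_, fun a ha => ?_, fun a ha haF => ?_⟩
    · calc s * f * s⁻¹ * (s * f * s⁻¹) = s * (f * f) * s⁻¹ := by group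
        _ = 1 := by rw [g1, mul_one, mul_inv_cancel]
    · have h := (hP s hs).2 _ (g2 _ ((hP _ (hPinv s hs)).1 a ha))
      convert h using 1
      rw [commutatorElement_def, commutatorElement_def]; group
    · have hF' : ⁅f, s⁻¹ * a * s⁻¹⁻¹⁆ ∈ F := by
        have h := (inferInstance : F.Normal).conj_mem _ haF s⁻¹
        convert h using 1
        rw [commutatorElement_def, commutatorElement_def]; group
      have h := (hP s hs).2 _ (g3 _ ((inferInstance : Q.Normal).conj_mem a ha s⁻¹) hF')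
      convert h using 1
      group
  have main : ∀ g, D.π g = g₀ → (R g).det = 1 →
      ∃ v ∈ Q, Good (g * g * v) ∧ (R (g * g * v)).det = 1 := by
    intro g hg hdet
    obtain ⟨x, y, z, hrows⟩ := rows_eq (R := R g) fun i j => by rw [hRmod, hg]
    have hfacts := facts4 x y z
    rw [← hrows] at hfacts
    have hap2 : ∀ u, ap2 (rows (R g)) (tup u) = tup (R (g * g) *ᵥ u) := fun u => by
      rw [ap2, ap_rows, ap_rows, hRmul, Matrix.mulVec_mulVec]
    have hg4 := hfour g hg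
    have hap4 : ∀ u, ap2 (rows (R g)) (ap2 (rows (R g)) (tup u)) = tup u := fun u => by
      rw [hap2, hap2, Matrix.mulVec_mulVec, ← hRmul, hkerR _ hg4, Matrix.one_mulVec]
    have hall := hfacts (by rw [det3_rows]; exact hdet) (by
      intro u hu
      simp only [List.mem_cons, List.not_mem_nil, or_false] at hu
      rcases hu with rfl | rfl | rfl
      · exact hap4 ![1, 0, 0]
      · exact hap4 ![0, 1, 0]
      · exact hap4 ![0, 0, 1])
    obtain ⟨z0, hz0⟩ := hι.2 ⟨_, hg4⟩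
    replace hz0 : (ι z0 : G) = g * g * (g * g) := congrArg Subtype.val hz0
    have hfix : R g *ᵥ z0 = z0 := hι.1 (Subtype.ext (by rw [hR, hz0]; group))
    obtain ⟨w₀, hw₀⟩ := (hall (tup z0)).1 (by rw [ap_rows, hfix])
    obtain ⟨w, rfl⟩ : ∃ w, tup w = w₀ := ⟨![w₀.1, w₀.2.1, w₀.2.2], by simp [tup]⟩
    rw [hap2] at hw₀
    have hw : R (g * g) *ᵥ w + w = z0 := tup_injective hw₀
    have hact : ∀ u, g * g * (ι (-w) : G) * (ι u : G) * (g * g * (ι (-w) : G))⁻¹ = (ι (R (g * g) *ᵥ u) : G) := by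
      intro u
      calc g * g * (ι (-w) : G) * (ι u : G) * (g * g * (ι (-w) : G))⁻¹ =
          g * g * ((ι (-w) : G) * (ι u : G)) * (ι (-w) : G)⁻¹ * (g * g)⁻¹ := by group
        _ = g * g * ((ι u : G) * (ι (-w) : G)) * (ι (-w) : G)⁻¹ * (g * g)⁻¹ := by rw [hab _ (ι (-w)).2 _ (ι u).2]
        _ = g * g * (ι u : G) * (g * g)⁻¹ := by group
        _ = _ := (hR _ _).symm
    have hff : g * g * (ι (-w) : G) * (g * g * (ι (-w) : G)) = 1 := by
      calc g * g * (ι (-w) : G) * (g * g * (ι (-w) : G)) =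
          g * g * (ι (-w) : G) * (g * g)⁻¹ * (g * g * (g * g)) * (ι (-w) : G) := by
            simp only [mul_assoc, mul_inv_rev, inv_mul_cancel_left]
        _ = (ι (R (g * g) *ᵥ (-w) + z0 + -w) : G) := by rw [← hR, ← hz0, hadd4, hadd4]; rfl
        _ = 1 := by rw [Matrix.mulVec_neg, ← hw, show ∀ p q : Fin 3 → ZMod 4, -p + (p + q) + -q = 0 from fun p q => by abel,
              hι0]
    refine ⟨ι (-w), (ι (-w)).2, ⟨hff, ?_, ?_⟩, ?_⟩
    · rintro a ⟨ha, ha'⟩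
      obtain ⟨u, hu⟩ := hι.2 ⟨a, ha⟩
      rw [← hu, hm2] at ha'
      have h12 : u 1 + u 1 = 0 ∧ u 2 + u 2 = 0 := by
        refine ⟨(half4 _ ?_).1, (half4 _ ?_).1⟩ <;> rcases ha' with h | h
        · exact congrFun h 1
        · exact congrFun h 1
        · exact congrFun h 2
        · exact congrFun h 2
      have h := (hall (tup u)).2.1 h12.1 h12.2
      rw [hap2] at h
      have h' := hInN (R (g * g) *ᵥ u - u) h
      rw [show a = (ι u : G) from (congrArg Subtype.val hu).symm, commutatorElement_def, hact, ← hsub]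
      exact h'
    · intro a ha haF
      obtain ⟨u, hu⟩ := hι.2 ⟨a, ha⟩
      have hau : a = (ι u : G) := (congrArg Subtype.val hu).symm
      rw [hau, commutatorElement_def, hact, ← hsub] at haF
      have hd := hFe _ haF
      rw [← Subgroup.coe_mul, ← hadd4, ← hι0] at hd
      have hd' := hι.1 (Subtype.ext hd)
      have h := (hall (tup u)).2.2 (by rw [hap2]; exact congrArg tup hd')
      rw [hap2] at h
      have h' := hInN (R (g * g) *ᵥ u + u) h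
      convert h' using 1
      rw [hau, hadd4, Subgroup.coe_mul, ← hact u]
      calc _ = g * g * (ι (-w) : G) * (ι u : G) * (g * g * (ι (-w) : G))⁻¹ *
            (g * g * (ι (-w) : G) * (g * g * (ι (-w) : G))) * (ι u : G) := by group
        _ = _ := by rw [hff, mul_one]
    · rw [hRmul, hRmul, Matrix.det_mul, Matrix.det_mul, hdet, hkerR _ (ι (-w)).2, Matrix.det_one, one_mul, one_mul]
  -- the first lift
  obtain ⟨la, hla⟩ := D.surj (tr 0 2)
  obtain ⟨lb, hlb⟩ := D.surj (tr 1 0)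
  obtain ⟨lc, hlc⟩ := D.surj (tr 2 1)
  have hgπ : D.π (⁅la, lc⁆ * ⁅lb, la⁆) = g₀ := by
    rw [map_mul, map_commutatorElement, map_commutatorElement, hla, hlb, hlc, comm_eqs.1, comm_eqs.2]
    exact two_lift_facts.2
  obtain ⟨v₁, hv₁, hgood₁, hd₁⟩ := main _ hgπ (by rw [hRmul, Matrix.det_mul, hdcomm, hdcomm, one_mul])
  set f₁ := ⁅la, lc⁆ * ⁅lb, la⁆ * (⁅la, lc⁆ * ⁅lb, la⁆) * v₁ with hf₁
  have hf₁π : D.π f₁ = tr 0 2 := by
    rw [hf₁, map_mul, map_mul, hgπ, MonoidHom.mem_ker.1 (hQ hv₁), mul_one]; exact g₀_facts.2.1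
  obtain ⟨t₁, ht₁⟩ := D.surj s₁
  obtain ⟨t₂, ht₂⟩ := D.surj s₂
  obtain ⟨p1, p2, p3, p4⟩ := perm_facts
  set x := t₁ * f₁ * t₁⁻¹ with hx
  set x' := t₂ * f₁ * t₂⁻¹ with hx'
  have hxgood : Good x := hGoodConj t₁ (by rw [ht₁]; exact p3) _ hgood₁
  have hxπ : D.π x = tr 0 1 := by rw [hx, map_mul, map_mul, map_inv, ht₁, hf₁π, p1]
  have hx'π : D.π x' = tr 1 2 := by rw [hx', map_mul, map_mul, map_inv, ht₂, hf₁π, p2]
  have hxx : x * x = 1 := hxgood.1
  have hx'x' : x' * x' = 1 := by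
    rw [hx', show t₂ * f₁ * t₂⁻¹ * (t₂ * f₁ * t₂⁻¹) = t₂ * (f₁ * f₁) * t₂⁻¹ by group, hgood₁.1, mul_one,
      mul_inv_cancel]
  have hgπ' : D.π (x * x') = g₀ := by rw [map_mul, hxπ, hx'π]; exact two_lift_facts.2
  obtain ⟨v, hv, hfgood, -⟩ := main _ hgπ' (by rw [hRmul, Matrix.det_mul, hdconj, hdconj, hd₁, one_mul])
  set f := x * x' * (x * x') * v with hf
  have hfπ : D.π f = tr 0 2 := by
    rw [hf, map_mul, map_mul, hgπ', MonoidHom.mem_ker.1 (hQ hv), mul_one]; exact g₀_facts.2.1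
  set X := x * x' * x * (x * x')⁻¹ with hX
  have hXgood : Good X := hGoodConj _ (by rw [hgπ']; exact p4) _ hxgood
  have hxi : x⁻¹ = x := inv_eq_of_mul_eq_one_right hxx
  have hfx : f * x = X * (x⁻¹ * v * x) := by
    have hx'i : x'⁻¹ = x' := inv_eq_of_mul_eq_one_right hx'x'
    rw [hX, mul_inv_rev, hx'i, hxi, hf]
    calc x * x' * (x * x') * v * x = x * x' * x * x' * (x * x) * v * x := by rw [hxx]; group
      _ = _ := by group
  set w := x⁻¹ * v * x with hw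
  have hwQ : w ∈ Q := by
    have := (inferInstance : Q.Normal).conj_mem v hv x⁻¹
    rwa [inv_inv] at this
  obtain ⟨⟨a₁, ha₁⟩, hca₁⟩ := hc ![0, c ⟨w, hwQ⟩ 1, 0]
  obtain ⟨⟨a₂, ha₂⟩, hca₂⟩ := hc ![0, 0, c ⟨w, hwQ⟩ 2]
  obtain ⟨q1, q2, q3⟩ := adjust_facts (c ⟨w, hwQ⟩)
  have hfixF : ∀ g a (ha : a ∈ Q), (D.π g : Matrix (Fin 3) (Fin 3) (ZMod 2)) *ᵥ c ⟨a, ha⟩ = c ⟨a, ha⟩ →
      ⁅g, a⁆ ∈ F := by
    intro g a ha h
    have hb : g * a * g⁻¹ ∈ Q := (inferInstance : Q.Normal).conj_mem a ha g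
    refine (hc0 (⟨g * a * g⁻¹, hb⟩ * ⟨a, ha⟩⁻¹)).1 ?_
    have h1 := hadd ⟨a, ha⟩ ⟨a, ha⟩⁻¹
    rw [mul_inv_cancel, (hc0 _).2 F.one_mem] at h1
    rw [hadd, hequiv g ⟨a, ha⟩ _ rfl, h]
    exact h1.symm
  have hee : f * a₁ * (f * a₁) ∈ N := hfgood.2.2 a₁ ha₁ (hfixF f a₁ ha₁ (by rw [hfπ, hca₁]; exact q1))
  have hxa : x * a₂ * (x * a₂) ∈ N := hxgood.2.2 a₂ ha₂ (hfixF x a₂ ha₂ (by rw [hxπ, hca₂]; exact q2))
  have hcomA : ∀ g q, q ∈ Q → (∀ a ∈ A, ⁅g, a⁆ ∈ N) → ∀ a ∈ A, ⁅g * q, a⁆ ∈ N := by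
    intro g q hq hg a ha
    convert hg a ha using 1
    calc ⁅g * q, a⁆ = g * (q * a) * q⁻¹ * g⁻¹ * a⁻¹ := by rw [commutatorElement_def]; group
      _ = g * (a * q) * q⁻¹ * g⁻¹ * a⁻¹ := by rw [hab q hq a (hAQ ha)]
      _ = _ := by rw [commutatorElement_def]; group
  have hea := hcomA f a₁ ha₁ hfgood.2.1
  have hxa' := hcomA x a₂ ha₂ hxgood.2.1
  have hprod : f * a₁ * (x * a₂) * (f * a₁ * (x * a₂)) ∈ N := by
    have ha₁' : x⁻¹ * a₁ * x⁻¹⁻¹ ∈ Q := (inferInstance : Q.Normal).conj_mem a₁ ha₁ x⁻¹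
    have e1 : f * a₁ * (x * a₂) = X * (w * (x⁻¹ * a₁ * x⁻¹⁻¹ * a₂)) := by
      rw [← mul_assoc X, ← hfx]; group
    set w' := w * (x⁻¹ * a₁ * x⁻¹⁻¹ * a₂) with hw'
    have hw'Q : w' ∈ Q := Q.mul_mem hwQ (Q.mul_mem ha₁' ha₂)
    have hcw' : c ⟨w', hw'Q⟩ = c ⟨w, hwQ⟩ +
        ((((tr 0 1)⁻¹ : L3) : Matrix (Fin 3) (Fin 3) (ZMod 2)) *ᵥ c ⟨a₁, ha₁⟩ + c ⟨a₂, ha₂⟩) := by
      rw [← hxπ, ← map_inv, ← hequiv x⁻¹ ⟨a₁, ha₁⟩ ⟨_, ha₁'⟩ rfl, ← hadd, ← hadd]
      rfl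
    have hw'A : w' ∈ A := ⟨hw'Q, by rw [hcw', hca₁, hca₂, add_comm]; exact q3⟩
    rw [e1]
    exact hXgood.2.2 w' hw'Q (hNF (hXgood.2.1 w' hw'A))
  have hxN : ∀ n ∈ N, x * a₂ * n * (x * a₂)⁻¹ ∈ N := fun n hn => by
    rw [show x * a₂ * n * (x * a₂)⁻¹ = ⁅x * a₂, n⁆ * n by rw [commutatorElement_def]; group]
    exact N.mul_mem (hxa' n (hNA hn)) hn
  refine rank_two_lifts D A N (hAQ.trans hQ) hNA (fun a ha => ⟨a, ha, rfl⟩) (fun a ha n hn => by
    rw [hab a (hAQ ha) n (hAQ (hNA hn)), mul_inv_cancel_right]; exact hn)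
    (f * a₁) (x * a₂) (by rw [map_mul, hfπ, MonoidHom.mem_ker.1 (hQ ha₁), mul_one])
    (by rw [map_mul, hxπ, MonoidHom.mem_ker.1 (hQ ha₂), mul_one]) hee hxa (comm_of_sq N hxN hee hxa hprod) hea hxa' ?_
  -- the orders
  have hN2 : Nat.card N ≤ 2 := by
    let n₀ : G := ι ![2, 0, 0]
    have hval : ∀ x ∈ N, x = 1 ∨ x = n₀ := by
      rintro _ ⟨a, ⟨ha, ha'⟩, rfl⟩
      obtain ⟨u, hu⟩ := hι.2 ⟨a, ha⟩
      rw [← hu, hm2] at ha'
      have e : a * a = (ι (u + u) : G) := by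
        rw [hadd4, Subgroup.coe_mul, show (ι u : G) = a from congrArg Subtype.val hu]
      have h1 : u 1 + u 1 = 0 := (half4 _ (by rcases ha' with h | h <;> exact congrFun h 1)).1
      have h2 : u 2 + u 2 = 0 := (half4 _ (by rcases ha' with h | h <;> exact congrFun h 2)).1
      have h0 : u 0 + u 0 = 0 ∨ u 0 + u 0 = 2 := (by decide : ∀ q : ZMod 4, q + q = 0 ∨ q + q = 2) _
      rcases h0 with h0 | h0
      · left; rw [e, show u + u = 0 by funext k; fin_cases k <;> simp [h0, h1, h2], hι0]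
      · right; rw [e, show u + u = ![2, 0, 0] by funext k; fin_cases k <;> simp [h0, h1, h2]]
    have hn₀ : n₀ ∈ N := hInN _ ⟨Or.inr rfl, rfl⟩
    have := Nat.card_le_card_of_surjective (fun i : Bool => (cond i ⟨n₀, hn₀⟩ 1 : N)) (by
      rintro ⟨y, hy⟩
      rcases hval y hy with rfl | rfl
      · exact ⟨false, rfl⟩
      · exact ⟨true, rfl⟩)
    simpa using this
  have hA16 : 16 ≤ Nat.card A := by
    obtain ⟨⟨a, ha⟩, hca⟩ := hc e₀
    have haA : a ∈ A := ⟨ha, Or.inr hca⟩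
    have haF : a ∉ F := fun h => by
      have := (hc0 ⟨a, ha⟩).2 h
      rw [hca] at this
      exact stab_ne (by exact this)
    have := Nat.card_le_card_of_injective (fun p : Bool × F => (⟨cond p.1 a 1 * (p.2 : G), by
      cases p.1 <;> simp only [cond_true, cond_false, one_mul]
      · exact hFA p.2.2
      · exact A.mul_mem haA (hFA p.2.2)⟩ : A)) (by
      rintro ⟨i, f⟩ ⟨j, k⟩ h
      have h' := congrArg Subtype.val h
      cases i <;> cases j <;> simp only [cond_true, cond_false, one_mul] at h'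
      · exact Prod.ext rfl (Subtype.ext h')
      · exact absurd (by rw [show a = (f : G) * (k : G)⁻¹ by rw [h']; group]; exact F.mul_mem f.2 (F.inv_mem k.2)) haF
      · exact absurd (by rw [show a = (k : G) * (f : G)⁻¹ by rw [← h']; group]; exact F.mul_mem k.2 (F.inv_mem f.2)) haF
      · exact Prod.ext rfl (Subtype.ext (mul_left_cancel h')))
    rw [Nat.card_prod, Nat.card_eq_fintype_card (α := Bool), Fintype.card_bool, hF8] at this
    omega
  omega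
where
  stab_ne : (![1, 0, 0] : Fin 3 → ZMod 2) = 0 → False := fun h => absurd (congrFun h 0) (by decide)

end H69.LinThree
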