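import Cfsg.Agent.H69.LinThreeBase
import Mathlib

/-!
The squaring map and commutator maps on natural sections.
-/

set_option autoImplicit false

namespace H69.LinThree

open scoped commutatorElement Matrix

variable {G : Type*} [Group G]

/-- Constant squares are trivial. -/
theorem sq_const [Finite G] (W F : Subgroup G) (hFc : ∀ x ∈ W, ∀ f ∈ F, x * f = f * x)
    (hFe : ∀ f ∈ F, f * f = 1) (hsq : ∀ a ∈ W, a * a ∈ F) (hFW : F ≤ W) (hcard : 8 * Nat.card F ≤ Nat.card W) (c : G)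
    (hc : ∀ a ∈ W, a ∉ F → a * a = c) : c = 1 := by
  classical
  have hFi : ∀ f ∈ F, f⁻¹ = f := fun f hf => inv_eq_of_mul_eq_one_right (hFe f hf)
  have hlarge : ∀ a b : G, a ∈ W → b ∈ W →
      ∃ w ∈ W, ∀ f ∈ F, w ≠ f ∧ w ≠ a * f ∧ w ≠ b * f ∧ w ≠ a * b * f := by
    intro a b ha hb
    by_contra hno
    push Not at hno
    let φ : Bool × Bool × F → W := fun p => ⟨cond p.1 a 1 * cond p.2.1 b 1 * p.2.2, by
      refine W.mul_mem (W.mul_mem ?_ ?_) (hFW p.2.2.2)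
      · cases p.1 <;> simp [ha]
      · cases p.2.1 <;> simp [hb]⟩
    have hs : Function.Surjective φ := by
      rintro ⟨w, hw⟩
      obtain ⟨f, hf, h⟩ := hno w hw
      by_cases h1 : w = f
      · exact ⟨(false, false, ⟨f, hf⟩), Subtype.ext (by simp [φ, h1])⟩
      by_cases h2 : w = a * f
      · exact ⟨(true, false, ⟨f, hf⟩), Subtype.ext (by simp [φ, h2])⟩
      by_cases h3 : w = b * f
      · exact ⟨(false, true, ⟨f, hf⟩), Subtype.ext (by simp [φ, h3])⟩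
      exact ⟨(true, true, ⟨f, hf⟩), Subtype.ext (h h1 h2 h3).symm⟩
    have := Nat.card_le_card_of_surjective φ hs
    rw [Nat.card_prod, Nat.card_prod, Nat.card_eq_fintype_card (α := Bool), Fintype.card_bool] at this
    have := Nat.card_pos (α := F)
    omega
  have hcancel : ∀ x ∈ W, ∀ z, x * z ∈ F → ∃ f ∈ F, z = x * f := fun x hx z h =>
    ⟨(x * x)⁻¹ * (x * z), F.mul_mem (F.inv_mem (hsq x hx)) h, by group⟩
  obtain ⟨a, ha, ha'⟩ := hlarge 1 1 W.one_mem W.one_mem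
  have haF : a ∉ F := fun h => (ha' a h).1 rfl
  obtain ⟨b, hb, hb'⟩ := hlarge a a ha ha
  have hbF : b ∉ F := fun h => (hb' b h).1 rfl
  obtain ⟨d, hd, hd'⟩ := hlarge a b ha hb
  have hdF : d ∉ F := fun h => (hd' d h).1 rfl
  have habF : a * b ∉ F := fun h => by
    obtain ⟨f, hf, he⟩ := hcancel a ha b h
    exact (hb' f hf).2.1 he
  have hadF : a * d ∉ F := fun h => by
    obtain ⟨f, hf, he⟩ := hcancel a ha d h
    exact (hd' f hf).2.1 he
  have hbdF : b * d ∉ F := fun h => by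
    obtain ⟨f, hf, he⟩ := hcancel b hb d h
    exact (hd' f hf).2.2.1 he
  have habdF : a * (b * d) ∉ F := fun h => by
    rw [← mul_assoc] at h
    obtain ⟨f, hf, he⟩ := hcancel (a * b) (W.mul_mem ha hb) d h
    exact (hd' f hf).2.2.2 he
  have hcF : c ∈ F := hc a ha haF ▸ hsq a ha
  have hcomm : ∀ x ∈ W, ∀ z ∈ W, ⁅x, z⁆ ∈ F := by
    intro x hx z hz
    have h1 : ⁅x, z⁆ = x * z * (x * z) * (z⁻¹ * (x⁻¹ * x⁻¹) * z) * (z⁻¹ * z⁻¹) := by
      rw [commutatorElement_def]; group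
    rw [h1]
    refine F.mul_mem (F.mul_mem (hsq _ (W.mul_mem hx hz)) ?_) (hsq _ (W.inv_mem hz))
    rw [mul_assoc, ← hFc z hz _ (hsq _ (W.inv_mem hx)), inv_mul_cancel_left]
    exact hsq _ (W.inv_mem hx)
  have hval : ∀ x ∈ W, ∀ z ∈ W, x ∉ F → z ∉ F → x * z ∉ F → ⁅z, x⁆ = c := by
    intro x hx z hz h1 h2 h3
    have h := hc _ (W.mul_mem hx hz) h3
    have e : x * z * (x * z) = ⁅z, x⁆ * (x * x) * (z * z) := by
      calc x * z * (x * z) = x * ⁅z, x⁆ * x * z * z := by rw [commutatorElement_def]; group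
        _ = ⁅z, x⁆ * x * x * z * z := by rw [hFc x hx _ (hcomm z hz x hx)]
        _ = _ := by group
    rw [e, hc x hx h1, hc z hz h2, mul_assoc, hFe c hcF, mul_one] at h
    exact h
  have k1 := hval a ha b hb haF hbF habF
  have k2 := hval a ha d hd haF hdF hadF
  have k3 := hval a ha (b * d) (W.mul_mem hb hd) haF hbdF habdF
  have e : ⁅b * d, a⁆ = b * ⁅d, a⁆ * b⁻¹ * ⁅b, a⁆ := by
    rw [commutatorElement_def, commutatorElement_def, commutatorElement_def]; group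
  rw [e, k1, k2, hFc b hb c hcF, mul_inv_cancel_right, hFe c hcF] at k3
  exact k3.symm

theorem inv_mod_seven : ∀ k < 7, k ≠ 0 → ∃ j < 7, k * j % 7 = 1 := by decide

/-- An element of order seven moving every class. -/
theorem exists_shift (τ : G →* L3) (hτ : Function.Surjective τ) : ∃ Y : G, τ Y = y₀ := hτ y₀

/-- Squares on a natural section: trivial or a bijection with linear inverse. -/
theorem sq_natural [Finite G] (D : Data G) (W F L : Subgroup G) [F.Normal] [L.Normal] [W.Normal] (hFW : F ≤ W)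
    (hLF : L ≤ F) (hL8 : Nat.card L = 8) (hFc : ∀ x ∈ W, ∀ f ∈ F, x * f = f * x)
    (hFe : ∀ f ∈ F, f * f = 1) (hsq : ∀ a ∈ W, a * a ∈ L) (hQL : ∀ x ∈ D.π.ker, ∀ l ∈ L, x * l = l * x)
    (hcard : 8 * Nat.card F ≤ Nat.card W)
    (τ : G →* L3) (c : W → (Fin 3 → ZMod 2)) (hτ : Function.Surjective τ) (hker : τ.ker = D.π.ker)
    (hc : Function.Surjective c) (hadd : ∀ a b, c (a * b) = c a + c b) (hc0 : ∀ a : W, c a = 0 ↔ (a : G) ∈ F)
    (hequiv : ∀ (g : G) (a b : W), (b : G) = g * (a : G) * g⁻¹ →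
      c b = (τ g : Matrix (Fin 3) (Fin 3) (ZMod 2)) *ᵥ c a) :
    (∀ a ∈ W, a * a = 1) ∨
      ((∀ a ∈ W, ∀ b ∈ W, a * b = b * a) ∧ (∀ a ∈ W, a * a = 1 → a ∈ F) ∧ ∀ l ∈ L, ∃ a ∈ W, a * a = l) := by
  classical
  have hsub : ∀ a b : W, c a = c b → ∃ f ∈ F, (b : G) = a * f := by
    intro a b h
    refine ⟨(a : G)⁻¹ * b, ?_, by group⟩
    refine (hc0 (a⁻¹ * b)).1 ?_
    have h0 : c 1 = 0 := (hc0 1).2 F.one_mem
    have h1 := hadd a a⁻¹
    rw [mul_inv_cancel, h0] at h1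
    rw [hadd, ← h, add_comm]; exact h1.symm
  have hwell : ∀ a b : W, c a = c b → (b : G) * b = (a : G) * a := by
    intro a b h
    obtain ⟨f, hf, e⟩ := hsub a b h
    calc (b : G) * b = a * (f * a) * f := by rw [e]; group
      _ = a * (a * f) * f := by rw [hFc a a.2 f hf]
      _ = (a : G) * a * (f * f) := by group
      _ = _ := by rw [hFe f hf, mul_one]
  obtain ⟨s, hs⟩ := hc.hasRightInverse
  obtain ⟨q, hq⟩ : ∃ q : (Fin 3 → ZMod 2) → G, ∀ a : W, q (c a) = (a : G) * a :=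
    ⟨fun v => (s v : G) * s v, fun a => hwell a (s (c a)) (hs _).symm⟩
  have hqL : ∀ v, q v ∈ L := fun v => by obtain ⟨a, rfl⟩ := hc v; rw [hq]; exact hsq a a.2
  have hq0 : q 0 = 1 := by
    rw [← (hc0 1).2 F.one_mem, hq]; simp
  have hqg : ∀ (g : G) v, g * q v * g⁻¹ = q ((τ g : Matrix (Fin 3) (Fin 3) (ZMod 2)) *ᵥ v) := by
    intro g v
    obtain ⟨a, rfl⟩ := hc v
    let b : W := ⟨g * a * g⁻¹, (inferInstance : W.Normal).conj_mem a a.2 g⟩
    rw [← hequiv g a b rfl, hq, hq]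
    show g * ((a : G) * a) * g⁻¹ = g * a * g⁻¹ * (g * a * g⁻¹)
    group
  obtain ⟨Y, hY⟩ := hτ y₀
  have hpow : ∀ (n : ℕ) v, Y ^ n * q v * (Y ^ n)⁻¹ = q (((y₀ ^ n : L3) : Matrix (Fin 3) (Fin 3) (ZMod 2)) *ᵥ v) := by
    intro n v
    rw [hqg, map_pow, hY]
  by_cases hinj : Function.Injective q
  swap
  · left
    rw [Function.Injective] at hinj
    push Not at hinj
    obtain ⟨v, w, hvw, hne⟩ := hinj
    -- one orbit, one value
    obtain ⟨z, hz⟩ : ∃ z, ∀ v, v ≠ 0 → q v = z := by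
      by_cases hv : v = 0
      · subst hv
        have hw : w ≠ 0 := Ne.symm hne
        refine ⟨1, fun x hx => ?_⟩
        obtain ⟨i, hi⟩ := y₀_transitive w x hw hx
        rw [← hi, ← hpow, ← hvw, hq0, mul_one, mul_inv_cancel]
      by_cases hw : w = 0
      · subst hw
        refine ⟨1, fun x hx => ?_⟩
        obtain ⟨i, hi⟩ := y₀_transitive v x hv hx
        rw [← hi, ← hpow, hvw, hq0, mul_one, mul_inv_cancel]
      obtain ⟨k, hk⟩ := y₀_transitive v w hv hw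
      have hk0 : (k : ℕ) ≠ 0 := fun h => hne (by rw [← hk, h, pow_zero]; simp)
      obtain ⟨j, -, hj⟩ := inv_mod_seven k k.2 hk0
      set C : Subgroup G := Subgroup.centralizer {q v} with hC
      have hm : ∀ {g : G}, g * q v * g⁻¹ = q v → g ∈ C := fun h =>
        Subgroup.mem_centralizer_singleton_iff.2 (mul_inv_eq_iff_eq_mul.1 h)
      have h1 : Y ^ (k : ℕ) ∈ C := hm (by rw [hpow, hk, hvw])
      have h7 : Y ^ 7 ∈ C := Subgroup.mem_centralizer_singleton_iff.2 (hQL _ (by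
        rw [← hker, MonoidHom.mem_ker, map_pow, hY]; exact y₀_facts.1) _ (hqL v))
      have hY1 : Y ∈ C := by
        have h := C.mul_mem (C.pow_mem h1 j) (C.inv_mem (C.pow_mem h7 ((k : ℕ) * j / 7)))
        rw [← pow_mul, ← pow_mul] at h
        have hd := Nat.div_add_mod ((k : ℕ) * j) 7
        rw [hj] at hd
        conv at h => arg 2; arg 1; rw [← hd, pow_add]
        rwa [pow_one, (Commute.pow_left (Commute.refl Y) _).eq, mul_assoc, mul_inv_cancel, mul_one] at h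
      refine ⟨q v, fun x hx => ?_⟩
      obtain ⟨i, hi⟩ := y₀_transitive v x hv hx
      rw [← hi, ← hpow]
      exact mul_inv_eq_iff_eq_mul.2 (Subgroup.mem_centralizer_singleton_iff.1 (C.pow_mem hY1 i))
    have hz1 : z = 1 := sq_const W F hFc hFe (fun a ha => hLF (hsq a ha)) hFW hcard z fun a ha haF => by
      rw [← hz (c ⟨a, ha⟩) fun h => haF ((hc0 ⟨a, ha⟩).1 h), hq]
    intro a ha
    by_cases haF : a ∈ F
    · exact hFe a haF
    · rw [← hz1, ← hz (c ⟨a, ha⟩) fun h => haF ((hc0 ⟨a, ha⟩).1 h), hq]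
  right
  let qL : (Fin 3 → ZMod 2) → L := fun v => ⟨q v, hqL v⟩
  have hqLi : Function.Injective qL := fun u v h => hinj (congrArg Subtype.val h)
  have hqLs : Function.Surjective qL :=
    (Nat.bijective_iff_injective_and_card qL).2 ⟨hqLi, by rw [hL8, Nat.card_eq_fintype_card]; rfl⟩ |>.2
  refine ⟨?_, fun a ha h => ?_, fun l hl => ?_⟩
  rotate_left
  · refine (hc0 ⟨a, ha⟩).1 (hinj ?_)
    rw [hq, hq0]; exact h
  · obtain ⟨v, hv⟩ := hqLs ⟨l, hl⟩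
    obtain ⟨a, rfl⟩ := hc v
    exact ⟨a, a.2, (hq a).symm.trans (congrArg Subtype.val hv)⟩
  intro a ha b hb
  have hcomm : ∀ x ∈ W, ∀ z ∈ W, ⁅x, z⁆ ∈ L := fun x hx z hz => H69.AltFive.comm_mem_of_sq hsq hx hz
  rw [← commutatorElement_eq_one_iff_mul_comm]
  obtain ⟨x, hx⟩ := hqLs ⟨⁅a, b⁆, hcomm a ha b hb⟩
  replace hx : q x = ⁅a, b⁆ := congrArg Subtype.val hx
  by_cases hx0 : x = 0
  · rw [← hx, hx0, hq0]
  exfalso
  have hp : ⁅a, b⁆ ≠ 1 := fun h => hx0 (hinj (hx.trans (h.trans hq0.symm)))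
  set va := c ⟨a, ha⟩ with hva
  set vb := c ⟨b, hb⟩ with hvb
  have hva0 : va ≠ 0 := fun h => hp (commutatorElement_eq_one_iff_mul_comm.2 (hFc b hb a ((hc0 _).1 h)).symm)
  have hvb0 : vb ≠ 0 := fun h => hp (commutatorElement_eq_one_iff_mul_comm.2 (hFc a ha b ((hc0 _).1 h)))
  have hne : va ≠ vb := fun h => hp (by
    obtain ⟨f, hf, e⟩ := hsub ⟨a, ha⟩ ⟨b, hb⟩ h
    rw [commutatorElement_eq_one_iff_mul_comm]
    change b = a * f at e
    rw [e, mul_assoc a f a, ← hFc a ha f hf])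
  have hbi : (⁅a, b⁆ : G)⁻¹ = ⁅a, b⁆ := inv_eq_of_mul_eq_one_right (hFe _ (hLF (hcomm a ha b hb)))
  have hpol : q (vb + va) = ⁅a, b⁆ * q vb * q va := by
    rw [hva, hvb, ← hadd, hq, hq, hq]
    show b * a * (b * a) = ⁅a, b⁆ * (b * b) * (a * a)
    calc b * a * (b * a) = b * ⁅a, b⁆ * b * a * a := by rw [commutatorElement_def]; group
      _ = ⁅a, b⁆ * b * b * a * a := by rw [hFc b hb _ (hLF (hcomm a ha b hb))]
      _ = _ := by group
  have hqc : ∀ u v, q u * q v = q v * q u := fun u v => (hFc _ (hFW (hLF (hqL u))) _ (hLF (hqL v)))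
  have hqq : ∀ u, q u * q u = 1 := fun u => hFe _ (hLF (hqL u))
  rw [← hx] at hpol
  have hxb : x ≠ vb := fun h => by
    rw [h, hqq, one_mul] at hpol
    exact hvb0 (add_eq_right.1 (hinj hpol))
  have hxa : x ≠ va := fun h => by
    rw [h, mul_assoc, hqc vb va, ← mul_assoc, hqq, one_mul] at hpol
    exact hva0 (add_eq_left.1 (hinj hpol))
  have hxab : x ≠ va + vb := fun h => by
    rw [h, add_comm va vb, mul_assoc, left_eq_mul] at hpol
    exact hne (hinj ((mul_eq_one_iff_eq_inv.1 hpol).trans (inv_eq_of_mul_eq_one_right (hqq va)))).symm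
  obtain ⟨hdet, h1, h2, h3, -⟩ := third_point va vb x hva0 hx0 hxa hxb hxab hvb0 (Ne.symm hne)
  obtain ⟨g, hg⟩ := hτ ⟨_, hdet⟩
  have hfix : ∀ a (ha : a ∈ W), (τ g : Matrix (Fin 3) (Fin 3) (ZMod 2)) *ᵥ c ⟨a, ha⟩ = c ⟨a, ha⟩ →
      ∃ f ∈ F, g * a * g⁻¹ = a * f := by
    intro a ha h
    let a' : W := ⟨g * a * g⁻¹, (inferInstance : W.Normal).conj_mem a ha g⟩
    exact hsub ⟨a, ha⟩ a' (((hequiv g ⟨a, ha⟩ a' rfl).trans h).symm)
  obtain ⟨f, hf, hf'⟩ := hfix a ha (by rw [hg]; exact h1)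
  obtain ⟨k, hk, hk'⟩ := hfix b hb (by rw [hg]; exact h2)
  refine h3 (hinj ?_)
  show q ((⟨_, hdet⟩ : L3).1 *ᵥ x) = q x
  rw [← hg, ← hqg, hx, commutatorElement_def]
  have cf : ∀ z ∈ W, z * f = f * z := fun z hz => hFc z hz f hf
  have ck : ∀ z ∈ W, z * k = k * z := fun z hz => hFc z hz k hk
  calc g * (a * b * a⁻¹ * b⁻¹) * g⁻¹ = (g * a * g⁻¹) * (g * b * g⁻¹) * (g * a * g⁻¹)⁻¹ * (g * b * g⁻¹)⁻¹ := by group
    _ = a * f * (b * k) * (a * f)⁻¹ * (b * k)⁻¹ := by rw [hf', hk']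
    _ = a * (b * k) * a⁻¹ * (b * k)⁻¹ := by
      rw [mul_inv_rev a f, mul_assoc a f, ← cf (b * k) (W.mul_mem hb (hFW hk))]; group
    _ = a * b * (k * a⁻¹) * (k⁻¹ * b⁻¹) := by group
    _ = _ := by rw [← ck a⁻¹ (W.inv_mem ha)]; group

theorem stab_fix : ∀ x : Fin 3 → ZMod 2, (tr 0 1 : Matrix (Fin 3) (Fin 3) (ZMod 2)) *ᵥ x = x →
    (tr 2 1 : Matrix (Fin 3) (Fin 3) (ZMod 2)) *ᵥ x = x → (tr 1 2 : Matrix (Fin 3) (Fin 3) (ZMod 2)) *ᵥ x = x →
    x = 0 ∨ x = ![1, 0, 0] := by decide +kernel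

theorem stab_e : (tr 0 1 : Matrix (Fin 3) (Fin 3) (ZMod 2)) *ᵥ ![1, 0, 0] = ![1, 0, 0] ∧
    (tr 2 1 : Matrix (Fin 3) (Fin 3) (ZMod 2)) *ᵥ ![1, 0, 0] = ![1, 0, 0] ∧
    (tr 1 2 : Matrix (Fin 3) (Fin 3) (ZMod 2)) *ᵥ ![1, 0, 0] = ![1, 0, 0] ∧
    (tr 1 0 : Matrix (Fin 3) (Fin 3) (ZMod 2)) *ᵥ ![1, 0, 0] ≠ ![1, 0, 0] ∧
    (![1, 0, 0] : Fin 3 → ZMod 2) ≠ 0 := by decide +kernel

/-- Equivariant maps of the natural module. -/
theorem endo_cases (φ : (Fin 3 → ZMod 2) → (Fin 3 → ZMod 2))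
    (hφ : ∀ (m : L3) v, φ ((m : Matrix (Fin 3) (Fin 3) (ZMod 2)) *ᵥ v) = (m : Matrix (Fin 3) (Fin 3) (ZMod 2)) *ᵥ φ v) :
    (∀ v, φ v = 0) ∨ ∀ v, φ v = v := by
  obtain ⟨s1, s2, s3, s4, s5⟩ := stab_e
  have h0 : φ 0 = 0 := by
    have h : ∀ m : L3, (m : Matrix (Fin 3) (Fin 3) (ZMod 2)) *ᵥ φ 0 = φ 0 := fun m => by
      rw [← hφ, Matrix.mulVec_zero]
    rcases stab_fix _ (h _) (h _) (h _) with h1 | h1
    · exact h1
    · have := h (tr 1 0)
      rw [h1] at this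
      exact absurd this s4
  have he := stab_fix (φ ![1, 0, 0]) (by rw [← hφ, s1]) (by rw [← hφ, s2]) (by rw [← hφ, s3])
  rcases he with he | he
  · left
    intro v
    by_cases hv : v = 0
    · rw [hv, h0]
    obtain ⟨i, hi⟩ := y₀_transitive _ v s5 hv
    rw [← hi, hφ, he, Matrix.mulVec_zero]
  · right
    intro v
    by_cases hv : v = 0
    · rw [hv, h0]
    obtain ⟨i, hi⟩ := y₀_transitive _ v s5 hv
    rw [← hi, hφ, he]

/-- A commutation with the natural section is trivial or inversion. -/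
theorem comm_dichotomy [Finite G] (W F L : Subgroup G) [W.Normal] (hFW : F ≤ W) (hLF : L ≤ F)
    (hW : ∀ a ∈ W, ∀ b ∈ W, a * b = b * a) (hFe : ∀ f ∈ F, f * f = 1) (hinj : ∀ a ∈ W, a * a = 1 → a ∈ F)
    (hsurj : ∀ l ∈ L, ∃ a ∈ W, a * a = l) (hsq : ∀ a ∈ W, a * a ∈ L)
    (τ : G →* L3) (c : W → (Fin 3 → ZMod 2)) (hτ : Function.Surjective τ) (hc : Function.Surjective c)
    (hadd : ∀ a b, c (a * b) = c a + c b) (hc0 : ∀ a : W, c a = 0 ↔ (a : G) ∈ F)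
    (hequiv : ∀ (g : G) (a b : W), (b : G) = g * (a : G) * g⁻¹ →
      c b = (τ g : Matrix (Fin 3) (Fin 3) (ZMod 2)) *ᵥ c a)
    (u : G) (hu : ∀ g, ∃ w ∈ W, g * u * g⁻¹ = u * w) (huF : ∀ f ∈ F, u * f = f * u)
    (huW : ∀ a ∈ W, ⁅u, a⁆ ∈ L) :
    (∀ a ∈ W, u * a * u⁻¹ = a) ∨ ∀ a ∈ W, u * a * u⁻¹ = a⁻¹ := by
  classical
  obtain ⟨s, hs⟩ := hc.hasRightInverse
  have hsub : ∀ a b : W, c a = c b → ∃ f ∈ F, (b : G) = a * f := by
    intro a b h
    refine ⟨(a : G)⁻¹ * b, (hc0 (a⁻¹ * b)).1 ?_, by group⟩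
    have h1 := hadd a a⁻¹
    rw [mul_inv_cancel, (hc0 1).2 F.one_mem] at h1
    rw [hadd, ← h, add_comm]; exact h1.symm
  have hwell : ∀ a b : W, (a : G) * a = (b : G) * b → c a = c b := by
    intro a b h
    have h1 : ((a : G)⁻¹ * b) * ((a : G)⁻¹ * b) = 1 := by
      calc (a : G)⁻¹ * b * ((a : G)⁻¹ * b) = (a : G)⁻¹ * (b * (a : G)⁻¹) * b := by group
        _ = (a : G)⁻¹ * ((a : G)⁻¹ * b) * b := by rw [hW _ b.2 _ (W.inv_mem a.2)]
        _ = ((a : G) * a)⁻¹ * ((b : G) * b) := by group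
        _ = 1 := by rw [h, inv_mul_cancel]
    have h2 := (hc0 (a⁻¹ * b)).2 (hinj _ (W.mul_mem (W.inv_mem a.2) b.2) h1)
    have h3 := hadd a (a⁻¹ * b)
    rw [mul_inv_cancel_left, h2, add_zero] at h3
    exact h3.symm
  choose r hr hr' using fun a : W => hsurj _ (huW a a.2)
  let φ : (Fin 3 → ZMod 2) → (Fin 3 → ZMod 2) := fun v => c ⟨r (s v), hr (s v)⟩
  have hcomF : ∀ a : W, ∀ f ∈ F, ⁅u, (a : G) * f⁆ = ⁅u, (a : G)⁆ := fun a f hf => by
    calc ⁅u, (a : G) * f⁆ = u * a * (u⁻¹ * (u * f * u⁻¹) * f⁻¹) * (a : G)⁻¹ := by rw [commutatorElement_def]; group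
      _ = _ := by rw [huF f hf, mul_inv_cancel_right, commutatorElement_def]; group
  have hφ : ∀ a : W, φ (c a) = c ⟨r a, hr a⟩ := by
    intro a
    obtain ⟨f, hf, e⟩ := hsub a (s (c a)) (hs _).symm
    refine hwell _ _ ?_
    show r (s (c a)) * r (s (c a)) = r a * r a
    rw [hr', hr', e, hcomF a f hf]
  have heq : ∀ (m : L3) v, φ ((m : Matrix (Fin 3) (Fin 3) (ZMod 2)) *ᵥ v) =
      (m : Matrix (Fin 3) (Fin 3) (ZMod 2)) *ᵥ φ v := by
    intro m v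
    obtain ⟨g, rfl⟩ := hτ m
    obtain ⟨a, rfl⟩ := hc v
    let b : W := ⟨g * a * g⁻¹, (inferInstance : W.Normal).conj_mem a a.2 g⟩
    let d : W := ⟨g * r a * g⁻¹, (inferInstance : W.Normal).conj_mem _ (hr a) g⟩
    rw [← hequiv g a b rfl, hφ, hφ, ← hequiv g ⟨r a, hr a⟩ d rfl]
    refine hwell _ _ ?_
    show r b * r b = g * r a * g⁻¹ * (g * r a * g⁻¹)
    rw [show g * r a * g⁻¹ * (g * r a * g⁻¹) = g * (r a * r a) * g⁻¹ by group, hr', hr']
    obtain ⟨w, hw, hwe⟩ := hu g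
    calc ⁅u, (b : G)⁆ = u * (b : G) * u⁻¹ * (b : G)⁻¹ := commutatorElement_def _ _
      _ = (u * w) * (b : G) * (u * w)⁻¹ * (b : G)⁻¹ := by
        rw [mul_inv_rev, mul_assoc u w, hW w hw _ b.2]; group
      _ = (g * u * g⁻¹) * (g * a * g⁻¹) * (g * u * g⁻¹)⁻¹ * (g * a * g⁻¹)⁻¹ := by rw [hwe]
      _ = _ := by rw [commutatorElement_def]; group
  have hr4 : ∀ a ∈ W, a * a * (a * a) = 1 := fun a ha => hFe _ (hLF (hsq a ha))
  rcases endo_cases φ heq with h | h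
  · left
    intro a ha
    have h1 := h (c ⟨a, ha⟩)
    rw [hφ, hc0] at h1
    have h2 := hr' ⟨a, ha⟩
    rw [hFe _ h1] at h2
    exact mul_inv_eq_iff_eq_mul.2 (commutatorElement_eq_one_iff_mul_comm.1 h2.symm)
  · right
    intro a ha
    have h1 := h (c ⟨a, ha⟩)
    rw [hφ] at h1
    obtain ⟨f, hf, e⟩ := hsub _ _ h1
    change a = r ⟨a, ha⟩ * f at e
    have h2 : a * a = ⁅u, a⁆ := by
      have := hr' ⟨a, ha⟩
      calc a * a = r ⟨a, ha⟩ * (f * r ⟨a, ha⟩) * f := (congrArg₂ (· * ·) e e).trans (by group)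
        _ = r ⟨a, ha⟩ * (r ⟨a, ha⟩ * f) * f := by rw [hW _ (hFW hf) _ (hr _)]
        _ = r ⟨a, ha⟩ * r ⟨a, ha⟩ * (f * f) := by group
        _ = ⁅u, a⁆ := by rw [hFe f hf, mul_one, this]
    calc u * a * u⁻¹ = ⁅u, a⁆ * a := by rw [commutatorElement_def]; group
      _ = (a * a * (a * a)) * a⁻¹ := by rw [← h2]; group
      _ = a⁻¹ := by rw [hr4 a ha, one_mul]

/-- Commutators with values in a subgroup centralised by the group vanish on a natural section. -/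
theorem form_zero [Finite G] (W F : Subgroup G) [W.Normal] (hFW : F ≤ W) (hFc : ∀ x ∈ W, ∀ f ∈ F, x * f = f * x)
    (hcent : ∀ a ∈ W, ∀ b ∈ W, ∀ g : G, g * ⁅a, b⁆ = ⁅a, b⁆ * g)
    (τ : G →* L3) (c : W → (Fin 3 → ZMod 2)) (hτ : Function.Surjective τ) (hc : Function.Surjective c)
    (hadd : ∀ a b, c (a * b) = c a + c b) (hc0 : ∀ a : W, c a = 0 ↔ (a : G) ∈ F)
    (hequiv : ∀ (g : G) (a b : W), (b : G) = g * (a : G) * g⁻¹ →
      c b = (τ g : Matrix (Fin 3) (Fin 3) (ZMod 2)) *ᵥ c a) :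
    ∀ a ∈ W, ∀ b ∈ W, a * b = b * a := by
  have hsub : ∀ a b : W, c a = c b → ∃ f ∈ F, (b : G) = a * f := by
    intro a b h
    refine ⟨(a : G)⁻¹ * b, (hc0 (a⁻¹ * b)).1 ?_, by group⟩
    have h1 := hadd a a⁻¹
    rw [mul_inv_cancel, (hc0 1).2 F.one_mem] at h1
    rw [hadd, ← h, add_comm]; exact h1.symm
  intro a ha x hx
  set va := c ⟨a, ha⟩ with hva
  set vx := c ⟨x, hx⟩ with hvx
  by_cases h0 : va = 0
  · exact (hFc x hx a ((hc0 _).1 h0)).symm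
  by_cases h1 : vx = 0
  · exact hFc a ha x ((hc0 _).1 h1)
  by_cases h2 : va = vx
  · obtain ⟨f, hf, e⟩ := hsub ⟨a, ha⟩ ⟨x, hx⟩ h2
    change x = a * f at e
    rw [e, mul_assoc, ← hFc a ha f hf]
  obtain ⟨vb, hb0, hbx, hba, hbs⟩ : ∃ v : Fin 3 → ZMod 2, v ≠ 0 ∧ v ≠ vx ∧ v ≠ va ∧ v ≠ vx + va := by
    by_contra hno
    push Not at hno
    have := Finset.card_le_card (show (Finset.univ : Finset (Fin 3 → ZMod 2)) ⊆ {0, vx, va, vx + va} from
      fun v _ => by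
        simp only [Finset.mem_insert, Finset.mem_singleton]
        by_cases a1 : v = 0; · exact Or.inl a1
        by_cases a2 : v = vx; · exact Or.inr (Or.inl a2)
        by_cases a3 : v = va; · exact Or.inr (Or.inr (Or.inl a3))
        exact Or.inr (Or.inr (Or.inr (hno v a1 a2 a3))))
    have h4 := Finset.card_le_four (a := (0 : Fin 3 → ZMod 2)) (b := vx) (c := va) (d := vx + va)
    simp at this
    omega
  obtain ⟨hdet, f1, f2, -, f3⟩ := third_point vx va vb h1 hb0 hbx hba hbs h0 h2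
  obtain ⟨g, hg⟩ := hτ ⟨_, hdet⟩
  obtain ⟨⟨b, hb⟩, rfl⟩ := hc vb
  have himg : ∀ w (hw : w ∈ W), (τ g : Matrix (Fin 3) (Fin 3) (ZMod 2)) *ᵥ c ⟨w, hw⟩ =
      c ⟨g * w * g⁻¹, (inferInstance : W.Normal).conj_mem w hw g⟩ := fun w hw => (hequiv g ⟨w, hw⟩ _ rfl).symm
  obtain ⟨f, hf, ef⟩ := hsub ⟨a, ha⟩ ⟨_, (inferInstance : W.Normal).conj_mem a ha g⟩ (by
    rw [← himg, hg]; exact f2.symm)
  obtain ⟨k, hk, ek⟩ := hsub (⟨b, hb⟩ * ⟨x, hx⟩) ⟨_, (inferInstance : W.Normal).conj_mem b hb g⟩ (by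
    rw [← himg, hg, hadd]; exact f3.symm)
  change g * a * g⁻¹ = a * f at ef
  change g * b * g⁻¹ = b * x * k at ek
  have hcba : ⁅b, a⁆ = ⁅b * x * k, a * f⁆ := by
    rw [← ef, ← ek]
    have h := hcent b hb a ha g
    calc ⁅b, a⁆ = g * ⁅b, a⁆ * g⁻¹ := by rw [h, mul_inv_cancel_right]
      _ = _ := by rw [commutatorElement_def, commutatorElement_def]; group
  have hexp : ⁅b * x * k, a * f⁆ = b * ⁅x, a⁆ * b⁻¹ * ⁅b, a⁆ := by
    have ck : ∀ z ∈ W, z * k = k * z := fun z hz => hFc z hz k hk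
    have cf : ∀ z ∈ W, z * f = f * z := fun z hz => hFc z hz f hf
    calc ⁅b * x * k, a * f⁆ = b * x * (k * (a * f)) * k⁻¹ * x⁻¹ * b⁻¹ * (a * f)⁻¹ := by
          rw [commutatorElement_def]; group
      _ = b * x * (a * f) * x⁻¹ * b⁻¹ * f⁻¹ * a⁻¹ := by
          rw [← ck _ (W.mul_mem ha (hFW hf))]; group
      _ = b * x * a * (f * (x⁻¹ * b⁻¹)) * f⁻¹ * a⁻¹ := by group
      _ = b * x * a * (x⁻¹ * b⁻¹) * a⁻¹ := by
          rw [← cf _ (W.mul_mem (W.inv_mem hx) (W.inv_mem hb))]; group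
      _ = _ := by rw [commutatorElement_def, commutatorElement_def]; group
  rw [hexp, hcent x hx a ha b |>.trans rfl, mul_inv_cancel_right] at hcba
  exact (commutatorElement_eq_one_iff_mul_comm.1 (mul_eq_right.1 hcba.symm)).symm

end H69.LinThree
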