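import Cfsg.Agent.H69.LinThreeSection
import Cfsg.Agent.H69.LinThreeSquares
import Cfsg.Agent.H69.LinThreeCyclic
import Mathlib

/-!
Layers of order eight and sixteen above a minimal normal subgroup.
-/

set_option autoImplicit false

namespace H69.LinThree

open scoped commutatorElement Matrix
open H69.AltFive (card_map_mk mk_mem_map comm_mem_of_sq mul_mem_of_index_two)

variable {G : Type*} [Group G]

theorem mk_eq_one {N : Subgroup G} [N.Normal] {x : G} : QuotientGroup.mk' N x = 1 ↔ x ∈ N :=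
  QuotientGroup.eq_one_iff x

/-- The data with another map to the linear group of the same kernel. -/
def Data.with (D : Data G) (τ : G →* L3) (hτ : Function.Surjective τ) (hker : τ.ker = D.π.ker) : Data G where
  π := τ
  surj := hτ
  two := hker ▸ D.two
  rank := D.rank

/-- No elementary abelian subgroup of order thirty-two. -/
theorem big_elem [Finite G] (D : Data G) (W : Subgroup G) (h2 : ∀ a ∈ W, a * a = 1) (h : 32 ≤ Nat.card W) :
    False := by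
  refine SectTools.not_rank D.rank ⊥ (W : Set G) bot_le (fun x hx => Subgroup.mem_bot.2 (h2 x hx))
    (fun x hx z hz => ?_) (fun x _ n hn => by rw [Subgroup.mem_bot.1 hn, mul_one, mul_inv_cancel]; exact Subgroup.one_mem _)
    (by rw [Subgroup.closure_eq, Subgroup.card_bot]; omega)
  rw [Subgroup.mem_bot, commutatorElement_def, inv_eq_of_mul_eq_one_right (h2 x hx),
    inv_eq_of_mul_eq_one_right (h2 z hz)]
  calc x * z * x * z = x * z * (x * z) := by group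
    _ = 1 := h2 _ (W.mul_mem hx hz)

/-- An element of order seven moving an element by a fixed involution fixes it. -/
theorem coset_fix {y v c : G} (hy : y ^ 7 = 1) (hc : y * c = c * y) (hcc : c * c = 1) (h : y * v * y⁻¹ = v * c) :
    c = 1 := by
  have hstep : ∀ n : ℕ, y ^ n * v * (y ^ n)⁻¹ = v * c ^ n := by
    intro n
    induction n with
    | zero => simp
    | succ n ih =>
      have hy' : y * c ^ n = c ^ n * y := (Commute.pow_right hc n).eq
      calc y ^ (n + 1) * v * (y ^ (n + 1))⁻¹ = y * (y ^ n * v * (y ^ n)⁻¹) * y⁻¹ := by rw [pow_succ']; group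
        _ = y * v * (c ^ n * y⁻¹) := by rw [ih]; group
        _ = (y * v * y⁻¹) * c ^ n := by
          rw [show c ^ n * y⁻¹ = y⁻¹ * c ^ n from ((show Commute y (c ^ n) from hy').inv_left.eq).symm]; group
        _ = v * c ^ (n + 1) := by rw [h, pow_succ', mul_assoc]
  have h7 := hstep 7
  rw [hy, one_mul, inv_one, mul_one, left_eq_mul] at h7
  calc c = c ^ 7 := by simp only [pow_succ, pow_zero, one_mul, hcc]
    _ = 1 := h7

/-- An elementary group of order sixteen under an element of order seven. -/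
theorem commutator_eight [Finite G] (V : Subgroup G) [V.Normal] (h16 : Nat.card V = 16) (hV2 : ∀ v ∈ V, v * v = 1)
    (hVc : ∀ a ∈ V, ∀ b ∈ V, a * b = b * a) {y : G} (hy7 : y ^ 7 = 1) (hne : ¬ ∀ v ∈ V, y * v = v * y) :
    ∃ (W : Subgroup G) (u : G), W ≤ V ∧ Nat.card W = 8 ∧ (∀ w ∈ W, y * w * y⁻¹ ∈ W) ∧
      (∀ w ∈ W, y * w = w * y → w = 1) ∧ u ∈ V ∧ u ≠ 1 ∧ y * u = u * y ∧ u ∉ W ∧ (∀ v ∈ V, v ∈ W ∨ u * v ∈ W) ∧
      (∀ v ∈ V, y * v = v * y → v = 1 ∨ v = u) ∧ (∀ R : Subgroup G, (∀ v ∈ V, ⁅y, v⁆ ∈ R) → W ≤ R) ∧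
      ∀ a ∈ W, ∀ b ∈ W, a ≠ 1 → b ≠ 1 → ∃ k : ℕ, y ^ k * a * (y ^ k)⁻¹ = b := by
  classical
  haveI : Fact (Nat.Prime 7) := ⟨by norm_num⟩
  haveI : Fact (Nat.Prime 2) := ⟨Nat.prime_two⟩
  have hN : ∀ g : G, ∀ v ∈ V, g * v * g⁻¹ ∈ V := fun g v hv => (inferInstance : V.Normal).conj_mem v hv g
  have hV : IsPGroup 2 V := IsPGroup.of_card (n := 4) (by rw [h16]; rfl)
  rcases fpf_seven V hV h16.le y (hN y) (fun v _ => by rw [hy7]; group) hne with ⟨h, -⟩ | ⟨-, hC2⟩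
  · omega
  obtain ⟨u, hu, hu1⟩ := (Subgroup.bot_or_exists_ne_one (V ⊓ Subgroup.centralizer {y})).resolve_left (fun h => by
    rw [h, Subgroup.card_bot] at hC2; omega)
  have huy : y * u = u * y := (Subgroup.mem_centralizer_singleton_iff.1 hu.2).symm
  obtain ⟨φ, hφ, hk, hmul⟩ := comm_map V hVc y
  rw [hk, hC2, h16] at hmul
  set W := φ.range.map V.subtype with hW
  have hWV : W ≤ V := Subgroup.map_subtype_le _
  have hW8 : Nat.card W = 8 := by rw [hW, Subgroup.card_map_of_injective V.subtype_injective]; omega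
  have hWy : ∀ w ∈ W, y * w * y⁻¹ ∈ W := by
    rintro _ ⟨_, ⟨v, rfl⟩, rfl⟩
    refine ⟨φ ⟨y * v * y⁻¹, hN y v v.2⟩, ⟨_, rfl⟩, ?_⟩
    rw [Subgroup.coe_subtype, hφ, hφ]
    show ⁅y, y * (v : G) * y⁻¹⁆ = y * ⁅y, (v : G)⁆ * y⁻¹
    rw [commutatorElement_def, commutatorElement_def]; group
  have hWmove : ¬ ∀ w ∈ W, y * w = w * y := fun h => by
    have hle : W ≤ V ⊓ Subgroup.centralizer {y} := fun w hw =>
      ⟨hWV hw, Subgroup.mem_centralizer_singleton_iff.2 (h w hw).symm⟩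
    have := Subgroup.card_le_of_le hle
    rw [hW8, hC2] at this
    omega
  obtain ⟨-, hWfix⟩ := (fpf_seven W (hV.to_le hWV) (by rw [hW8]; norm_num) y hWy (fun v _ => by rw [hy7]; group)
    hWmove).resolve_right (fun h => by omega)
  have huW : u ∉ W := fun h => hu1 (hWfix u h huy)
  have hcoset : ∀ v ∈ V, v ∈ W ∨ u * v ∈ W := by
    intro v hv
    by_cases h : v ∈ W
    · exact Or.inl h
    right
    have hidx : (W.subgroupOf V).index = 2 := by
      have h := Subgroup.card_mul_index (W.subgroupOf V)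
      rw [Nat.card_congr (Subgroup.subgroupOfEquivOfLe hWV).toEquiv, hW8, h16] at h
      omega
    exact Subgroup.mem_subgroupOf.1 ((Subgroup.mul_mem_iff_of_index_two hidx (a := ⟨u, hu.1⟩) (b := ⟨v, hv⟩)).2
      (iff_of_false (fun h' => huW h') (fun h' => h h')))
  refine ⟨W, u, hWV, hW8, hWy, hWfix, hu.1, hu1, huy, huW, hcoset, fun v hv hvy => ?_, fun R hR => ?_, ?_⟩
  · rcases hcoset v hv with h | h
    · exact Or.inl (hWfix v h hvy)
    · refine Or.inr ?_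
      have h1 := hWfix _ h (by rw [← mul_assoc, huy, mul_assoc, hvy, mul_assoc])
      calc v = u * u * v := by rw [hV2 u hu.1, one_mul]
        _ = u := by rw [mul_assoc, h1, mul_one]
  · rintro _ ⟨_, ⟨v, rfl⟩, rfl⟩
    rw [Subgroup.coe_subtype, hφ]
    exact hR v v.2
  intro a ha b hb ha1 hb1
  have hpow : ∀ n : ℕ, ∀ w ∈ W, y ^ n * w * (y ^ n)⁻¹ ∈ W := by
    intro n
    induction n with
    | zero => intro w hw; simpa using hw
    | succ n ih =>
      intro w hw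
      rw [show y ^ (n + 1) * w * (y ^ (n + 1))⁻¹ = y * (y ^ n * w * (y ^ n)⁻¹) * y⁻¹ by rw [pow_succ']; group]
      exact hWy _ (ih w hw)
  set C : Subgroup G := Subgroup.centralizer {a} with hC
  let f : Fin 7 → {w : W // (w : G) ≠ 1} := fun i =>
    ⟨⟨_, hpow i a ha⟩, fun h => ha1 (conj_eq_one_iff.1 h)⟩
  have hf : Function.Injective f := by
    intro i j hij
    have h : y ^ (i : ℕ) * a * (y ^ (i : ℕ))⁻¹ = y ^ (j : ℕ) * a * (y ^ (j : ℕ))⁻¹ :=
      congrArg (fun q => ((q.1 : W) : G)) hij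
    by_contra hne
    obtain ⟨k, hk0, hk7, hk⟩ : ∃ k, k ≠ 0 ∧ k < 7 ∧ y ^ k ∈ C := by
      refine ⟨((i : ℕ) + (7 - (j : ℕ))) % 7, ?_, Nat.mod_lt _ (by norm_num), ?_⟩
      · have := i.2; have := j.2; have : (i : ℕ) ≠ j := fun h => hne (Fin.ext h); omega
      · have hy : y ^ (((i : ℕ) + (7 - (j : ℕ))) % 7) = (y ^ (j : ℕ))⁻¹ * y ^ (i : ℕ) := by
          rw [← pow_eq_pow_mod _ hy7, eq_inv_mul_iff_mul_eq, ← pow_add,
            show (j : ℕ) + ((i : ℕ) + (7 - (j : ℕ))) = (i : ℕ) + 7 by have := j.2; omega, pow_add, hy7, mul_one]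
        rw [hy, hC, Subgroup.mem_centralizer_singleton_iff]
        calc (y ^ (j : ℕ))⁻¹ * y ^ (i : ℕ) * a = (y ^ (j : ℕ))⁻¹ * (y ^ (i : ℕ) * a * (y ^ (i : ℕ))⁻¹) * y ^ (i : ℕ) := by
              group
          _ = (y ^ (j : ℕ))⁻¹ * (y ^ (j : ℕ) * a * (y ^ (j : ℕ))⁻¹) * y ^ (i : ℕ) := by rw [h]
          _ = a * ((y ^ (j : ℕ))⁻¹ * y ^ (i : ℕ)) := by group
    obtain ⟨l, -, hl⟩ := inv_mod_seven k hk7 hk0
    have hy1 := C.pow_mem hk l
    rw [← pow_mul, pow_eq_pow_mod _ hy7, hl, pow_one] at hy1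
    exact ha1 (hWfix a ha (Subgroup.mem_centralizer_singleton_iff.1 hy1))
  have hcard : Nat.card {w : W // (w : G) ≠ 1} = 7 := by
    haveI : Fintype W := Fintype.ofFinite _
    rw [Nat.card_eq_fintype_card,
      Fintype.card_congr (Equiv.subtypeEquivRight fun w : W => (show (w : G) ≠ 1 ↔ w ≠ 1 from not_congr
        ⟨fun h => Subtype.ext h, fun h => by rw [h]; rfl⟩)),
      Fintype.card_subtype_compl, Fintype.card_subtype_eq, ← Nat.card_eq_fintype_card, hW8]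
  have hsurj := ((Nat.bijective_iff_injective_and_card f).2 ⟨hf, by rw [hcard, Nat.card_eq_fintype_card]; rfl⟩).2
  obtain ⟨i, hi⟩ := hsurj ⟨⟨b, hb⟩, hb1⟩
  exact ⟨i, congrArg (fun q => ((q.1 : W) : G)) hi⟩

/-- Fixed points of an element of order seven on a natural section. -/
theorem fix_quot [Finite G] (D : Data G) (W F : Subgroup G) [W.Normal] [F.Normal] (hFW : F ≤ W) (hWQ : W ≤ D.π.ker)
    (hcard : Nat.card W = 8 * Nat.card F) {y : G} (hy7 : y ^ 7 = 1)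
    (hmove : ∃ a ∈ W, ⁅y, a⁆ ∉ F) : ∀ a ∈ W, ⁅y, a⁆ ∈ F → a ∈ F := by
  haveI : (W.map (QuotientGroup.mk' F)).Normal := (inferInstance : W.Normal).map _ (QuotientGroup.mk'_surjective F)
  set V := W.map (QuotientGroup.mk' F) with hV
  have h8 : Nat.card V = 8 := by
    have h := card_map_mk hFW
    rw [hcard] at h
    exact Nat.eq_of_mul_eq_mul_right Nat.card_pos h
  have hiff : ∀ a : G, QuotientGroup.mk' F y * QuotientGroup.mk' F a = QuotientGroup.mk' F a * QuotientGroup.mk' F y ↔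
      ⁅y, a⁆ ∈ F := fun a => by
    rw [← commutatorElement_eq_one_iff_mul_comm, ← map_commutatorElement, mk_eq_one]
  obtain ⟨a₀, ha₀, ha₀'⟩ := hmove
  haveI : Fact (Nat.Prime 2) := ⟨Nat.prime_two⟩
  obtain ⟨-, hfix⟩ := (fpf_seven V (IsPGroup.of_card (n := 3) (by rw [h8]; rfl)) (by rw [h8]; norm_num)
    (QuotientGroup.mk' F y) (fun v hv => (inferInstance : V.Normal).conj_mem v hv _)
    (fun v _ => by rw [← map_pow, hy7, map_one]; group)
    (fun h => ha₀' ((hiff a₀).1 (h _ ⟨a₀, ha₀, rfl⟩)))).resolve_right (fun h => by omega)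
  exact fun a ha hc => mk_eq_one.1 (hfix _ ⟨a, ha, rfl⟩ ((hiff a).2 hc))

/-- Squares fixed by the whole group vanish on a natural section. -/
theorem sq_fixed [Finite G] (W F : Subgroup G) [W.Normal] (hFc : ∀ x ∈ W, ∀ f ∈ F, x * f = f * x)
    (hFe : ∀ f ∈ F, f * f = 1) (hsq : ∀ a ∈ W, a * a ∈ F) (hFW : F ≤ W) (hcard : 8 * Nat.card F ≤ Nat.card W)
    (hfixed : ∀ a ∈ W, ∀ g : G, g * (a * a) = a * a * g)
    (τ : G →* L3) (c : W → (Fin 3 → ZMod 2)) (hτ : Function.Surjective τ) (hc : Function.Surjective c)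
    (hadd : ∀ a b, c (a * b) = c a + c b) (hc0 : ∀ a : W, c a = 0 ↔ (a : G) ∈ F)
    (hequiv : ∀ (g : G) (a b : W), (b : G) = g * (a : G) * g⁻¹ →
      c b = (τ g : Matrix (Fin 3) (Fin 3) (ZMod 2)) *ᵥ c a) : ∀ a ∈ W, a * a = 1 := by
  classical
  intro a ha
  by_cases haF : a ∈ F
  · exact hFe a haF
  refine sq_const W F hFc hFe hsq hFW hcard (a * a) fun b hb hbF => ?_
  obtain ⟨i, hi⟩ := y₀_transitive (c ⟨a, ha⟩) (c ⟨b, hb⟩) (fun h => haF ((hc0 ⟨a, ha⟩).1 h))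
    (fun h => hbF ((hc0 ⟨b, hb⟩).1 h))
  obtain ⟨g, hg⟩ := hτ (y₀ ^ (i : ℕ))
  let a' : W := ⟨g * a * g⁻¹, (inferInstance : W.Normal).conj_mem a ha g⟩
  have hcc : c a' = c ⟨b, hb⟩ := by rw [hequiv g ⟨a, ha⟩ a' rfl, hg, hi]
  obtain ⟨f, hf, hbe⟩ : ∃ f ∈ F, b = g * a * g⁻¹ * f := by
    refine ⟨(g * a * g⁻¹)⁻¹ * b, (hc0 (a'⁻¹ * ⟨b, hb⟩)).1 ?_, by group⟩
    have h1 := hadd a' a'⁻¹
    rw [mul_inv_cancel, (hc0 1).2 F.one_mem] at h1
    rw [hadd, ← hcc, add_comm]; exact h1.symm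
  rw [hbe]
  calc g * a * g⁻¹ * f * (g * a * g⁻¹ * f) = g * a * g⁻¹ * (f * (g * a * g⁻¹)) * f := by group
    _ = g * a * g⁻¹ * (g * a * g⁻¹ * f) * f := by rw [hFc _ a'.2 f hf]
    _ = g * (a * a) * g⁻¹ * (f * f) := by group
    _ = a * a := by rw [hfixed a ha g, hFe f hf, mul_one, mul_inv_cancel_right]

/-- The homocyclic kernel is impossible. -/
theorem homocyclic_contra [Finite G] (D : Data G) (M : Subgroup G) [M.Normal] (hMQ : M ≤ D.π.ker)
    (hQ : Nat.card D.π.ker = 64) (hM : Nat.card M = 8) (hab : ∀ a ∈ D.π.ker, ∀ b ∈ D.π.ker, a * b = b * a)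
    (hsq : ∀ a ∈ D.π.ker, a * a ∈ M) (hinj : ∀ a ∈ D.π.ker, a * a = 1 → a ∈ M) (hMe : ∀ f ∈ M, f * f = 1)
    {y : G} (hy : D.π y ≠ 1) (hfix : ∀ a ∈ D.π.ker, ⁅y, a⁆ ∈ M → a ∈ M) : False := by
  haveI : D.π.ker.Normal := MonoidHom.normal_ker D.π
  obtain ⟨τ, c, hτ, hker, hc, hadd, hc0, hequiv⟩ := natural D D.π.ker M hMQ le_rfl (by omega) hsq
    (fun x hx a ha => comm_mem_of_sq hsq hx ha) hy hfix
  refine cyclic_case (D.with τ hτ hker) D.π.ker M hker.ge hMQ hQ hM hab hsq hinj hMe c hc hadd hc0 hequiv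
    fun g hg => ?_
  rw [← hker, MonoidHom.mem_ker]
  show τ (g * g * (g * g)) = 1
  rw [map_mul, map_mul, show τ g = g₀ from hg, g₀_facts.2.1]
  exact g₀_facts.2.2.1

/-- A fixed involution beside the module. -/
theorem central_contra [Finite G] (D : Data G) (M Ω : Subgroup G) [M.Normal] (hMΩ : M ≤ Ω)
    (hΩQ : Ω ≤ D.π.ker) (hQ : Nat.card D.π.ker = 128) (hM : Nat.card M = 8) (hΩ : Nat.card Ω = 16)
    (hab : ∀ a ∈ D.π.ker, ∀ b ∈ D.π.ker, a * b = b * a) (hsq : ∀ a ∈ D.π.ker, a * a ∈ M)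
    (hinj : ∀ a ∈ D.π.ker, a * a = 1 → a ∈ Ω) (hΩe : ∀ f ∈ Ω, f * f = 1) {y : G} (hy : D.π y ≠ 1)
    (hfix : ∀ a ∈ D.π.ker, ⁅y, a⁆ ∈ Ω → a ∈ Ω) (u : G) (hu : u ∈ Ω) (huM : u ∉ M) (hcent : ∀ g, g * u = u * g) :
    False := by
  classical
  let U : Subgroup G :=
    { carrier := {x | x = 1 ∨ x = u}
      one_mem' := Or.inl rfl
      mul_mem' := by
        rintro x z (rfl | rfl) (rfl | rfl)
        exacts [Or.inl (one_mul 1), Or.inr (one_mul _), Or.inr (mul_one _), Or.inl (hΩe _ hu)]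
      inv_mem' := by
        rintro x (rfl | rfl)
        exacts [Or.inl inv_one, Or.inr (inv_eq_of_mul_eq_one_right (hΩe _ hu))] }
  have hu1 : u ≠ 1 := fun h => huM (h ▸ M.one_mem)
  haveI : U.Normal := ⟨fun x hx g => by
    rcases hx with rfl | rfl
    · exact Or.inl (by group)
    · exact Or.inr (by rw [hcent, mul_inv_cancel_right])⟩
  have hUQ : U ≤ D.π.ker := by rintro x (rfl | rfl); exacts [D.π.ker.one_mem, hΩQ hu]
  have hU2 : Nat.card U = 2 := by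
    refine le_antisymm ?_ ?_
    · have := Nat.card_le_card_of_surjective (fun i : Bool => (cond i ⟨u, Or.inr rfl⟩ 1 : U)) (by
        rintro ⟨x, rfl | rfl⟩
        exacts [⟨false, rfl⟩, ⟨true, rfl⟩])
      simpa using this
    · have := Nat.card_le_card_of_injective (fun i : Bool => (cond i ⟨u, Or.inr rfl⟩ 1 : U)) (by
        intro i j h
        have h' := congrArg Subtype.val h
        cases i <;> cases j <;> first | rfl | exact absurd h' hu1 | exact absurd h'.symm hu1)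
      simpa using this
  -- `Ω` is the product
  have hdec : ∀ x ∈ Ω, ∃ m ∈ M, ∃ v ∈ U, x = m * v := by
    intro x hx
    by_cases h : x ∈ M
    · exact ⟨x, h, 1, U.one_mem, (mul_one x).symm⟩
    · exact ⟨x * u, mul_mem_of_index_two hMΩ (by omega) hx h hu huM, u, Or.inr rfl,
        by rw [mul_assoc, hΩe u hu, mul_one]⟩
  set q := QuotientGroup.mk' U with hq
  haveI : (M.map q).Normal := (inferInstance : M.Normal).map _ (QuotientGroup.mk'_surjective U)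
  have hkq : (D.quot U hUQ).π.ker = D.π.ker.map q := D.quot_ker U hUQ
  have hM' : ∀ x ∈ Ω, q x ∈ M.map q := by
    intro x hx
    obtain ⟨m, hm, v, hv, rfl⟩ := hdec x hx
    exact ⟨m, hm, by rw [map_mul, mk_eq_one.2 hv, mul_one]⟩
  have hMU : ∀ {x}, q x ∈ M.map q → x ∈ Ω := by
    rintro x ⟨m, hm, hmx⟩
    have h := (QuotientGroup.eq (s := U)).1 hmx
    have hUΩ : U ≤ Ω := by rintro z (rfl | rfl); exacts [Ω.one_mem, hu]
    simpa using Ω.mul_mem (hMΩ hm) (hUΩ h)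
  refine homocyclic_contra (D.quot U hUQ) (M.map q) (hkq ▸ Subgroup.map_mono (hMΩ.trans hΩQ)) ?_ ?_ ?_ ?_ ?_ ?_
    (y := q y) hy ?_
  · have h := card_map_mk hUQ
    rw [hU2, hQ] at h
    rw [hkq]; change Nat.card (D.π.ker.map q) * 2 = 128 at h; omega
  · rw [← hM]
    refine (Nat.card_eq_of_bijective (fun m : M => (⟨q m, m, m.2, rfl⟩ : M.map q)) ⟨?_, ?_⟩).symm
    · intro a b h
      have h' := (QuotientGroup.eq (s := U)).1 (congrArg Subtype.val h)
      rcases h' with h' | h'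
      · exact Subtype.ext (inv_mul_eq_one.1 h')
      · exact absurd (h' ▸ M.mul_mem (M.inv_mem a.2) b.2) huM
    · rintro ⟨_, m, hm, rfl⟩; exact ⟨⟨m, hm⟩, rfl⟩
  · rw [hkq]; rintro _ ⟨a, ha, rfl⟩ _ ⟨b, hb, rfl⟩
    rw [← map_mul, ← map_mul, hab a ha b hb]
  · rw [hkq]; rintro _ ⟨a, ha, rfl⟩
    exact ⟨_, hsq a ha, map_mul q a a⟩
  · rw [hkq]; rintro _ ⟨a, ha, rfl⟩ h1
    rw [← map_mul, mk_eq_one] at h1
    rcases h1 with h1 | h1
    · exact hM' a (hinj a ha h1)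
    · exact absurd (h1 ▸ hsq a ha) huM
  · rintro _ ⟨m, hm, rfl⟩
    rw [← map_mul, hΩe m (hMΩ hm), map_one]
  · rw [hkq]; rintro _ ⟨a, ha, rfl⟩ h1
    rw [← map_commutatorElement] at h1
    exact hM' a (hfix a ha (hMU h1))

/-- Eight above a central subgroup of order two. -/
theorem eight_two [Finite G] (D : Data G) (M : Subgroup G) [M.Normal] (hMQ : M ≤ D.π.ker)
    (hMc : ∀ g : G, ∀ f ∈ M, g * f = f * g) (hMe : ∀ f ∈ M, f * f = 1) (hsq : ∀ a ∈ D.π.ker, a * a ∈ M)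
    (hcard : Nat.card D.π.ker = 8 * Nat.card M) {y : G} (hy7 : y ^ 7 = 1) (hy : D.π y ≠ 1)
    (hmove : ∃ a ∈ D.π.ker, ⁅y, a⁆ ∉ M) : ∀ a ∈ D.π.ker, a * a = 1 := by
  haveI : D.π.ker.Normal := MonoidHom.normal_ker D.π
  obtain ⟨τ, c, hτ, -, hc, hadd, hc0, hequiv⟩ := natural D D.π.ker M hMQ le_rfl hcard hsq
    (fun x hx a ha => comm_mem_of_sq hsq hx ha) hy (fix_quot D D.π.ker M hMQ le_rfl hcard hy7 hmove)
  exact sq_fixed D.π.ker M (fun x _ f hf => hMc x f hf) hMe hsq hMQ hcard.ge (fun a ha g => hMc g _ (hsq a ha))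
    τ c hτ hc hadd hc0 hequiv

/-- Eight above a module of order eight. -/
theorem eight_eight [Finite G] (D : Data G) (M : Subgroup G) [M.Normal] (hMQ : M ≤ D.π.ker)
    (hMc : ∀ x ∈ D.π.ker, ∀ f ∈ M, x * f = f * x) (hMe : ∀ f ∈ M, f * f = 1) (hsq : ∀ a ∈ D.π.ker, a * a ∈ M)
    (hM : Nat.card M = 8) (hcard : Nat.card D.π.ker = 64) {y : G} (hy7 : y ^ 7 = 1) (hy : D.π y ≠ 1)
    (hmove : ∃ a ∈ D.π.ker, ⁅y, a⁆ ∉ M) : ∀ a ∈ D.π.ker, a * a = 1 := by
  haveI : D.π.ker.Normal := MonoidHom.normal_ker D.π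
  have hfix := fix_quot D D.π.ker M hMQ le_rfl (by omega) hy7 hmove
  obtain ⟨τ, c, hτ, hker, hc, hadd, hc0, hequiv⟩ := natural D D.π.ker M hMQ le_rfl (by omega) hsq
    (fun x hx a ha => comm_mem_of_sq hsq hx ha) hy hfix
  rcases sq_natural D D.π.ker M M hMQ le_rfl hM hMc hMe hsq hMc (by omega) τ c hτ hker hc hadd hc0 hequiv with
    h | ⟨hab, hinj, -⟩
  · exact h
  · exact (homocyclic_contra D M hMQ hcard hM hab hsq hinj hMe hy hfix).elim

set_option maxHeartbeats 1000000 in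
/-- Sixteen above a module of order eight. -/
theorem sixteen_eight [Finite G] (D : Data G) (M : Subgroup G) [M.Normal] (hMQ : M ≤ D.π.ker)
    (hMc : ∀ x ∈ D.π.ker, ∀ f ∈ M, x * f = f * x) (hMe : ∀ f ∈ M, f * f = 1) (hsq : ∀ a ∈ D.π.ker, a * a ∈ M)
    (hM : Nat.card M = 8) (hcard : Nat.card D.π.ker = 128) {y : G} (hy7 : y ^ 7 = 1) (hy : D.π y ≠ 1)
    (hmove : ∃ a ∈ D.π.ker, ⁅y, a⁆ ∉ M) (hMfix : ∀ f ∈ M, y * f = f * y → f = 1) : False := by
  classical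
  set Q := D.π.ker with hQdef
  haveI : Q.Normal := MonoidHom.normal_ker D.π
  have hMcc : ∀ a ∈ M, ∀ b ∈ M, a * b = b * a := fun a ha b hb => hMc a (hMQ ha) b hb
  have hyM : ¬ ∀ f ∈ M, y * f = f * y := fun h => by
    obtain ⟨f, hf, hf1⟩ := (Subgroup.bot_or_exists_ne_one M).resolve_left (fun hb => by
      rw [hb, Subgroup.card_bot] at hM; omega)
    exact hf1 (hMfix f hf (h f hf))
  set q := QuotientGroup.mk' M with hq
  set V := Q.map q with hV
  haveI : V.Normal := (inferInstance : Q.Normal).map _ (QuotientGroup.mk'_surjective M)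
  have hV16 : Nat.card V = 16 := by
    have h := card_map_mk hMQ
    rw [hM, hcard] at h
    show Nat.card (Q.map (QuotientGroup.mk' M)) = 16
    omega
  have hV2 : ∀ v ∈ V, v * v = 1 := by
    rintro _ ⟨a, ha, rfl⟩
    rw [← map_mul]; exact mk_eq_one.2 (hsq a ha)
  have hVc : ∀ a ∈ V, ∀ b ∈ V, a * b = b * a := by
    rintro _ ⟨a, ha, rfl⟩ _ ⟨b, hb, rfl⟩
    rw [← commutatorElement_eq_one_iff_mul_comm, ← map_commutatorElement]
    exact mk_eq_one.2 (comm_mem_of_sq hsq ha hb)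
  set D' := D.quot M hMQ with hD'
  have hQ' : ∀ x ∈ D'.π.ker, ∀ v ∈ V, x * v = v * x := fun x hx v hv => hVc x (by
    rw [D.quot_ker M hMQ] at hx; exact hx) v hv
  have hy' : D'.π (q y) ≠ 1 := hy
  have hy7' : q y ^ 7 = 1 := by rw [← map_pow, hy7, map_one]
  have hcomm : ∀ g a, q g * q a = q a * q g ↔ ⁅g, a⁆ ∈ M := fun g a => by
    rw [← commutatorElement_eq_one_iff_mul_comm, ← map_commutatorElement, mk_eq_one]
  have hne : ¬ ∀ v ∈ V, q y * v = v * q y := fun h => by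
    obtain ⟨a, ha, ha'⟩ := hmove
    exact ha' ((hcomm y a).1 (h _ ⟨a, ha, rfl⟩))
  obtain ⟨W₀, u₀, hW₀V, hW₀8, hW₀y, hW₀fix, hu₀V, hu₀1, hu₀y, hu₀W, hW₀cos, hCy, hW₀min, -⟩ :=
    commutator_eight V hV16 hV2 hVc hy7' hne
  by_cases hWex : ∃ W : Subgroup (G ⧸ M), W.Normal ∧ W ≤ V ∧ Nat.card W = 8 ∧
      ∀ w ∈ W, q y * w = w * q y → w = 1
  · obtain ⟨W, hWn, hWV, hW8, hWfix⟩ := hWex
    haveI := hWn
    set Q₁ := W.comap q with hQ₁
    haveI : Q₁.Normal := hWn.comap q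
    have hQ₁Q : Q₁ ≤ Q := fun x hx => (mk_mem_map hMQ).1 (hWV hx)
    have hMQ₁ : M ≤ Q₁ := fun x hx => by
      rw [hQ₁, Subgroup.mem_comap, mk_eq_one.2 hx]; exact W.one_mem
    have hQ₁card : Nat.card Q₁ = 64 := by
      have h := card_map_mk hMQ₁
      rw [hM, show Q₁.map (QuotientGroup.mk' M) = W from
        Subgroup.map_comap_eq_self_of_surjective (QuotientGroup.mk'_surjective M) W, hW8] at h
      exact h.symm
    have hfix1 : ∀ a ∈ Q₁, ⁅y, a⁆ ∈ M → a ∈ M := fun a ha hc => mk_eq_one.1 (hWfix _ ha ((hcomm y a).2 hc))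
    have hsq1 : ∀ a ∈ Q₁, a * a ∈ M := fun a ha => hsq a (hQ₁Q ha)
    obtain ⟨τ, c, hτ, hker, hc, hadd, hc0, hequiv⟩ := natural D Q₁ M hMQ₁ hQ₁Q (by omega) hsq1
      (fun x hx a ha => comm_mem_of_sq hsq hx (hQ₁Q ha)) hy hfix1
    rcases sq_natural D Q₁ M M hMQ₁ le_rfl hM (fun x hx => hMc x (hQ₁Q hx)) hMe hsq1 hMc (by omega) τ c hτ hker
        hc hadd hc0 hequiv with h | ⟨hab1, hinj1, hsurj1⟩
    · exact big_elem D Q₁ h (by omega)
    obtain ⟨u, huQ, huQ₁⟩ : ∃ u ∈ Q, u ∉ Q₁ := by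
      by_contra h
      push Not at h
      have := Subgroup.card_le_of_le (show Q ≤ Q₁ from h)
      omega
    have hidx : ∀ x ∈ Q, x ∈ Q₁ ∨ ∃ w ∈ Q₁, x = u * w := fun x hx => by
      by_cases h : x ∈ Q₁
      · exact Or.inl h
      · exact Or.inr ⟨u⁻¹ * x, mul_mem_of_index_two hQ₁Q (by omega) (Q.inv_mem huQ)
          (fun h' => huQ₁ ((Q₁.inv_mem_iff).1 h')) hx h, by group⟩
    have hu : ∀ g, ∃ w ∈ Q₁, g * u * g⁻¹ = u * w := fun g => by
      rcases hidx _ ((inferInstance : Q.Normal).conj_mem u huQ g) with h | h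
      · refine absurd ?_ huQ₁
        have := (inferInstance : Q₁.Normal).conj_mem _ h g⁻¹
        rwa [show g⁻¹ * (g * u * g⁻¹) * g⁻¹⁻¹ = u by group] at this
      · exact h
    let D₁ := D.with τ hτ hker
    by_cases hall : ∀ g, τ g = g₀ → g * g * (g * g) ∈ Q₁
    · exact cyclic_case D₁ Q₁ M (hQ₁Q.trans hker.ge) hMQ₁ hQ₁card hM hab1 hsq1 hinj1 hMe c hc hadd hc0 hequiv hall
    push Not at hall
    obtain ⟨g, hg, hg4⟩ := hall
    have hg4Q : g * g * (g * g) ∈ Q := by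
      rw [hQdef, ← hker, MonoidHom.mem_ker, map_mul, map_mul, hg, g₀_facts.2.1]; exact g₀_facts.2.2.1
    obtain ⟨w, hw, hgw⟩ := (hidx _ hg4Q).resolve_left hg4
    rcases comm_dichotomy Q₁ M M hMQ₁ le_rfl hab1 hMe hinj1 hsurj1 hsq1 τ c hτ hc hadd hc0 hequiv u hu
        (fun f hf => hMc u huQ f hf) (fun a ha => comm_mem_of_sq hsq huQ (hQ₁Q ha)) with hb | hb
    swap
    · -- inversion
      obtain ⟨ι, R, hι, hadd4, -, hR, hRmul, hRmod⟩ :=
        coords4 τ Q₁ M hQ₁card hab1 hsq1 hinj1 hMe c hc hadd hc0 hequiv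
      obtain ⟨a, b, d, hrows⟩ := rows_eq (R := R g) fun i j => by rw [hRmod, hg]
      have hι0 : (ι 0 : G) = 1 := by
        have h := hadd4 0 0
        rw [add_zero, left_eq_mul] at h
        rw [h]; rfl
      have hneg : ∀ z, ap2 (rows (R g)) (ap2 (rows (R g)) (tup z)) = -tup z := by
        intro z
        rw [ap2, ap2, ap_rows, ap_rows, ap_rows, ap_rows, Matrix.mulVec_mulVec, Matrix.mulVec_mulVec,
          Matrix.mulVec_mulVec, ← hRmul, ← hRmul, ← hRmul]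
        show tup (R (g * g * g * g) *ᵥ z) = tup (-z)
        congr 1
        refine hι.1 (Subtype.ext ?_)
        rw [hR, show g * g * g * g = u * w by rw [← hgw]; group]
        calc u * w * (ι z : G) * (u * w)⁻¹ = u * (w * (ι z : G) * w⁻¹) * u⁻¹ := by group
          _ = (ι z : G)⁻¹ := by rw [hab1 w hw _ (ι z).2, mul_inv_cancel_right, hb _ (ι z).2]
          _ = (ι (-z) : G) := (eq_inv_of_mul_eq_one_left (by
              rw [← Subgroup.coe_mul, ← hadd4, neg_add_cancel, hι0])).symm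
      have hn := nominus4 a b d
      rw [← hrows] at hn
      refine hn fun v _ => ?_
      obtain ⟨z, rfl⟩ : ∃ z, tup z = v := ⟨![v.1, v.2.1, v.2.2], by simp [tup]⟩
      exact hneg z
    -- commuting
    have hab : ∀ a ∈ Q, ∀ b ∈ Q, a * b = b * a := by
      have hu' : ∀ a ∈ Q₁, u * a = a * u := fun a ha => mul_inv_eq_iff_eq_mul.1 (hb a ha)
      intro a ha b hb
      rcases hidx a ha with ha' | ⟨a, ha', rfl⟩ <;> rcases hidx b hb with hb' | ⟨b, hb', rfl⟩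
      · exact hab1 a ha' b hb'
      · rw [← mul_assoc, ← hu' a ha', mul_assoc, hab1 a ha' b hb', ← mul_assoc]
      · rw [mul_assoc, hab1 a ha' b hb', ← mul_assoc, hu' b hb', mul_assoc]
      · calc u * a * (u * b) = u * (a * u) * b := by group
          _ = u * (u * a) * b := by rw [hu' a ha']
          _ = u * u * (a * b) := by group
          _ = u * u * (b * a) := by rw [hab1 a ha' b hb']
          _ = u * (u * b) * a := by group
          _ = u * (b * u) * a := by rw [hu' b hb']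
          _ = u * b * (u * a) := by group
    obtain ⟨a₀, ha₀, ha₀u⟩ := hsurj1 _ (hsq u huQ)
    have huQ' : u * a₀⁻¹ ∈ Q := Q.mul_mem huQ (Q.inv_mem (hQ₁Q ha₀))
    have hvv : u * a₀⁻¹ * (u * a₀⁻¹) = 1 := by
      calc u * a₀⁻¹ * (u * a₀⁻¹) = u * (a₀⁻¹ * u) * a₀⁻¹ := by group
        _ = u * (u * a₀⁻¹) * a₀⁻¹ := by rw [hab _ (Q.inv_mem (hQ₁Q ha₀)) u huQ]
        _ = u * u * (a₀ * a₀)⁻¹ := by group
        _ = 1 := by rw [ha₀u, mul_inv_cancel]
    set v := u * a₀⁻¹ with hv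
    have hvQ₁ : v ∉ Q₁ := fun h => huQ₁ (by simpa [hv] using Q₁.mul_mem h ha₀)
    let Ω : Subgroup G :=
      { carrier := {x | x ∈ Q ∧ x * x = 1}
        one_mem' := ⟨Q.one_mem, one_mul 1⟩
        mul_mem' := fun {x z} ⟨hx, hx'⟩ ⟨hz, hz'⟩ => ⟨Q.mul_mem hx hz, by
          calc x * z * (x * z) = x * (z * x) * z := by group
            _ = x * (x * z) * z := by rw [hab z hz x hx]
            _ = x * x * (z * z) := by group
            _ = 1 := by rw [hx', hz', mul_one]⟩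
        inv_mem' := fun {x} ⟨hx, hx'⟩ => ⟨Q.inv_mem hx, by rw [← mul_inv_rev, hx', inv_one]⟩ }
    haveI : Ω.Normal := ⟨fun x hx k => ⟨(inferInstance : Q.Normal).conj_mem x hx.1 k, by
      calc k * x * k⁻¹ * (k * x * k⁻¹) = k * (x * x) * k⁻¹ := by group
        _ = 1 := by rw [hx.2, mul_one, mul_inv_cancel]⟩⟩
    have hMΩ : M ≤ Ω := fun x hx => ⟨hMQ hx, hMe x hx⟩
    have hΩdec : ∀ x ∈ Ω, x ∈ M ∨ v * x ∈ M := by
      rintro x ⟨hx, hx'⟩
      by_cases h : x ∈ Q₁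
      · exact Or.inl (hinj1 x h hx')
      · refine Or.inr (hinj1 _ (mul_mem_of_index_two hQ₁Q (by omega) huQ' hvQ₁ hx h) ?_)
        calc v * x * (v * x) = v * (x * v) * x := by group
          _ = v * (v * x) * x := by rw [hab x hx v huQ']
          _ = v * v * (x * x) := by group
          _ = 1 := by rw [hvv, hx', mul_one]
    have hvM : v ∉ M := fun h => hvQ₁ (hMQ₁ h)
    have hΩcard : Nat.card Ω = 16 := by
      have hbij : Function.Bijective (fun p : Bool × M => (⟨cond p.1 v 1 * (p.2 : G), Ω.mul_mem (by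
          cases p.1
          · exact Ω.one_mem
          · exact ⟨huQ', hvv⟩) (hMΩ p.2.2)⟩ : Ω)) := by
        constructor
        · rintro ⟨i, a⟩ ⟨j, b⟩ h
          have h' := congrArg Subtype.val h
          cases i <;> cases j <;> simp only [cond_true, cond_false, one_mul] at h'
          · exact Prod.ext rfl (Subtype.ext h')
          · exact absurd (by rw [show v = (a : G) * (b : G)⁻¹ by rw [h']; group]; exact M.mul_mem a.2 (M.inv_mem b.2)) hvM
          · exact absurd (by rw [show v = (b : G) * (a : G)⁻¹ by rw [← h']; group]; exact M.mul_mem b.2 (M.inv_mem a.2)) hvM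
          · exact Prod.ext rfl (Subtype.ext (mul_left_cancel h'))
        · rintro ⟨x, hx⟩
          rcases hΩdec x hx with h | h
          · exact ⟨(false, ⟨x, h⟩), Subtype.ext (one_mul x)⟩
          · exact ⟨(true, ⟨v * x, h⟩), Subtype.ext (by show v * (v * x) = x; rw [← mul_assoc, hvv, one_mul])⟩
      rw [← Nat.card_eq_of_bijective _ hbij, Nat.card_prod, hM, Nat.card_eq_fintype_card, Fintype.card_bool]
    -- a fixed point of the square outside the module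
    have hq4 : ∃ w' ∈ Q₁, g * g * (g * g) = v * w' := ⟨a₀ * w, Q₁.mul_mem ha₀ hw, by rw [hgw, hv]; group⟩
    obtain ⟨w', hw', hgw'⟩ := hq4
    have hcfix : (g₀ : Matrix (Fin 3) (Fin 3) (ZMod 2)) *ᵥ c ⟨w', hw'⟩ = c ⟨w', hw'⟩ := by
      have hgv : g * v * g⁻¹ ∈ Ω := (inferInstance : Ω.Normal).conj_mem v ⟨huQ', hvv⟩ g
      have hgvM : v⁻¹ * (g * v * g⁻¹) ∈ M := by
        rw [inv_eq_of_mul_eq_one_right hvv]
        refine (hΩdec _ hgv).resolve_left fun h => hvM ?_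
        have := (inferInstance : M.Normal).conj_mem _ h g⁻¹
        rwa [show g⁻¹ * (g * v * g⁻¹) * g⁻¹⁻¹ = v by group] at this
      rw [← hg, ← hequiv g ⟨w', hw'⟩ ⟨_, (inferInstance : Q₁.Normal).conj_mem w' hw' g⟩ rfl]
      have h1 : g * w' * g⁻¹ = (v⁻¹ * (g * v * g⁻¹))⁻¹ * w' := by
        calc g * w' * g⁻¹ = (g * v * g⁻¹)⁻¹ * (g * (v * w') * g⁻¹) := by group
          _ = (g * v * g⁻¹)⁻¹ * (v * w') := by rw [← hgw']; group
          _ = _ := by group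
      rw [show (⟨g * w' * g⁻¹, (inferInstance : Q₁.Normal).conj_mem w' hw' g⟩ : Q₁) =
        ⟨_, hMQ₁ (M.inv_mem hgvM)⟩ * ⟨w', hw'⟩ from Subtype.ext h1, hadd, (hc0 _).2 (M.inv_mem hgvM), zero_add]
    obtain ⟨d, hd⟩ := fixed_four g₀ (by decide +kernel) (by decide +kernel) _ hcfix
    obtain ⟨⟨a, ha⟩, rfl⟩ := hc d
    set e := g * g with he
    have hea : e * a * e⁻¹ ∈ Q₁ := (inferInstance : Q₁.Normal).conj_mem a ha e
    have heπ : τ e = g₀ * g₀ := by rw [he, map_mul, hg]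
    set x := e * a * (e * a) with hx
    set m := w' * (e * a * e⁻¹) * a with hm
    have hmM : m ∈ M := by
      refine (hc0 (⟨w', hw'⟩ * ⟨_, hea⟩ * ⟨a, ha⟩)).1 ?_
      rw [hadd, hadd, hequiv e ⟨a, ha⟩ ⟨_, hea⟩ rfl, heπ, add_assoc, hd]
      funext k; exact CharTwo.add_self_eq_zero _
    have hxv : x = v * m := by
      calc x = e * a * e⁻¹ * (e * e) * a := by rw [hx]; group
        _ = e * a * e⁻¹ * (v * w') * a := by rw [← hgw']
        _ = (v * w') * (e * a * e⁻¹) * a := by rw [hab _ (hQ₁Q hea) _ (Q.mul_mem huQ' (hQ₁Q hw'))]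
        _ = v * m := by rw [hm]; group
    have hxΩ : x ∈ Ω := hxv ▸ Ω.mul_mem ⟨huQ', hvv⟩ (hMΩ hmM)
    have hxM : x ∉ M := fun h => hvM (by
      have := M.mul_mem h (M.inv_mem hmM)
      rwa [hxv, mul_inv_cancel_right] at this)
    have hxe : x * e = e * x := by
      have h1 : e * a * x = x * (e * a) := by rw [hx]; group
      rw [mul_assoc, hab a (hQ₁Q ha) x hxΩ.1, ← mul_assoc, ← mul_assoc x e a] at h1
      exact (mul_right_cancel h1).symm
    obtain ⟨hC4, -, -⟩ := natural_fixed D₁ M hM hMe hMcc (fun z hz => hMc z (hker.le hz)) (y := y) hyM g hg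
    have h8 : 8 ≤ Nat.card ↥(Ω ⊓ Subgroup.centralizer {e}) := by
      have hle : M ⊓ Subgroup.centralizer {e} ≤ Ω ⊓ Subgroup.centralizer {e} := inf_le_inf_right _ hMΩ
      have hlt : M ⊓ Subgroup.centralizer {e} ≠ Ω ⊓ Subgroup.centralizer {e} := fun h =>
        hxM (by
          have h' : x ∈ Ω ⊓ Subgroup.centralizer {e} := ⟨hxΩ, Subgroup.mem_centralizer_singleton_iff.2 hxe⟩
          rw [← h] at h'
          exact h'.1)
      obtain ⟨k, hk⟩ := Subgroup.card_dvd_of_le hle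
      have hne1 : k ≠ 1 := fun h1 => hlt (Subgroup.eq_of_le_of_card_ge hle (by rw [hk, h1, mul_one]))
      have hk0 : k ≠ 0 := fun h0 => (Nat.card_pos (α := ↥(Ω ⊓ Subgroup.centralizer {e}))).ne' (by
        rw [hk, h0, mul_zero])
      rw [hk, hC4]; omega
    obtain ⟨⟨u₁, hu₁, hu₁1, hu₁c⟩, -⟩ := transvection_case D₁ Ω hΩcard
      (fun z hz x hx => hab z (hker.le hz) x hx.1) (fun x hx => hx.2) (fun a ha b hb => hab a ha.1 b hb.1)
      e (heπ.trans g₀_facts.2.1) h8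
    refine central_contra D M Ω hMΩ (fun x hx => hx.1) hcard hM hΩcard hab hsq (fun a ha h => ⟨ha, h⟩)
      (fun x hx => hx.2) hy ?_ u₁ hu₁ (fun h => hu₁1 (hMfix u₁ h (hu₁c y))) hu₁c
    intro a ha hya
    have hgen : ∀ a ∈ Q₁, ⁅y, a⁆ ∈ Ω → a ∈ M := fun a ha h => hfix1 a ha ((hΩdec _ h).resolve_right fun h' => by
      have hmem : ⁅y, a⁆ ∈ Q₁ := by
        rw [commutatorElement_def]; exact Q₁.mul_mem ((inferInstance : Q₁.Normal).conj_mem a ha y) (Q₁.inv_mem ha)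
      refine hvQ₁ ?_
      have h'' := Q₁.mul_mem (hMQ₁ h') (Q₁.inv_mem hmem)
      rwa [mul_inv_cancel_right] at h'')
    by_cases h : a ∈ Q₁
    · exact hMΩ (hgen a h hya)
    · have hva : v * a ∈ Q₁ := mul_mem_of_index_two hQ₁Q (by omega) huQ' hvQ₁ ha h
      have hvΩ : v ∈ Ω := ⟨huQ', hvv⟩
      have h1 : ⁅y, v * a⁆ ∈ Ω := by
        rw [show ⁅y, v * a⁆ = ⁅y, v⁆ * (v * ⁅y, a⁆ * v⁻¹) by
          rw [commutatorElement_def, commutatorElement_def, commutatorElement_def]; group]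
        refine Ω.mul_mem ?_ ((inferInstance : Ω.Normal).conj_mem _ hya v)
        rw [commutatorElement_def]
        exact Ω.mul_mem ((inferInstance : Ω.Normal).conj_mem v hvΩ y) (Ω.inv_mem hvΩ)
      have := Ω.mul_mem hvΩ (hMΩ (hgen _ hva h1))
      rwa [← mul_assoc, hvv, one_mul] at this
  -- no invariant complement: a fixed point
  obtain ⟨uV, huV, huV1, huVc⟩ := (reducible D' V hV16 hQ' hV2 hVc hy7' hy' hne).resolve_right hWex
  have hnot8 : ∀ e', D'.π e' = tr 0 2 → ¬ 8 ≤ Nat.card ↥(V ⊓ Subgroup.centralizer {e'}) := by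
    intro e' he' h8
    obtain ⟨-, R, hRn, hRV, hR8, hR⟩ := transvection_case D' V hV16 hQ' hV2 hVc e' he' h8
    have hle := hW₀min R fun v hv => hR (q y) v hv
    have hWR : W₀ = R := Subgroup.eq_of_le_of_card_ge hle (by omega)
    exact hWex ⟨W₀, hWR ▸ hRn, hW₀V, hW₀8, hW₀fix⟩
  have huVy : uV = u₀ := (hCy uV huV (huVc (q y))).resolve_left huV1
  obtain ⟨u, huQ, hu⟩ := huV
  set Ω := (Subgroup.zpowers uV).comap q with hΩdef
  haveI : (Subgroup.zpowers uV).Normal := ⟨fun x hx k => by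
    obtain ⟨n, rfl⟩ := Subgroup.mem_zpowers_iff.1 hx
    rw [((show Commute k uV from huVc k).zpow_right n).eq, mul_inv_cancel_right]; exact hx⟩
  haveI : Ω.Normal := (inferInstance : (Subgroup.zpowers uV).Normal).comap q
  have hz2 : ∀ x ∈ Subgroup.zpowers uV, x = 1 ∨ x = uV := by
    intro x hx
    obtain ⟨n, rfl⟩ := Subgroup.mem_zpowers_iff.1 hx
    have huu : uV ^ (2 : ℤ) = 1 := by rw [zpow_two]; exact hu ▸ hV2 (q u) ⟨u, huQ, rfl⟩
    rcases Int.even_or_odd' n with ⟨k, rfl | rfl⟩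
    · left; rw [zpow_mul, huu, one_zpow]
    · right; rw [zpow_add_one, zpow_mul, huu, one_zpow, one_mul]
  have hΩiff : ∀ x, x ∈ Ω ↔ q x = 1 ∨ q x = uV := fun x => ⟨fun h => hz2 _ h, fun h => by
    show q x ∈ Subgroup.zpowers uV
    rcases h with h | h <;> rw [h]
    exacts [Subgroup.one_mem _, Subgroup.mem_zpowers _]⟩
  have huΩ : u ∈ Ω := (hΩiff u).2 (Or.inr hu)
  have hMΩ : M ≤ Ω := fun x hx => (hΩiff x).2 (Or.inl (mk_eq_one.2 hx))
  have hΩQ : Ω ≤ Q := fun x hx => by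
    rcases (hΩiff x).1 hx with h | h
    · exact hMQ (mk_eq_one.1 h)
    · exact (mk_mem_map hMQ).1 (by show q x ∈ V; rw [h, ← hu]; exact ⟨u, huQ, rfl⟩)
  have huM : u ∉ M := fun h => huV1 (hu ▸ mk_eq_one.2 h)
  have hΩcard : Nat.card Ω = 16 := by
    have h := card_map_mk hMΩ
    rw [hM, show Ω.map (QuotientGroup.mk' M) = Subgroup.zpowers uV from
      Subgroup.map_comap_eq_self_of_surjective (QuotientGroup.mk'_surjective M) _, Nat.card_zpowers,
      orderOf_eq_prime (p := 2) (by rw [sq]; exact hu ▸ hV2 (q u) ⟨u, huQ, rfl⟩) huV1] at h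
    exact h.symm
  -- the square of `u` is fixed
  have hgu : ∀ g, ∃ m ∈ M, g * u * g⁻¹ = u * m := fun g => ⟨u⁻¹ * (g * u * g⁻¹), mk_eq_one.1 (by
    show q (u⁻¹ * (g * u * g⁻¹)) = 1
    rw [map_mul, map_mul, map_mul, map_inv, map_inv, hu, huVc, mul_inv_cancel_right, inv_mul_cancel]), by group⟩
  have hu2fix : ∀ g, g * (u * u) * g⁻¹ = u * u := by
    intro g
    obtain ⟨m, hm, e⟩ := hgu g
    calc g * (u * u) * g⁻¹ = g * u * g⁻¹ * (g * u * g⁻¹) := by group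
      _ = u * (m * u) * m := by rw [e]; group
      _ = u * (u * m) * m := by rw [hMc u huQ m hm]
      _ = u * u * (m * m) := by group
      _ = u * u := by rw [hMe m hm, mul_one]
  have huu : u * u = 1 := hMfix _ (hsq u huQ) (mul_inv_eq_iff_eq_mul.1 (hu2fix y))
  have hfixΩ : ∀ a ∈ Q, ⁅y, a⁆ ∈ Ω → a ∈ Ω := by
    intro a ha hc
    have hmem : q y * q a = q a * q y := by
      rcases (hΩiff _).1 hc with h | h <;> rw [map_commutatorElement] at h
      · exact commutatorElement_eq_one_iff_mul_comm.1 h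
      · refine absurd (coset_fix hy7' (huVc _) (hu ▸ hV2 (q u) ⟨u, huQ, rfl⟩) (v := q a) (c := uV) ?_) huV1
        calc q y * q a * (q y)⁻¹ = ⁅q y, q a⁆ * q a := by rw [commutatorElement_def]; group
          _ = q a * uV := by rw [h, huVc]
    refine (hΩiff a).2 ?_
    rcases hCy _ ⟨a, ha, rfl⟩ hmem with h | h
    · exact Or.inl h
    · exact Or.inr (h.trans huVy.symm)
  obtain ⟨τ, c, hτ, hker, hc, hadd, hc0, hequiv⟩ := natural D Q Ω hΩQ le_rfl (by omega)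
    (fun a ha => hMΩ (hsq a ha)) (fun x hx a ha => hMΩ (comm_mem_of_sq hsq hx ha)) hy hfixΩ
  let D₂ := D.with τ hτ hker
  obtain ⟨g, hg⟩ := hτ g₀
  set e := g * g with he
  have heπ : τ e = tr 0 2 := by rw [he, map_mul, hg]; exact g₀_facts.2.1
  -- the map into the module
  have hφmem : ∀ a ∈ Q, ⁅u, a⁆ ∈ M := fun a ha => comm_mem_of_sq hsq huQ ha
  have hφmul : ∀ a ∈ Q, ∀ b ∈ Q, ⁅u, a * b⁆ = ⁅u, a⁆ * ⁅u, b⁆ := fun a ha b hb => by
    calc ⁅u, a * b⁆ = ⁅u, a⁆ * (a * ⁅u, b⁆ * a⁻¹) := by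
          rw [commutatorElement_def, commutatorElement_def, commutatorElement_def]; group
      _ = _ := by rw [hMc a ha _ (hφmem b hb), mul_inv_cancel_right]
  have hφΩ : ∀ a ∈ Ω, ⁅u, a⁆ = 1 := by
    intro a ha
    rw [commutatorElement_eq_one_iff_mul_comm]
    rcases (hΩiff a).1 ha with h | h
    · exact hMc u huQ a (mk_eq_one.1 h)
    · have hm : u⁻¹ * a ∈ M := mk_eq_one.1 (by
        show q (u⁻¹ * a) = 1
        rw [map_mul, map_inv, hu, h, inv_mul_cancel])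
      calc u * a = u * (u * (u⁻¹ * a)) := by group
        _ = u * ((u⁻¹ * a) * u) := by rw [hMc u huQ _ hm]
        _ = a * u := by group
  have hφconj : ∀ k, ∀ a ∈ Q, k * ⁅u, a⁆ * k⁻¹ = ⁅u, k * a * k⁻¹⁆ := by
    intro k a ha
    obtain ⟨m, hm, e⟩ := hgu k
    have ha' : k * a * k⁻¹ ∈ Q := (inferInstance : Q.Normal).conj_mem a ha k
    calc k * ⁅u, a⁆ * k⁻¹ = ⁅k * u * k⁻¹, k * a * k⁻¹⁆ := by
          rw [commutatorElement_def, commutatorElement_def]; group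
      _ = u * (m * (k * a * k⁻¹)) * m⁻¹ * u⁻¹ * (k * a * k⁻¹)⁻¹ := by rw [e, commutatorElement_def]; group
      _ = u * ((k * a * k⁻¹) * m) * m⁻¹ * u⁻¹ * (k * a * k⁻¹)⁻¹ := by rw [hMc _ ha' m hm]
      _ = _ := by rw [commutatorElement_def]; group
  have hsub : ∀ a b : Q, c a = c b → ∃ f ∈ Ω, (b : G) = a * f := by
    intro a b h
    refine ⟨(a : G)⁻¹ * b, (hc0 (a⁻¹ * b)).1 ?_, by group⟩
    have h1 := hadd a a⁻¹
    rw [mul_inv_cancel, (hc0 1).2 Ω.one_mem] at h1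
    rw [hadd, ← h, add_comm]; exact h1.symm
  have hφ0 : ∀ a ∈ Q, ⁅u, a⁆ = 1 := by
    by_contra hno
    push Not at hno
    obtain ⟨a₁, ha₁, hne1⟩ := hno
    have hkerφ : ∀ a ∈ Q, ⁅u, a⁆ = 1 → a ∈ Ω := by
      intro a ha h
      by_contra haΩ
      obtain ⟨i, hi⟩ := y₀_transitive (c ⟨a, ha⟩) (c ⟨a₁, ha₁⟩) (fun h' => haΩ ((hc0 _).1 h'))
        (fun h' => hne1 (hφΩ _ ((hc0 _).1 h')))
      obtain ⟨k, hk⟩ := hτ (y₀ ^ (i : ℕ))
      have ha' : k * a * k⁻¹ ∈ Q := (inferInstance : Q.Normal).conj_mem a ha k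
      obtain ⟨f, hf, hfe⟩ := hsub ⟨_, ha'⟩ ⟨a₁, ha₁⟩ (by rw [hequiv k ⟨a, ha⟩ _ rfl, hk, hi])
      change a₁ = k * a * k⁻¹ * f at hfe
      refine hne1 ?_
      rw [hfe, hφmul _ ha' f (hΩQ hf), ← hφconj k a ha, h, hφΩ f hf]; group
    have he2 : ∀ v ∈ V, q e * q e * v = v * (q e * q e) := by
      intro v hv
      rw [← map_mul]
      refine hVc _ ⟨_, ?_, rfl⟩ v hv
      show e * e ∈ Q
      rw [hQdef, ← hker, MonoidHom.mem_ker, map_mul, heπ]; exact g₀_facts.2.2.1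
    have hD₂ : ∀ x ∈ (D₂.quot M (hMQ.trans hker.ge)).π.ker, ∀ v ∈ V, x * v = v * x := fun x hx v hv => by
      refine hVc x ?_ v hv
      rw [D₂.quot_ker M (hMQ.trans hker.ge)] at hx
      obtain ⟨a, ha, rfl⟩ := hx
      exact ⟨a, hker.le ha, rfl⟩
    obtain ⟨hC4, hCsurj⟩ := comm_eq V hV16 hV2 hVc (q e) he2 (fun h8 => by
      obtain ⟨-, R, hRn, hRV, hR8, hR⟩ := transvection_case (D₂.quot M (hMQ.trans hker.ge)) V hV16 hD₂ hV2 hVc
        (q e) heπ h8
      have hle := hW₀min R fun v hv => hR (q y) v hv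
      exact hWex ⟨W₀, (Subgroup.eq_of_le_of_card_ge hle (by omega)) ▸ hRn, hW₀V, hW₀8, hW₀fix⟩)
    obtain ⟨_, ⟨a, ha, rfl⟩, hae⟩ := hCsurj uV ⟨hu ▸ ⟨u, huQ, rfl⟩,
      Subgroup.mem_centralizer_singleton_iff.2 (huVc (q e)).symm⟩
    have haΩ : a ∉ Ω := fun h => huV1 (hae.symm.trans (commutatorElement_eq_one_iff_mul_comm.2 (by
      rcases (hΩiff a).1 h with h | h <;> rw [show q a = _ from h]
      · simp
      · exact huVc _)))
    obtain ⟨m, hm, hem⟩ : ∃ m ∈ M, e * a * e⁻¹ = a * u * m := ⟨(a * u)⁻¹ * (e * a * e⁻¹), mk_eq_one.1 (by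
      show q ((a * u)⁻¹ * (e * a * e⁻¹)) = 1
      rw [map_mul, map_inv, map_mul, map_mul, map_mul, map_inv, hu,
        show q e * q a * (q e)⁻¹ = ⁅q e, q a⁆ * q a by rw [commutatorElement_def]; group, hae, ← huVc (q a),
        inv_mul_cancel]), by group⟩
    have hφa : ⁅u, a⁆ = ⁅e, a * a⁆ := by
      have huM' : ∀ z ∈ M, u * z = z * u := fun z hz => hMc u huQ z hz
      have h1 : e * (a * a) * e⁻¹ = a * a * ⁅u, a⁆ := by
        calc e * (a * a) * e⁻¹ = e * a * e⁻¹ * (e * a * e⁻¹) := by group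
          _ = a * u * (m * (a * u)) * m := by rw [hem]; group
          _ = a * u * ((a * u) * m) * m := by rw [hMc _ (Q.mul_mem ha huQ) m hm]
          _ = a * u * a * u * (m * m) := by group
          _ = a * (⁅u, a⁆ * a * u) * u := by rw [hMe m hm, commutatorElement_def]; group
          _ = a * ⁅u, a⁆ * a * (u * u) := by group
          _ = a * (a * ⁅u, a⁆) := by rw [huu, mul_one, mul_assoc, hMc a ha _ (hφmem a ha)]
          _ = _ := by group
      rw [commutatorElement_def e, h1, mul_assoc, ← hMc _ (Q.inv_mem (Q.mul_mem ha ha)) _ (hφmem a ha),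
        mul_inv_cancel_left]
    obtain ⟨hM4, -, -⟩ := natural_fixed D₂ M hM hMe hMcc (fun z hz => hMc z (hker.le hz)) (y := y) hyM g hg
    obtain ⟨φ, hφ, hk, hmul⟩ := comm_map M hMcc e
    rw [hk, show Nat.card ↥(M ⊓ Subgroup.centralizer {e}) = 4 from hM4, hM] at hmul
    -- another point of the line
    obtain ⟨z, hz, hzu⟩ : ∃ z ∈ V ⊓ Subgroup.centralizer {q e}, z ∉ Subgroup.zpowers uV := by
      by_contra h
      push Not at h
      have := Subgroup.card_le_of_le (show V ⊓ Subgroup.centralizer {q e} ≤ Subgroup.zpowers uV from h)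
      rw [hC4, Nat.card_zpowers, orderOf_eq_prime (p := 2) (by rw [sq]; exact hu ▸ hV2 (q u) ⟨u, huQ, rfl⟩) huV1] at this
      omega
    obtain ⟨_, ⟨b, hb, rfl⟩, hbz⟩ := hCsurj z hz
    have hcQ : ⁅e, b⁆ ∈ Q := by
      rw [commutatorElement_def]
      exact Q.mul_mem ((inferInstance : Q.Normal).conj_mem b hb e) (Q.inv_mem hb)
    have hzφ : ⁅u, ⁅e, b⁆⁆ = ⁅e, ⁅u, b⁆⁆ := by
      have hbi : ⁅u, b⁻¹⁆ = ⁅u, b⁆⁻¹ := eq_inv_of_mul_eq_one_left (by
        rw [← hφmul _ (Q.inv_mem hb) b hb, inv_mul_cancel]; simp [commutatorElement_def])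
      rw [commutatorElement_def e b, hφmul _ ((inferInstance : Q.Normal).conj_mem b hb e) _ (Q.inv_mem hb), hbi,
        ← hφconj e b hb, commutatorElement_def e]
    have hzne : ⁅u, ⁅e, b⁆⁆ ≠ 1 := fun h => hzu (by
      rw [← hbz, ← map_commutatorElement]
      exact hkerφ _ hcQ h)
    have hin : ∀ x ∈ M, ⁅e, x⁆ = 1 ∨ ⁅e, x⁆ = ⁅u, ⁅e, b⁆⁆ := by
      intro x hx
      by_contra hcon
      push Not at hcon
      haveI : Fintype φ.range := Fintype.ofFinite _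
      have n1 : (⟨φ ⟨x, hx⟩, _, rfl⟩ : φ.range) ≠ 1 := fun h => hcon.1 (by
        rw [← hφ ⟨x, hx⟩]; exact congrArg (fun r : φ.range => ((r : M) : G)) h)
      have n2 : (⟨φ ⟨⁅u, b⁆, hφmem b hb⟩, _, rfl⟩ : φ.range) ≠ 1 := fun h => hzne (by
        rw [hzφ, ← hφ ⟨⁅u, b⁆, hφmem b hb⟩]; exact congrArg (fun r : φ.range => ((r : M) : G)) h)
      have n3 : (⟨φ ⟨x, hx⟩, _, rfl⟩ : φ.range) ≠ ⟨φ ⟨⁅u, b⁆, hφmem b hb⟩, _, rfl⟩ := fun h => hcon.2 (by
        rw [hzφ, ← hφ ⟨x, hx⟩, ← hφ ⟨⁅u, b⁆, hφmem b hb⟩]; exact congrArg (fun r : φ.range => ((r : M) : G)) h)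
      have h3 : ({1, (⟨φ ⟨x, hx⟩, _, rfl⟩ : φ.range), ⟨φ ⟨⁅u, b⁆, hφmem b hb⟩, _, rfl⟩} : Finset φ.range).card ≤ 2 := by
        refine le_trans (Finset.card_le_univ _) ?_
        rw [← Nat.card_eq_fintype_card]; omega
      rw [Finset.card_insert_of_notMem (by simp [Ne.symm n1, Ne.symm n2]), Finset.card_pair n3] at h3
      omega
    rcases hin _ (hsq a ha) with h | h <;> rw [← hφa] at h
    · exact haΩ (hkerφ a ha h)
    · have hdiff : a * ⁅e, b⁆⁻¹ ∈ Ω := hkerφ _ (Q.mul_mem ha (Q.inv_mem hcQ)) (by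
        rw [hφmul a ha _ (Q.inv_mem hcQ), h, ← hφmul _ hcQ _ (Q.inv_mem hcQ), mul_inv_cancel]
        simp [commutatorElement_def])
      have hΩC : ∀ x ∈ Ω, q x ∈ Subgroup.centralizer {q e} := fun x hx => Subgroup.mem_centralizer_singleton_iff.2 (by
        rcases (hΩiff x).1 hx with h | h <;> rw [show q x = _ from h]
        · simp
        · exact (huVc (q e)).symm)
      have hzc : q ⁅e, b⁆ ∈ Subgroup.centralizer {q e} := by rw [map_commutatorElement, hbz]; exact hz.2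
      have hac : q a ∈ Subgroup.centralizer {q e} := by
        have := Subgroup.mul_mem _ (hΩC _ hdiff) hzc
        rwa [← map_mul, inv_mul_cancel_right] at this
      exact huV1 (hae.symm.trans (commutatorElement_eq_one_iff_mul_comm.2
        (Subgroup.mem_centralizer_singleton_iff.1 hac).symm))
  have hΩc : ∀ x ∈ Q, ∀ f ∈ Ω, x * f = f * x := by
    intro x hx f hf
    rcases (hΩiff f).1 hf with h | h
    · exact hMc x hx f (mk_eq_one.1 h)
    · have hm : u⁻¹ * f ∈ M := mk_eq_one.1 (by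
        show q (u⁻¹ * f) = 1
        rw [map_mul, map_inv, hu, h, inv_mul_cancel])
      have hux : u * x = x * u := commutatorElement_eq_one_iff_mul_comm.1 (hφ0 x hx)
      calc x * f = x * u * (u⁻¹ * f) := by group
        _ = u * (x * (u⁻¹ * f)) := by rw [← hux, mul_assoc]
        _ = u * ((u⁻¹ * f) * x) := by rw [hMc x hx _ hm]
        _ = f * x := by group
  have hΩe : ∀ f ∈ Ω, f * f = 1 := by
    intro f hf
    rcases (hΩiff f).1 hf with h | h
    · exact hMe f (mk_eq_one.1 h)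
    · have hm : u⁻¹ * f ∈ M := mk_eq_one.1 (by
        show q (u⁻¹ * f) = 1
        rw [map_mul, map_inv, hu, h, inv_mul_cancel])
      calc f * f = u * ((u⁻¹ * f) * u) * (u⁻¹ * f) := by group
        _ = u * (u * (u⁻¹ * f)) * (u⁻¹ * f) := by rw [hMc u huQ _ hm]
        _ = u * u * ((u⁻¹ * f) * (u⁻¹ * f)) := by group
        _ = 1 := by rw [huu, hMe _ hm, mul_one]
  rcases sq_natural D Q Ω M hΩQ hMΩ hM hΩc hΩe hsq hMc (by omega) τ c hτ hker hc hadd hc0 hequiv with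
    h | ⟨hab, hinj, -⟩
  · exact big_elem D Q h (by omega)
  have hQ' : ∀ x ∈ D₂.π.ker, ∀ v ∈ Ω, x * v = v * x := fun x hx => hΩc x (hker.le hx)
  by_cases h8 : 8 ≤ Nat.card ↥(Ω ⊓ Subgroup.centralizer {e})
  · obtain ⟨⟨u₁, hu₁, hu₁1, hu₁c⟩, -⟩ := transvection_case D₂ Ω hΩcard hQ' hΩe
      (fun a ha b hb => hΩc a (hΩQ ha) b hb) e heπ h8
    exact central_contra D M Ω hMΩ hΩQ hcard hM hΩcard hab hsq hinj hΩe hy hfixΩ u₁ hu₁
      (fun h => hu₁1 (hMfix u₁ h (hu₁c y))) hu₁c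
  refine h8 ?_
  -- `u` is a commutator with `e` modulo the module
  have he2 : ∀ v ∈ V, q e * q e * v = v * (q e * q e) := by
    intro v hv
    rw [← map_mul]
    refine hVc _ ⟨_, ?_, rfl⟩ v hv
    show e * e ∈ Q
    rw [hQdef, ← hker, MonoidHom.mem_ker, map_mul, heπ]; exact g₀_facts.2.2.1
  have hD₂ : ∀ x ∈ (D₂.quot M (hMQ.trans hker.ge)).π.ker, ∀ v ∈ V, x * v = v * x := fun x hx v hv => by
    refine hVc x ?_ v hv
    rw [D₂.quot_ker M (hMQ.trans hker.ge)] at hx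
    obtain ⟨a, ha, rfl⟩ := hx
    exact ⟨a, hker.le ha, rfl⟩
  obtain ⟨-, hCsurj⟩ := comm_eq V hV16 hV2 hVc (q e) he2 (fun h8' => by
    obtain ⟨-, R, hRn, hRV, hR8, hR⟩ := transvection_case (D₂.quot M (hMQ.trans hker.ge)) V hV16 hD₂ hV2 hVc
      (q e) heπ h8'
    have hle := hW₀min R fun v hv => hR (q y) v hv
    exact hWex ⟨W₀, (Subgroup.eq_of_le_of_card_ge hle (by omega)) ▸ hRn, hW₀V, hW₀8, hW₀fix⟩)
  obtain ⟨_, ⟨a, ha, rfl⟩, hae⟩ := hCsurj uV ⟨hu ▸ ⟨u, huQ, rfl⟩,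
    Subgroup.mem_centralizer_singleton_iff.2 (huVc (q e)).symm⟩
  rw [← map_commutatorElement] at hae
  have hxΩ : ⁅e, a⁆ ∈ Ω := (hΩiff _).2 (Or.inr hae)
  have hxM : ⁅e, a⁆ ∉ M := fun h => huV1 (hae.symm.trans (mk_eq_one.2 h))
  have hee : e * e ∈ Q := by rw [hQdef, ← hker, MonoidHom.mem_ker, map_mul, heπ]; exact g₀_facts.2.2.1
  have hxe : e * ⁅e, a⁆ = ⁅e, a⁆ * e := by
    refine mul_inv_eq_iff_eq_mul.1 ?_
    calc e * ⁅e, a⁆ * e⁻¹ = e * e * a * (e * e)⁻¹ * (e * a * e⁻¹)⁻¹ := by rw [commutatorElement_def]; group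
      _ = ⁅e, a⁆⁻¹ := by rw [hab _ hee a ha, mul_inv_cancel_right, commutatorElement_def]; group
      _ = ⁅e, a⁆ := inv_eq_of_mul_eq_one_right (hΩe _ hxΩ)
  obtain ⟨hM4, -, -⟩ := natural_fixed D₂ M hM hMe hMcc (fun z hz => hMc z (hker.le hz)) (y := y) hyM g hg
  have hle : M ⊓ Subgroup.centralizer {e} ≤ Ω ⊓ Subgroup.centralizer {e} := inf_le_inf_right _ hMΩ
  obtain ⟨k, hk⟩ := Subgroup.card_dvd_of_le hle
  have hne1 : k ≠ 1 := fun h1 => hxM (by
    have h' : ⁅e, a⁆ ∈ Ω ⊓ Subgroup.centralizer {e} := ⟨hxΩ, Subgroup.mem_centralizer_singleton_iff.2 hxe.symm⟩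
    rw [← Subgroup.eq_of_le_of_card_ge hle (by rw [hk, h1, mul_one])] at h'
    exact h'.1)
  have hk0 : k ≠ 0 := fun h0 => (Nat.card_pos (α := ↥(Ω ⊓ Subgroup.centralizer {e}))).ne' (by
    rw [hk, h0, mul_zero])
  rw [hk, hM4]; omega

end H69.LinThree
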