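import Cfsg.Agent.H69.LinThreeLayers
import Mathlib

/-!
Kernels of order thirty-two modulo a minimal normal subgroup.
-/

set_option autoImplicit false

namespace H69.LinThree

open scoped commutatorElement Matrix
open H69.AltFive (card_map_mk mk_mem_map comm_mem_of_sq mul_mem_of_index_two)

variable {G : Type*} [Group G]

/-- The model. -/
abbrev Model := Multiplicative (ZMod 4) × (Fin 3 → Multiplicative (ZMod 2))

theorem model_facts : ((Multiplicative.ofAdd 1, 1) : Model) * (Multiplicative.ofAdd 1, 1) ≠ 1 ∧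
    ∀ x : Model, x * x = 1 ∨ x * x = (Multiplicative.ofAdd 1, 1) * (Multiplicative.ofAdd 1, 1) := by
  decide +kernel

/-- Sixteen above a central subgroup of order two. -/
theorem sixteen_two [Finite G] (D : Data G) (M : Subgroup G) [M.Normal] (hMQ : M ≤ D.π.ker) (hM : Nat.card M = 2)
    (hMc : ∀ g : G, ∀ f ∈ M, g * f = f * g) (hsq : ∀ a ∈ D.π.ker, a * a ∈ M) (hcard : Nat.card D.π.ker = 32)
    {y : G} (hy7 : y ^ 7 = 1) (hmove : ∃ a ∈ D.π.ker, ⁅y, a⁆ ∉ M) (hne1 : ¬ ∀ a ∈ D.π.ker, a * a = 1) :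
    Nonempty (D.π.ker ≃* Model) := by
  classical
  set Q := D.π.ker with hQdef
  haveI : Q.Normal := MonoidHom.normal_ker D.π
  have hMe : ∀ f ∈ M, f * f = 1 := fun f hf => by
    have h := pow_card_eq_one' (x := (⟨f, hf⟩ : M))
    rw [hM, sq] at h
    exact congrArg Subtype.val h
  set q := QuotientGroup.mk' M with hq
  set V := Q.map q with hV
  haveI : V.Normal := (inferInstance : Q.Normal).map _ (QuotientGroup.mk'_surjective M)
  have hV16 : Nat.card V = 16 := by
    have h := card_map_mk hMQ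
    rw [hM, hcard] at h
    show Nat.card (Q.map (QuotientGroup.mk' M)) = 16
    omega
  have hV2 : ∀ v ∈ V, v * v = 1 := by
    rintro _ ⟨a, ha, rfl⟩
    rw [← map_mul]; exact mk_eq_one.2 (hsq a ha)
  have hVc : ∀ a ∈ V, ∀ b ∈ V, a * b = b * a := by
    rintro _ ⟨a, ha, rfl⟩ _ ⟨b, hb, rfl⟩
    rw [← commutatorElement_eq_one_iff_mul_comm, ← map_commutatorElement]
    exact mk_eq_one.2 (comm_mem_of_sq hsq ha hb)
  have hy7' : q y ^ 7 = 1 := by rw [← map_pow, hy7, map_one]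
  have hne : ¬ ∀ v ∈ V, q y * v = v * q y := fun h => by
    obtain ⟨a, ha, ha'⟩ := hmove
    refine ha' (mk_eq_one.1 ?_)
    rw [map_commutatorElement, commutatorElement_eq_one_iff_mul_comm]
    exact h _ ⟨a, ha, rfl⟩
  obtain ⟨W₀, u₀, hWV, hW8, hWy, hWfix, hu₀, hu₁, huy, huW, hcos, -, -, htrans⟩ :=
    commutator_eight V hV16 hV2 hVc hy7' hne
  set W := W₀.comap q with hW
  have hWQ : W ≤ Q := fun x hx => (mk_mem_map hMQ).1 (hWV hx)
  have hMW : M ≤ W := fun x hx => by rw [hW, Subgroup.mem_comap, mk_eq_one.2 hx]; exact W₀.one_mem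
  have hW16 : Nat.card W = 16 := by
    have h := card_map_mk hMW
    rw [hM, show W.map (QuotientGroup.mk' M) = W₀ from
      Subgroup.map_comap_eq_self_of_surjective (QuotientGroup.mk'_surjective M) W₀, hW8] at h
    exact h.symm
  have horb : ∀ a ∈ W, ∀ b ∈ W, a ∉ M → b ∉ M → ∃ k : ℕ, ∃ f ∈ M, b = y ^ k * a * (y ^ k)⁻¹ * f := by
    intro a ha b hb haM hbM
    obtain ⟨k, hk⟩ := htrans _ ha _ hb (fun h => haM (mk_eq_one.1 h)) (fun h => hbM (mk_eq_one.1 h))
    refine ⟨k, (y ^ k * a * (y ^ k)⁻¹)⁻¹ * b, mk_eq_one.1 ?_, by group⟩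
    show q _ = 1
    rw [map_mul, map_inv, map_mul, map_mul, map_inv, map_pow, hk, inv_mul_cancel]
  have hWsq : ∀ a ∈ W, a * a = 1 := by
    intro a ha
    by_cases haM : a ∈ M
    · exact hMe a haM
    refine sq_const W M (fun x _ f hf => hMc x f hf) hMe (fun x hx => hsq x (hWQ hx)) hMW (by omega) _
      fun b hb hbM => ?_
    obtain ⟨k, f, hf, rfl⟩ := horb a ha b hb haM hbM
    calc y ^ k * a * (y ^ k)⁻¹ * f * (y ^ k * a * (y ^ k)⁻¹ * f)
        = y ^ k * a * (y ^ k)⁻¹ * (f * (y ^ k * a * (y ^ k)⁻¹)) * f := by group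
      _ = y ^ k * a * (y ^ k)⁻¹ * (y ^ k * a * (y ^ k)⁻¹ * f) * f := by rw [← hMc (y ^ k * a * (y ^ k)⁻¹) f hf]
      _ = y ^ k * (a * a) * (y ^ k)⁻¹ * (f * f) := by group
      _ = a * a := by rw [hMc (y ^ k) _ (hsq a (hWQ ha)), hMe f hf, mul_one, mul_inv_cancel_right]
  obtain ⟨u, huQ, hqu⟩ := hu₀
  have huW' : u ∉ W := fun h => huW (hqu ▸ h)
  have hcomm : ∀ a ∈ W, ⁅u, a⁆ ∈ M := fun a ha => comm_mem_of_sq hsq huQ (hWQ ha)
  have hmul : ∀ a ∈ W, ∀ b ∈ W, ⁅u, a * b⁆ = ⁅u, a⁆ * ⁅u, b⁆ := fun a ha b hb => by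
    calc ⁅u, a * b⁆ = ⁅u, a⁆ * (a * ⁅u, b⁆ * a⁻¹) := by
          rw [commutatorElement_def, commutatorElement_def, commutatorElement_def]; group
      _ = _ := by rw [hMc a _ (hcomm b hb), mul_inv_cancel_right]
  have hconst : ∀ a ∈ W, ∀ b ∈ W, a ∉ M → b ∉ M → ⁅u, b⁆ = ⁅u, a⁆ := by
    intro a ha b hb haM hbM
    obtain ⟨k, f, hf, rfl⟩ := horb a ha b hb haM hbM
    have hcu : q (y ^ k) * q u * (q (y ^ k))⁻¹ = q u := by
      rw [map_pow, hqu, (show Commute (q y) u₀ from huy).pow_left k |>.eq, mul_inv_cancel_right]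
    obtain ⟨m, hm, hme⟩ : ∃ m ∈ M, y ^ k * u * (y ^ k)⁻¹ = u * m := ⟨u⁻¹ * (y ^ k * u * (y ^ k)⁻¹), mk_eq_one.1 (by
      show q _ = 1
      rw [map_mul, map_mul, map_mul, map_inv, map_inv, hcu, inv_mul_cancel]), by group⟩
    have hb' : y ^ k * a * (y ^ k)⁻¹ ∈ W := by
      have h := W.mul_mem hb (W.inv_mem (hMW hf))
      rwa [mul_inv_cancel_right] at h
    rw [hmul _ hb' f (hMW hf), commutatorElement_eq_one_iff_mul_comm.2 (hMc u f hf), mul_one]
    calc ⁅u, y ^ k * a * (y ^ k)⁻¹⁆ = u * (m * (y ^ k * a * (y ^ k)⁻¹)) * m⁻¹ * u⁻¹ * (y ^ k * a * (y ^ k)⁻¹)⁻¹ := by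
          rw [← hMc _ m hm, commutatorElement_def]; group
      _ = y ^ k * ⁅u, a⁆ * (y ^ k)⁻¹ := by
          rw [show u * (m * (y ^ k * a * (y ^ k)⁻¹)) * m⁻¹ * u⁻¹ * (y ^ k * a * (y ^ k)⁻¹)⁻¹ =
            (u * m) * (y ^ k * a * (y ^ k)⁻¹) * (u * m)⁻¹ * (y ^ k * a * (y ^ k)⁻¹)⁻¹ by group, ← hme,
            commutatorElement_def]
          group
      _ = _ := by rw [hMc _ _ (hcomm a ha), mul_inv_cancel_right]
  have huc : ∀ a ∈ W, u * a = a * u := by
    intro a ha
    by_cases haM : a ∈ M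
    · exact hMc u a haM
    rw [← commutatorElement_eq_one_iff_mul_comm]
    obtain ⟨b, hb, hbM, habM⟩ : ∃ b ∈ W, b ∉ M ∧ a * b ∉ M := by
      by_contra h
      push Not at h
      have := Nat.card_le_card_of_surjective (fun p : Bool × M => (⟨cond p.1 a⁻¹ 1 * p.2, W.mul_mem (by
        cases p.1 <;> simp [ha]) (hMW p.2.2)⟩ : W)) (by
        rintro ⟨b, hb⟩
        by_cases hbM : b ∈ M
        · exact ⟨(false, ⟨b, hbM⟩), Subtype.ext (one_mul b)⟩
        · exact ⟨(true, ⟨a * b, h b hb hbM⟩), Subtype.ext (inv_mul_cancel_left a b)⟩)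
      rw [Nat.card_prod, hM, hW16, Nat.card_eq_fintype_card, Fintype.card_bool] at this
      omega
    have h1 := hmul a ha b hb
    rw [hconst a ha b hb haM hbM, hconst a ha (a * b) (W.mul_mem ha hb) haM habM, hMe _ (hcomm a ha)] at h1
    exact h1
  have hWc : ∀ a ∈ W, ∀ b ∈ W, a * b = b * a := fun a ha b hb => by
    calc a * b = (a * b)⁻¹ := (inv_eq_of_mul_eq_one_right (hWsq _ (W.mul_mem ha hb))).symm
      _ = b * a := by
        rw [mul_inv_rev, inv_eq_of_mul_eq_one_right (hWsq a ha), inv_eq_of_mul_eq_one_right (hWsq b hb)]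
  have hsplit : ∀ x ∈ Q, x ∈ W ∨ ∃ w ∈ W, x = u * w := by
    intro x hx
    rcases hcos _ ⟨x, hx, rfl⟩ with h | h
    · exact Or.inl h
    · refine Or.inr ⟨u⁻¹ * x, ?_, by group⟩
      show q (u⁻¹ * x) ∈ W₀
      rw [map_mul, map_inv, hqu, inv_eq_of_mul_eq_one_right (hqu ▸ hV2 (q u) ⟨u, huQ, rfl⟩)]
      exact h
  have hab : ∀ a ∈ Q, ∀ b ∈ Q, a * b = b * a := by
    intro a ha b hb
    rcases hsplit a ha with ha' | ⟨a, ha', rfl⟩ <;> rcases hsplit b hb with hb' | ⟨b, hb', rfl⟩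
    · exact hWc a ha' b hb'
    · rw [← mul_assoc, ← huc a ha', mul_assoc, hWc a ha' b hb', ← mul_assoc]
    · rw [mul_assoc, hWc a ha' b hb', ← mul_assoc, huc b hb', mul_assoc]
    · calc u * a * (u * b) = u * (a * u) * b := by group
        _ = u * (u * a) * b := by rw [huc a ha']
        _ = u * u * (a * b) := by group
        _ = u * u * (b * a) := by rw [hWc a ha' b hb']
        _ = u * (u * b) * a := by group
        _ = u * (b * u) * a := by rw [huc b hb']
        _ = u * b * (u * a) := by group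
  have huu : u * u ≠ 1 := by
    intro h
    refine hne1 fun x hx => ?_
    rcases hsplit x hx with hx' | ⟨w, hw, rfl⟩
    · exact hWsq x hx'
    · calc u * w * (u * w) = u * (w * u) * w := by group
        _ = u * (u * w) * w := by rw [huc w hw]
        _ = u * u * (w * w) := by group
        _ = 1 := by rw [h, hWsq w hw, mul_one]
  -- a complement
  haveI : W.Normal := ⟨fun x hx g => by
    rcases hsplit _ ((inferInstance : Q.Normal).conj_mem x (hWQ hx) g) with h | ⟨w, hw, h⟩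
    · exact h
    · refine absurd ?_ huu
      have h1 : g * x * g⁻¹ * (g * x * g⁻¹) = 1 := by
        calc g * x * g⁻¹ * (g * x * g⁻¹) = g * (x * x) * g⁻¹ := by group
          _ = 1 := by rw [hWsq x hx, mul_one, mul_inv_cancel]
      rw [h] at h1
      calc u * u = u * u * (w * w) := by rw [hWsq w hw, mul_one]
        _ = u * (u * w) * w := by group
        _ = u * (w * u) * w := by rw [huc w hw]
        _ = u * w * (u * w) := by group
        _ = 1 := h1⟩
  have hWmove : ¬ ∀ v ∈ W, y * v = v * y := fun h => by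
    obtain ⟨v, hv, hv1⟩ := (Subgroup.bot_or_exists_ne_one W₀).resolve_left (fun hb => by
      rw [hb, Subgroup.card_bot] at hW8; omega)
    obtain ⟨a, ha⟩ := QuotientGroup.mk'_surjective M v
    refine hv1 (hWfix v hv ?_)
    rw [← ha, ← map_mul, ← map_mul, h a (show q a ∈ W₀ by rw [show q a = v from ha]; exact hv)]
  obtain ⟨R, -, hRW, hR8, -, hRfix, -, -, -, -, -, -, -, -⟩ := commutator_eight W hW16 hWsq hWc hy7 hWmove
  letI : CommGroup R := { (inferInstance : Group R) with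
    mul_comm := fun a b => Subtype.ext (hWc a (hRW a.2) b (hRW b.2)) }
  letI : Module (ZMod 2) (Additive R) := AddCommGroup.zmodModule (fun x => by
    rw [two_nsmul]; exact Subtype.ext (hWsq _ (hRW x.toMul.2)))
  haveI : Module.Finite (ZMod 2) (Additive R) := Module.Finite.of_finite
  haveI : Fact (Nat.Prime 2) := ⟨Nat.prime_two⟩
  have hd : Module.finrank (ZMod 2) (Additive R) = 3 := by
    have h := Module.natCard_eq_pow_finrank (K := ZMod 2) (V := Additive R)
    rw [Nat.card_zmod, Nat.card_congr (Additive.toMul (α := R)), hR8] at h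
    exact (Nat.pow_right_injective le_rfl (h.symm.trans (by norm_num : (8 : ℕ) = 2 ^ 3)))
  let E : Additive R ≃ₗ[ZMod 2] (Fin 3 → ZMod 2) := LinearEquiv.ofFinrankEq _ _ (by rw [hd]; simp)
  letI : CommGroup Q := { (inferInstance : Group Q) with mul_comm := fun a b => Subtype.ext (hab a a.2 b b.2) }
  let U : Q := ⟨u, huQ⟩
  have hU4 : U ^ 4 = 1 := Subtype.ext (by
    show u ^ 4 = 1
    rw [show 4 = 2 + 2 from rfl, pow_add, sq]; exact hMe _ (hsq u huQ))
  let ψ : (Fin 3 → Multiplicative (ZMod 2)) → Q := fun v =>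
    ⟨((E.symm (fun k => (v k).toAdd)).toMul : R), hWQ (hRW ((E.symm (fun k => (v k).toAdd)).toMul : R).2)⟩
  have hψ : ∀ v w, ψ (v * w) = ψ v * ψ w := fun v w => by
    refine Subtype.ext ?_
    show (((E.symm ((fun k => (v k).toAdd) + fun k => (w k).toAdd)).toMul : R) : G) = _
    rw [map_add]; rfl
  let Φ : Model →* Q :=
    { toFun := fun p => U ^ (p.1.toAdd).val * ψ p.2
      map_one' := by
        have h1 : ψ 1 = 1 := by
          have h := hψ 1 1
          rw [one_mul, left_eq_mul] at h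
          exact h
        show U ^ (0 : ZMod 4).val * ψ 1 = 1
        rw [ZMod.val_zero, pow_zero, one_mul, h1]
      map_mul' := fun p r => by
        show U ^ (p.1.toAdd + r.1.toAdd).val * ψ (p.2 * r.2) = _
        rw [ZMod.val_add, ← pow_eq_pow_mod _ hU4, pow_add, hψ]
        ac_rfl }
  have hinj : Function.Injective Φ := by
    rw [injective_iff_map_eq_one]
    rintro ⟨i, v⟩ h
    replace h : u ^ (i.toAdd).val * (((E.symm (fun k => (v k).toAdd)).toMul : R) : G) = 1 := congrArg Subtype.val h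
    set r := ((E.symm (fun k => (v k).toAdd)).toMul : R) with hr
    have hrW : (r : G) ∈ W := hRW r.2
    have hpow : u ^ (i.toAdd).val = (r : G)⁻¹ := eq_inv_of_mul_eq_one_left h
    have hi : i.toAdd = 0 := by
      have hu2 : u * u ∈ W := hMW (hsq u huQ)
      have h4 : ∀ n : ZMod 4, n = 0 ∨ n.val = 1 ∨ n.val = 2 ∨ n.val = 3 := by decide
      rcases h4 i.toAdd with h | h | h | h
      · exact h
      all_goals rw [h] at hpow
      · exact absurd (by rw [pow_one] at hpow; rw [hpow]; exact W.inv_mem hrW) huW'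
      · rw [sq] at hpow
        refine absurd (hRfix _ (hRW.trans le_rfl |> fun _ => R.inv_mem r.2) ?_) (hpow ▸ huu)
        rw [← hpow]; exact hMc y _ (hsq u huQ)
      · refine absurd ?_ huW'
        have h3 : u = (u ^ 3) * (u * u)⁻¹ := by group
        rw [h3, hpow]; exact W.mul_mem (W.inv_mem hrW) (W.inv_mem hu2)
    rw [hi, ZMod.val_zero, pow_zero, one_mul] at h
    have h0 : (fun k => (v k).toAdd) = 0 := by
      have h1 : E.symm (fun k => (v k).toAdd) = 0 := Additive.toMul.injective (Subtype.ext h)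
      exact E.symm.map_eq_zero_iff.1 h1
    exact Prod.ext (Multiplicative.toAdd.injective hi) (funext fun k => Multiplicative.toAdd.injective (congrFun h0 k))
  exact ⟨(MulEquiv.ofBijective Φ ((Nat.bijective_iff_injective_and_card Φ).2 ⟨hinj, by
    rw [hcard, Nat.card_eq_fintype_card]; rfl⟩)).symm⟩

/-- The subgroups inside a kernel with homocyclic-by-elementary quotient. -/
structure Layer (D : Data G) (M W F : Subgroup G) (u : G) (y : G) : Prop where
  hMF : M ≤ F
  hFW : F ≤ W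
  hWQ : W ≤ D.π.ker
  cardF : Nat.card F = 2 * Nat.card M
  cardW : Nat.card W = 8 * Nat.card F
  memW : ∀ a ∈ D.π.ker, (a ∈ W ↔ a * a ∈ M)
  sqF : ∀ a ∈ D.π.ker, a * a ∈ F
  comm : ∀ a ∈ D.π.ker, ∀ b ∈ D.π.ker, ⁅a, b⁆ ∈ M
  huQ : u ∈ D.π.ker
  huM : u * u ∉ M
  split : ∀ a ∈ D.π.ker, a ∈ W ∨ ∃ w ∈ W, a = u * w
  splitF : ∀ f ∈ F, f ∈ M ∨ ∃ m ∈ M, f = u * u * m
  central : ∀ x ∈ D.π.ker, ∀ f ∈ F, x * f = f * x
  conju : ∀ g, ∃ w ∈ W, g * u * g⁻¹ = u * w
  conjz : ∀ g, ∃ m ∈ M, g * (u * u) * g⁻¹ = u * u * m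
  fix : ∀ a ∈ W, ⁅y, a⁆ ∈ F → a ∈ F

/-- They exist. -/
theorem exists_layer [Finite G] (D : Data G) (M : Subgroup G) [M.Normal] (hMQ : M ≤ D.π.ker)
    (hMc : ∀ x ∈ D.π.ker, ∀ f ∈ M, x * f = f * x) (hMe : ∀ f ∈ M, f * f = 1)
    (e : (D.π.ker.map (QuotientGroup.mk' M) : Subgroup (G ⧸ M)) ≃* Model) {y : G} (hy7 : y ^ 7 = 1)
    (hmove : ∃ a ∈ D.π.ker, ⁅y, a⁆ ∉ M) :
    ∃ (W F : Subgroup G) (u : G), W.Normal ∧ F.Normal ∧ Layer D M W F u y := by
  classical
  set Q := D.π.ker with hQdef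
  haveI : Q.Normal := MonoidHom.normal_ker D.π
  set q := QuotientGroup.mk' M with hq
  set V := Q.map q with hV
  haveI : V.Normal := (inferInstance : Q.Normal).map _ (QuotientGroup.mk'_surjective M)
  have hVc : ∀ a ∈ V, ∀ b ∈ V, a * b = b * a := fun a ha b hb =>
    congrArg Subtype.val (e.injective (by rw [map_mul, map_mul, mul_comm]) : (⟨a, ha⟩ : V) * ⟨b, hb⟩ = ⟨b, hb⟩ * ⟨a, ha⟩)
  have hcomm : ∀ a ∈ Q, ∀ b ∈ Q, ⁅a, b⁆ ∈ M := fun a ha b hb => mk_eq_one.1 (by
    rw [map_commutatorElement, commutatorElement_eq_one_iff_mul_comm]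
    exact hVc _ ⟨a, ha, rfl⟩ _ ⟨b, hb, rfl⟩)
  obtain ⟨hm1, hm2⟩ := model_facts
  obtain ⟨u, hu, hue⟩ := (e.symm (Multiplicative.ofAdd 1, 1)).2
  have hueq : (⟨q u, u, hu, rfl⟩ : V) = e.symm (Multiplicative.ofAdd 1, 1) := Subtype.ext hue
  have huM : u * u ∉ M := fun h => hm1 (by
    have h1 : (⟨q u, u, hu, rfl⟩ : V) * ⟨q u, u, hu, rfl⟩ = 1 := Subtype.ext (by
      show q u * q u = 1
      rw [← map_mul]; exact mk_eq_one.2 h)
    rw [hueq, ← map_mul, MulEquiv.map_eq_one_iff] at h1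
    exact h1)
  have hdich : ∀ a ∈ Q, a * a ∈ M ∨ (u * u)⁻¹ * (a * a) ∈ M := by
    intro a ha
    rcases hm2 (e ⟨q a, a, ha, rfl⟩) with h | h
    · left
      rw [← map_mul, MulEquiv.map_eq_one_iff] at h
      exact mk_eq_one.1 ((map_mul q a a).trans (congrArg Subtype.val h))
    · right
      rw [← e.apply_symm_apply (Multiplicative.ofAdd 1, 1), ← hueq, ← map_mul, ← map_mul] at h
      refine mk_eq_one.1 ?_
      rw [map_mul, map_inv, inv_mul_eq_one, map_mul, map_mul]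
      exact (congrArg Subtype.val (e.injective h)).symm
  have hadd : ∀ a ∈ Q, ∀ b ∈ Q, q (a * b * (a * b)) = q (a * a) * q (b * b) := fun a ha b hb => by
    simp only [map_mul]
    have h := hVc (q b) ⟨b, hb, rfl⟩ (q a) ⟨a, ha, rfl⟩
    calc q a * q b * (q a * q b) = q a * (q b * q a) * q b := by group
      _ = q a * (q a * q b) * q b := by rw [h]
      _ = _ := by group
  let W : Subgroup G :=
    { carrier := {a | a ∈ Q ∧ a * a ∈ M}
      one_mem' := ⟨Q.one_mem, by rw [mul_one]; exact M.one_mem⟩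
      mul_mem' := fun {a b} ⟨ha, ha'⟩ ⟨hb, hb'⟩ => ⟨Q.mul_mem ha hb, mk_eq_one.1 (by
        rw [hadd a ha b hb, mk_eq_one.2 ha', mk_eq_one.2 hb', mul_one])⟩
      inv_mem' := fun {a} ⟨ha, ha'⟩ => ⟨Q.inv_mem ha, by rw [← mul_inv_rev]; exact M.inv_mem ha'⟩ }
  haveI : W.Normal := ⟨fun a ha g => ⟨(inferInstance : Q.Normal).conj_mem a ha.1 g, by
    rw [show g * a * g⁻¹ * (g * a * g⁻¹) = g * (a * a) * g⁻¹ by group]
    exact (inferInstance : M.Normal).conj_mem _ ha.2 g⟩⟩
  have hWQ : W ≤ Q := fun a ha => ha.1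
  have huW : u ∉ W := fun h => huM h.2
  have hsplit : ∀ a ∈ Q, a ∈ W ∨ ∃ w ∈ W, a = u * w := by
    intro a ha
    rcases hdich a ha with h | h
    · exact Or.inl ⟨ha, h⟩
    · refine Or.inr ⟨u⁻¹ * a, ⟨Q.mul_mem (Q.inv_mem hu) ha, mk_eq_one.1 ?_⟩, by group⟩
      rw [hadd _ (Q.inv_mem hu) a ha, ← map_mul, mk_eq_one]
      rwa [← mul_inv_rev]
  have hconju : ∀ g, ∃ w ∈ W, g * u * g⁻¹ = u * w := fun g =>
    (hsplit _ ((inferInstance : Q.Normal).conj_mem u hu g)).resolve_left fun h => huW (by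
      have := (inferInstance : W.Normal).conj_mem _ h g⁻¹
      rwa [show g⁻¹ * (g * u * g⁻¹) * g⁻¹⁻¹ = u by group] at this)
  have hconjz : ∀ g, ∃ m ∈ M, g * (u * u) * g⁻¹ = u * u * m := by
    intro g
    obtain ⟨w, hw, h⟩ := hconju g
    refine ⟨(u * u)⁻¹ * (g * (u * u) * g⁻¹), mk_eq_one.1 ?_, by group⟩
    rw [show g * (u * u) * g⁻¹ = g * u * g⁻¹ * (g * u * g⁻¹) by group, h, map_mul, hadd u hu w (hWQ hw),
      mk_eq_one.2 hw.2, mul_one, map_inv, inv_mul_cancel]
  have hzQ : u * u ∈ Q := Q.mul_mem hu hu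
  have hzc : ∀ x ∈ Q, x * (u * u) = u * u * x := by
    intro x hx
    refine (commutatorElement_eq_one_iff_mul_comm.1 ?_).symm
    calc ⁅u * u, x⁆ = u * ⁅u, x⁆ * u⁻¹ * ⁅u, x⁆ := by rw [commutatorElement_def, commutatorElement_def]; group
      _ = 1 := by rw [hMc u hu _ (hcomm u hu x hx), mul_inv_cancel_right, hMe _ (hcomm u hu x hx)]
  have hz4 : u * u * (u * u) ∈ M := by
    rcases hdich (u * u) hzQ with h | h
    · exact h
    · exfalso
      refine huM ?_
      rwa [← mul_assoc, inv_mul_cancel, one_mul] at h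
  let F : Subgroup G :=
    { carrier := {f | f ∈ M ∨ (u * u)⁻¹ * f ∈ M}
      one_mem' := Or.inl M.one_mem
      mul_mem' := by
        intro a b ha hb
        rcases ha with ha | ha <;> rcases hb with hb | hb
        · exact Or.inl (M.mul_mem ha hb)
        · refine Or.inr ?_
          rw [← mul_assoc, hMc _ (Q.inv_mem hzQ) a ha, mul_assoc]
          exact M.mul_mem ha hb
        · exact Or.inr (by rw [← mul_assoc]; exact M.mul_mem ha hb)
        · refine Or.inl ?_
          have h1 : a * b = (u * u * (u * u)) * (((u * u)⁻¹ * a) * ((u * u)⁻¹ * b)) := by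
            rw [show (u * u)⁻¹ * a * ((u * u)⁻¹ * b) = (((u * u)⁻¹ * a) * (u * u)⁻¹) * b by group,
              ← hMc _ (Q.inv_mem hzQ) _ ha]
            group
          rw [h1]; exact M.mul_mem hz4 (M.mul_mem ha hb)
      inv_mem' := by
        intro a ha
        rcases ha with ha | ha
        · exact Or.inl (M.inv_mem ha)
        · refine Or.inr ?_
          rw [show (u * u)⁻¹ * a⁻¹ = (u * u)⁻¹ * ((u * u)⁻¹ * a)⁻¹ * (u * u)⁻¹ by group,
            hMc _ (Q.inv_mem hzQ) _ (M.inv_mem ha), mul_assoc, ← mul_inv_rev]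
          exact M.mul_mem (M.inv_mem ha) (M.inv_mem hz4) }
  haveI : F.Normal := ⟨fun f hf g => by
    rcases hf with hf | hf
    · exact Or.inl ((inferInstance : M.Normal).conj_mem f hf g)
    · obtain ⟨m, hm, h⟩ := hconjz g
      refine Or.inr ?_
      rw [show (u * u)⁻¹ * (g * f * g⁻¹) = (u * u)⁻¹ * (g * (u * u) * g⁻¹) * (g * ((u * u)⁻¹ * f) * g⁻¹) by group, h,
        inv_mul_cancel_left]
      exact M.mul_mem hm ((inferInstance : M.Normal).conj_mem _ hf g)⟩
  have hzW : u * u ∈ W := ⟨hzQ, hz4⟩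
  have hMW : M ≤ W := fun f hf => ⟨hMQ hf, M.mul_mem hf hf⟩
  have hsplitF : ∀ f ∈ F, f ∈ M ∨ ∃ m ∈ M, f = u * u * m := by
    intro f hf
    rcases hf with h | h
    · exact Or.inl h
    · exact Or.inr ⟨_, h, by group⟩
  have hMF : M ≤ F := fun f hf => Or.inl hf
  have hFW : F ≤ W := fun f hf => by
    rcases hsplitF f hf with h | ⟨m, hm, rfl⟩
    exacts [hMW h, W.mul_mem hzW (hMW hm)]
  have hcF : Nat.card F = 2 * Nat.card M := by
    have hbij : Function.Bijective (fun p : Bool × M => (⟨cond p.1 (u * u) 1 * (p.2 : G), F.mul_mem (by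
        cases p.1
        · exact F.one_mem
        · exact Or.inr (by simp only [cond_true]; rw [inv_mul_cancel]; exact M.one_mem)) (hMF p.2.2)⟩ : F)) := by
      constructor
      · rintro ⟨i, a⟩ ⟨j, b⟩ h
        have h' := congrArg Subtype.val h
        cases i <;> cases j <;> simp only [cond_true, cond_false, one_mul] at h'
        · exact Prod.ext rfl (Subtype.ext h')
        · exact absurd (by rw [show u * u = (a : G) * (b : G)⁻¹ by rw [h']; group]; exact M.mul_mem a.2 (M.inv_mem b.2)) huM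
        · exact absurd (by rw [show u * u = (b : G) * (a : G)⁻¹ by rw [← h']; group]; exact M.mul_mem b.2 (M.inv_mem a.2)) huM
        · exact Prod.ext rfl (Subtype.ext (mul_left_cancel h'))
      · rintro ⟨f, hf⟩
        rcases hsplitF f hf with h | ⟨m, hm, rfl⟩
        · exact ⟨(false, ⟨f, h⟩), Subtype.ext (one_mul f)⟩
        · exact ⟨(true, ⟨m, hm⟩), rfl⟩
    rw [← Nat.card_eq_of_bijective _ hbij, Nat.card_prod, Nat.card_eq_fintype_card (α := Bool), Fintype.card_bool]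
  have hV32 : Nat.card V = 32 := by rw [Nat.card_congr e.toEquiv, Nat.card_eq_fintype_card]; rfl
  have hQW : Nat.card Q = 2 * Nat.card W := by
    have hbij : Function.Bijective (fun p : Bool × W => (⟨cond p.1 u 1 * (p.2 : G), Q.mul_mem (by
        cases p.1
        · exact Q.one_mem
        · exact hu) (hWQ p.2.2)⟩ : Q)) := by
      constructor
      · rintro ⟨i, a⟩ ⟨j, b⟩ h
        have h' := congrArg Subtype.val h
        cases i <;> cases j <;> simp only [cond_true, cond_false, one_mul] at h'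
        · exact Prod.ext rfl (Subtype.ext h')
        · exact absurd (by rw [show u = (a : G) * (b : G)⁻¹ by rw [h']; group]; exact W.mul_mem a.2 (W.inv_mem b.2)) huW
        · exact absurd (by rw [show u = (b : G) * (a : G)⁻¹ by rw [← h']; group]; exact W.mul_mem b.2 (W.inv_mem a.2)) huW
        · exact Prod.ext rfl (Subtype.ext (mul_left_cancel h'))
      · rintro ⟨x, hx⟩
        rcases hsplit x hx with h | ⟨w, hw, rfl⟩
        · exact ⟨(false, ⟨x, h⟩), Subtype.ext (one_mul x)⟩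
        · exact ⟨(true, ⟨w, hw⟩), rfl⟩
    rw [← Nat.card_eq_of_bijective _ hbij, Nat.card_prod, Nat.card_eq_fintype_card (α := Bool), Fintype.card_bool]
  have hQcard : 32 * Nat.card M = Nat.card Q := by
    rw [← hV32]; exact card_map_mk hMQ
  have hcW : Nat.card W = 8 * Nat.card F := by omega
  -- fixed points
  set Wb := W.map q with hWb
  haveI : Wb.Normal := (inferInstance : W.Normal).map _ (QuotientGroup.mk'_surjective M)
  have hWb16 : Nat.card Wb = 16 := by
    have h := card_map_mk (N := M) hMW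
    have := Nat.card_pos (α := M)
    rw [hcW, hcF] at h
    show Nat.card (W.map (QuotientGroup.mk' M)) = 16
    nlinarith
  have hWb2 : ∀ v ∈ Wb, v * v = 1 := by
    rintro _ ⟨a, ha, rfl⟩
    rw [← map_mul]; exact mk_eq_one.2 ha.2
  have hWbc : ∀ a ∈ Wb, ∀ b ∈ Wb, a * b = b * a := fun a ha b hb =>
    hVc a (Subgroup.map_mono hWQ ha) b (Subgroup.map_mono hWQ hb)
  have hy7' : q y ^ 7 = 1 := by rw [← map_pow, hy7, map_one]
  have hWbne : ¬ ∀ v ∈ Wb, q y * v = v * q y := by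
    intro h
    obtain ⟨a, ha, ha'⟩ := hmove
    obtain ⟨w, hw, hwe⟩ := hconju y
    have h1 : q y * q u * (q y)⁻¹ = q u * q w := by rw [← map_mul, ← map_inv, ← map_mul, ← map_mul, hwe]
    have hw1 : q w = 1 := coset_fix hy7' (h _ ⟨w, hw, rfl⟩) (hWb2 _ ⟨w, hw, rfl⟩) h1
    rw [hw1, mul_one, mul_inv_eq_iff_eq_mul] at h1
    refine ha' (mk_eq_one.1 ?_)
    rw [map_commutatorElement, commutatorElement_eq_one_iff_mul_comm]
    rcases hsplit a ha with h' | ⟨v, hv, rfl⟩
    · exact h _ ⟨a, h', rfl⟩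
    · rw [map_mul, ← mul_assoc, h1, mul_assoc, h _ ⟨v, hv, rfl⟩, ← mul_assoc]
  obtain ⟨-, u₀, -, -, -, -, -, -, -, -, -, hCy, -, -⟩ := commutator_eight Wb hWb16 hWb2 hWbc hy7' hWbne
  have hzy : q y * q (u * u) = q (u * u) * q y := by
    obtain ⟨m, hm, h⟩ := hconjz y
    refine mul_inv_eq_iff_eq_mul.1 ?_
    rw [← map_inv, ← map_mul, ← map_mul, h, map_mul, mk_eq_one.2 hm, mul_one]
  have hz0 : q (u * u) = u₀ :=
    (hCy _ ⟨u * u, hzW, rfl⟩ hzy).resolve_left fun h => huM (mk_eq_one.1 h)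
  refine ⟨W, F, u, inferInstance, inferInstance,
    ⟨hMF, hFW, hWQ, hcF, hcW, fun a ha => ⟨fun h => h.2, fun h => ⟨ha, h⟩⟩, fun a ha => ?_, hcomm, hu, huM, hsplit,
      hsplitF, fun x hx f hf => ?_, hconju, hconjz, fun a ha hc => ?_⟩⟩
  · rcases hdich a ha with h | h
    exacts [Or.inl h, Or.inr h]
  · rcases hsplitF f hf with h | ⟨m, hm, rfl⟩
    · exact hMc x hx f h
    · rw [← mul_assoc, hzc x hx, mul_assoc, hMc x hx m hm, ← mul_assoc]
  · have hFq : ∀ f ∈ F, q f = 1 ∨ q f = q (u * u) := fun f hf => by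
      rcases hsplitF f hf with h | ⟨m, hm, rfl⟩
      · exact Or.inl (mk_eq_one.2 h)
      · exact Or.inr (by rw [map_mul, mk_eq_one.2 hm, mul_one])
    have hya : q y * q a = q a * q y := by
      rcases hFq _ hc with h | h <;> rw [map_commutatorElement] at h
      · exact commutatorElement_eq_one_iff_mul_comm.1 h
      · refine absurd (coset_fix hy7' hzy (hWb2 _ ⟨u * u, hzW, rfl⟩) (v := q a) ?_) fun h' => huM (mk_eq_one.1 h')
        calc q y * q a * (q y)⁻¹ = ⁅q y, q a⁆ * q a := by rw [commutatorElement_def]; group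
          _ = q a * q (u * u) := by rw [h]; exact hWbc _ ⟨u * u, hzW, rfl⟩ _ ⟨a, ha, rfl⟩
    rcases hCy _ ⟨a, ha, rfl⟩ hya with h | h
    · exact hMF (mk_eq_one.1 h)
    · refine Or.inr (mk_eq_one.1 ?_)
      rw [map_mul, map_inv, inv_mul_eq_one]
      exact hz0.trans h.symm

end H69.LinThree
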