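import Cfsg.Agent.H69.LinThreeOrders
import Cfsg.Agent.H69.AltFiveRadical
import Mathlib

/-!
The two-core of a two-constrained group of sectional two-rank four above the linear group of dimension three over two
elements.
-/

set_option autoImplicit false

namespace H69.LinThree

open scoped commutatorElement Matrix
open H69.AltFive (card_map_mk mk_mem_map comm_mem_of_sq mul_mem_of_index_two)

variable {G : Type*} [Group G]

theorem abelian_of_split (Q W : Subgroup G) (u : G) (hWc : ∀ a ∈ W, ∀ b ∈ W, a * b = b * a)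
    (huc : ∀ a ∈ W, u * a = a * u) (hsplit : ∀ a ∈ Q, a ∈ W ∨ ∃ w ∈ W, a = u * w) :
    ∀ a ∈ Q, ∀ b ∈ Q, a * b = b * a := by
  intro a ha b hb
  rcases hsplit a ha with ha' | ⟨a, ha', rfl⟩ <;> rcases hsplit b hb with hb' | ⟨b, hb', rfl⟩
  · exact hWc a ha' b hb'
  · rw [← mul_assoc, ← huc a ha', mul_assoc, hWc a ha' b hb', ← mul_assoc]
  · rw [mul_assoc, hWc a ha' b hb', ← mul_assoc, huc b hb', mul_assoc]
  · calc u * a * (u * b) = u * (a * u) * b := by group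
      _ = u * (u * a) * b := by rw [huc a ha']
      _ = u * u * (a * b) := by group
      _ = u * u * (b * a) := by rw [hWc a ha' b hb']
      _ = u * (u * b) * a := by group
      _ = u * (b * u) * a := by rw [huc b hb']
      _ = u * b * (u * a) := by group

/-- Above a module of order eight the homocyclic-by-elementary layer is impossible. -/
theorem thirtytwo_eight [Finite G] (D : Data G) (M : Subgroup G) [M.Normal] (hMQ : M ≤ D.π.ker)
    (hM : Nat.card M = 8) (hMc : ∀ x ∈ D.π.ker, ∀ f ∈ M, x * f = f * x) (hMe : ∀ f ∈ M, f * f = 1)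
    (e : (D.π.ker.map (QuotientGroup.mk' M) : Subgroup (G ⧸ M)) ≃* Model) {y : G} (hy7 : y ^ 7 = 1)
    (hy : D.π y ≠ 1) (hmove : ∃ a ∈ D.π.ker, ⁅y, a⁆ ∉ M) (hMfix : ∀ f ∈ M, y * f = f * y → f = 1)
    (hno2 : ∀ x ∈ D.π.ker, (∀ g, g * (x * x) = x * x * g) → x * x * (x * x) = 1 → x * x = 1) : False := by
  classical
  obtain ⟨W, F, u, hWn, hFn, L⟩ := exists_layer D M hMQ hMc hMe e hy7 hmove
  haveI := hWn; haveI := hFn
  set Q := D.π.ker with hQdef
  haveI : Q.Normal := MonoidHom.normal_ker D.π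
  have hF16 : Nat.card F = 16 := by rw [L.cardF, hM]
  have hW128 : Nat.card W = 128 := by rw [L.cardW, hF16]
  have hFQ : F ≤ Q := L.hFW.trans L.hWQ
  -- the square is an involution
  obtain ⟨m, hm, hmy⟩ := L.conjz y
  have hzz : u * u * (u * u) = 1 := by
    refine hMfix _ ((L.memW _ (hFQ ?_)).1 (L.hFW ?_)) (mul_inv_eq_iff_eq_mul.1 ?_)
    · exact L.sqF u L.huQ
    · exact L.sqF u L.huQ
    · calc y * (u * u * (u * u)) * y⁻¹ = y * (u * u) * y⁻¹ * (y * (u * u) * y⁻¹) := by group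
        _ = u * u * (m * (u * u)) * m := by rw [hmy]; group
        _ = u * u * (u * u * m) * m := by rw [L.central m (hMQ hm) _ (L.sqF u L.huQ)]
        _ = u * u * (u * u) * (m * m) := by group
        _ = u * u * (u * u) := by rw [hMe m hm, mul_one]
  have hFe : ∀ f ∈ F, f * f = 1 := by
    intro f hf
    rcases L.splitF f hf with h | ⟨n, hn, rfl⟩
    · exact hMe f h
    · calc u * u * n * (u * u * n) = u * u * (n * (u * u)) * n := by group
        _ = u * u * (u * u * n) * n := by rw [L.central n (hMQ hn) _ (L.sqF u L.huQ)]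
        _ = u * u * (u * u) * (n * n) := by group
        _ = 1 := by rw [hzz, hMe n hn, mul_one]
  have hWsq : ∀ a ∈ W, a * a ∈ M := fun a ha => (L.memW a (L.hWQ ha)).1 ha
  have hWF : ∀ a ∈ W, a * a ∈ F := fun a ha => L.hMF (hWsq a ha)
  have hFc : ∀ x ∈ W, ∀ f ∈ F, x * f = f * x := fun x hx => L.central x (L.hWQ hx)
  obtain ⟨τ, c, hτ, hker, hc, hadd, hc0, hequiv⟩ := natural D W F L.hFW L.hWQ L.cardW hWF
    (fun x hx a ha => L.hMF (L.comm x hx a (L.hWQ ha))) hy L.fix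
  rcases sq_natural D W F M L.hFW L.hMF hM hFc hFe hWsq hMc (le_of_eq L.cardW.symm) τ c hτ hker hc hadd hc0 hequiv with
    h | ⟨hWc, hinj, hsurj⟩
  · exact big_elem D W h (by omega)
  rcases comm_dichotomy W F M L.hFW L.hMF hWc hFe hinj hsurj hWsq τ c hτ hc hadd hc0 hequiv u L.conju
      (fun f hf => L.central u L.huQ f hf) (fun a ha => L.comm u L.huQ a (L.hWQ ha)) with hb | hb
  swap
  · refine L.huM ?_
    rw [hno2 u L.huQ (fun g => ?_) hzz]
    · exact M.one_mem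
    · obtain ⟨w, hw, hgw⟩ := L.conju g
      refine mul_inv_eq_iff_eq_mul.1 ?_
      calc g * (u * u) * g⁻¹ = g * u * g⁻¹ * (g * u * g⁻¹) := by group
        _ = u * w * u⁻¹ * (u * u * w) := by rw [hgw]; group
        _ = w⁻¹ * (u * u) * w := by rw [hb w hw]; group
        _ = u * u := by rw [L.central _ (Q.inv_mem (L.hWQ hw)) _ (L.sqF u L.huQ)]; group
  have hab : ∀ a ∈ Q, ∀ b ∈ Q, a * b = b * a :=
    abelian_of_split Q W u hWc (fun a ha => mul_inv_eq_iff_eq_mul.1 (hb a ha)) L.split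
  have hmul : ∀ a ∈ Q, ∀ b ∈ Q, a * b * (a * b) = a * a * (b * b) := fun a ha b hb => by
    calc a * b * (a * b) = a * (b * a) * b := by group
      _ = a * (a * b) * b := by rw [hab b hb a ha]
      _ = _ := by group
  have hker1 : ∀ a ∈ Q, a * a = 1 → a ∈ F := fun a ha h =>
    hinj a ((L.memW a ha).2 (h ▸ M.one_mem)) h
  have hroot : ∀ f ∈ F, ∃ a ∈ Q, a * a = f := by
    intro f hf
    rcases L.splitF f hf with h | ⟨n, hn, rfl⟩
    · obtain ⟨a, ha, h'⟩ := hsurj f h; exact ⟨a, L.hWQ ha, h'⟩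
    · obtain ⟨a, ha, h'⟩ := hsurj n hn
      exact ⟨u * a, Q.mul_mem L.huQ (L.hWQ ha), by rw [hmul u L.huQ a (L.hWQ ha), h']⟩
  let D₁ := D.with τ hτ hker
  have hQF : ∀ x ∈ D₁.π.ker, ∀ v ∈ F, x * v = v * x := fun x hx => L.central x (hker.le hx)
  obtain ⟨g, hg⟩ := hτ g₀
  set ε := g * g with hε
  have hεπ : τ ε = tr 0 2 := by rw [hε, map_mul, hg]; exact g₀_facts.2.1
  have hεQ : ε * ε ∈ Q := by rw [hQdef, ← hker, MonoidHom.mem_ker, map_mul, hεπ]; exact g₀_facts.2.2.1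
  have hFab : ∀ a ∈ F, ∀ b ∈ F, a * b = b * a := fun a ha b hb => L.central a (hFQ ha) b hb
  have hnot8 : ¬ 8 ≤ Nat.card ↥(F ⊓ Subgroup.centralizer {ε}) := fun h8 => by
    obtain ⟨⟨f, hf, hf1, hfc⟩, -⟩ := transvection_case D₁ F hF16 hQF hFe hFab ε hεπ h8
    obtain ⟨a, ha, rfl⟩ := hroot f hf
    exact hf1 (hno2 a ha hfc (hFe _ hf))
  obtain ⟨hC4, hCsurj⟩ := comm_eq F hF16 hFe hFab ε (fun v hv => L.central _ hεQ v hv) hnot8
  set C := F ⊓ Subgroup.centralizer {ε} with hC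
  have h4C : ε * ε * (ε * ε) ∈ C := ⟨L.sqF _ hεQ, Subgroup.mem_centralizer_singleton_iff.2 (by group)⟩
  obtain ⟨f, hf, hfε⟩ := hCsurj _ h4C
  obtain ⟨a, ha, haf⟩ := hroot f hf
  have hea : ε * a * ε⁻¹ ∈ Q := (inferInstance : Q.Normal).conj_mem a ha ε
  have hεf : ε * f * ε⁻¹ ∈ F := (inferInstance : F.Normal).conj_mem f hf ε
  have hX : ε * a * (ε * a) = ε * a * ε⁻¹ * (ε * ε) * a := by group
  have hXF : ε * a * (ε * a) ∈ F := by
    rw [hX]
    refine hker1 _ (Q.mul_mem (Q.mul_mem hea hεQ) ha) ?_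
    rw [hmul _ (Q.mul_mem hea hεQ) a ha, hmul _ hea _ hεQ, haf, ← hfε,
      show ε * a * ε⁻¹ * (ε * a * ε⁻¹) = ε * (a * a) * ε⁻¹ by group, haf]
    calc ε * f * ε⁻¹ * ⁅ε, f⁆ * f = ε * f * ε⁻¹ * (ε * f * ε⁻¹) * (f⁻¹ * f) := by rw [commutatorElement_def]; group
      _ = 1 := by rw [hFe _ hεf, inv_mul_cancel, mul_one]
  let S : Subgroup G :=
    { carrier := {s | s ∈ Q ∧ s * s ∈ C}
      one_mem' := ⟨Q.one_mem, by rw [mul_one]; exact C.one_mem⟩
      mul_mem' := fun {s t} ⟨hs, hs'⟩ ⟨ht, ht'⟩ => ⟨Q.mul_mem hs ht, by rw [hmul s hs t ht]; exact C.mul_mem hs' ht'⟩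
      inv_mem' := fun {s} ⟨hs, hs'⟩ => ⟨Q.inv_mem hs, by rw [← mul_inv_rev]; exact C.inv_mem hs'⟩ }
  have hFS : F ≤ S := fun s hs => ⟨hFQ hs, by rw [hFe s hs]; exact C.one_mem⟩
  have hScard : Nat.card S = 4 * Nat.card F := by
    let φ : S →* C :=
      { toFun := fun s => ⟨(s : G) * s, s.2.2⟩
        map_one' := Subtype.ext (one_mul 1)
        map_mul' := fun s t => Subtype.ext (hmul s s.2.1 t t.2.1) }
    have hφ : Function.Surjective φ := fun c => by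
      obtain ⟨r, hr, hrc⟩ := hroot c c.2.1
      exact ⟨⟨r, hr, hrc.symm ▸ c.2⟩, Subtype.ext hrc⟩
    have hk : Nat.card φ.ker = Nat.card F := Nat.card_congr
      { toFun := fun s => ⟨((s : S) : G), hker1 _ (s : S).2.1 (congrArg Subtype.val (MonoidHom.mem_ker.1 s.2))⟩
        invFun := fun f => ⟨⟨f, hFS f.2⟩, MonoidHom.mem_ker.2 (Subtype.ext (hFe f f.2))⟩
        left_inv := fun s => rfl
        right_inv := fun f => rfl }
    rw [Subgroup.card_eq_card_quotient_mul_card_subgroup φ.ker,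
      Nat.card_congr (QuotientGroup.quotientKerEquivOfSurjective φ hφ).toEquiv, hC4, hk]
  refine SectTools.gen_section D.rank Q F hFQ L.central hFe L.sqF (ε * a) ?_ hXF S (fun s hs => hs.1) hFS ?_ hScard ?_
  · intro h
    rw [hQdef, ← hker, MonoidHom.mem_ker, map_mul, hεπ, MonoidHom.mem_ker.1 (hker.ge ha), mul_one] at h
    exact g₀_facts.2.2.2.1 h
  · rintro s ⟨hs, hs'⟩
    have he1 : ε * s * ε⁻¹ ∈ Q := (inferInstance : Q.Normal).conj_mem s hs ε
    have he2 : ⁅ε * a, s⁆ = ε * s * ε⁻¹ * s⁻¹ := by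
      calc ⁅ε * a, s⁆ = ε * (a * s) * a⁻¹ * ε⁻¹ * s⁻¹ := by rw [commutatorElement_def]; group
        _ = _ := by rw [hab a ha s hs]; group
    rw [he2]
    refine hker1 _ (Q.mul_mem he1 (Q.inv_mem hs)) ?_
    have hfix := Subgroup.mem_centralizer_singleton_iff.1 hs'.2
    calc ε * s * ε⁻¹ * s⁻¹ * (ε * s * ε⁻¹ * s⁻¹) = ε * s * ε⁻¹ * (ε * s * ε⁻¹) * (s⁻¹ * s⁻¹) :=
          hmul _ he1 _ (Q.inv_mem hs)
      _ = ε * (s * s) * ε⁻¹ * (s * s)⁻¹ := by group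
      _ = 1 := by rw [← hfix, mul_inv_cancel_right, mul_inv_cancel]
  · have hCC : F ⊓ Subgroup.centralizer {ε * a} = C := by
      ext x
      simp only [hC, Subgroup.mem_inf, Subgroup.mem_centralizer_singleton_iff]
      refine and_congr_right fun hx => ?_
      rw [← mul_assoc, mul_assoc ε a x, L.central a ha x hx, ← mul_assoc ε x a, mul_left_inj]
    rw [hCC, hC4, hF16]

theorem fix_g₀ : ∀ v : Fin 3 → ZMod 2, (g₀ : Matrix (Fin 3) (Fin 3) (ZMod 2)) *ᵥ v = v → v = 0 ∨ v = ![1, 0, 0] := by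
  decide +kernel

theorem tr_range : ∀ v : Fin 3 → ZMod 2,
    ((g₀ * g₀ : L3) : Matrix (Fin 3) (Fin 3) (ZMod 2)) *ᵥ v + v = 0 ∨
      ((g₀ * g₀ : L3) : Matrix (Fin 3) (Fin 3) (ZMod 2)) *ᵥ v + v = ![1, 0, 0] := by
  decide +kernel

theorem top_vec : ∀ d : Fin 3 → ZMod 2, ¬ ((g₀ : Matrix (Fin 3) (Fin 3) (ZMod 2)) *ᵥ d + d = 0 ∨
    (g₀ : Matrix (Fin 3) (Fin 3) (ZMod 2)) *ᵥ d + d = ![1, 0, 0]) →
    ((g₀ * g₀ : L3) : Matrix (Fin 3) (Fin 3) (ZMod 2)) *ᵥ d + d ≠ 0 ∧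
      ∀ v, ∃ i j k : Bool, v = cond i d 0 + cond j ((g₀ : Matrix (Fin 3) (Fin 3) (ZMod 2)) *ᵥ d) 0 +
        cond k (((g₀ * g₀ : L3) : Matrix (Fin 3) (Fin 3) (ZMod 2)) *ᵥ d) 0 := by
  decide +kernel

theorem inverter : g₀ * (tr 0 1 * g₀ * (tr 0 1)⁻¹) = 1 := by decide +kernel

theorem two_elts {M : Subgroup G} [Finite G] (hM : Nat.card M = 2) {a b : G} (ha : a ∈ M) (hb : b ∈ M) (ha1 : a ≠ 1)
    (hb1 : b ≠ 1) : a = b := by
  classical
  haveI : Fintype M := Fintype.ofFinite _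
  by_contra h
  have n1 : (⟨a, ha⟩ : M) ≠ 1 := fun e => ha1 (congrArg Subtype.val e)
  have n2 : (⟨b, hb⟩ : M) ≠ 1 := fun e => hb1 (congrArg Subtype.val e)
  have n3 : (⟨a, ha⟩ : M) ≠ ⟨b, hb⟩ := fun e => h (congrArg Subtype.val e)
  have h3 : ({1, ⟨a, ha⟩, ⟨b, hb⟩} : Finset M).card ≤ 2 := by
    rw [← hM, Nat.card_eq_fintype_card]; exact Finset.card_le_univ _
  rw [Finset.card_insert_of_notMem (by simp [Ne.symm n1, Ne.symm n2]), Finset.card_pair n3] at h3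
  omega

set_option maxHeartbeats 1000000 in
/-- Above a central subgroup of order two the homocyclic-by-elementary layer is impossible. -/
theorem thirtytwo_two [Finite G] (D : Data G) (M : Subgroup G) [M.Normal] (hMQ : M ≤ D.π.ker)
    (hM : Nat.card M = 2) (hMc : ∀ g : G, ∀ f ∈ M, g * f = f * g)
    (e : (D.π.ker.map (QuotientGroup.mk' M) : Subgroup (G ⧸ M)) ≃* Model) {y : G} (hy7 : y ^ 7 = 1)
    (hy : D.π y ≠ 1) (hmove : ∃ a ∈ D.π.ker, ⁅y, a⁆ ∉ M) : False := by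
  classical
  have hMe : ∀ f ∈ M, f * f = 1 := fun f hf => by
    have h := pow_card_eq_one' (x := (⟨f, hf⟩ : M))
    rw [hM, sq] at h
    exact congrArg Subtype.val h
  obtain ⟨W, F, u, hWn, hFn, L⟩ := exists_layer D M hMQ (fun x _ => hMc x) hMe e hy7 hmove
  haveI := hWn; haveI := hFn
  set Q := D.π.ker with hQdef
  haveI : Q.Normal := MonoidHom.normal_ker D.π
  have hF4 : Nat.card F = 4 := by rw [L.cardF, hM]
  have hW32 : Nat.card W = 32 := by rw [L.cardW, hF4]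
  have hFQ : F ≤ Q := L.hFW.trans L.hWQ
  have hWsq : ∀ a ∈ W, a * a ∈ M := fun a ha => (L.memW a (L.hWQ ha)).1 ha
  have hFc : ∀ x ∈ W, ∀ f ∈ F, x * f = f * x := fun x hx => L.central x (L.hWQ hx)
  obtain ⟨τ, c, hτ, hker, hc, hadd, hc0, hequiv⟩ := natural D W F L.hFW L.hWQ L.cardW
    (fun a ha => L.hMF (hWsq a ha)) (fun x hx a ha => L.hMF (L.comm x hx a (L.hWQ ha))) hy L.fix
  set z := u * u with hz
  have hzF : z ∈ F := L.sqF u L.huQ
  have hz2M : z * z ∈ M := hWsq z (L.hFW hzF)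
  by_cases hzz : z * z = 1
  · have hFe : ∀ f ∈ F, f * f = 1 := by
      intro f hf
      rcases L.splitF f hf with h | ⟨n, hn, rfl⟩
      · exact hMe f h
      · calc z * n * (z * n) = z * (n * z) * n := by group
          _ = z * (z * n) * n := by rw [hMc z n hn]
          _ = z * z * (n * n) := by group
          _ = 1 := by rw [hzz, hMe n hn, mul_one]
    exact big_elem D W (sq_fixed W F hFc hFe (fun a ha => L.hMF (hWsq a ha)) L.hFW L.cardW.ge
      (fun a ha g => hMc g _ (hWsq a ha)) τ c hτ hc hadd hc0 hequiv) hW32.ge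
  have hWc : ∀ a ∈ W, ∀ b ∈ W, a * b = b * a := form_zero W F L.hFW hFc
    (fun a ha b hb g => hMc g _ (L.comm a (L.hWQ ha) b (L.hWQ hb))) τ c hτ hc hadd hc0 hequiv
  have hsub : ∀ a b : W, c a = c b → ∃ f ∈ F, (b : G) = a * f := by
    intro a b h
    refine ⟨(a : G)⁻¹ * b, (hc0 (a⁻¹ * b)).1 ?_, by group⟩
    have h1 := hadd a a⁻¹
    rw [mul_inv_cancel, (hc0 1).2 F.one_mem] at h1
    rw [hadd, ← h, add_comm]; exact h1.symm
  -- the kernel is abelian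
  have hφmul : ∀ a ∈ W, ∀ b ∈ W, ⁅u, a * b⁆ = ⁅u, a⁆ * ⁅u, b⁆ := fun a ha b hb => by
    calc ⁅u, a * b⁆ = ⁅u, a⁆ * (a * ⁅u, b⁆ * a⁻¹) := by
          rw [commutatorElement_def, commutatorElement_def, commutatorElement_def]; group
      _ = _ := by rw [hMc a _ (L.comm u L.huQ b (L.hWQ hb)), mul_inv_cancel_right]
  have hconst : ∀ a b : W, c a ≠ 0 → c b ≠ 0 → ⁅u, (b : G)⁆ = ⁅u, (a : G)⁆ := by
    intro a b ha hb
    obtain ⟨i, hi⟩ := y₀_transitive _ _ ha hb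
    obtain ⟨k, hk⟩ := hτ (y₀ ^ (i : ℕ))
    obtain ⟨w, hw, hkw⟩ := L.conju k
    let a' : W := ⟨k * a * k⁻¹, (inferInstance : W.Normal).conj_mem a a.2 k⟩
    obtain ⟨f, hf, hbe⟩ := hsub a' b (by rw [hequiv k a a' rfl, hk, hi])
    rw [hbe, hφmul _ a'.2 f (L.hFW hf), commutatorElement_eq_one_iff_mul_comm.2 (L.central u L.huQ f hf), mul_one]
    have hcm := hMc k _ (L.comm u L.huQ a (L.hWQ a.2))
    calc ⁅u, (a' : G)⁆ = u * (w * (k * a * k⁻¹) * w⁻¹) * u⁻¹ * (k * a * k⁻¹)⁻¹ := by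
          rw [hWc w hw (k * a * k⁻¹) a'.2, mul_inv_cancel_right, commutatorElement_def]
      _ = (k * u * k⁻¹) * (k * a * k⁻¹) * (k * u * k⁻¹)⁻¹ * (k * a * k⁻¹)⁻¹ := by rw [hkw]; group
      _ = k * ⁅u, (a : G)⁆ * k⁻¹ := by rw [commutatorElement_def]; group
      _ = _ := by rw [hcm, mul_inv_cancel_right]
  have huc : ∀ a ∈ W, u * a = a * u := by
    intro a ha
    rw [← commutatorElement_eq_one_iff_mul_comm]
    obtain ⟨a₁, h₁⟩ := hc ![1, 0, 0]
    obtain ⟨a₂, h₂⟩ := hc ![0, 1, 0]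
    have n1 : c a₁ ≠ 0 := by rw [h₁]; decide
    have n2 : c a₂ ≠ 0 := by rw [h₂]; decide
    have n12 : c (a₁ * a₂) ≠ 0 := by rw [hadd, h₁, h₂]; decide
    have h0 : ⁅u, (a₁ : G)⁆ = 1 := by
      have h := hφmul _ a₁.2 _ a₂.2
      rw [hconst a₁ a₂ n1 n2, hMe _ (L.comm u L.huQ _ (L.hWQ a₁.2))] at h
      have h' := hconst a₁ (a₁ * a₂) n1 n12
      rw [Subgroup.coe_mul, h] at h'
      exact h'.symm
    by_cases haF : c ⟨a, ha⟩ = 0
    · exact commutatorElement_eq_one_iff_mul_comm.2 (L.central u L.huQ a ((hc0 _).1 haF))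
    · rw [show ⁅u, a⁆ = ⁅u, (a₁ : G)⁆ from hconst a₁ ⟨a, ha⟩ n1 haF, h0]
  have hab : ∀ a ∈ Q, ∀ b ∈ Q, a * b = b * a := abelian_of_split Q W u hWc huc L.split
  letI : CommGroup Q := { (inferInstance : Group Q) with mul_comm := fun a b => Subtype.ext (hab a a.2 b b.2) }
  have hmul : ∀ a ∈ Q, ∀ b ∈ Q, a * b * (a * b) = a * a * (b * b) := fun a ha b hb => by
    calc a * b * (a * b) = a * (b * a) * b := by group
      _ = a * (a * b) * b := by rw [hab b hb a ha]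
      _ = _ := by group
  -- everything fixes the squares
  have hzg : ∀ g, g * z * g⁻¹ = z ∨ g * z * g⁻¹ = z * (z * z) := by
    intro g
    obtain ⟨m, hm, h⟩ := L.conjz g
    by_cases h1 : m = 1
    · left; rw [h, h1, mul_one]
    · right; rw [h, two_elts hM hm hz2M h1 hzz]
  have hzc : ∀ g, g * z = z * g := by
    let K := Subgroup.centralizer {z}
    haveI : K.Normal := ⟨fun k hk h => Subgroup.mem_centralizer_singleton_iff.2 (mul_inv_eq_iff_eq_mul.1 (by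
      have hk' : k * z = z * k := Subgroup.mem_centralizer_singleton_iff.1 hk
      have hkf : k * (h⁻¹ * z * h⁻¹⁻¹) = (h⁻¹ * z * h⁻¹⁻¹) * k := by
        rcases hzg h⁻¹ with e | e <;> rw [e]
        · exact hk'
        · rw [← mul_assoc, hk', mul_assoc, hMc k _ hz2M, ← mul_assoc]
      calc h * k * h⁻¹ * z * (h * k * h⁻¹)⁻¹ = h * (k * (h⁻¹ * z * h⁻¹⁻¹)) * k⁻¹ * h⁻¹ := by group
        _ = h * ((h⁻¹ * z * h⁻¹⁻¹) * k) * k⁻¹ * h⁻¹ := by rw [hkf]
        _ = z := by group))⟩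
    obtain ⟨g, hg⟩ := hτ g₀
    have hgg : g * g * z * (g * g)⁻¹ = z := by
      rcases hzg g with e | e
      · rw [show g * g * z * (g * g)⁻¹ = g * (g * z * g⁻¹) * g⁻¹ by group, e, e]
      · rw [show g * g * z * (g * g)⁻¹ = g * (g * z * g⁻¹) * g⁻¹ by group, e,
          show g * (z * (z * z)) * g⁻¹ = g * z * g⁻¹ * (g * (z * z) * g⁻¹) by group, e, hMc g _ hz2M,
          mul_inv_cancel_right, mul_assoc, hMe _ hz2M, mul_one]
    have htop := eq_top_of_normal D K (fun x hx => Subgroup.mem_centralizer_singleton_iff.2 (L.central x hx z hzF))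
      (g := g * g) (Subgroup.mem_centralizer_singleton_iff.2 (mul_inv_eq_iff_eq_mul.1 hgg)) (fun h => by
        have h1 : τ (g * g) = 1 := MonoidHom.mem_ker.1 (hker ▸ MonoidHom.mem_ker.2 h)
        rw [map_mul, hg] at h1
        exact g₀_facts.2.2.2.2 h1)
    exact fun g => Subgroup.mem_centralizer_singleton_iff.1 (htop ▸ Subgroup.mem_top g : g ∈ K)
  have hFG : ∀ g : G, ∀ f ∈ F, g * f = f * g := by
    intro g f hf
    rcases L.splitF f hf with h | ⟨m, hm, rfl⟩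
    · exact hMc g f h
    · rw [← mul_assoc, hzc g, mul_assoc, hMc g m hm, ← mul_assoc]
  have hcomΩ : ∀ g : G, ∀ a ∈ Q, ⁅g, a⁆ ∈ W ∧ ⁅g, a⁆ * ⁅g, a⁆ = 1 := by
    intro g a ha
    have hga : g * a * g⁻¹ ∈ Q := (inferInstance : Q.Normal).conj_mem a ha g
    have h1 : ⁅g, a⁆ * ⁅g, a⁆ = 1 := by
      rw [commutatorElement_def, hmul _ hga _ (Q.inv_mem ha),
        show g * a * g⁻¹ * (g * a * g⁻¹) = g * (a * a) * g⁻¹ by group, hFG g _ (L.sqF a ha), mul_inv_cancel_right]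
      group
    refine ⟨(L.memW _ ?_).2 (h1 ▸ M.one_mem), h1⟩
    rw [commutatorElement_def]; exact Q.mul_mem hga (Q.inv_mem ha)
  have hFM : ∀ f ∈ F, f * f = 1 → f ∈ M := fun f hf h => (L.splitF f hf).resolve_right fun ⟨m, hm, e⟩ => hzz (by
    rw [e] at h
    calc z * z = z * z * (m * m) := by rw [hMe m hm, mul_one]
      _ = z * (z * m) * m := by group
      _ = z * (m * z) * m := by rw [hMc z m hm]
      _ = z * m * (z * m) := by group
      _ = 1 := h)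
  -- the two candidates
  set e₀ : Fin 3 → ZMod 2 := ![1, 0, 0] with he₀
  let NA : Subgroup G :=
    { carrier := {x | ∃ h : x ∈ W, c ⟨x, h⟩ = 0 ∨ c ⟨x, h⟩ = e₀}
      one_mem' := ⟨W.one_mem, Or.inl ((hc0 _).2 F.one_mem)⟩
      mul_mem' := by
        rintro x y ⟨hx, hx'⟩ ⟨hy, hy'⟩
        refine ⟨W.mul_mem hx hy, ?_⟩
        rw [show (⟨x * y, W.mul_mem hx hy⟩ : W) = ⟨x, hx⟩ * ⟨y, hy⟩ from rfl, hadd]
        rcases hx' with h | h <;> rcases hy' with h' | h' <;> rw [h, h']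
        · exact Or.inl (add_zero _)
        · exact Or.inr (zero_add _)
        · exact Or.inr (add_zero _)
        · exact Or.inl (funext fun k => CharTwo.add_self_eq_zero _)
      inv_mem' := by
        rintro x ⟨hx, hx'⟩
        refine ⟨W.inv_mem hx, ?_⟩
        have h := hadd ⟨x, hx⟩ ⟨x, hx⟩⁻¹
        rw [mul_inv_cancel, (hc0 _).2 F.one_mem] at h
        have h2 : c ⟨x⁻¹, W.inv_mem hx⟩ = c ⟨x, hx⟩ := by
          funext k
          exact (CharTwo.add_eq_zero.1 (congrFun h k).symm).symm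
        rw [h2]; exact hx' }
  let NB : Subgroup G :=
    { carrier := {x | x ∈ NA ∧ x * x = 1}
      one_mem' := ⟨NA.one_mem, one_mul 1⟩
      mul_mem' := fun {a b} ⟨ha, ha'⟩ ⟨hb, hb'⟩ => ⟨NA.mul_mem ha hb, by
        rw [hmul a (L.hWQ ha.1) b (L.hWQ hb.1), ha', hb', mul_one]⟩
      inv_mem' := fun {a} ⟨ha, ha'⟩ => ⟨NA.inv_mem ha, by rw [← mul_inv_rev, ha', inv_one]⟩ }
  have hNAW : NA ≤ W := fun x hx => hx.1
  have hFNA : F ≤ NA := fun x hx => ⟨L.hFW hx, Or.inl ((hc0 _).2 hx)⟩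
  have hPA : ∀ s, (τ s : Matrix (Fin 3) (Fin 3) (ZMod 2)) *ᵥ e₀ = e₀ → ∀ n ∈ NA, s * n * s⁻¹ ∈ NA := by
    rintro s hs n ⟨hn, hn'⟩
    refine ⟨(inferInstance : W.Normal).conj_mem n hn s, ?_⟩
    rw [hequiv s ⟨n, hn⟩ _ rfl]
    rcases hn' with h | h <;> rw [h]
    · exact Or.inl (Matrix.mulVec_zero _)
    · exact Or.inr hs
  have hPB : ∀ s, (τ s : Matrix (Fin 3) (Fin 3) (ZMod 2)) *ᵥ e₀ = e₀ → ∀ n ∈ NB, s * n * s⁻¹ ∈ NB := by
    rintro s hs n ⟨hn, hn'⟩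
    refine ⟨hPA s hs n hn, ?_⟩
    calc s * n * s⁻¹ * (s * n * s⁻¹) = s * (n * n) * s⁻¹ := by group
      _ = 1 := by rw [hn', mul_one, mul_inv_cancel]
  have hNA8 : Nat.card NA ≤ 8 := by
    obtain ⟨⟨a, ha⟩, hca⟩ := hc e₀
    have := Nat.card_le_card_of_surjective (fun p : Bool × F => (⟨cond p.1 a 1 * (p.2 : G), NA.mul_mem (by
      cases p.1
      · exact NA.one_mem
      · exact ⟨ha, Or.inr hca⟩) (hFNA p.2.2)⟩ : NA)) (by
      rintro ⟨x, hx, hx' | hx'⟩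
      · exact ⟨(false, ⟨x, (hc0 _).1 hx'⟩), Subtype.ext (one_mul x)⟩
      · obtain ⟨f, hf, e⟩ := hsub ⟨a, ha⟩ ⟨x, hx⟩ (hca.trans hx'.symm)
        exact ⟨(true, ⟨f, hf⟩), Subtype.ext (show a * f = x from e.symm)⟩)
    rw [Nat.card_prod, Nat.card_eq_fintype_card (α := Bool), Fintype.card_bool, hF4] at this
    omega
  have hNB4 : Nat.card NB ≤ 4 := by
    have hle : NB ≤ NA := fun x hx => hx.1
    have hne : NB ≠ NA := fun h => hzz (h.ge (hFNA hzF)).2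
    obtain ⟨k, hk⟩ := Subgroup.card_dvd_of_le hle
    have hk1 : k ≠ 1 := fun h1 => hne (Subgroup.eq_of_le_of_card_ge hle (by rw [hk, h1, mul_one]))
    have hk0 : k ≠ 0 := fun h0 => (Nat.card_pos (α := NA)).ne' (by rw [hk, h0, mul_zero])
    have : Nat.card NB * 2 ≤ Nat.card NA := hk ▸ Nat.mul_le_mul_left _ (by omega)
    omega
  obtain ⟨t₁, ht₁⟩ := hτ s₁
  obtain ⟨t₂, ht₂⟩ := hτ s₂
  obtain ⟨p1, p2, p3, p4⟩ := perm_facts
  let D₁ := D.with τ hτ hker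
  have hQτ : ∀ g, g ∈ Q ↔ τ g = 1 := fun g => by rw [hQdef, ← hker, MonoidHom.mem_ker]
  have hg4Q : ∀ g, τ g = g₀ → g * g * (g * g) ∈ Q := fun g hg => (hQτ _).2 (by
    rw [map_mul, map_mul, hg, g₀_facts.2.1]; exact g₀_facts.2.2.1)
  -- conclusion from either
  have finish : ∀ A N : Subgroup G, A.Normal → A ≤ Q → N ≤ A → (∀ a ∈ A, a * a ∈ N) →
      (∀ s, (τ s : Matrix (Fin 3) (Fin 3) (ZMod 2)) *ᵥ e₀ = e₀ → ∀ n ∈ N, s * n * s⁻¹ ∈ N) →
      (∀ g, τ g = g₀ → g * g * (g * g) ∈ N) → (∀ g, τ g = g₀ → ∀ a ∈ A, ⁅g * g, a⁆ ∈ N) →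
      8 * Nat.card N ≤ Nat.card A → False := by
    intro A N hAn hAQ hNA hsqA hP h4 hcom hcard
    obtain ⟨g₁, hg₁⟩ := hτ g₀
    set x := t₁ * (g₁ * g₁) * t₁⁻¹ with hx
    set x' := t₂ * (g₁ * g₁) * t₂⁻¹ with hx'
    have hxπ : τ x = tr 0 1 := by rw [hx, map_mul, map_mul, map_mul, map_inv, ht₁, hg₁, g₀_facts.2.1, p1]
    have hx'π : τ x' = tr 1 2 := by rw [hx', map_mul, map_mul, map_mul, map_inv, ht₂, hg₁, g₀_facts.2.1, p2]
    have hgood : ∀ s, (τ s : Matrix (Fin 3) (Fin 3) (ZMod 2)) *ᵥ e₀ = e₀ → ∀ v,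
        v * v ∈ N → (∀ a ∈ A, ⁅v, a⁆ ∈ N) → s * v * s⁻¹ * (s * v * s⁻¹) ∈ N ∧ ∀ a ∈ A, ⁅s * v * s⁻¹, a⁆ ∈ N := by
      intro s hs v hv hva
      refine ⟨?_, fun a ha => ?_⟩
      · rw [show s * v * s⁻¹ * (s * v * s⁻¹) = s * (v * v) * s⁻¹ by group]
        exact hP s hs _ hv
      · have h := hP s hs _ (hva _ (hAn.conj_mem a ha s⁻¹))
        convert h using 1
        rw [commutatorElement_def, commutatorElement_def]; group
    obtain ⟨hxx, hxA⟩ := hgood t₁ (by rw [ht₁]; exact p3) _ (h4 g₁ hg₁) (hcom g₁ hg₁)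
    rw [← hx] at hxx hxA
    have hx'A : x' * x' ∈ A := by
      rw [hx', show t₂ * (g₁ * g₁) * t₂⁻¹ * (t₂ * (g₁ * g₁) * t₂⁻¹) = t₂ * (g₁ * g₁ * (g₁ * g₁)) * t₂⁻¹ by group]
      exact hAn.conj_mem _ (hNA (h4 g₁ hg₁)) t₂
    set g := x * x' with hg
    have hgτ : τ g = g₀ := by rw [hg, map_mul, hxπ, hx'π]; exact two_lift_facts.2
    set X := g * x * g⁻¹ with hX
    obtain ⟨hXX, hXA⟩ := hgood g (by rw [hgτ]; exact p4) x hxx hxA
    set w := x * (x' * x') * x⁻¹ * (x * x) with hw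
    have hwA : w ∈ A := A.mul_mem (hAn.conj_mem _ hx'A x) (hNA hxx)
    have hex : g * g * x = X * w := by rw [hX, hw, hg]; group
    have hconjN : ∀ v, (∀ a ∈ A, ⁅v, a⁆ ∈ N) → ∀ n ∈ N, v * n * v⁻¹ ∈ N := fun v hv n hn => by
      rw [show v * n * v⁻¹ = ⁅v, n⁆ * n by rw [commutatorElement_def]; group]
      exact N.mul_mem (hv n (hNA hn)) hn
    have hprod : g * g * x * (g * g * x) ∈ N := by
      rw [hex]
      have ha : X⁻¹ * w * X ∈ A := by
        have := hAn.conj_mem w hwA X⁻¹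
        rwa [inv_inv] at this
      have h := hXA _ ha
      have e1 : X * w * (X * w) = X * X * (⁅X, X⁻¹ * w * X⁆⁻¹ * (w * w)) := by
        rw [commutatorElement_def]
        calc X * w * (X * w) = X * X * (X⁻¹ * w * X) * w := by group
          _ = _ := by group
      rw [e1]
      exact N.mul_mem hXX (N.mul_mem (N.inv_mem h) (hsqA w hwA))
    refine rank_two_lifts D₁ A N (hAQ.trans hker.ge) hNA hsqA (fun a ha n hn => by
      rw [hab a (hAQ ha) n (hAQ (hNA hn)), mul_inv_cancel_right]; exact hn) (g * g) x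
      (by show τ (g * g) = _; rw [map_mul, hgτ]; exact g₀_facts.2.1) hxπ (h4 g hgτ) hxx
      (comm_of_sq N (hconjN x hxA) (h4 g hgτ) hxx hprod) (hcom g hgτ) hxA hcard
  have hgW : ∀ g : G, ∀ v (hv : v ∈ W), ∃ h : ⁅g, v⁆ ∈ W,
      c ⟨⁅g, v⁆, h⟩ = (τ g : Matrix (Fin 3) (Fin 3) (ZMod 2)) *ᵥ c ⟨v, hv⟩ + c ⟨v, hv⟩ := by
    intro g v hv
    have h' : g * v * g⁻¹ ∈ W := (inferInstance : W.Normal).conj_mem v hv g
    refine ⟨(hcomΩ g v (L.hWQ hv)).1, ?_⟩
    have h2 : c (⟨⁅g, v⁆, (hcomΩ g v (L.hWQ hv)).1⟩ * ⟨v, hv⟩) =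
        (τ g : Matrix (Fin 3) (Fin 3) (ZMod 2)) *ᵥ c ⟨v, hv⟩ := by
      refine hequiv g ⟨v, hv⟩ _ ?_
      show ⁅g, v⁆ * v = g * v * g⁻¹
      rw [commutatorElement_def]; group
    rw [hadd] at h2
    rw [← h2, add_assoc]
    funext k
    simp [CharTwo.add_self_eq_zero]
  have hggW : ∀ g, τ g = g₀ → ∀ v ∈ W, ⁅g * g, v⁆ ∈ NB := by
    intro g hg v hv
    obtain ⟨h, hch⟩ := hgW (g * g) v hv
    refine ⟨⟨h, ?_⟩, (hcomΩ _ v (L.hWQ hv)).2⟩
    rw [hch, map_mul, hg]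
    exact tr_range _
  have hparity : ∀ g, τ g = g₀ → g * g * (g * g) ∈ W := by
    intro g hg
    set x := t₁ * (g * g) * t₁⁻¹ with hx
    have hxπ : τ x = tr 0 1 := by rw [hx, map_mul, map_mul, map_mul, map_inv, ht₁, hg, g₀_facts.2.1, p1]
    set q := g * (x * g * x⁻¹) with hq
    have hqQ : q ∈ Q := (hQτ _).2 (by rw [hq, map_mul, map_mul, map_mul, map_inv, hg, hxπ]; exact inverter)
    set P := g * g * (g * g) with hP
    have hPQ : P ∈ Q := hg4Q g hg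
    set R := g * g * g * q * (g * g * g)⁻¹ * (g * g * q * (g * g)⁻¹) * (g * q * g⁻¹) * q with hR
    have heq : x * P * x⁻¹ = P⁻¹ * R := by rw [hP, hR, hq]; group
    have hcq : ∀ h, h * q * h⁻¹ ∈ Q := fun h => (inferInstance : Q.Normal).conj_mem q hqQ h
    have hsqc : ∀ h, h * q * h⁻¹ * (h * q * h⁻¹) = q * q := fun h => by
      rw [show h * q * h⁻¹ * (h * q * h⁻¹) = h * (q * q) * h⁻¹ by group, hFG h _ (L.sqF q hqQ), mul_inv_cancel_right]
    have hR2 : R * R = 1 := by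
      rw [hR, hmul _ (Q.mul_mem (Q.mul_mem (hcq _) (hcq _)) (hcq _)) q hqQ,
        hmul _ (Q.mul_mem (hcq _) (hcq _)) _ (hcq _), hmul _ (hcq _) _ (hcq _), hsqc, hsqc, hsqc]
      have h2 := hMe _ (hWsq _ (L.hFW (L.sqF q hqQ)))
      calc q * q * (q * q) * (q * q) * (q * q) = q * q * (q * q) * (q * q * (q * q)) := by group
        _ = 1 := h2
    have h1 : P * P = P⁻¹ * P⁻¹ := by
      calc P * P = x * (P * P) * x⁻¹ := by rw [hFG x _ (L.sqF P hPQ), mul_inv_cancel_right]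
        _ = x * P * x⁻¹ * (x * P * x⁻¹) := by group
        _ = P⁻¹ * R * (P⁻¹ * R) := by rw [heq]
        _ = P⁻¹ * P⁻¹ := by
          rw [hmul _ (Q.inv_mem hPQ) R (Q.mul_mem (Q.mul_mem (Q.mul_mem (hcq _) (hcq _)) (hcq _)) hqQ), hR2, mul_one]
    refine (L.memW P hPQ).2 (hFM _ (L.sqF P hPQ) ?_)
    calc P * P * (P * P) = P * P * (P⁻¹ * P⁻¹) := by rw [← h1]
      _ = 1 := by group
  have hδsame : ∀ g g', τ g = τ g' → ⁅g * g, u⁆ = ⁅g' * g', u⁆ := by
    intro g g' h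
    have hq : (g * g)⁻¹ * (g' * g') ∈ Q := (hQτ _).2 (by rw [map_mul, map_inv, map_mul, map_mul, h, inv_mul_cancel])
    have e1 : g' * g' = g * g * ((g * g)⁻¹ * (g' * g')) := by group
    rw [e1]
    generalize (g * g)⁻¹ * (g' * g') = r at hq
    calc ⁅g * g, u⁆ = g * g * (u * r * r⁻¹) * (g * g)⁻¹ * u⁻¹ := by rw [commutatorElement_def]; group
      _ = g * g * (r * u * r⁻¹) * (g * g)⁻¹ * u⁻¹ := by rw [hab r hq u L.huQ]
      _ = _ := by rw [commutatorElement_def]; group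
  obtain ⟨g, hg⟩ := hτ g₀
  set δ := ⁅g, u⁆ with hδ
  have hδW : δ ∈ W := (hcomΩ g u L.huQ).1
  have hδgW : g * δ * g⁻¹ ∈ W := (inferInstance : W.Normal).conj_mem _ hδW g
  by_cases hcase : ⁅g * g, u⁆ ∈ NA
  · -- both lifts fix `u` up to `NA`
    refine finish Q NA inferInstance le_rfl (hNAW.trans L.hWQ) (fun a ha => hFNA (L.sqF a ha)) hPA (fun g' hg' => ?_)
      (fun g' hg' a ha => ?_) (by
        have hQ64 : Nat.card Q = 2 * Nat.card W := by
          have huW : u ∉ W := fun h => L.huM (hWsq u h)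
          have hbij : Function.Bijective (fun p : Bool × W => (⟨cond p.1 u 1 * (p.2 : G), Q.mul_mem (by
              cases p.1
              · exact Q.one_mem
              · exact L.huQ) (L.hWQ p.2.2)⟩ : Q)) := by
            constructor
            · rintro ⟨i, a⟩ ⟨j, b⟩ h
              have h' := congrArg Subtype.val h
              cases i <;> cases j <;> simp only [cond_true, cond_false, one_mul] at h'
              · exact Prod.ext rfl (Subtype.ext h')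
              · exact absurd (by rw [show u = (a : G) * (b : G)⁻¹ by rw [h']; group]; exact W.mul_mem a.2 (W.inv_mem b.2)) huW
              · exact absurd (by rw [show u = (b : G) * (a : G)⁻¹ by rw [← h']; group]; exact W.mul_mem b.2 (W.inv_mem a.2)) huW
              · exact Prod.ext rfl (Subtype.ext (mul_left_cancel h'))
            · rintro ⟨x, hx⟩
              rcases L.split x hx with h | ⟨w, hw, rfl⟩
              · exact ⟨(false, ⟨x, h⟩), Subtype.ext (one_mul x)⟩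
              · exact ⟨(true, ⟨w, hw⟩), rfl⟩
          rw [← Nat.card_eq_of_bijective _ hbij, Nat.card_prod, Nat.card_eq_fintype_card (α := Bool), Fintype.card_bool]
        omega)
    · have hPW := hparity g' hg'
      refine ⟨hPW, fix_g₀ _ ?_⟩
      rw [← hg']
      refine (hequiv g' ⟨_, hPW⟩ ⟨_, hPW⟩ ?_).symm
      show g' * g' * (g' * g') = g' * (g' * g' * (g' * g')) * g'⁻¹
      group
    · rcases L.split a ha with h | ⟨w, hw, rfl⟩
      · exact (hggW g' hg' a h).1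
      · rw [show ⁅g' * g', u * w⁆ = ⁅g' * g', u⁆ * (u * ⁅g' * g', w⁆ * u⁻¹) by
            rw [commutatorElement_def, commutatorElement_def, commutatorElement_def]; group,
          huc _ (hcomΩ _ w (L.hWQ hw)).1, mul_inv_cancel_right]
        exact NA.mul_mem (hδsame g g' (hg.trans hg'.symm) ▸ hcase) (hggW g' hg' w hw).1
  -- otherwise the fourth powers are involutions
  refine finish W NB inferInstance L.hWQ (fun x hx => hx.1.1) (fun a ha => ?_) hPB (fun g' hg' => ?_) hggW (by omega)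
  · exact ⟨hFNA (L.hMF (hWsq a ha)), hMe _ (hWsq a ha)⟩
  have hcase' : ⁅g' * g', u⁆ ∉ NA := hδsame g g' (hg.trans hg'.symm) ▸ hcase
  clear! g
  rename' g' => g, hg' => hg
  have hδW : ⁅g, u⁆ ∈ W := (hcomΩ g u L.huQ).1
  have hgg : ⁅g * g, u⁆ = g * ⁅g, u⁆ * g⁻¹ * ⁅g, u⁆ := by
    rw [commutatorElement_def, commutatorElement_def]; group
  have hgδ : g * ⁅g, u⁆ * g⁻¹ ∈ W := (inferInstance : W.Normal).conj_mem _ hδW g
  set d := c ⟨⁅g, u⁆, hδW⟩ with hd
  have hcgd : c ⟨_, hgδ⟩ = (g₀ : Matrix (Fin 3) (Fin 3) (ZMod 2)) *ᵥ d := by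
    rw [hequiv g ⟨⁅g, u⁆, hδW⟩ ⟨_, hgδ⟩ rfl, hg]
  obtain ⟨htop1, htop2⟩ := top_vec d fun h => hcase' ⟨hgg ▸ W.mul_mem hgδ hδW, by
    rw [show (⟨⁅g * g, u⁆, _⟩ : W) = ⟨_, hgδ⟩ * ⟨⁅g, u⁆, hδW⟩ from Subtype.ext hgg, hadd, hcgd]
    exact h⟩
  set P := g * g * (g * g) with hP
  have hPW := hparity g hg
  refine ⟨⟨hPW, fix_g₀ _ ?_⟩, ?_⟩
  · rw [← hg]
    refine (hequiv g ⟨_, hPW⟩ ⟨_, hPW⟩ ?_).symm
    show P = g * P * g⁻¹
    rw [hP]; group
  by_contra hPP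
  have hPP' : P * P = z * z := two_elts hM (hWsq P hPW) hz2M hPP hzz
  set ω := z⁻¹ * P with hω
  have hωW : ω ∈ W := W.mul_mem (W.inv_mem (L.hFW hzF)) hPW
  have hωω : ω * ω = 1 := by
    rw [hω, hmul _ (Q.inv_mem (hFQ hzF)) P (L.hWQ hPW), hPP']; group
  set x := t₁ * (g * g) * t₁⁻¹ with hx
  have hxπ : τ x = tr 0 1 := by rw [hx, map_mul, map_mul, map_mul, map_inv, ht₁, hg, g₀_facts.2.1, p1]
  set q := g * (x * g * x⁻¹) with hq
  have hqQ : q ∈ Q := (hQτ _).2 (by rw [hq, map_mul, map_mul, map_mul, map_inv, hg, hxπ]; exact inverter)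
  have hωNB : ω ∈ NB := by
    refine ⟨⟨hωW, fix_g₀ _ ?_⟩, hωω⟩
    rw [← hg]
    refine (hequiv g ⟨_, hωW⟩ ⟨_, hωW⟩ ?_).symm
    show z⁻¹ * P = g * (z⁻¹ * P) * g⁻¹
    calc z⁻¹ * P = z⁻¹ * (g * P * g⁻¹) := by rw [hP]; group
      _ = g * z⁻¹ * g⁻¹ * (g * P * g⁻¹) := by rw [hFG g _ (F.inv_mem hzF), mul_inv_cancel_right]
      _ = _ := by group
  have hfixB : ∀ n ∈ NB, g * g * n * (g * g)⁻¹ = n := by
    rintro n ⟨⟨hn, hn'⟩, hnn⟩
    obtain ⟨h, hh⟩ := hgW g n hn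
    have hF' : ⁅g, n⁆ ∈ F := (hc0 ⟨_, h⟩).1 (by
      rw [hh, hg]
      rcases hn' with h' | h' <;> rw [h']
      · rw [Matrix.mulVec_zero, add_zero]
      · rw [p4]; funext k; exact CharTwo.add_self_eq_zero _)
    have hm : ⁅g, n⁆ ∈ M := hFM _ hF' (hcomΩ g n (L.hWQ hn)).2
    have e1 : g * n * g⁻¹ = ⁅g, n⁆ * n := by rw [commutatorElement_def]; group
    calc g * g * n * (g * g)⁻¹ = g * (g * n * g⁻¹) * g⁻¹ := by group
      _ = g * ⁅g, n⁆ * g⁻¹ * (g * n * g⁻¹) := by rw [e1]; group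
      _ = ⁅g, n⁆ * (⁅g, n⁆ * n) := by rw [hMc g _ hm, mul_inv_cancel_right, e1]
      _ = n := by rw [← mul_assoc, hMe _ hm, one_mul]
  have hxω : x * ω * x⁻¹ = ω := by
    have hn : t₁⁻¹ * ω * t₁⁻¹⁻¹ ∈ NB := hPB _ (by
      rw [map_inv, ht₁]; decide +kernel) ω hωNB
    calc x * ω * x⁻¹ = t₁ * (g * g * (t₁⁻¹ * ω * t₁⁻¹⁻¹) * (g * g)⁻¹) * t₁⁻¹ := by rw [hx]; group
      _ = ω := by rw [hfixB _ hn]; group
  let Nm : G → G := fun a => g * g * g * a * (g * g * g)⁻¹ * (g * g * a * (g * g)⁻¹) * (g * a * g⁻¹) * a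
  have hcQ : ∀ a ∈ Q, ∀ h, h * a * h⁻¹ ∈ Q := fun a ha h => (inferInstance : Q.Normal).conj_mem a ha h
  have hNmul : ∀ a ∈ Q, ∀ b ∈ Q, Nm (a * b) = Nm a * Nm b := by
    intro a ha b hb
    have key : ∀ a3 a2 a1 a0 b3 b2 b1 b0 : Q,
        (a3 * b3) * (a2 * b2) * (a1 * b1) * (a0 * b0) = a3 * a2 * a1 * a0 * (b3 * b2 * b1 * b0) := fun _ _ _ _ _ _ _ _ => by
      ac_rfl
    have h := congrArg Subtype.val (key ⟨_, hcQ a ha (g * g * g)⟩ ⟨_, hcQ a ha (g * g)⟩ ⟨_, hcQ a ha g⟩ ⟨a, ha⟩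
      ⟨_, hcQ b hb (g * g * g)⟩ ⟨_, hcQ b hb (g * g)⟩ ⟨_, hcQ b hb g⟩ ⟨b, hb⟩)
    simp only [Subgroup.coe_mul] at h
    simp only [Nm]
    rw [← h]; group
  have hNconj : ∀ a ∈ Q, Nm (g * a * g⁻¹) = Nm a := by
    intro a ha
    have h4 : P * a * P⁻¹ = a := by rw [hab P (L.hWQ hPW) a ha, mul_inv_cancel_right]
    have key : ∀ a3 a2 a1 a0 : Q, a0 * a3 * a2 * a1 = a3 * a2 * a1 * a0 := fun _ _ _ _ => by ac_rfl
    have h := congrArg Subtype.val (key ⟨_, hcQ a ha (g * g * g)⟩ ⟨_, hcQ a ha (g * g)⟩ ⟨_, hcQ a ha g⟩ ⟨a, ha⟩)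
    simp only [Subgroup.coe_mul] at h
    calc Nm (g * a * g⁻¹) = P * a * P⁻¹ * (g * g * g * a * (g * g * g)⁻¹) * (g * g * a * (g * g)⁻¹) * (g * a * g⁻¹) := by
          simp only [Nm, hP]; group
      _ = Nm a := by rw [h4]; exact h
  have hNone : Nm 1 = 1 := by simp [Nm]
  let K : Subgroup G :=
    { carrier := {a | a ∈ Q ∧ Nm a = 1}
      one_mem' := ⟨Q.one_mem, hNone⟩
      mul_mem' := fun {a b} ⟨ha, ha'⟩ ⟨hb, hb'⟩ => ⟨Q.mul_mem ha hb, by rw [hNmul a ha b hb, ha', hb', mul_one]⟩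
      inv_mem' := fun {a} ⟨ha, ha'⟩ => ⟨Q.inv_mem ha, by
        have h := hNmul a ha a⁻¹ (Q.inv_mem ha)
        rw [mul_inv_cancel, hNone, ha', one_mul] at h
        exact h.symm⟩ }
  have hFK : F ≤ K := fun f hf => ⟨hFQ hf, by
    have e1 : ∀ h : G, h * f * h⁻¹ = f := fun h => by rw [hFG h f hf, mul_inv_cancel_right]
    simp only [Nm, e1]
    calc f * f * f * f = f * f * (f * f) := by group
      _ = 1 := hMe _ (hWsq f (L.hFW hf))⟩
  have hδK : ⁅g, u⁆ ∈ K := ⟨L.hWQ hδW, by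
    have h4 : P * u * P⁻¹ = u := by rw [hab P (L.hWQ hPW) u L.huQ, mul_inv_cancel_right]
    calc Nm ⁅g, u⁆ = P * u * P⁻¹ * u⁻¹ := by simp only [Nm, hP, commutatorElement_def]; group
      _ = 1 := by rw [h4, mul_inv_cancel]⟩
  have hgδK : g * ⁅g, u⁆ * g⁻¹ ∈ K := ⟨L.hWQ hgδ, by rw [hNconj _ (L.hWQ hδW)]; exact hδK.2⟩
  have hggδ : g * g * ⁅g, u⁆ * (g * g)⁻¹ ∈ W := (inferInstance : W.Normal).conj_mem _ hδW _
  have hggδK : g * g * ⁅g, u⁆ * (g * g)⁻¹ ∈ K := ⟨L.hWQ hggδ, by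
    rw [show g * g * ⁅g, u⁆ * (g * g)⁻¹ = g * (g * ⁅g, u⁆ * g⁻¹) * g⁻¹ by group, hNconj _ (L.hWQ hgδ)]
    exact hgδK.2⟩
  have hcgg : c ⟨_, hggδ⟩ = ((g₀ * g₀ : L3) : Matrix (Fin 3) (Fin 3) (ZMod 2)) *ᵥ d := by
    rw [hequiv (g * g) ⟨⁅g, u⁆, hδW⟩ ⟨_, hggδ⟩ rfl, map_mul, hg]
  have hWK : W ≤ K := by
    intro v hv
    obtain ⟨i, j, k, hijk⟩ := htop2 (c ⟨v, hv⟩)
    let a : W := cond i ⟨⁅g, u⁆, hδW⟩ 1 * cond j ⟨_, hgδ⟩ 1 * cond k ⟨_, hggδ⟩ 1
    have hca : c a = c ⟨v, hv⟩ := by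
      have hc1 : c 1 = 0 := (hc0 1).2 F.one_mem
      rw [hijk, hadd, hadd]
      cases i <;> cases j <;> cases k <;> simp only [cond_true, cond_false, hc1, hcgd, hcgg, ← hd]
    obtain ⟨f, hf, e⟩ := hsub a ⟨v, hv⟩ hca
    change v = (a : G) * f at e
    rw [e]
    refine K.mul_mem ?_ (hFK hf)
    show ((cond i ⟨⁅g, u⁆, hδW⟩ 1 * cond j ⟨_, hgδ⟩ 1 * cond k ⟨_, hggδ⟩ 1 : W) : G) ∈ K
    rw [Subgroup.coe_mul, Subgroup.coe_mul]
    refine K.mul_mem (K.mul_mem ?_ ?_) ?_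
    · cases i <;> [exact K.one_mem; exact hδK]
    · cases j <;> [exact K.one_mem; exact hgδK]
    · cases k <;> [exact K.one_mem; exact hggδK]
  have hNu : Nm u = z * z * (g * g * ⁅g, u⁆ * (g * g)⁻¹ * ⁅g, u⁆) := by
    have key : ∀ a b d u : Q, a * b * d * u * (b * d * u) * (d * u) * u = u * u * (u * u) * (a * d) * (b * b) * (d * d) :=
      fun _ _ _ _ => by ac_rfl
    have h := congrArg Subtype.val (key ⟨_, L.hWQ hggδ⟩ ⟨_, L.hWQ hgδ⟩ ⟨_, L.hWQ hδW⟩ ⟨u, L.huQ⟩)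
    simp only [Subgroup.coe_mul] at h
    have hd2 : ⁅g, u⁆ * ⁅g, u⁆ = 1 := (hcomΩ g u L.huQ).2
    rw [show g * ⁅g, u⁆ * g⁻¹ * (g * ⁅g, u⁆ * g⁻¹) = g * (⁅g, u⁆ * ⁅g, u⁆) * g⁻¹ by group, hd2, mul_one, mul_one,
      mul_inv_cancel, mul_one] at h
    rw [hz, ← h]
    simp only [Nm, commutatorElement_def]; group
  have heq : x * P * x⁻¹ = P⁻¹ * Nm q := by simp only [Nm, hP, hq]; group
  have hPz : P = z * ω := by rw [hω, mul_inv_cancel_left]
  have hzN : z * z = Nm q := by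
    have h1 : x * P * x⁻¹ = z * ω := by
      calc x * P * x⁻¹ = x * z * x⁻¹ * (x * ω * x⁻¹) := by rw [hPz]; group
        _ = _ := by rw [hFG x z hzF, mul_inv_cancel_right, hxω]
    rw [h1, hPz] at heq
    calc z * z = z * (z * ω * ω) := by rw [mul_assoc z ω, hωω, mul_one]
      _ = z * ω * (z * ω) := by
        rw [mul_assoc z ω (z * ω), ← mul_assoc ω z ω, hFc ω hωW z hzF]
      _ = z * ω * ((z * ω)⁻¹ * Nm q) := by rw [← heq]
      _ = Nm q := mul_inv_cancel_left _ _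
  rcases L.split q hqQ with h | ⟨w, hw, hqw⟩
  · exact hzz (hzN.trans (hWK h).2)
  · rw [hqw, hNmul u L.huQ w (L.hWQ hw), (hWK hw).2, mul_one, hNu, left_eq_mul] at hzN
    refine htop1 ?_
    rw [← hcgg, hd, ← hadd]
    exact (hc0 _).2 (show g * g * ⁅g, u⁆ * (g * g)⁻¹ * ⁅g, u⁆ ∈ F from hzN ▸ F.one_mem)

/-- The possible shapes. -/
def Shape (Q : Subgroup G) : Prop :=
  ((∀ a ∈ Q, a * a = 1) ∧ (Nat.card Q = 8 ∨ Nat.card Q = 16)) ∨ Nonempty (Q ≃* Model)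

set_option maxHeartbeats 1000000 in
/-- The kernel has one of the shapes. -/
theorem shape_all : ∀ (n : ℕ) {G : Type*} [Group G] [Finite G] (D : Data G), Nat.card G ≤ n →
    ∀ y : G, y ^ 7 = 1 → D.π y ≠ 1 → (¬ ∀ a ∈ D.π.ker, y * a = a * y) → Shape D.π.ker := by
  intro n
  induction n with
  | zero => intro G _ _ D h; exact absurd h (by have := Nat.card_pos (α := G); omega)
  | succ n ih =>
    intro G _ _ D hle y hy7 hy hmove
    classical
    haveI : Fact (Nat.Prime 2) := ⟨Nat.prime_two⟩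
    haveI : Fact (Nat.Prime 7) := ⟨by norm_num⟩
    set Q := D.π.ker with hQdef
    haveI : Q.Normal := MonoidHom.normal_ker D.π
    have hQ2 : IsPGroup 2 Q := D.two
    set F : Subgroup G := (frattini Q).map Q.subtype with hF
    haveI : F.Normal := inferInstance
    have hFQ : F ≤ Q := Subgroup.map_subtype_le _
    have hQF : ∀ x ∈ Q, x * x ∈ F := fun x hx =>
      ⟨⟨x, hx⟩ ^ 2, H31.pow_mem_frattini hQ2 _, by rw [map_pow, sq]; rfl⟩
    have hgen : ∀ L : Subgroup G, L.Normal → (∀ a ∈ Q, a * a ∈ L) → F ≤ L := by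
      intro L hL h
      rintro _ ⟨a, ha, rfl⟩
      have h2 : frattini Q ≤ L.subgroupOf Q := by
        refine H31.frattini_le_of_pow_mem Nat.prime_two _ (Subgroup.commutator_le.mpr fun u _ v _ => ?_)
          (fun u => ?_)
        · exact Subgroup.mem_subgroupOf.2 (comm_mem_of_sq (Q := Q) (F := L) h u.2 v.2)
        · rw [Subgroup.mem_subgroupOf, sq, Subgroup.coe_mul]
          exact h _ u.2
      exact Subgroup.mem_subgroupOf.1 (h2 ha)
    have hmoveF : ∃ a ∈ Q, ⁅y, a⁆ ∉ F := by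
      by_contra h
      push Not at h
      have hle2 := H1.le_centralizer_of_frattini (A := Subgroup.zpowers y) (K := Q)
        Cfsg.Comp.le_normalizer_of_normal ?_ ?_
      · exact hmove fun a ha => (hle2 (Subgroup.mem_zpowers y) a ha).symm
      · rw [Nat.card_zpowers, orderOf_eq_prime (p := 7) hy7 (fun h1 => hy (by rw [h1, map_one]))]
        obtain ⟨i, hi⟩ := IsPGroup.iff_card.1 (hQ2.to_subgroup (frattini Q))
        rw [hi]
        exact ((Nat.coprime_primes (by norm_num : Nat.Prime 7) Nat.prime_two).2 (by norm_num)).pow_right i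
      · intro a ha k hk
        rw [← commutatorElement_def]
        obtain ⟨j, rfl⟩ := Subgroup.mem_zpowers_iff.1 ha
        let qF := QuotientGroup.mk' F
        have h1 : qF ⁅y, k⁆ = 1 := mk_eq_one.2 (h k hk)
        rw [map_commutatorElement, commutatorElement_eq_one_iff_mul_comm] at h1
        refine mk_eq_one.1 ?_
        show qF ⁅y ^ j, k⁆ = 1
        rw [map_commutatorElement, map_zpow, commutatorElement_eq_one_iff_mul_comm]
        exact (Commute.zpow_left h1 j).eq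
    by_cases hF1 : F = ⊥
    · have h2 : ∀ a ∈ Q, a * a = 1 := fun a ha => by
        have := hQF a ha
        rwa [hF1, Subgroup.mem_bot] at this
      have hle16 : Nat.card Q ≤ 16 := by
        by_contra h
        obtain ⟨i, hi⟩ := IsPGroup.iff_card.1 hQ2
        exact big_elem D Q h2 (by
          rw [hi] at h ⊢
          calc 32 = 2 ^ 5 := by norm_num
            _ ≤ 2 ^ i := Nat.pow_le_pow_right (by norm_num) (by
              by_contra h'
              exact h ((Nat.pow_le_pow_right (by norm_num) (by omega : i ≤ 4)).trans (by norm_num))))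
      left
      refine ⟨h2, ?_⟩
      rcases fpf_seven Q hQ2 hle16 y (fun v hv => (inferInstance : Q.Normal).conj_mem v hv y)
        (fun v _ => by rw [hy7]; group) hmove with h | h
      exacts [Or.inl h.1, Or.inr h.1]
    obtain ⟨M, hMn, hMF, hMne, hMmin, hchoice⟩ : ∃ M : Subgroup G, M.Normal ∧ M ≤ F ∧ M ≠ ⊥ ∧
        (∀ K : Subgroup G, K.Normal → K ≤ M → K = ⊥ ∨ K = M) ∧
        (Nat.card M = 2 ∨ ∀ K : Subgroup G, K.Normal → K ≤ F → Nat.card K ≠ 2) := by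
      by_cases h2 : ∃ K : Subgroup G, K.Normal ∧ K ≤ F ∧ Nat.card K = 2
      · obtain ⟨K, hK, hKF, hK2⟩ := h2
        refine ⟨K, hK, hKF, fun h => by rw [h, Subgroup.card_bot] at hK2; omega, fun L _ hL => ?_, Or.inl hK2⟩
        have hd := Subgroup.card_dvd_of_le hL
        rw [hK2] at hd
        rcases (Nat.dvd_prime Nat.prime_two).1 hd with h | h
        · exact Or.inl (Subgroup.card_eq_one.1 h)
        · exact Or.inr (Subgroup.eq_of_le_of_card_ge hL (by rw [h, hK2]))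
      · push Not at h2
        obtain ⟨M, hM, hmin⟩ := Set.Finite.exists_minimal
          (Set.toFinite {K : Subgroup G | K.Normal ∧ K ≤ F ∧ K ≠ ⊥}) ⟨F, inferInstance, le_rfl, hF1⟩
        refine ⟨M, hM.1, hM.2.1, hM.2.2, fun K hK hKM => ?_, Or.inr h2⟩
        by_cases hK1 : K = ⊥
        · exact Or.inl hK1
        · exact Or.inr (le_antisymm hKM (hmin ⟨hK, hKM.trans hM.2.1, hK1⟩ hKM))
    haveI := hMn
    have hMQ : M ≤ Q := hMF.trans hFQ
    obtain ⟨hMc, hMe, hM16⟩ := SectTools.minimal_facts D.rank Q M hQ2 hMQ hMne hMmin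
    have hMcc : ∀ a ∈ M, ∀ b ∈ M, a * b = b * a := fun a ha b hb => hMc a (hMQ ha) b hb
    have hcase : (Nat.card M = 2 ∧ ∀ g : G, ∀ f ∈ M, g * f = f * g) ∨
        (Nat.card M = 8 ∧ (∀ f ∈ M, y * f = f * y → f = 1) ∧ ∀ K : Subgroup G, K.Normal → K ≤ F → Nat.card K ≠ 2) := by
      by_cases hyM : ∀ f ∈ M, y * f = f * y
      · left
        have hall := central_all D M hMc hy hyM
        obtain ⟨m, hm, hm1⟩ := (Subgroup.bot_or_exists_ne_one M).resolve_left hMne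
        haveI : (Subgroup.zpowers m).Normal := ⟨fun x hx g => by
          obtain ⟨k, rfl⟩ := Subgroup.mem_zpowers_iff.1 hx
          rw [hall g _ (M.zpow_mem hm k), mul_inv_cancel_right]; exact hx⟩
        refine ⟨?_, hall⟩
        rcases hMmin _ inferInstance (Subgroup.zpowers_le.2 hm) with h | h
        · exact absurd (Subgroup.zpowers_eq_bot.1 h) hm1
        · rw [← h, Nat.card_zpowers]
          exact orderOf_eq_prime (p := 2) (by rw [sq, hMe m hm]) hm1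
      · right
        rcases fpf_seven M (hQ2.to_le hMQ) hM16 y (fun v hv => (inferInstance : M.Normal).conj_mem v hv y)
          (fun v _ => by rw [hy7]; group) hyM with ⟨h8, hfix⟩ | ⟨h16, -⟩
        · exact ⟨h8, hfix, hchoice.resolve_left (by omega)⟩
        · exfalso
          rcases reducible D M h16 hMc hMe hMcc hy7 hy hyM with ⟨u, hu, hu1, huc⟩ | ⟨W, hWn, hWM, hW8, -⟩
          · haveI : (Subgroup.zpowers u).Normal := ⟨fun x hx g => by
              obtain ⟨k, rfl⟩ := Subgroup.mem_zpowers_iff.1 hx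
              rw [((show Commute g u from huc g).zpow_right k).eq, mul_inv_cancel_right]; exact hx⟩
            rcases hMmin _ inferInstance (Subgroup.zpowers_le.2 hu) with h | h
            · exact hu1 (Subgroup.zpowers_eq_bot.1 h)
            · rw [← h, Nat.card_zpowers, orderOf_eq_prime (p := 2) (by rw [sq, hMe u hu]) hu1] at h16
              omega
          · rcases hMmin W hWn hWM with h | h
            · rw [h, Subgroup.card_bot] at hW8; omega
            · rw [h] at hW8; omega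
    -- the quotient
    have hmoveM : ∃ a ∈ Q, ⁅y, a⁆ ∉ M := by
      obtain ⟨a, ha, ha'⟩ := hmoveF
      exact ⟨a, ha, fun h => ha' (hMF h)⟩
    have hlt : Nat.card (G ⧸ M) ≤ n := by
      have h := Subgroup.card_eq_card_quotient_mul_card_subgroup M
      have hM2 : 2 ≤ Nat.card M := by rcases hcase with h | h <;> omega
      have := Nat.card_pos (α := G ⧸ M)
      nlinarith
    have hS := ih (D.quot M hMQ) hlt (QuotientGroup.mk' M y) (by rw [← map_pow, hy7, map_one]) hy (fun h => by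
      obtain ⟨a, ha, ha'⟩ := hmoveM
      refine ha' (mk_eq_one.1 ?_)
      rw [map_commutatorElement, commutatorElement_eq_one_iff_mul_comm]
      exact h _ (by rw [D.quot_ker M hMQ]; exact ⟨a, ha, rfl⟩))
    rw [D.quot_ker M hMQ] at hS
    have hnot1 : ¬ ∀ a ∈ Q, a * a = 1 := fun h =>
      hF1 (le_bot_iff.1 (hgen ⊥ inferInstance fun a ha => Subgroup.mem_bot.2 (h a ha)))
    have hQcard := card_map_mk hMQ
    rcases hS with ⟨hel, h8 | h16⟩ | ⟨⟨e⟩⟩
    · have hsq : ∀ a ∈ Q, a * a ∈ M := fun a ha => mk_eq_one.1 ((map_mul _ a a).trans (hel _ ⟨a, ha, rfl⟩))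
      rw [h8] at hQcard
      rcases hcase with ⟨hM, hMg⟩ | ⟨hM, -, -⟩
      · exact absurd (eight_two D M hMQ hMg hMe hsq (by rw [← hQcard]) hy7 hy hmoveM) hnot1
      · exact absurd (eight_eight D M hMQ hMc hMe hsq hM (by rw [← hQcard, hM]) hy7 hy hmoveM) hnot1
    · have hsq : ∀ a ∈ Q, a * a ∈ M := fun a ha => mk_eq_one.1 ((map_mul _ a a).trans (hel _ ⟨a, ha, rfl⟩))
      rw [h16] at hQcard
      rcases hcase with ⟨hM, hMg⟩ | ⟨hM, hMfix, -⟩
      · exact Or.inr (sixteen_two D M hMQ hM hMg hsq (by rw [← hQcard, hM]) hy7 hmoveM hnot1)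
      · exact (sixteen_eight D M hMQ hMc hMe hsq hM (by rw [← hQcard, hM]) hy7 hy hmoveM hMfix).elim
    · rcases hcase with ⟨hM, hMg⟩ | ⟨hM, hMfix, hno⟩
      · exact (thirtytwo_two D M hMQ hM hMg e hy7 hy hmoveM).elim
      · refine (thirtytwo_eight D M hMQ hM hMc hMe e hy7 hy hmoveM hMfix fun x hx hfixed hxx => ?_).elim
        by_contra h1
        haveI : (Subgroup.zpowers (x * x)).Normal := ⟨fun v hv g => by
          obtain ⟨k, rfl⟩ := Subgroup.mem_zpowers_iff.1 hv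
          rw [((show Commute g (x * x) from hfixed g).zpow_right k).eq, mul_inv_cancel_right]; exact hv⟩
        refine hno (Subgroup.zpowers (x * x)) inferInstance (Subgroup.zpowers_le.2 (hQF x hx)) ?_
        rw [Nat.card_zpowers]
        exact orderOf_eq_prime (p := 2) (by rw [sq]; exact hxx) h1

/-- The two-core. -/
theorem radical {X : Type*} [Group X] [Finite X] (hc : Cfsg.IsPConstrained 2 X) (hO : Cfsg.oddCore X = ⊥)
    (h4 : Cfsg.SectionalPRankLE 2 4 X) (π : X →* L3) (hπ : Function.Surjective π)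
    (hker : π.ker = Cfsg.pCore 2 X) :
    (Cfsg.IsElementaryAbelian 2 (Cfsg.pCore 2 X) ∧
        (Nat.card ↥(Cfsg.pCore 2 X) = 8 ∨ Nat.card ↥(Cfsg.pCore 2 X) = 16)) ∨
      Nonempty (↥(Cfsg.pCore 2 X) ≃* Model) := by
  haveI : Fact (Nat.Prime 2) := ⟨Nat.prime_two⟩
  have hQ2 : IsPGroup 2 (Cfsg.pCore 2 X) := Cfsg.Comp.pCore_isPGroup 2
  have hCQ : Subgroup.centralizer (Cfsg.pCore 2 X : Set X) ≤ Cfsg.pCore 2 X :=
    (H11.isPConstrained_iff_of_hom (MonoidHom.id X) (fun x => ⟨x, rfl⟩)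
      (by rw [MonoidHom.ker_id]; exact hO.symm)).1 hc
  let D : Data X := ⟨π, hπ, hker.symm ▸ hQ2, h4⟩
  obtain ⟨y, hy7, hy⟩ := exists_seven D
  have hmove : ¬ ∀ a ∈ D.π.ker, y * a = a * y := fun h => hy (MonoidHom.mem_ker.1 (hker.symm ▸ hCQ
    (fun a ha => (h a (show a ∈ π.ker from hker.symm ▸ ha)).symm)))
  rcases shape_all _ D le_rfl y hy7 hy hmove with ⟨h2, hcard⟩ | ⟨⟨e⟩⟩
  · change ∀ a ∈ π.ker, a * a = 1 at h2
    change Nat.card π.ker = 8 ∨ Nat.card π.ker = 16 at hcard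
    rw [hker] at h2 hcard
    refine Or.inl ⟨⟨⟨⟨fun a b => Subtype.ext ?_⟩⟩, fun a ha => by rw [sq]; exact h2 a ha⟩, hcard⟩
    calc (a : X) * b = ((a : X) * b)⁻¹ := (inv_eq_of_mul_eq_one_right (h2 _ (mul_mem a.2 b.2))).symm
      _ = b * a := by
        rw [mul_inv_rev, inv_eq_of_mul_eq_one_right (h2 _ a.2), inv_eq_of_mul_eq_one_right (h2 _ b.2)]
  · exact Or.inr ⟨(MulEquiv.subgroupCongr hker.symm).trans e⟩

end H69.LinThree
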