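import Cfsg.Agent.H69.LinThreeBase
import Mathlib

/-!
Modules and sections of order sixteen, the squaring map on natural sections, and the homocyclic case.
-/

set_option autoImplicit false

namespace H69.LinThree

open scoped commutatorElement Matrix
open H69.AltFive (card_map_mk mk_mem_map comm_mem_of_sq)

variable {G : Type*} [Group G]

/-- The commutator map with an element on an elementary normal subgroup. -/
theorem comm_map [Finite G] (V : Subgroup G) [V.Normal] (hVc : ∀ a ∈ V, ∀ b ∈ V, a * b = b * a) (g : G) :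
    ∃ φ : V →* V, (∀ v : V, ((φ v : V) : G) = ⁅g, (v : G)⁆) ∧
      Nat.card φ.ker = Nat.card ↥(V ⊓ Subgroup.centralizer {g}) ∧
      Nat.card φ.ker * Nat.card φ.range = Nat.card V := by
  have hm : ∀ v : V, ⁅g, (v : G)⁆ ∈ V := fun v => by
    rw [commutatorElement_def]; exact V.mul_mem ((inferInstance : V.Normal).conj_mem _ v.2 g) (V.inv_mem v.2)
  let φ : V →* V :=
    { toFun := fun v => ⟨_, hm v⟩
      map_one' := Subtype.ext (by simp [commutatorElement_def])
      map_mul' := fun a b => Subtype.ext (by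
        show ⁅g, (a : G) * b⁆ = ⁅g, (a : G)⁆ * ⁅g, (b : G)⁆
        calc ⁅g, (a : G) * b⁆ = ⁅g, (a : G)⁆ * ((a : G) * ⁅g, (b : G)⁆ * (a : G)⁻¹) := by
              rw [commutatorElement_def, commutatorElement_def, commutatorElement_def]; group
          _ = _ := by rw [hVc _ a.2 _ (hm b), mul_inv_cancel_right]) }
  refine ⟨φ, fun v => rfl, Nat.card_congr ?_, ?_⟩
  · refine
      { toFun := fun v => ⟨((v : V) : G), (v : V).2, Subgroup.mem_centralizer_singleton_iff.2
          ((commutatorElement_eq_one_iff_mul_comm.1 (congrArg Subtype.val (MonoidHom.mem_ker.1 v.2))).symm)⟩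
        invFun := fun w => ⟨⟨(w : G), w.2.1⟩, MonoidHom.mem_ker.2 (Subtype.ext
          (commutatorElement_eq_one_iff_mul_comm.2 (Subgroup.mem_centralizer_singleton_iff.1 w.2.2).symm))⟩
        left_inv := fun v => rfl
        right_inv := fun w => rfl }
  · rw [Subgroup.card_eq_card_quotient_mul_card_subgroup φ.ker,
      Nat.card_congr (QuotientGroup.quotientKerEquivRange φ).toEquiv, mul_comm]

/-- The range of the commutator map lies in the fixed points of an involutory action. -/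
theorem comm_fixed [Finite G] (V : Subgroup G) [V.Normal] (hV2 : ∀ v ∈ V, v * v = 1)
    (hVc : ∀ a ∈ V, ∀ b ∈ V, a * b = b * a) (e : G)
    (he2 : ∀ v ∈ V, e * e * v = v * (e * e)) : ∀ v ∈ V, ⁅e, v⁆ ∈ V ⊓ Subgroup.centralizer {e} := by
  intro v hv
  have hm : e * v * e⁻¹ ∈ V := (inferInstance : V.Normal).conj_mem v hv e
  refine Subgroup.mem_inf.2 ⟨by rw [commutatorElement_def]; exact V.mul_mem hm (V.inv_mem hv), ?_⟩
  rw [Subgroup.mem_centralizer_singleton_iff]
  refine (mul_inv_eq_iff_eq_mul.1 ?_).symm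
  calc e * ⁅e, v⁆ * e⁻¹ = (e * e * v * (e * e)⁻¹) * (e * v * e⁻¹)⁻¹ := by rw [commutatorElement_def]; group
    _ = v * (e * v * e⁻¹)⁻¹ := by rw [he2 v hv, mul_inv_cancel_right]
    _ = ⁅e, v⁆ := by
      rw [commutatorElement_def, inv_eq_of_mul_eq_one_right (hV2 _ hm), inv_eq_of_mul_eq_one_right (hV2 _ hv)]
      exact hVc v hv _ hm

/-- An involution on an elementary group of order sixteen with few fixed points. -/
theorem comm_eq [Finite G] (V : Subgroup G) [V.Normal] (h16 : Nat.card V = 16) (hV2 : ∀ v ∈ V, v * v = 1)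
    (hVc : ∀ a ∈ V, ∀ b ∈ V, a * b = b * a) (e : G) (he2 : ∀ v ∈ V, e * e * v = v * (e * e))
    (h8 : ¬ 8 ≤ Nat.card ↥(V ⊓ Subgroup.centralizer {e})) :
    Nat.card ↥(V ⊓ Subgroup.centralizer {e}) = 4 ∧
      ∀ c ∈ V ⊓ Subgroup.centralizer {e}, ∃ w ∈ V, ⁅e, w⁆ = c := by
  obtain ⟨φ, hφ, hk, hmul⟩ := comm_map V hVc e
  set C := V ⊓ Subgroup.centralizer {e} with hC
  have hle : φ.range.map V.subtype ≤ C := by
    rintro _ ⟨_, ⟨v, rfl⟩, rfl⟩
    rw [Subgroup.coe_subtype, hφ]
    exact comm_fixed V hV2 hVc e he2 v v.2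
  have h1 := Subgroup.card_le_of_le hle
  rw [Subgroup.card_map_of_injective V.subtype_injective] at h1
  obtain ⟨k, hk2⟩ : ∃ k, Nat.card C = 2 ^ k := by
    have h2 : Nat.card C ∣ 2 ^ 4 := by
      rw [show (2 : ℕ) ^ 4 = 16 from rfl, ← h16]; exact Subgroup.card_dvd_of_le inf_le_left
    obtain ⟨k, -, hk⟩ := (Nat.dvd_prime_pow Nat.prime_two).1 h2
    exact ⟨k, hk⟩
  rw [hk, h16] at hmul
  have hk3 : k ≤ 2 := by
    by_contra h
    exact h8 (hk2 ▸ le_trans (by norm_num : 8 ≤ 2 ^ 3) (Nat.pow_le_pow_right (by norm_num) (by omega)))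
  have hC4 : Nat.card C = 4 := by
    interval_cases k <;> rw [hk2] at hmul h1 <;> omega
  refine ⟨hC4, fun c hc => ?_⟩
  have heq : φ.range.map V.subtype = C := Subgroup.eq_of_le_of_card_ge hle (by
    rw [Subgroup.card_map_of_injective V.subtype_injective]
    rw [hC4] at hmul ⊢
    omega)
  rw [← heq] at hc
  obtain ⟨_, ⟨v, rfl⟩, rfl⟩ := hc
  exact ⟨v, v.2, (hφ v).symm⟩

/-- An element of order four on a natural module. -/
theorem natural_fixed [Finite G] (D : Data G) (M : Subgroup G) [M.Normal] (h8 : Nat.card M = 8)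
    (hM2 : ∀ v ∈ M, v * v = 1) (hMc : ∀ a ∈ M, ∀ b ∈ M, a * b = b * a)
    (hQM : ∀ x ∈ D.π.ker, ∀ v ∈ M, x * v = v * x) {y : G} (hne : ¬ ∀ v ∈ M, y * v = v * y)
    (g : G) (hg : D.π g = g₀) :
    Nat.card ↥(M ⊓ Subgroup.centralizer {g * g}) = 4 ∧
      (∀ v ∈ M, g * v = v * g → ∃ w ∈ M, ⁅g * g, w⁆ = v) ∧
      ∀ v ∈ M, ⁅g * g, v⁆ ∈ M ⊓ Subgroup.centralizer {g * g} := by
  set e := g * g with he
  have heπ : D.π e = tr 0 2 := by rw [he, map_mul, hg]; exact g₀_facts.2.1
  have hee : ∀ v ∈ M, e * e * v = v * (e * e) := fun v hv => hQM _ (MonoidHom.mem_ker.2 (by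
    rw [map_mul, heπ]; exact g₀_facts.2.2.1)) v hv
  have hmove : ¬ ∀ v ∈ M, e * v = v * e := fun h => hne fun v hv =>
    central_all D M hQM (by rw [heπ]; exact g₀_facts.2.2.2.1) h y v hv
  obtain ⟨φ, hφ, hk, hmul⟩ := comm_map M hMc e
  set C := M ⊓ Subgroup.centralizer {e} with hC
  have hrC : ∀ v ∈ M, ⁅e, v⁆ ∈ C := comm_fixed M hM2 hMc e hee
  have hle : φ.range.map M.subtype ≤ C := by
    rintro _ ⟨_, ⟨v, rfl⟩, rfl⟩
    rw [Subgroup.coe_subtype, hφ]
    exact hrC v v.2
  have h1 := Subgroup.card_le_of_le hle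
  rw [Subgroup.card_map_of_injective M.subtype_injective] at h1
  have hdvd : Nat.card C ∣ 2 ^ 3 := by
    rw [show (2 : ℕ) ^ 3 = 8 from rfl, ← h8]; exact Subgroup.card_dvd_of_le inf_le_left
  obtain ⟨k, hk3, hk2⟩ := (Nat.dvd_prime_pow Nat.prime_two).1 hdvd
  rw [hk, h8] at hmul
  have hC8 : Nat.card C ≠ 8 := fun h => hmove fun v hv => by
    have hCM : C = M := Subgroup.eq_of_le_of_card_ge inf_le_left (by rw [h, h8])
    rw [← hCM] at hv
    exact (Subgroup.mem_centralizer_singleton_iff.1 hv.2).symm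
  have hC4 : Nat.card C = 4 := by
    interval_cases k <;> rw [hk2] at hmul h1 hC8 <;> omega
  rw [hC4] at hmul
  have hr2 : Nat.card φ.range = 2 := by omega
  refine ⟨hC4, fun v hv hgv => ?_, hrC⟩
  set R := φ.range.map M.subtype with hR
  have hR2 : Nat.card R = 2 := by rw [hR, Subgroup.card_map_of_injective M.subtype_injective, hr2]
  have hevC : v ∈ C := ⟨hv, Subgroup.mem_centralizer_singleton_iff.2 (by
    rw [he, ← mul_assoc, ← hgv, mul_assoc, ← hgv, mul_assoc])⟩
  by_contra hno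
  have hvR : v ∉ R := by
    rintro ⟨_, ⟨w, rfl⟩, hw⟩
    exact hno ⟨w, w.2, (hφ w).symm.trans hw⟩
  -- `g` centralises all of `C`
  have hgR : ∀ r ∈ R, g * r = r * g := by
    intro r hr
    have hmem : g * r * g⁻¹ ∈ R := by
      obtain ⟨_, ⟨w, rfl⟩, rfl⟩ := hr
      refine ⟨φ ⟨g * w * g⁻¹, (inferInstance : M.Normal).conj_mem _ w.2 g⟩, ⟨_, rfl⟩, ?_⟩
      rw [Subgroup.coe_subtype, hφ, hφ]
      show ⁅e, g * (w : G) * g⁻¹⁆ = g * ⁅e, (w : G)⁆ * g⁻¹
      rw [commutatorElement_def, commutatorElement_def, he]; group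
    rcases eq_or_ne r 1 with rfl | hr1
    · simp
    haveI : IsCyclic R := by haveI : Fact (Nat.Prime 2) := ⟨Nat.prime_two⟩; exact isCyclic_of_prime_card hR2
    have h2 : ∀ a : R, a ≠ 1 → ∀ b : R, b ≠ 1 → a = b := by
      intro a ha b hb
      haveI : Fintype R := Fintype.ofFinite _
      classical
      by_contra h
      have h3 : ({1, a, b} : Finset R).card ≤ 2 := by
        rw [← hR2, Nat.card_eq_fintype_card]; exact Finset.card_le_univ _
      rw [Finset.card_insert_of_notMem (by simp [Ne.symm ha, Ne.symm hb]), Finset.card_pair h] at h3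
      omega
    have h3 := h2 ⟨r, hr⟩ (fun h => hr1 (congrArg Subtype.val h)) ⟨_, hmem⟩ (fun h => hr1
      (conj_eq_one_iff.1 (congrArg Subtype.val h)))
    exact (mul_inv_eq_iff_eq_mul.1 (congrArg Subtype.val h3).symm)
  have hgC : ∀ c ∈ C, g * c = c * g := by
    have hle' : R ⊔ Subgroup.zpowers v ≤ C ⊓ Subgroup.centralizer {g} :=
      sup_le (fun r hr => ⟨hle hr, Subgroup.mem_centralizer_singleton_iff.2 (hgR r hr).symm⟩)
        (Subgroup.zpowers_le.2 ⟨hevC, Subgroup.mem_centralizer_singleton_iff.2 hgv.symm⟩)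
    have hlt : R < R ⊔ Subgroup.zpowers v := lt_of_le_of_ne le_sup_left fun h =>
      hvR (h ▸ Subgroup.mem_sup_right (Subgroup.mem_zpowers v))
    have h4 : 4 ≤ Nat.card ↥(C ⊓ Subgroup.centralizer {g}) := by
      have h2 := Subgroup.card_le_of_le hle'
      obtain ⟨j, hj⟩ := Subgroup.card_dvd_of_le hlt.le
      have h3 : Nat.card R < Nat.card ↥(R ⊔ Subgroup.zpowers v) := by
        by_contra h
        exact hlt.ne (Subgroup.eq_of_le_of_card_ge hlt.le (not_lt.1 h))
      rw [hR2] at hj h3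
      omega
    have heq : C ⊓ Subgroup.centralizer {g} = C := Subgroup.eq_of_le_of_card_ge inf_le_left (hC4 ▸ h4)
    intro c hc
    rw [← heq] at hc
    exact (Subgroup.mem_centralizer_singleton_iff.1 hc.2).symm
  -- and moves every element by an element of `C`
  have hstep : ∀ a b : G, a ∈ M → a ∉ C → b ∈ M → b ∉ C → a * b ∈ C := by
    intro a b ha haC hb hbC
    have hidx : (C.subgroupOf M).index = 2 := by
      have h := Subgroup.card_mul_index (C.subgroupOf M)
      rw [Nat.card_congr (Subgroup.subgroupOfEquivOfLe (inf_le_left : C ≤ M)).toEquiv, hC4, h8] at h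
      omega
    exact Subgroup.mem_subgroupOf.1 ((Subgroup.mul_mem_iff_of_index_two hidx (a := ⟨a, ha⟩) (b := ⟨b, hb⟩)).2
      (iff_of_false (fun h => haC h) (fun h => hbC h)))
  refine hmove fun a ha => ?_
  by_cases haC : a ∈ C
  · exact (Subgroup.mem_centralizer_singleton_iff.1 haC.2).symm
  · have hga : g * a * g⁻¹ ∈ M := (inferInstance : M.Normal).conj_mem a ha g
    have hgaC : g * a * g⁻¹ ∉ C := fun h => haC (by
      have h1 := hgC _ h
      have h2 : g * a * g⁻¹ = a := by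
        have := congrArg (fun z => g⁻¹ * z) h1
        calc g * a * g⁻¹ = g⁻¹ * ((g * a * g⁻¹) * g) := by
              rw [← h1]; group
          _ = a := by group
      rwa [h2] at h)
    set d := g * a * g⁻¹ * a with hd
    have hdC : d ∈ C := hstep _ _ hga hgaC ha haC
    have h1 : g * a * g⁻¹ = d * a := by rw [hd, mul_assoc (g * a * g⁻¹), hM2 a ha, mul_one]
    refine mul_inv_eq_iff_eq_mul.1 ?_
    calc e * a * e⁻¹ = g * (g * a * g⁻¹) * g⁻¹ := by rw [he]; group
      _ = g * (d * a) * g⁻¹ := by rw [h1]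
      _ = (g * d * g⁻¹) * (g * a * g⁻¹) := by group
      _ = d * (d * a) := by rw [hgC d hdC, mul_inv_cancel_right, h1]
      _ = a := by rw [← mul_assoc, hM2 d hdC.1, one_mul]

/-- An element of order seven leaves an elementary group of order sixteen reducible under the whole group. -/
theorem reducible [Finite G] (D : Data G) (V : Subgroup G) [V.Normal] (h16 : Nat.card V = 16)
    (hQV : ∀ x ∈ D.π.ker, ∀ v ∈ V, x * v = v * x) (hV2 : ∀ v ∈ V, v * v = 1)
    (hVc : ∀ a ∈ V, ∀ b ∈ V, a * b = b * a) {y : G} (hy7 : y ^ 7 = 1) (hyπ : D.π y ≠ 1)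
    (hne : ¬ ∀ v ∈ V, y * v = v * y) :
    (∃ u ∈ V, u ≠ 1 ∧ ∀ g, g * u = u * g) ∨
      ∃ W : Subgroup G, W.Normal ∧ W ≤ V ∧ Nat.card W = 8 ∧ ∀ w ∈ W, y * w = w * y → w = 1 := by
  classical
  haveI : Fact (Nat.Prime 7) := ⟨by norm_num⟩
  haveI : Fact (Nat.Prime 2) := ⟨Nat.prime_two⟩
  have hN : ∀ g : G, ∀ v ∈ V, g * v * g⁻¹ ∈ V := fun g v hv => (inferInstance : V.Normal).conj_mem v hv g
  have hV : IsPGroup 2 V := IsPGroup.of_card (n := 4) (by rw [h16]; rfl)
  rcases fpf_seven V hV h16.le y (hN y) (fun v _ => by rw [hy7]; group) hne with ⟨h, -⟩ | ⟨-, hC2⟩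
  · omega
  obtain ⟨u, hu, hu1⟩ := (Subgroup.bot_or_exists_ne_one (V ⊓ Subgroup.centralizer {y})).resolve_left (fun h => by
    rw [h, Subgroup.card_bot] at hC2; omega)
  have huy : y * u = u * y := (Subgroup.mem_centralizer_singleton_iff.1 hu.2).symm
  have hCy : ∀ v ∈ V, y * v = v * y → v = 1 ∨ v = u := by
    intro v hv hvy
    by_contra h
    push Not at h
    set C := V ⊓ Subgroup.centralizer {y}
    haveI : Fintype C := Fintype.ofFinite _
    have n1 : (⟨v, hv, Subgroup.mem_centralizer_singleton_iff.2 hvy.symm⟩ : C) ≠ 1 := fun e => h.1 (congrArg Subtype.val e)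
    have n2 : (⟨u, hu⟩ : C) ≠ 1 := fun e => hu1 (congrArg Subtype.val e)
    have n3 : (⟨v, hv, Subgroup.mem_centralizer_singleton_iff.2 hvy.symm⟩ : C) ≠ ⟨u, hu⟩ := fun e =>
      h.2 (congrArg Subtype.val e)
    have h3 : ({1, ⟨v, hv, Subgroup.mem_centralizer_singleton_iff.2 hvy.symm⟩, ⟨u, hu⟩} : Finset C).card ≤ 2 := by
      rw [← hC2, Nat.card_eq_fintype_card]; exact Finset.card_le_univ _
    rw [Finset.card_insert_of_notMem (by simp [Ne.symm n1, Ne.symm n2]), Finset.card_pair n3] at h3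
    omega
  by_cases hall : ∀ g, g * u = u * g
  · exact Or.inl ⟨u, hu.1, hu1, hall⟩
  right
  -- the image of the commutator map
  obtain ⟨φ, hφ, hk, hmul⟩ := comm_map V hVc y
  rw [hk, hC2, h16] at hmul
  set W := φ.range.map V.subtype with hW
  have hWV : W ≤ V := Subgroup.map_subtype_le _
  have hW8 : Nat.card W = 8 := by
    rw [hW, Subgroup.card_map_of_injective V.subtype_injective]; omega
  have hWy : ∀ w ∈ W, y * w * y⁻¹ ∈ W := by
    rintro _ ⟨_, ⟨v, rfl⟩, rfl⟩
    refine ⟨φ ⟨y * v * y⁻¹, hN y v v.2⟩, ⟨_, rfl⟩, ?_⟩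
    rw [Subgroup.coe_subtype, hφ, hφ]
    show ⁅y, y * (v : G) * y⁻¹⁆ = y * ⁅y, (v : G)⁆ * y⁻¹
    rw [commutatorElement_def, commutatorElement_def]; group
  have hWmove : ¬ ∀ w ∈ W, y * w = w * y := fun h => by
    have hle : W ≤ V ⊓ Subgroup.centralizer {y} := fun w hw =>
      ⟨hWV hw, Subgroup.mem_centralizer_singleton_iff.2 (h w hw).symm⟩
    have := Subgroup.card_le_of_le hle
    rw [hW8, hC2] at this
    omega
  obtain ⟨-, hWfix⟩ := (fpf_seven W (hV.to_le hWV) (by rw [hW8]; norm_num) y hWy (fun v _ => by rw [hy7]; group)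
    hWmove).resolve_right (fun h => by omega)
  have huW : u ∉ W := fun h => hu1 (hWfix u h huy)
  have hcoset : ∀ v ∈ V, v ∈ W ∨ u * v ∈ W := by
    intro v hv
    by_contra h
    push Not at h
    let f : W ⊕ W ⊕ W → V := Sum.elim (fun w => ⟨w, hWV w.2⟩) (Sum.elim (fun w => ⟨u * w, V.mul_mem hu.1 (hWV w.2)⟩)
      (fun w => ⟨v * w, V.mul_mem hv (hWV w.2)⟩))
    have hinj : Function.Injective f := by
      rintro (q | q | q) (r | r | r) e <;> replace e := congrArg (fun z : V => (z : G)) e <;>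
        simp only [f, Sum.elim_inl, Sum.elim_inr] at e
      · exact congrArg Sum.inl (Subtype.ext e)
      · exact absurd (by rw [show u = (q : G) * (r : G)⁻¹ by rw [e]; group]; exact W.mul_mem q.2 (W.inv_mem r.2)) huW
      · exact absurd (by rw [show v = (q : G) * (r : G)⁻¹ by rw [e]; group]; exact W.mul_mem q.2 (W.inv_mem r.2)) h.1
      · exact absurd (by rw [show u = (r : G) * (q : G)⁻¹ by rw [← e]; group]; exact W.mul_mem r.2 (W.inv_mem q.2)) huW
      · exact congrArg (Sum.inr ∘ Sum.inl) (Subtype.ext (mul_left_cancel e))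
      · refine absurd ?_ h.2
        have hui : u⁻¹ = u := inv_eq_of_mul_eq_one_right (hV2 u hu.1)
        rw [show u * v = u * (v * r) * (r : G)⁻¹ by group, ← e, ← mul_assoc, hV2 u hu.1, one_mul]
        exact W.mul_mem q.2 (W.inv_mem r.2)
      · exact absurd (by rw [show v = (r : G) * (q : G)⁻¹ by rw [← e]; group]; exact W.mul_mem r.2 (W.inv_mem q.2)) h.1
      · refine absurd ?_ h.2
        rw [show u * v = u * (v * q) * (q : G)⁻¹ by group, e, ← mul_assoc, hV2 u hu.1, one_mul]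
        exact W.mul_mem r.2 (W.inv_mem q.2)
      · exact congrArg (Sum.inr ∘ Sum.inr) (Subtype.ext (mul_left_cancel e))
    have := Nat.card_le_card_of_injective f hinj
    rw [Nat.card_sum, Nat.card_sum, hW8, h16] at this
    omega
  -- the orbit
  set O : Set G := {v | ∃ g, g * u * g⁻¹ = v} with hO
  have hOV : ∀ v ∈ O, v ∈ V ∧ v ≠ 1 := by
    rintro _ ⟨g, rfl⟩
    exact ⟨hN g u hu.1, fun h => hu1 (conj_eq_one_iff.1 h)⟩
  have hOconj : ∀ g v, v ∈ O → g * v * g⁻¹ ∈ O := by
    rintro g _ ⟨k, rfl⟩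
    exact ⟨g * k, by group⟩
  have hOcard : Nat.card O = (Subgroup.centralizer {u}).index := by
    rw [Subgroup.index]
    symm
    refine Nat.card_eq_of_bijective (Quotient.lift (fun g => (⟨g * u * g⁻¹, g, rfl⟩ : O)) fun a b hab => ?_) ⟨?_, ?_⟩
    · replace hab := QuotientGroup.leftRel_apply.1 hab
      rw [Subgroup.mem_centralizer_singleton_iff] at hab
      refine Subtype.ext ?_
      show a * u * a⁻¹ = b * u * b⁻¹
      calc a * u * a⁻¹ = a * (u * (a⁻¹ * b)) * b⁻¹ := by group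
        _ = a * (a⁻¹ * b * u) * b⁻¹ := by rw [hab]
        _ = b * u * b⁻¹ := by group
    · intro p q
      induction p using Quotient.inductionOn with
      | _ a =>
        induction q using Quotient.inductionOn with
        | _ b =>
          intro h
          have h' : a * u * a⁻¹ = b * u * b⁻¹ := congrArg Subtype.val h
          refine Quotient.sound (QuotientGroup.leftRel_apply.2 ?_)
          rw [Subgroup.mem_centralizer_singleton_iff]
          calc a⁻¹ * b * u = a⁻¹ * (b * u * b⁻¹) * b := by group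
            _ = a⁻¹ * (a * u * a⁻¹) * b := by rw [h']
            _ = u * (a⁻¹ * b) := by group
    · rintro ⟨_, g, rfl⟩
      exact ⟨QuotientGroup.mk g, rfl⟩
  set K := Subgroup.centralizer {u} with hKdef
  have hQK : D.π.ker ≤ K := fun x hx => Subgroup.mem_centralizer_singleton_iff.2 (hQV x hx u hu.1)
  have hidx : Nat.card O * Nat.card (K.map D.π) = 168 := by
    rw [hOcard, ← card_L3, ← Subgroup.index_map_eq K D.surj hQK, Subgroup.index_mul_card]
  have h7 : 7 ∣ Nat.card (K.map D.π) := by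
    have h := orderOf_dvd_natCard (⟨D.π y, Subgroup.mem_map_of_mem D.π
      (Subgroup.mem_centralizer_singleton_iff.2 huy)⟩ : K.map D.π)
    rwa [← Subgroup.orderOf_coe, orderOf_eq_prime (p := 7) (by rw [← map_pow, hy7, map_one]) hyπ] at h
  have hOmod : Nat.card O ≡ 1 [MOD 7] := by
    have h := SectTools.fix_modEq (p := 7) O y (fun v hv => hOconj y v hv) (fun v _ => by rw [hy7]; group)
    have hset : {x : G | x ∈ O ∧ y * x = x * y} = {u} := by
      ext v
      refine ⟨fun ⟨hv, hvy⟩ => ((hCy v (hOV v hv).1 hvy).resolve_left (hOV v hv).2), ?_⟩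
      rintro rfl
      exact ⟨⟨1, by group⟩, huy⟩
    rw [hset] at h
    simpa using h
  have hO8 : Nat.card O = 8 := by
    have hle : Nat.card O ≤ 16 := by
      rw [← h16]; exact Nat.card_mono (Set.toFinite _) (fun v hv => (hOV v hv).1)
    have hne1 : Nat.card O ≠ 1 := fun h => hall (by
      rw [hOcard, Subgroup.index_eq_one] at h
      intro g
      exact Subgroup.mem_centralizer_singleton_iff.1 (by
        rw [show Subgroup.centralizer {u} = ⊤ from h]; exact Subgroup.mem_top g))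
    obtain ⟨j, hj⟩ := h7
    rw [hj] at hidx
    have hdvd : Nat.card O ∣ 24 := ⟨j, by nlinarith⟩
    have key : ∀ n ≤ 16, n ∣ 24 → n % 7 = 1 → n ≠ 1 → n = 8 := by decide
    exact key _ hle hdvd hOmod hne1
  set S : Set G := {v | v ∈ O ∧ v ∈ W} with hS
  have hS7 : 7 ∣ Nat.card S := by
    have h := SectTools.fix_modEq (p := 7) S y (fun v hv => ⟨hOconj y v hv.1, hWy v hv.2⟩)
      (fun v _ => by rw [hy7]; group)
    have hempty : IsEmpty {x : G | x ∈ S ∧ y * x = x * y} := ⟨fun ⟨v, hv, hvy⟩ =>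
      (hOV v hv.1).2 (hWfix v hv.2 hvy)⟩
    rw [@Nat.card_of_isEmpty _ hempty] at h
    exact Nat.modEq_zero_iff_dvd.1 h
  haveI : Fintype G := Fintype.ofFinite G
  have hSW : S ⊆ (W : Set G) \ {1} := fun v hv => ⟨hv.2, (hOV v hv.1).2⟩
  have hW1 : Nat.card ↥((W : Set G) \ {1}) = 7 := by
    rw [Nat.card_coe_set_eq, Set.ncard_diff_singleton_of_mem W.one_mem, ← Nat.card_coe_set_eq]
    show Nat.card W - 1 = 7
    omega
  by_cases hS0 : S = ∅
  · -- the orbit is the other coset
    have hOsub : O ⊆ {v | v ∈ V ∧ u * v ∈ W} := fun v hv => ⟨(hOV v hv).1,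
      (hcoset v (hOV v hv).1).resolve_left fun h => Set.eq_empty_iff_forall_notMem.1 hS0 v ⟨hv, h⟩⟩
    have hui : u * u = 1 := hV2 u hu.1
    have hOeq : O = {v | v ∈ V ∧ u * v ∈ W} := by
      refine Set.eq_of_subset_of_ncard_le hOsub ?_ (Set.toFinite _)
      rw [← Nat.card_coe_set_eq, ← Nat.card_coe_set_eq, hO8, ← hW8]
      refine Nat.card_le_card_of_injective (fun v => (⟨u * (v : G), v.2.2⟩ : W)) fun a b h => ?_
      exact Subtype.ext (mul_left_cancel (congrArg (fun z : W => (z : G)) h))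
    refine ⟨W, ⟨fun w hw g => ?_⟩, hWV, hW8, hWfix⟩
    have h1 : u * w ∈ O := by
      rw [hOeq]; exact ⟨V.mul_mem hu.1 (hWV hw), by rw [← mul_assoc, hui, one_mul]; exact hw⟩
    have h2 : g * (u * w) * g⁻¹ ∈ O := hOconj g _ h1
    have h3 : g * u * g⁻¹ ∈ O := ⟨g, rfl⟩
    rw [hOeq] at h2 h3
    have h4 := W.mul_mem h3.2 h2.2
    have hgu : u * (g * u * g⁻¹) = g * u * g⁻¹ * u := hVc _ hu.1 _ h3.1
    rw [show u * (g * u * g⁻¹) * (u * (g * (u * w) * g⁻¹)) = g * w * g⁻¹ from ?_] at h4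
    · exact h4
    · rw [hgu]
      calc g * u * g⁻¹ * u * (u * (g * (u * w) * g⁻¹)) = g * u * g⁻¹ * (u * u) * (g * (u * w) * g⁻¹) := by group
        _ = g * u * g⁻¹ * (g * (u * w) * g⁻¹) := by rw [hui, mul_one]
        _ = g * (u * u) * w * g⁻¹ := by group
        _ = g * w * g⁻¹ := by rw [hui, mul_one]
  · -- the orbit would be a punctured subgroup with one more point
    exfalso
    have hSle : Nat.card S ≤ 7 := hW1 ▸ Nat.card_mono (Set.toFinite _) hSW
    have hS7' : Nat.card S = 7 := by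
      haveI : Nonempty S := (Set.nonempty_iff_ne_empty.2 hS0).to_subtype
      have := Nat.card_pos (α := S)
      obtain ⟨j, hj⟩ := hS7
      omega
    have hSeq : S = (W : Set G) \ {1} := by
      refine Set.eq_of_subset_of_ncard_le hSW ?_ (Set.toFinite _)
      rw [← Nat.card_coe_set_eq, ← Nat.card_coe_set_eq, hW1, hS7']
    have hOonly : ∀ v ∈ O, v ∈ W ∨ v = u := by
      intro v hv
      by_contra hcon
      push Not at hcon
      have hsub : insert v (insert u S) ⊆ O := by
        rintro x (rfl | rfl | hx)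
        exacts [hv, ⟨1, by group⟩, hx.1]
      have h1 := Set.ncard_le_ncard hsub (Set.toFinite _)
      rw [Set.ncard_insert_of_notMem (by rintro (h | h); exacts [hcon.2 h, hcon.1 h.2]) (Set.toFinite _),
        Set.ncard_insert_of_notMem (fun h => huW h.2) (Set.toFinite _), ← Nat.card_coe_set_eq, ← Nat.card_coe_set_eq,
        hS7', hO8] at h1
      omega
    obtain ⟨g, hg⟩ := not_forall.1 hall
    have hgu : g * u * g⁻¹ ∈ W := (hOonly _ ⟨g, rfl⟩).resolve_right fun h => hg (mul_inv_eq_iff_eq_mul.1 h)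
    have hgW : ∀ w ∈ W, g * w * g⁻¹ ∈ W := by
      intro w hw
      by_contra hout
      have hmemO : ∀ x ∈ W, x ≠ 1 → g * x * g⁻¹ ∈ O := fun x hx hx1 =>
        hOconj g x ((hSeq.ge ⟨hx, hx1⟩).1)
      have hw1 : w ≠ 1 := fun h => hout (by rw [h]; simp)
      have hgw : g * w * g⁻¹ = u := (hOonly _ (hmemO w hw hw1)).resolve_left hout
      -- another element of the subgroup
      obtain ⟨x, hx, hx1, hxw⟩ : ∃ x ∈ W, x ≠ 1 ∧ x ≠ w := by
        by_contra h
        push Not at h
        have hle : (W : Set G) ⊆ {1, w} := fun x hx => by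
          by_cases h1 : x = 1
          · exact Or.inl h1
          · exact Or.inr (h x hx h1)
        have h1 := Set.ncard_le_ncard hle (Set.toFinite _)
        rw [← Nat.card_coe_set_eq] at h1
        change Nat.card W ≤ _ at h1
        have h2 := Set.ncard_pair (Ne.symm hw1)
        omega
      have hgx : g * x * g⁻¹ ∈ W := (hOonly _ (hmemO x hx hx1)).resolve_right fun h => hxw
        (mul_left_cancel (mul_right_cancel (h.trans hgw.symm)))
      have hxw1 : x * w ≠ 1 := fun h => hxw (mul_right_cancel (h.trans (hV2 w (hWV hw)).symm))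
      rcases hOonly _ (hmemO _ (W.mul_mem hx hw) hxw1) with h | h
      · refine huW ?_
        rw [← hgw, show g * w * g⁻¹ = (g * x * g⁻¹)⁻¹ * (g * (x * w) * g⁻¹) by group]
        exact W.mul_mem (W.inv_mem hgx) h
      · exact hx1 (mul_eq_right.1 (mul_left_cancel (mul_right_cancel (h.trans hgw.symm))))
    exact hgu |> fun h => huW (by
      obtain ⟨w, hw, hwe⟩ : ∃ w ∈ W, g * w * g⁻¹ = g * u * g⁻¹ := by
        let f : W → W := fun w => ⟨g * w * g⁻¹, hgW w w.2⟩
        have hf : Function.Bijective f := Finite.injective_iff_bijective.1 fun a b h => Subtype.ext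
          (mul_left_cancel (mul_right_cancel (congrArg Subtype.val h : g * (a : G) * g⁻¹ = g * (b : G) * g⁻¹)))
        obtain ⟨w, hw⟩ := hf.2 ⟨_, h⟩
        exact ⟨w, w.2, congrArg Subtype.val hw⟩
      rwa [mul_left_cancel (mul_right_cancel hwe)] at hw)

end H69.LinThree
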