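import Mathlib
import Cfsg.Agent.H30.ExtraspecialTwo
import Cfsg.Agent.H5.ExtraspecialFrame
import Cfsg.Agent.H6.Extraspecial
import Cfsg.Prelude.Def_Classical
import Cfsg.Prelude.Def_KGroupFacts

/-!
The outer automorphism group of an extraspecial 2-group is the isometry group of the form given by
squaring, expressed in the coordinates of a symplectic frame.
-/

set_option autoImplicit false

namespace H69.OutExtra

open Matrix
open scoped commutatorElement

/-- The isomorphism determined by two frames with equal power data (after `H5.mulEquiv_of_isFrame`). -/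
theorem exists_equiv_aux {p : ℕ} [Fact p.Prime] {E₁ E₂ : Type*} [Group E₁] [Group E₂] [Finite E₁]
    [Finite E₂] {z₁ : E₁} {z₂ : E₂} (hz₁ : ∀ u, z₁ * u = u * z₁) (hz₂ : ∀ u, z₂ * u = u * z₂)
    (ho₁ : z₁ ^ p = 1) (ho₂ : z₂ ^ p = 1) {n : ℕ}
    {x₁ y₁ : Fin n → E₁} {x₂ y₂ : Fin n → E₂} {a b : Fin n → ℕ}
    (h₁ : H5.IsFrame p z₁ ⊤ x₁ y₁ a b) (h₂ : H5.IsFrame p z₂ ⊤ x₂ y₂ a b) :
    ∃ e : E₁ ≃* E₂, ∀ i, e (x₁ i) = x₂ i ∧ e (y₁ i) = y₂ i := by
  classical
  obtain ⟨p₁, c₁, g₁, k₁⟩ := h₁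
  obtain ⟨p₂, c₂, g₂, k₂⟩ := h₂
  rw [Subgroup.card_top] at k₁ k₂
  set z : E₁ × E₂ := (z₁, z₂) with hz
  let gen : Fin n ⊕ Fin n → E₁ × E₂ :=
    Sum.elim (fun i => (x₁ i, x₂ i)) (fun i => (y₁ i, y₂ i))
  set S := Subgroup.closure (insert z (Set.range gen)) with hS
  have hzc : ∀ u, z * u = u * z := fun u => Prod.ext (hz₁ u.1) (hz₂ u.2)
  have hzS : z ∈ S := Subgroup.subset_closure (Set.mem_insert _ _)
  have hgS : ∀ k, gen k ∈ S := fun k =>
    Subgroup.subset_closure (Set.mem_insert_of_mem _ ⟨k, rfl⟩)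
  set zS : S := ⟨z, hzS⟩ with hzSd
  haveI hN : (Subgroup.zpowers zS).Normal := by
    refine ⟨fun w hw g => ?_⟩
    obtain ⟨i, rfl⟩ := hw
    have hc : Commute g (zS ^ i) := (show Commute g zS from Subtype.ext (hzc g).symm).zpow_right i
    refine ⟨i, ?_⟩
    show zS ^ i = g * zS ^ i * g⁻¹
    rw [hc.eq, mul_inv_cancel_right]
  set π := QuotientGroup.mk' (Subgroup.zpowers zS) with hπ
  let f : Fin n ⊕ Fin n → S ⧸ Subgroup.zpowers zS := fun k => π ⟨gen k, hgS k⟩
  have hπz : π zS = 1 := (QuotientGroup.eq_one_iff _).mpr (Subgroup.mem_zpowers _)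
  have hcl : Subgroup.closure (Set.range f) = ⊤ := by
    rw [eq_top_iff]
    rintro q -
    obtain ⟨⟨s, hs⟩, rfl⟩ := QuotientGroup.mk'_surjective _ q
    have h : ∃ hs' : s ∈ S, π ⟨s, hs'⟩ ∈ Subgroup.closure (Set.range f) := by
      induction hs using Subgroup.closure_induction with
      | mem w hw =>
        rcases hw with rfl | ⟨k, rfl⟩
        · exact ⟨hzS, by rw [show (⟨z, hzS⟩ : S) = zS from rfl, hπz]; exact Subgroup.one_mem _⟩
        · exact ⟨hgS k, Subgroup.subset_closure ⟨k, rfl⟩⟩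
      | one =>
        refine ⟨S.one_mem, ?_⟩
        rw [show (⟨1, S.one_mem⟩ : S) = 1 from rfl, map_one]; exact Subgroup.one_mem _
      | mul u v _ _ hu hv =>
        obtain ⟨hu', hu⟩ := hu
        obtain ⟨hv', hv⟩ := hv
        refine ⟨S.mul_mem hu' hv', ?_⟩
        rw [show (⟨u * v, S.mul_mem hu' hv'⟩ : S) = ⟨u, hu'⟩ * ⟨v, hv'⟩ from rfl, map_mul]
        exact Subgroup.mul_mem _ hu hv
      | inv u _ hu =>
        obtain ⟨hu', hu⟩ := hu
        refine ⟨S.inv_mem hu', ?_⟩
        rw [show (⟨u⁻¹, S.inv_mem hu'⟩ : S) = ⟨u, hu'⟩⁻¹ from rfl, map_inv]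
        exact Subgroup.inv_mem _ hu
    exact h.2
  have hfp : ∀ k, f k ^ p = 1 := by
    intro k
    have : ∃ c : ℕ, gen k ^ p = z ^ c := by
      cases k with
      | inl i => exact ⟨a i, Prod.ext (p₁ i).1 (p₂ i).1⟩
      | inr i => exact ⟨b i, Prod.ext (p₁ i).2 (p₂ i).2⟩
    obtain ⟨c, hc⟩ := this
    show π _ ^ p = 1
    rw [← map_pow]
    exact (QuotientGroup.eq_one_iff _).mpr ⟨(c : ℤ), by
      simp only [zpow_natCast]
      exact Subtype.ext hc.symm⟩
  have hcommgen : ∀ k l, ⁅gen k, gen l⁆ = 1 ∨ ⁅gen k, gen l⁆ = z ∨ ⁅gen l, gen k⁆ = z := by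
    rintro (i | i) (j | j)
    · exact Or.inl (Prod.ext (c₁ i j).1 (c₂ i j).1)
    · by_cases hij : i = j
      · refine Or.inr (Or.inl (Prod.ext ?_ ?_))
        · exact (c₁ i j).2.2.trans (if_pos hij)
        · exact (c₂ i j).2.2.trans (if_pos hij)
      · refine Or.inl (Prod.ext ?_ ?_)
        · exact (c₁ i j).2.2.trans (if_neg hij)
        · exact (c₂ i j).2.2.trans (if_neg hij)
    · by_cases hij : j = i
      · refine Or.inr (Or.inr (Prod.ext ?_ ?_))
        · exact (c₁ j i).2.2.trans (if_pos hij)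
        · exact (c₂ j i).2.2.trans (if_pos hij)
      · refine Or.inl (Prod.ext ?_ ?_)
        · show ⁅y₁ i, x₁ j⁆ = 1
          rw [← commutatorElement_inv, (c₁ j i).2.2, if_neg hij, inv_one]
        · show ⁅y₂ i, x₂ j⁆ = 1
          rw [← commutatorElement_inv, (c₂ j i).2.2, if_neg hij, inv_one]
    · exact Or.inl (Prod.ext (c₁ i j).2.1 (c₂ i j).2.1)
  have hfc : ∀ k l, f k * f l = f l * f k := by
    intro k l
    have h1 : ∀ k l, ⁅gen k, gen l⁆ = z → f k * f l = f l * f k := fun k l h => by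
      have h2 : π ⁅(⟨gen k, hgS k⟩ : S), ⟨gen l, hgS l⟩⁆ = π zS := congrArg π (Subtype.ext h)
      rw [hπz, map_commutatorElement, commutatorElement_eq_one_iff_mul_comm] at h2
      exact h2
    rcases hcommgen k l with h | h | h
    · have h2 : π ⁅(⟨gen k, hgS k⟩ : S), ⟨gen l, hgS l⟩⁆ = π 1 := congrArg π (Subtype.ext h)
      rw [map_one, map_commutatorElement, commutatorElement_eq_one_iff_mul_comm] at h2
      exact h2
    · exact h1 k l h
    · exact (h1 l k h).symm
  have hA : ∀ u v : S ⧸ Subgroup.zpowers zS, u * v = v * u := by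
    intro u v
    have hu : u ∈ Subgroup.closure (Set.range f) := hcl ▸ Subgroup.mem_top u
    have hv : v ∈ Subgroup.closure (Set.range f) := hcl ▸ Subgroup.mem_top v
    have hle : Subgroup.closure (Set.range f) ≤ Subgroup.centralizer (Set.range f) := by
      rw [Subgroup.closure_le]
      rintro _ ⟨k, rfl⟩ _ ⟨l, rfl⟩
      exact hfc l k
    have hle2 : Subgroup.closure (Set.range f) ≤
        Subgroup.centralizer (Subgroup.closure (Set.range f) : Set (S ⧸ Subgroup.zpowers zS)) := by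
      rw [Subgroup.centralizer_closure]; exact hle
    exact (hle2 hu v hv).symm
  have hq := H5.card_le_of_generators hA (fun k : Fin (n + n) => f (finSumFinEquiv.symm k))
    (fun k => hfp _) (by
      rw [show (fun k : Fin (n + n) => f (finSumFinEquiv.symm k)) = f ∘ finSumFinEquiv.symm from rfl,
        Set.range_comp, finSumFinEquiv.symm.range_eq_univ, Set.image_univ, hcl])
  have hSle : Nat.card S ≤ p ^ (2 * n + 1) := by
    rw [Subgroup.card_eq_card_quotient_mul_card_subgroup (Subgroup.zpowers zS), pow_succ,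
      Nat.card_zpowers, two_mul]
    refine Nat.mul_le_mul hq (Nat.le_of_dvd (Fact.out : p.Prime).pos ?_)
    exact orderOf_dvd_of_pow_eq_one (Subtype.ext (Prod.ext ho₁ ho₂))
  let f₁ : S →* E₁ := (MonoidHom.fst E₁ E₂).comp S.subtype
  let f₂ : S →* E₂ := (MonoidHom.snd E₁ E₂).comp S.subtype
  have hs₁ : Function.Surjective f₁ := by
    rw [← MonoidHom.range_eq_top, eq_top_iff, ← g₁, Subgroup.closure_le]
    rintro w (rfl | ⟨i, rfl⟩ | ⟨i, rfl⟩)
    · exact ⟨zS, rfl⟩
    · exact ⟨⟨_, hgS (Sum.inl i)⟩, rfl⟩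
    · exact ⟨⟨_, hgS (Sum.inr i)⟩, rfl⟩
  have hs₂ : Function.Surjective f₂ := by
    rw [← MonoidHom.range_eq_top, eq_top_iff, ← g₂, Subgroup.closure_le]
    rintro w (rfl | ⟨i, rfl⟩ | ⟨i, rfl⟩)
    · exact ⟨zS, rfl⟩
    · exact ⟨⟨_, hgS (Sum.inl i)⟩, rfl⟩
    · exact ⟨⟨_, hgS (Sum.inr i)⟩, rfl⟩
  have b₁ : Function.Bijective f₁ := (Nat.bijective_iff_surjective_and_card f₁).mpr
    ⟨hs₁, le_antisymm (k₁ ▸ hSle) (Nat.card_le_card_of_surjective _ hs₁)⟩
  have b₂ : Function.Bijective f₂ := (Nat.bijective_iff_surjective_and_card f₂).mpr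
    ⟨hs₂, le_antisymm (k₂ ▸ hSle) (Nat.card_le_card_of_surjective _ hs₂)⟩
  refine ⟨(MulEquiv.ofBijective f₁ b₁).symm.trans (MulEquiv.ofBijective f₂ b₂), fun i => ⟨?_, ?_⟩⟩
  · have h : (MulEquiv.ofBijective f₁ b₁).symm (x₁ i) = ⟨_, hgS (Sum.inl i)⟩ :=
      (MulEquiv.symm_apply_eq _).mpr rfl
    show (MulEquiv.ofBijective f₂ b₂) ((MulEquiv.ofBijective f₁ b₁).symm (x₁ i)) = x₂ i
    rw [h]; rfl
  · have h : (MulEquiv.ofBijective f₁ b₁).symm (y₁ i) = ⟨_, hgS (Sum.inr i)⟩ :=
      (MulEquiv.symm_apply_eq _).mpr rfl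
    show (MulEquiv.ofBijective f₂ b₂) ((MulEquiv.ofBijective f₁ b₁).symm (y₁ i)) = y₂ i
    rw [h]; rfl


/-- A frame with zero-one power data. -/
structure FData {E : Type*} [Group E] (z : E) {n : ℕ} (x y : Fin n → E) (a b : Fin n → ℕ) : Prop where
  zz : z * z = 1
  z1 : z ≠ 1
  zc : ∀ u, z * u = u * z
  cm : ∀ u v : E, u * v = v * u ∨ u * v = z * (v * u)
  sq : ∀ u : E, u * u = 1 ∨ u * u = z
  frame : H5.IsFrame 2 z ⊤ x y a b
  ha : ∀ i, a i ≤ 1
  hb : ∀ i, b i ≤ 1

variable {E : Type*} [Group E] {z : E} {n : ℕ} {x y : Fin n → E} {a b : Fin n → ℕ}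

open Classical in
/-- The commutation indicator. -/
noncomputable def om (u v : E) : ZMod 2 := if u * v = v * u then 0 else 1

open Classical in
/-- The squaring indicator. -/
noncomputable def sqv (u : E) : ZMod 2 := if u * u = 1 then 0 else 1

/-- The generators of a frame. -/
def gen (x y : Fin n → E) : Fin n ⊕ Fin n → E := Sum.elim x y

/-- The polar form. -/
def bil (v w : Fin n ⊕ Fin n → ZMod 2) : ZMod 2 :=
  ∑ i, (v (.inl i) * w (.inr i) + v (.inr i) * w (.inl i))

/-- The squaring form of a frame. -/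
def qf (a b : Fin n → ℕ) (v : Fin n ⊕ Fin n → ZMod 2) : ZMod 2 :=
  ∑ i, (v (.inl i) * v (.inr i) + (a i : ZMod 2) * v (.inl i) ^ 2 + (b i : ZMod 2) * v (.inr i) ^ 2)

/-- The coordinates in a frame. -/
noncomputable def coords (x y : Fin n → E) (u : E) : Fin n ⊕ Fin n → ZMod 2 :=
  Sum.elim (fun i => om u (y i)) (fun i => om u (x i))

theorem sq_add (x : ZMod 2) : x ^ 2 = x := by revert x; decide

theorem zmod2_cases : ∀ p : ZMod 2, p = 0 ∨ p = 1 := by decide

theorem qf_add (a b : Fin n → ℕ) (v w : Fin n ⊕ Fin n → ZMod 2) :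
    qf a b (v + w) = qf a b v + qf a b w + bil v w := by
  simp only [qf, bil, ← Finset.sum_add_distrib]
  refine Finset.sum_congr rfl fun i _ => ?_
  simp only [Pi.add_apply, sq_add]
  ring

theorem qf_zero (a b : Fin n → ℕ) : qf a b 0 = 0 := by simp [qf]

theorem bil_single_left (v : Fin n ⊕ Fin n → ZMod 2) (i : Fin n) :
    bil v (Pi.single (.inl i) 1) = v (.inr i) := by
  simp [bil, Pi.single_apply]

theorem bil_single_right (v : Fin n ⊕ Fin n → ZMod 2) (i : Fin n) :
    bil v (Pi.single (.inr i) 1) = v (.inl i) := by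
  simp [bil, Pi.single_apply]

theorem bil_add (v w w' : Fin n ⊕ Fin n → ZMod 2) : bil v (w + w') = bil v w + bil v w' := by
  simp only [bil, ← Finset.sum_add_distrib]
  refine Finset.sum_congr rfl fun i _ => ?_
  simp only [Pi.add_apply]
  ring

theorem qf_single_left (a b : Fin n → ℕ) (i : Fin n) :
    qf a b (Pi.single (.inl i) 1) = (a i : ZMod 2) := by
  simp [qf, Pi.single_apply]

theorem qf_single_right (a b : Fin n → ℕ) (i : Fin n) :
    qf a b (Pi.single (.inr i) 1) = (b i : ZMod 2) := by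
  simp [qf, Pi.single_apply]

namespace FData

variable (d : FData z x y a b)
include d

theorem one_ne_z : (1 : E) ≠ z := d.z1.symm

theorem ncomm {u v : E} (h : u * v = z * (v * u)) : u * v ≠ v * u := fun h' =>
  d.z1 (mul_eq_right.mp (h.symm.trans h'))

theorem om_cases (u v : E) :
    (u * v = v * u ∧ om u v = 0) ∨ (u * v = z * (v * u) ∧ om u v = 1) := by
  rcases d.cm u v with h | h
  · exact Or.inl ⟨h, if_pos h⟩
  · exact Or.inr ⟨h, if_neg (d.ncomm h)⟩

theorem om_comm (u v : E) : om u v = om v u := by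
  unfold om
  by_cases h : u * v = v * u
  · rw [if_pos h, if_pos h.symm]
  · rw [if_neg h, if_neg (Ne.symm h)]

theorem om_eq_zero {u v : E} (h : om u v = 0) : u * v = v * u := by
  rcases d.om_cases u v with ⟨h', -⟩ | ⟨-, h'⟩
  · exact h'
  · rw [h] at h'; exact absurd h' (by decide)

theorem om_mul_left (u v w : E) : om (u * v) w = om u w + om v w := by
  rcases d.om_cases u w with ⟨h1, e1⟩ | ⟨h1, e1⟩ <;> rcases d.om_cases v w with ⟨h2, e2⟩ | ⟨h2, e2⟩ <;>
    rw [e1, e2]
  · rw [add_zero]; exact if_pos (by rw [mul_assoc, h2, ← mul_assoc, h1, mul_assoc])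
  · rw [zero_add]
    exact if_neg (d.ncomm (by
      calc u * v * w = u * (v * w) := by group
        _ = (u * z) * (w * v) := by rw [h2]; group
        _ = z * (u * w) * v := by rw [← d.zc u]; group
        _ = z * (w * (u * v)) := by rw [h1]; group))
  · rw [add_zero]
    exact if_neg (d.ncomm (by
      calc u * v * w = u * (v * w) := by group
        _ = (u * w) * v := by rw [h2]; group
        _ = z * (w * (u * v)) := by rw [h1]; group))
  · rw [show (1 : ZMod 2) + 1 = 0 by decide]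
    exact if_pos (by
      calc u * v * w = u * (v * w) := by group
        _ = (u * z) * (w * v) := by rw [h2]; group
        _ = z * (u * w) * v := by rw [← d.zc u]; group
        _ = (z * z) * (w * (u * v)) := by rw [h1]; group
        _ = w * (u * v) := by rw [d.zz, one_mul])

theorem om_mul_right (u v w : E) : om u (v * w) = om u v + om u w := by
  rw [d.om_comm u, d.om_mul_left, d.om_comm v, d.om_comm w]

theorem om_z (u : E) : om z u = 0 := if_pos (d.zc u)

theorem om_one (u : E) : om 1 u = 0 := if_pos (by simp)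

theorem om_inv (u v : E) : om u⁻¹ v = om u v := by
  have h := d.om_mul_left u⁻¹ u v
  rw [inv_mul_cancel, d.om_one] at h
  have key : ∀ p q : ZMod 2, 0 = p + q → p = q := by decide
  exact key _ _ h

theorem sqv_cases (u : E) : (u * u = 1 ∧ sqv u = 0) ∨ (u * u = z ∧ sqv u = 1) := by
  rcases d.sq u with h | h
  · exact Or.inl ⟨h, if_pos h⟩
  · exact Or.inr ⟨h, if_neg (by rw [h]; exact d.z1)⟩

theorem sqv_mul (u v : E) : sqv (u * v) = sqv u + sqv v + om u v := by
  have hval : ∀ (p : ZMod 2) (w : E), w * w = (if p = 0 then 1 else z) → sqv w = p := by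
    intro p w hw
    rcases zmod2_cases p with rfl | rfl
    · rw [if_pos rfl] at hw; exact if_pos hw
    · rw [if_neg (by decide)] at hw; exact if_neg (by rw [hw]; exact d.z1)
  refine hval _ _ ?_
  have hzr : ∀ w, w * z = z * w := fun w => (d.zc w).symm
  rcases d.sqv_cases u with ⟨h1, e1⟩ | ⟨h1, e1⟩ <;> rcases d.sqv_cases v with ⟨h2, e2⟩ | ⟨h2, e2⟩ <;>
    rcases d.om_cases u v with ⟨h3, e3⟩ | ⟨h3, e3⟩ <;> rw [e1, e2, e3]
  all_goals
    first
    | (have h4 : u * v * (u * v) = (u * u) * (v * v) := by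
        calc u * v * (u * v) = u * (v * u) * v := by group
          _ = u * (u * v) * v := by rw [← h3]
          _ = _ := by group
       rw [h4, h1, h2])
    | (have h5 : v * u = z * (u * v) := by rw [h3, ← mul_assoc z z, d.zz, one_mul]
       have h4 : u * v * (u * v) = z * ((u * u) * (v * v)) := by
        calc u * v * (u * v) = u * (v * u) * v := by group
          _ = (u * z) * (u * v) * v := by rw [h5]; group
          _ = _ := by rw [hzr]; group
       rw [h4, h1, h2])
  all_goals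
    first
    | (rw [if_pos (by decide)]; simp [d.zz])
    | (rw [if_neg (by decide)]; simp [d.zz])

theorem sqv_z : sqv z = 0 := if_pos d.zz

theorem coords_mul (u v : E) : coords x y (u * v) = coords x y u + coords x y v := by
  funext k
  rcases k with i | i <;> exact d.om_mul_left _ _ _

theorem coords_one : coords x y (1 : E) = 0 := by
  funext k; rcases k with i | i <;> exact d.om_one _

theorem coords_z : coords x y z = 0 := by
  funext k; rcases k with i | i <;> exact d.om_z _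

theorem coords_inv (u : E) : coords x y u⁻¹ = coords x y u := by
  funext k; rcases k with i | i <;> exact d.om_inv _ _

theorem om_frame (i j : Fin n) :
    om (x i) (x j) = 0 ∧ om (y i) (y j) = 0 ∧ om (x i) (y j) = if i = j then 1 else 0 := by
  obtain ⟨h1, h2, h3⟩ := d.frame.2.1 i j
  refine ⟨if_pos (commutatorElement_eq_one_iff_mul_comm.mp h1),
    if_pos (commutatorElement_eq_one_iff_mul_comm.mp h2), ?_⟩
  by_cases h : i = j
  · rw [if_pos h] at h3 ⊢
    refine if_neg fun h' => d.z1 ?_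
    rw [← h3]; exact commutatorElement_eq_one_iff_mul_comm.mpr h'
  · rw [if_neg h] at h3 ⊢
    exact if_pos (commutatorElement_eq_one_iff_mul_comm.mp h3)

theorem coords_gen (k : Fin n ⊕ Fin n) : coords x y (gen x y k) = Pi.single k 1 := by
  funext l
  rcases k with i | i <;> rcases l with j | j
  · show om (x i) (y j) = _
    rw [(d.om_frame i j).2.2]
    simp [Pi.single_apply, eq_comm]
  · show om (x i) (x j) = _
    rw [(d.om_frame i j).1]
    simp
  · show om (y i) (y j) = _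
    rw [(d.om_frame i j).2.1]
    simp
  · show om (y i) (x j) = _
    rw [d.om_comm, (d.om_frame j i).2.2]
    simp [Pi.single_apply]

theorem induction {P : E → Prop} (hgen : ∀ k, P (gen x y k)) (hz : P z) (h1 : P 1)
    (hmul : ∀ u v, P u → P v → P (u * v)) (hinv : ∀ u, P u → P u⁻¹) (u : E) : P u := by
  have hu : u ∈ Subgroup.closure (insert z (Set.range x ∪ Set.range y)) := d.frame.2.2.1 ▸ Subgroup.mem_top u
  induction hu using Subgroup.closure_induction with
  | mem w hw =>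
    rcases hw with rfl | ⟨i, rfl⟩ | ⟨i, rfl⟩
    exacts [hz, hgen (.inl i), hgen (.inr i)]
  | one => exact h1
  | mul u v _ _ hu hv => exact hmul u v hu hv
  | inv u _ hu => exact hinv u hu

theorem om_eq_bil (u : E) : ∀ v, om u v = bil (coords x y u) (coords x y v) := by
  refine d.induction (fun k => ?_) ?_ ?_ (fun v w hv hw => ?_) (fun v hv => ?_)
  · rw [d.coords_gen]
    rcases k with i | i
    · rw [bil_single_left]; rfl
    · rw [bil_single_right]; rfl
  · rw [d.coords_z, d.om_comm, d.om_z]; simp [bil]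
  · rw [d.coords_one, d.om_comm, d.om_one]; simp [bil]
  · rw [d.om_mul_right, d.coords_mul, bil_add, hv, hw]
  · rw [d.coords_inv, ← hv, d.om_comm, d.om_inv, d.om_comm]

theorem sqv_eq_qf : ∀ u, sqv u = qf a b (coords x y u) := by
  refine d.induction (fun k => ?_) ?_ ?_ (fun v w hv hw => ?_) (fun v hv => ?_)
  · rw [d.coords_gen]
    rcases k with i | i
    · rw [qf_single_left]
      have h := (d.frame.1 i).1
      rw [pow_two] at h
      rcases Nat.le_one_iff_eq_zero_or_eq_one.mp (d.ha i) with e | e <;> rw [e] at h ⊢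
      · rw [pow_zero] at h; simp [gen, sqv, h]
      · rw [pow_one] at h; simp [gen, sqv, h, d.z1]
    · rw [qf_single_right]
      have h := (d.frame.1 i).2
      rw [pow_two] at h
      rcases Nat.le_one_iff_eq_zero_or_eq_one.mp (d.hb i) with e | e <;> rw [e] at h ⊢
      · rw [pow_zero] at h; simp [gen, sqv, h]
      · rw [pow_one] at h; simp [gen, sqv, h, d.z1]
  · rw [d.coords_z, qf_zero, d.sqv_z]
  · rw [d.coords_one, qf_zero]; exact if_pos (one_mul 1)
  · rw [d.sqv_mul, d.coords_mul, qf_add, hv, hw, d.om_eq_bil]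
  · rw [d.coords_inv, ← hv]
    have h : v⁻¹ * v⁻¹ = 1 ↔ v * v = 1 := by rw [← _root_.mul_inv_rev, inv_eq_one]
    unfold sqv
    by_cases h' : v * v = 1
    · rw [if_pos h', if_pos (h.mpr h')]
    · rw [if_neg h', if_neg fun h'' => h' (h.mp h'')]

theorem ker_coords {u : E} (h : coords x y u = 0) : u = 1 ∨ u = z ∨ (∀ v, u * v = v * u) := by
  refine Or.inr (Or.inr fun v => d.om_eq_zero ?_)
  rw [d.om_eq_bil, h]; simp [bil]

theorem coords_eq_iff (hc : ∀ w, (∀ v, w * v = v * w) → w = 1 ∨ w = z) {u v : E}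
    (h : coords x y u = coords x y v) : v = u ∨ v = u * z := by
  have h2 : coords x y (u⁻¹ * v) = 0 := by
    rw [d.coords_mul, d.coords_inv, h]; funext k; exact CharTwo.add_self_eq_zero _
  have h3 : u⁻¹ * v = 1 ∨ u⁻¹ * v = z := by
    rcases d.ker_coords h2 with e | e | e
    exacts [Or.inl e, Or.inr e, hc _ e]
  rcases h3 with e | e
  · exact Or.inl (inv_mul_eq_one.mp e).symm
  · exact Or.inr (inv_mul_eq_iff_eq_mul.mp e)

theorem coords_surj (v : Fin n ⊕ Fin n → ZMod 2) : ∃ u, coords x y u = v := by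
  let T : AddSubgroup (Fin n ⊕ Fin n → ZMod 2) :=
    { carrier := Set.range (coords x y)
      zero_mem' := ⟨1, d.coords_one⟩
      add_mem' := fun {p q} ⟨u, hu⟩ ⟨w, hw⟩ => ⟨u * w, by rw [d.coords_mul, hu, hw]⟩
      neg_mem' := fun {p} ⟨u, hu⟩ => ⟨u, by rw [hu]; funext k; exact (CharTwo.neg_eq (p k)).symm⟩ }
  have hs : ∀ k, Pi.single k (1 : ZMod 2) ∈ T := fun k => ⟨gen x y k, d.coords_gen k⟩
  have hv : v = ∑ k, Pi.single k (v k) := (Finset.univ_sum_single v).symm
  suffices h : v ∈ T from h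
  rw [hv]
  refine T.sum_mem fun k _ => ?_
  rcases zmod2_cases (v k) with e | e <;> rw [e]
  · rw [Pi.single_zero]; exact T.zero_mem
  · exact hs k

end FData

/-! ### The action on coordinates -/

variable {ι : Type} [Fintype ι] [DecidableEq ι]

/-- Coordinates indexed by an arbitrary type. -/
noncomputable def pc (x y : Fin n → E) (ε : ι ≃ Fin n ⊕ Fin n) (u : E) : ι → ZMod 2 :=
  fun j => coords x y u (ε j)

/-- The matrix of an endomorphism. -/
noncomputable def autMat (x y : Fin n → E) (ε : ι ≃ Fin n ⊕ Fin n) (φ : MulAut E) :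
    Matrix ι ι (ZMod 2) := Matrix.of fun r c => pc x y ε (φ (gen x y (ε c))) r

variable (ε : ι ≃ Fin n ⊕ Fin n)

namespace FData

variable (d : FData z x y a b)
include d

theorem pc_mul (u v : E) : pc x y ε (u * v) = pc x y ε u + pc x y ε v := by
  funext j; exact congrFun (d.coords_mul u v) (ε j)

theorem pc_gen (c : ι) : pc x y ε (gen x y (ε c)) = Pi.single c 1 := by
  funext j
  show coords x y (gen x y (ε c)) (ε j) = _
  rw [d.coords_gen]
  simp [Pi.single_apply]

theorem pc_surj (v : ι → ZMod 2) : ∃ u, pc x y ε u = v := by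
  obtain ⟨u, hu⟩ := d.coords_surj (v ∘ ε.symm)
  exact ⟨u, funext fun j => by show coords x y u (ε j) = v j; rw [hu]; simp⟩

theorem pc_eq_iff (hc : ∀ w, (∀ v, w * v = v * w) → w = 1 ∨ w = z) {u v : E}
    (h : pc x y ε u = pc x y ε v) : v = u ∨ v = u * z :=
  d.coords_eq_iff hc (funext fun k => by
    have h' := congrFun h (ε.symm k)
    simpa [pc] using h')

theorem map_z (hc : ∀ w, (∀ v, w * v = v * w) → w = 1 ∨ w = z) (φ : MulAut E) : φ z = z := by
  refine (hc _ fun v => ?_).resolve_left fun h => d.z1 (by simpa using h)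
  obtain ⟨v', rfl⟩ := φ.surjective v
  rw [← map_mul, ← map_mul, d.zc]

theorem autMat_mulVec (hc : ∀ w, (∀ v, w * v = v * w) → w = 1 ∨ w = z) (φ : MulAut E) :
    ∀ u, autMat x y ε φ *ᵥ pc x y ε u = pc x y ε (φ u) := by
  have hz0 : pc x y ε z = 0 := funext fun j => congrFun d.coords_z (ε j)
  have h10 : pc x y ε (1 : E) = 0 := funext fun j => congrFun d.coords_one (ε j)
  have hinv : ∀ v, pc x y ε v⁻¹ = pc x y ε v := fun v => funext fun j => congrFun (d.coords_inv v) (ε j)
  refine d.induction (fun k => ?_) ?_ ?_ (fun v w hv hw => ?_) (fun v hv => ?_)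
  · obtain ⟨c, rfl⟩ := ε.surjective k
    rw [d.pc_gen, Matrix.mulVec_single_one]
    rfl
  · rw [hz0, Matrix.mulVec_zero, d.map_z hc, hz0]
  · rw [h10, Matrix.mulVec_zero, map_one, h10]
  · rw [d.pc_mul, Matrix.mulVec_add, hv, hw, map_mul, d.pc_mul]
  · rw [hinv, hv, map_inv, hinv]

theorem autMat_one : autMat x y ε (1 : MulAut E) = 1 := by
  ext r c
  simp [autMat, d.pc_gen, Matrix.one_apply, Pi.single_apply]

theorem autMat_mul (hc : ∀ w, (∀ v, w * v = v * w) → w = 1 ∨ w = z) (φ ψ : MulAut E) :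
    autMat x y ε (φ * ψ) = autMat x y ε φ * autMat x y ε ψ := by
  refine Matrix.ext_iff_mulVec.mpr fun v => ?_
  obtain ⟨u, rfl⟩ := d.pc_surj ε v
  rw [← Matrix.mulVec_mulVec, d.autMat_mulVec ε hc, d.autMat_mulVec ε hc, d.autMat_mulVec ε hc]
  rfl

theorem qf_pc (u : E) : qf a b (pc x y ε u ∘ ε.symm) = sqv u := by
  rw [d.sqv_eq_qf]
  congr 1
  funext k
  simp [pc]

theorem out_equiv [Finite E] (hE : Cfsg.IsExtraspecial 2 E)
    (Qt : (ι → ZMod 2) → ZMod 2) (hQt : ∀ v, Qt v = qf a b (v ∘ ε.symm)) :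
    Nonempty (Cfsg.Out E ≃* Cfsg.isometryGroup (ZMod 2) Qt) := by
  classical
  haveI : Fact (Nat.Prime 2) := ⟨Nat.prime_two⟩
  have hzcen : z ∈ Subgroup.center E := Subgroup.mem_center_iff.mpr fun u => (d.zc u).symm
  have hcenter : ∀ w ∈ Subgroup.center E, w = 1 ∨ w = z := by
    intro w hw
    by_contra hn
    push Not at hn
    have hcard := hE.2
    rw [Nat.card_eq_two_iff' (1 : Subgroup.center E)] at hcard
    exact hn.2 (congrArg (fun t : Subgroup.center E => (t : E)) (hcard.unique (y₁ := ⟨w, hw⟩) (y₂ := ⟨z, hzcen⟩)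
      (by simpa [Subtype.ext_iff] using hn.1) (by simpa [Subtype.ext_iff] using d.z1)))
  have hc : ∀ w, (∀ v, w * v = v * w) → w = 1 ∨ w = z := fun w h =>
    hcenter w (Subgroup.mem_center_iff.mpr fun v => (h v).symm)
  let Ψ : MulAut E →* Matrix ι ι (ZMod 2) :=
    { toFun := autMat x y ε, map_one' := d.autMat_one ε, map_mul' := d.autMat_mul ε hc }
  have hmem : ∀ φ, Ψ.toHomUnits φ ∈ Cfsg.isometryGroup (ZMod 2) Qt := by
    intro φ u v
    show Qt (autMat x y ε φ *ᵥ u) = Qt u
    obtain ⟨w, rfl⟩ := d.pc_surj ε u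
    rw [d.autMat_mulVec ε hc, hQt, hQt, d.qf_pc, d.qf_pc]
    unfold sqv
    rw [← map_mul]
    by_cases h : w * w = 1
    · rw [if_pos h, if_pos (by rw [h, map_one])]
    · rw [if_neg h, if_neg fun h' => h ((map_eq_one_iff φ φ.injective).mp h')]
  let Φ := Ψ.toHomUnits.codRestrict _ hmem
  have hΦ : ∀ φ, ((Φ φ : GL ι (ZMod 2)) : Matrix ι ι (ZMod 2)) = autMat x y ε φ := fun φ => rfl
  have hker : Φ.ker = Cfsg.Inn E := by
    ext φ
    rw [MonoidHom.mem_ker]
    constructor
    · intro h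
      have hM : autMat x y ε φ = 1 := by rw [← hΦ, h]; rfl
      have hcases : ∀ u, φ u = u ∨ φ u = u * z := fun u =>
        d.pc_eq_iff ε hc (by rw [← d.autMat_mulVec ε hc, hM, Matrix.one_mulVec])
      have hmemc : ∀ u, φ u * u⁻¹ ∈ Subgroup.center E := fun u => by
        rcases hcases u with e | e <;> rw [e]
        · rw [mul_inv_cancel]; exact one_mem _
        · rw [← d.zc u, mul_assoc, mul_inv_cancel, mul_one]; exact hzcen
      let χ : E →* Subgroup.center E := MonoidHom.mk' (fun u => ⟨_, hmemc u⟩) fun u v => Subtype.ext (by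
        show φ (u * v) * (u * v)⁻¹ = φ u * u⁻¹ * (φ v * v⁻¹)
        have hv := Subgroup.mem_center_iff.mp (hmemc v) u⁻¹
        calc φ (u * v) * (u * v)⁻¹ = φ u * ((φ v * v⁻¹) * u⁻¹) := by rw [map_mul]; group
          _ = φ u * (u⁻¹ * (φ v * v⁻¹)) := by rw [hv]
          _ = φ u * u⁻¹ * (φ v * v⁻¹) := by group)
      obtain ⟨e, he⟩ := H6.extraspecial_exists_commutator_eq hE χ
      refine ⟨e, MulEquiv.ext fun u => ?_⟩
      have h1 : φ u * u⁻¹ = ⁅e, u⁆ := he u
      rw [MulAut.conj_apply]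
      calc e * u * e⁻¹ = ⁅e, u⁆ * u := by rw [commutatorElement_def]; group
        _ = φ u := by rw [← h1]; group
    · rintro ⟨e, rfl⟩
      apply Subtype.ext
      apply Units.ext
      rw [hΦ]
      refine Matrix.ext_iff_mulVec.mpr fun v => ?_
      obtain ⟨u, rfl⟩ := d.pc_surj ε v
      rw [d.autMat_mulVec ε hc]
      show pc x y ε (e * u * e⁻¹) = _
      rw [d.pc_mul, d.pc_mul, show pc x y ε e⁻¹ = pc x y ε e from funext fun j => congrFun (d.coords_inv e) (ε j)]
      rw [add_comm (pc x y ε e), add_assoc, show pc x y ε e + pc x y ε e = 0 from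
        funext fun j => CharTwo.add_self_eq_zero _, add_zero]
      exact (Matrix.one_mulVec _).symm
  have hsurj : Function.Surjective Φ := by
    rintro ⟨g, hg⟩
    set M : Matrix ι ι (ZMod 2) := (g : Matrix ι ι (ZMod 2)) with hM
    have hgQ : ∀ u, Qt (M *ᵥ u) = Qt u := fun u => hg u u
    choose w hw using fun k : Fin n ⊕ Fin n => d.pc_surj ε (M *ᵥ Pi.single (ε.symm k) 1)
    have hcoord : ∀ u, qf a b (coords x y u) = Qt (pc x y ε u) := fun u => by
      rw [hQt, d.qf_pc, d.sqv_eq_qf]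
    have hsingle : ∀ k, (Pi.single (ε.symm k) (1 : ZMod 2) : ι → ZMod 2) = pc x y ε (gen x y k) := fun k => by
      have := d.pc_gen ε (ε.symm k)
      rwa [Equiv.apply_symm_apply, eq_comm] at this
    have hsq : ∀ k, sqv (w k) = sqv (gen x y k) := fun k => by
      rw [d.sqv_eq_qf, d.sqv_eq_qf, hcoord, hcoord, hw, hgQ, hsingle]
    have hom : ∀ k l, om (w k) (w l) = om (gen x y k) (gen x y l) := fun k l => by
      have h1 := d.sqv_mul (w k) (w l)
      have h2 := d.sqv_mul (gen x y k) (gen x y l)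
      have h3 : sqv (w k * w l) = sqv (gen x y k * gen x y l) := by
        rw [d.sqv_eq_qf, d.sqv_eq_qf, hcoord, hcoord, d.pc_mul, d.pc_mul, hw, hw, hsingle, hsingle,
          ← Matrix.mulVec_add, hgQ]
      rw [h3, h2, hsq, hsq] at h1
      exact (add_left_cancel h1).symm
    have hpow : ∀ (k) (c : ℕ), c ≤ 1 → gen x y k ^ 2 = z ^ c → w k ^ 2 = z ^ c := by
      intro k c hc1 hk
      rw [pow_two] at hk ⊢
      have e := hsq k
      rcases d.sqv_cases (w k) with ⟨h1, e1⟩ | ⟨h1, e1⟩ <;>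
        rcases d.sqv_cases (gen x y k) with ⟨h2, e2⟩ | ⟨h2, e2⟩ <;> rw [e1, e2] at e
      · rw [h1, ← hk, h2]
      · exact absurd e (by decide)
      · exact absurd e (by decide)
      · rw [h1, ← hk, h2]
    have hbr : ∀ (k l) (c : E), ⁅gen x y k, gen x y l⁆ = c → ⁅w k, w l⁆ = c := by
      intro k l c hk
      have e := hom k l
      rcases d.om_cases (w k) (w l) with ⟨h1, e1⟩ | ⟨h1, e1⟩ <;>
        rcases d.om_cases (gen x y k) (gen x y l) with ⟨h2, e2⟩ | ⟨h2, e2⟩ <;> rw [e1, e2] at e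
      · rw [← hk, commutatorElement_eq_one_iff_mul_comm.mpr h1, commutatorElement_eq_one_iff_mul_comm.mpr h2]
      · exact absurd e (by decide)
      · exact absurd e (by decide)
      · have hval : ∀ p q : E, p * q = z * (q * p) → ⁅p, q⁆ = z := fun p q h => by
          rw [commutatorElement_def, h]; group
        rw [← hk, hval _ _ h1, hval _ _ h2]
    have hfr : H5.IsFrame 2 z ⊤ (fun i => w (.inl i)) (fun i => w (.inr i)) a b := by
      obtain ⟨f1, f2, f3, f4⟩ := d.frame
      refine ⟨fun i => ⟨hpow (.inl i) _ (d.ha i) (f1 i).1, hpow (.inr i) _ (d.hb i) (f1 i).2⟩,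
        fun i j => ⟨hbr (.inl i) (.inl j) _ (f2 i j).1, hbr (.inr i) (.inr j) _ (f2 i j).2.1,
          hbr (.inl i) (.inr j) _ (f2 i j).2.2⟩, ?_, f4⟩
      set S := Subgroup.closure (insert z (Set.range (fun i => w (Sum.inl i)) ∪ Set.range fun i => w (Sum.inr i)))
      have hz' : z ∈ S := Subgroup.subset_closure (Set.mem_insert _ _)
      have hw' : ∀ k, w k ∈ S := fun k => by
        rcases k with i | i
        · exact Subgroup.subset_closure (Set.mem_insert_of_mem _ (Or.inl ⟨i, rfl⟩))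
        · exact Subgroup.subset_closure (Set.mem_insert_of_mem _ (Or.inr ⟨i, rfl⟩))
      rw [eq_top_iff]
      intro u _
      obtain ⟨t, ht⟩ := d.pc_surj ε ((↑g⁻¹ : Matrix ι ι (ZMod 2)) *ᵥ pc x y ε u)
      have key : ∀ t, ∃ s ∈ S, pc x y ε s = M *ᵥ pc x y ε t := by
        refine d.induction (fun k => ⟨w k, hw' k, by rw [hw, hsingle]⟩) ⟨z, hz', ?_⟩ ⟨1, one_mem _, ?_⟩
          (fun p q ⟨s, hs, es⟩ ⟨r, hr, er⟩ => ⟨s * r, mul_mem hs hr, by
            rw [d.pc_mul, d.pc_mul, es, er, Matrix.mulVec_add]⟩)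
          (fun p ⟨s, hs, es⟩ => ⟨s, hs, by
            rw [es]; congr 1; exact funext fun j => (congrFun (d.coords_inv p) (ε j)).symm⟩)
        · rw [show pc x y ε z = 0 from funext fun j => congrFun d.coords_z (ε j), Matrix.mulVec_zero]
        · rw [show pc x y ε (1 : E) = 0 from funext fun j => congrFun d.coords_one (ε j), Matrix.mulVec_zero]
      obtain ⟨s, hs, es⟩ := key t
      rw [ht, Matrix.mulVec_mulVec, hM, Units.mul_inv, Matrix.one_mulVec] at es
      rcases d.pc_eq_iff ε hc es with e | e <;> rw [e]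
      exacts [hs, mul_mem hs hz']
    have hz2 : z ^ 2 = 1 := by rw [pow_two, d.zz]
    obtain ⟨φ, hφ⟩ := exists_equiv_aux d.zc d.zc hz2 hz2 d.frame hfr
    refine ⟨φ, Subtype.ext (Units.ext ?_)⟩
    rw [hΦ]
    refine Matrix.ext_iff_mulVec.mpr fun v => ?_
    obtain ⟨u, rfl⟩ := d.pc_surj ε v
    rw [d.autMat_mulVec ε hc]
    revert u
    refine d.induction (fun k => ?_) ?_ ?_ (fun p q hp hq => ?_) (fun p hp => ?_)
    · rcases k with i | i
      · rw [show φ (gen x y (Sum.inl i)) = w (Sum.inl i) from (hφ i).1, hw, hsingle]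
      · rw [show φ (gen x y (Sum.inr i)) = w (Sum.inr i) from (hφ i).2, hw, hsingle]
    · rw [d.map_z hc, show pc x y ε z = 0 from funext fun j => congrFun d.coords_z (ε j), Matrix.mulVec_zero]
    · rw [map_one, show pc x y ε (1 : E) = 0 from funext fun j => congrFun d.coords_one (ε j), Matrix.mulVec_zero]
    · rw [map_mul, d.pc_mul, d.pc_mul, hp, hq, Matrix.mulVec_add]
    · have hinv : ∀ v, pc x y ε v⁻¹ = pc x y ε v := fun v => funext fun j => congrFun (d.coords_inv v) (ε j)
      rw [map_inv, hinv, hinv, hp]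
  exact ⟨(QuotientGroup.quotientMulEquivOfEq hker.symm).trans (QuotientGroup.quotientKerEquivOfSurjective Φ hsurj)⟩

end FData

end H69.OutExtra
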