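import Mathlib

/-! Automorphisms of a power of a nonabelian simple group permute the factors. -/

set_option autoImplicit false

namespace H69

variable {S : Type*} [Group S] [IsSimpleGroup S] {m : ℕ}

theorem simple_center_eq_bot (h : ¬ ∀ a b : S, a * b = b * a) : Subgroup.center S = ⊥ :=
  (inferInstance : (Subgroup.center S).Normal).eq_bot_or_eq_top.resolve_right fun ht =>
    h fun a b => Subgroup.mem_center_iff.mp (ht ▸ Subgroup.mem_top b) a

omit [IsSimpleGroup S] in
/-- coordinates of a single entry -/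
theorem mulSingle_conj (X : Fin m → S) (i : Fin m) (s : S) :
    X * Pi.mulSingle i s * X⁻¹ = Pi.mulSingle i (X i * s * (X i)⁻¹) := by
  funext j
  by_cases hj : j = i
  · subst hj; simp
  · simp [hj]

omit [IsSimpleGroup S] in
theorem mulSingle_comm_iff (X : Fin m → S) (i : Fin m) (s : S) :
    Pi.mulSingle i s * X = X * Pi.mulSingle i s ↔ s * X i = X i * s := by
  refine ⟨fun h => by simpa using congrFun h i, fun h => funext fun j => ?_⟩
  by_cases hj : j = i
  · subst hj; simpa using h
  · simp [hj]

/-- An automorphism of a power of a nonabelian simple group permutes the factors, compatibly with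
the coordinates. -/
theorem exists_factor_perm (hS : ¬ ∀ a b : S, a * b = b * a) (φ : MulAut (Fin m → S)) (i : Fin m) :
    ∃ (j : Fin m) (α : S →* S), Function.Injective α ∧
      (∀ s, φ (Pi.mulSingle i s) = Pi.mulSingle j (α s)) ∧ ∀ X, (φ X) j = α (X i) := by
  classical
  have hcen := simple_center_eq_bot hS
  have hcen' : ∀ a : S, (∀ b, b * a = a * b) → a = 1 := fun a ha =>
    Subgroup.mem_bot.mp (hcen ▸ Subgroup.mem_center_iff.mpr ha)
  set f := MonoidHom.mulSingle (fun _ : Fin m => S) i with hf
  have hfa : ∀ s, f s = Pi.mulSingle i s := fun _ => rfl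
  -- conjugates of images stay images
  have hconj : ∀ (Y : Fin m → S) (s : S), ∃ t, Y * φ (f s) * Y⁻¹ = φ (f t) := by
    intro Y s
    obtain ⟨X, rfl⟩ := φ.surjective Y
    exact ⟨X i * s * (X i)⁻¹, by rw [← map_inv, ← map_mul, ← map_mul, hfa, hfa, mulSingle_conj]⟩
  obtain ⟨s₀, hs₀⟩ := exists_ne (1 : S)
  obtain ⟨j, hj⟩ : ∃ j, φ (f s₀) j ≠ 1 := by
    by_contra hn
    push Not at hn
    have : φ (f s₀) = 1 := funext hn
    rw [map_eq_one_iff _ φ.injective, hfa] at this
    exact hs₀ (by simpa using congrFun this i)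
  set g := MonoidHom.mulSingle (fun _ : Fin m => S) j with hg
  have hga : ∀ s, g s = Pi.mulSingle j s := fun _ => rfl
  -- a nontrivial image inside the factor `j`
  obtain ⟨t, ht, t', ht'⟩ : ∃ t : S, t ≠ 1 ∧ ∃ t', φ (f t') = g t := by
    obtain ⟨r, hr⟩ : ∃ r, r * φ (f s₀) j * r⁻¹ * (φ (f s₀) j)⁻¹ ≠ 1 := by
      by_contra hn
      push Not at hn
      exact hj (hcen' _ fun b => mul_inv_eq_iff_eq_mul.mp (mul_inv_eq_one.mp (hn b)))
    obtain ⟨t', ht'⟩ := hconj (g r) s₀
    refine ⟨_, hr, t' * s₀⁻¹, ?_⟩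
    rw [map_mul, map_mul, ← ht', map_inv, map_inv, hga, hga]
    funext k
    by_cases hk : k = j
    · subst hk; simp
    · simp [hk]
  have hne : g t ≠ 1 := fun h => ht (by simpa [hga] using congrFun h j)
  have ht'1 : t' ≠ 1 := fun h => hne (by rw [← ht', h, map_one, map_one])
  -- the two factors coincide
  let A : Subgroup S :=
    { carrier := {s | ∀ k, k ≠ j → φ (f s) k = 1}
      one_mem' := fun k _ => by simp
      mul_mem' := fun {a b} ha hb k hk => by simp [map_mul, ha k hk, hb k hk]
      inv_mem' := fun {a} ha k hk => by simp [map_inv, ha k hk] }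
  have hAn : A.Normal := ⟨fun a ha b k hk => by
    simp only [map_mul, map_inv, Pi.mul_apply, Pi.inv_apply]
    rw [ha k hk]; simp⟩
  have hA : A = ⊤ := hAn.eq_bot_or_eq_top.resolve_left fun h => ht'1 (by
    rw [← Subgroup.mem_bot, ← h]
    intro k hk
    rw [ht', hga, Pi.mulSingle_eq_of_ne hk])
  let α : S →* S := (Pi.evalMonoidHom (fun _ : Fin m => S) j).comp (φ.toMonoidHom.comp f)
  have hsingle : ∀ s, φ (Pi.mulSingle i s) = Pi.mulSingle j (α s) := by
    intro s
    funext k
    by_cases hk : k = j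
    · subst hk; simp [α, hfa]
    · rw [Pi.mulSingle_eq_of_ne hk, ← hfa]
      exact (hA ▸ Subgroup.mem_top s : s ∈ A) k hk
  have hinj : Function.Injective α := by
    intro a b h
    have h1 : φ (Pi.mulSingle i a) = φ (Pi.mulSingle i b) := by rw [hsingle, hsingle, h]
    simpa using congrFun (φ.injective h1) i
  refine ⟨j, α, hinj, hsingle, fun X => ?_⟩
  -- the rest commutes with the factor
  set W := (Pi.mulSingle i (X i))⁻¹ * X with hW
  have hWi : W i = 1 := by simp [hW]
  have hWc : ∀ s, φ W j * α s = α s * φ W j := by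
    intro s
    have h1 : Pi.mulSingle i s * W = W * Pi.mulSingle i s := by
      rw [mulSingle_comm_iff, hWi]; simp
    have h2 := congrFun (congrArg φ h1) j
    simpa [map_mul, hsingle] using h2.symm
  have hsurj : Function.Surjective α := by
    have hn : α.range.Normal := ⟨fun a ha b => by
      obtain ⟨s, rfl⟩ := ha
      obtain ⟨u, hu⟩ := hconj (g b) s
      exact ⟨u, by
        have := congrFun hu j
        simpa [α, hga, hfa] using this.symm⟩⟩
    rcases hn.eq_bot_or_eq_top with h | h
    · exfalso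
      refine hs₀ (hinj ?_)
      rw [map_one]
      exact Subgroup.mem_bot.mp (h ▸ ⟨s₀, rfl⟩)
    · exact MonoidHom.range_eq_top.mp h
  have hW1 : φ W j = 1 := hcen' _ fun b => by
    obtain ⟨s, rfl⟩ := hsurj b
    exact (hWc s).symm
  have hX : X = Pi.mulSingle i (X i) * W := by rw [hW]; group
  calc φ X j = φ (Pi.mulSingle i (X i) * W) j := by rw [← hX]
    _ = α (X i) := by rw [map_mul, Pi.mul_apply, hsingle, hW1, Pi.mulSingle_eq_same, mul_one]

end H69
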