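import Cfsg.Agent.H40.PSLPres
import Cfsg.Agent.H37.SL2Gen

/-!
`SL₂(q)` is generated by some element together with its image under the swap of the two
coordinates.
-/

set_option autoImplicit false
set_option linter.unusedSectionVars false
set_option linter.style.haveILetI false

namespace H69.SL2Swap

open Matrix H40.CRW

variable {F : Type*} [Field F]

/-- Conjugation by the transposition of the two coordinates. -/
def io : SpecialLinearGroup (Fin 2) F ≃* SpecialLinearGroup (Fin 2) F :=
  H40.BlockPres.reidx (Equiv.swap (0 : Fin 2) 1)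

theorem coe_io (A : SpecialLinearGroup (Fin 2) F) :
    ((io A : SpecialLinearGroup (Fin 2) F) : Matrix (Fin 2) (Fin 2) F) =
      !![A.1 1 1, A.1 1 0; A.1 0 1, A.1 0 0] := by
  ext i j
  fin_cases i <;> fin_cases j <;> rfl

theorem io_io (A : SpecialLinearGroup (Fin 2) F) : io (io A) = A := by
  refine slExt ?_
  rw [coe_io, coe_io]
  ext i j
  fin_cases i <;> fin_cases j <;> simp

theorem io_mem {ω A : SpecialLinearGroup (Fin 2) F}
    (h : A ∈ Subgroup.closure {ω, io ω}) : io A ∈ Subgroup.closure {ω, io ω} := by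
  have := Subgroup.mem_map_of_mem (io (F := F)).toMonoidHom h
  rw [MonoidHom.map_closure, Set.image_pair, MulEquiv.coe_toMonoidHom, io_io, Set.pair_comm] at this
  exact this

/-- The whole upper root group suffices. -/
theorem top_of_upper {ω : SpecialLinearGroup (Fin 2) F}
    (hx : ∀ z : F, xS (.ofAdd z) ∈ Subgroup.closure {ω, io ω}) :
    Subgroup.closure {ω, io ω} = ⊤ := by
  refine H37.eq_top_of_transvection_mem _ fun i j hij c => ?_
  have hlow : ∀ c : F, io (xS (.ofAdd c)) ∈ Subgroup.closure {ω, io ω} := fun c => io_mem (hx c)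
  fin_cases i <;> fin_cases j <;> (try exact absurd rfl hij)
  · convert hx c using 1
    refine slExt ?_
    rw [SpecialLinearGroup.transvection_coe, coe_xS]
    ext a b; fin_cases a <;> fin_cases b <;> simp
  · convert hlow c using 1
    refine slExt ?_
    rw [SpecialLinearGroup.transvection_coe, coe_io, coe_xS]
    ext a b; fin_cases a <;> fin_cases b <;> simp

/-- The parameters of the root elements in a subgroup. -/
def params (H : Subgroup (SpecialLinearGroup (Fin 2) F)) : AddSubgroup F where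
  carrier := {z | xS (.ofAdd z) ∈ H}
  zero_mem' := by simp
  add_mem' := fun {a b} ha hb => by
    simp only [Set.mem_ofPred_eq, ofAdd_add, map_mul] at *
    exact mul_mem ha hb
  neg_mem' := fun {a} ha => by
    simp only [Set.mem_ofPred_eq, ofAdd_neg, map_inv] at *
    exact inv_mem ha

theorem top_of_params [Fintype F] {ω : SpecialLinearGroup (Fin 2) F} (a : F)
    {p : ℕ} (hp : p.Prime) (hcard : Fintype.card F = p ^ 2) (hap : ∀ m : ℕ, a ≠ (m : F)) (hchar : (p : F) = 0)
    (h1 : xS (.ofAdd (1 : F)) ∈ Subgroup.closure {ω, io ω})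
    (ha : xS (.ofAdd a) ∈ Subgroup.closure {ω, io ω}) :
    Subgroup.closure {ω, io ω} = ⊤ := by
  refine top_of_upper fun z => ?_
  set A := params (Subgroup.closure {ω, io ω})
  have hA1 : (1 : F) ∈ A := h1
  have hAa : a ∈ A := ha
  haveI : Finite F := Finite.of_fintype F
  have hdvd : Nat.card A ∣ p ^ 2 := by
    rw [← hcard, ← Nat.card_eq_fintype_card]; exact AddSubgroup.card_addSubgroup_dvd_card A
  obtain ⟨k, hk, hAk⟩ := (Nat.dvd_prime_pow hp).1 hdvd
  haveI : CharP F p := by
    obtain ⟨r, hr⟩ := CharP.exists F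
    haveI := hr
    have hrp : r.Prime := CharP.char_is_prime F r
    have : r ∣ p := (CharP.cast_eq_zero_iff F r p).1 hchar
    rw [(Nat.prime_dvd_prime_iff_eq hrp hp).1 this] at hr
    exact hr
  have hlt : p < Nat.card A := by
    let f : Fin (p + 1) → A := fun i =>
      if h : (i : ℕ) < p then ⟨((i : ℕ) : F), by
          have := AddSubgroup.nsmul_mem A hA1 (i : ℕ)
          rwa [nsmul_eq_mul, mul_one] at this⟩
      else ⟨a, hAa⟩
    have hf : Function.Injective f := by
      intro i j hij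
      have e := congrArg Subtype.val hij
      by_cases hi : (i : ℕ) < p <;> by_cases hj : (j : ℕ) < p <;>
        simp only [f, hi, hj, dite_true, dite_false] at e
      · exact Fin.ext (CharP.natCast_injOn_Iio F p hi hj e)
      · exact absurd e.symm (hap _)
      · exact absurd e (hap _)
      · exact Fin.ext (by omega)
    have := Nat.card_le_card_of_injective f hf
    rwa [Nat.card_fin] at this
  have hk2 : k = 2 := by
    rcases Nat.lt_or_ge k 2 with h | h
    · have : p ^ k ≤ p ^ 1 := Nat.pow_le_pow_right hp.pos (by omega)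
      rw [pow_one] at this
      omega
    · omega
  have htop : A = ⊤ := AddSubgroup.eq_top_of_card_eq A (by
    rw [hAk, hk2, Nat.card_eq_fintype_card, hcard])
  show z ∈ A
  rw [htop]; trivial

theorem not_natCast {K : Type*} [Field K] {p : ℕ} [CharP K p] (hp : 0 < p) {a : K}
    (h : ∀ m : ℕ, m < p → a ≠ (m : K)) (m : ℕ) : a ≠ (m : K) := by
  have : ((m % p : ℕ) : K) = (m : K) := by
    conv_rhs => rw [← Nat.mod_add_div m p, Nat.cast_add, Nat.cast_mul, CharP.cast_eq_zero K p,
      zero_mul, add_zero]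
  rw [← this]; exact h _ (Nat.mod_lt _ hp)

theorem char_of_card [Fintype F] {p : ℕ} (hp : p.Prime) (hcard : Fintype.card F = p ^ 2) :
    CharP F p := by
  obtain ⟨r, hr⟩ := CharP.exists F
  haveI := hr
  haveI : Fact r.Prime := ⟨CharP.char_is_prime F r⟩
  obtain ⟨n, hr', hn⟩ := FiniteField.card F r
  rw [hcard] at hn
  have : p ∣ r := hp.dvd_of_dvd_pow (hn ▸ dvd_pow_self p two_ne_zero)
  rw [← (Nat.prime_dvd_prime_iff_eq hp hr').1 this] at hr
  exact hr

/-- The field with four elements. -/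
theorem exists_four [Fintype F] (h4 : Fintype.card F = 4) :
    ∃ ω : SpecialLinearGroup (Fin 2) F, Subgroup.closure {ω, io ω} = ⊤ := by
  haveI := char_of_card (F := F) Nat.prime_two (by rw [h4]; norm_num)
  have h2 : (2 : F) = 0 := by exact_mod_cast CharP.cast_eq_zero F 2
  classical
  obtain ⟨z, hz0, hz1⟩ : ∃ z : F, z ≠ 0 ∧ z ≠ 1 := by
    by_contra! h
    have : (Finset.univ : Finset F) ⊆ {0, 1} := fun z _ => by
      by_cases hz : z = 0
      · simp [hz]
      · simp [h z hz]
    have := (Finset.card_le_card this).trans Finset.card_le_two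
    rw [Finset.card_univ, h4] at this
    omega
  have hz : z ^ 2 = z + 1 := by
    have h3 := FiniteField.pow_card_sub_one_eq_one z hz0
    rw [h4] at h3
    have : (z - 1) * (z ^ 2 + z + 1) = 0 := by linear_combination h3
    rcases mul_eq_zero.1 this with h | h
    · exact absurd (sub_eq_zero.1 h) hz1
    · linear_combination h - (z + 1) * h2
  let ω : SpecialLinearGroup (Fin 2) F := ⟨!![z, 1; 1 + z, 1], by
    rw [det_fin_two_of]; linear_combination -h2 * 0 + (-1 : F) * h2 + 0 * hz⟩
  have cω : (ω : Matrix (Fin 2) (Fin 2) F) = !![z, 1; 1 + z, 1] := rfl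
  refine ⟨ω, top_of_params (p := 2) z Nat.prime_two (by rw [h4]; norm_num)
    (not_natCast two_pos fun m hm => by interval_cases m <;> simpa) (CharP.cast_eq_zero F 2) ?_ ?_⟩
  all_goals
    have hA : ω ∈ Subgroup.closure {ω, io ω} := Subgroup.subset_closure (Or.inl rfl)
    have hB : io ω ∈ Subgroup.closure {ω, io ω} := Subgroup.subset_closure (Or.inr rfl)
  · have e : xS (.ofAdd (1 : F)) = ω * io ω * ω * io ω * io ω := by
      refine slExt ?_
      rw [cm, cm, cm, cm, coe_io, cω, coe_xS]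
      ext i j
      fin_cases i <;> fin_cases j <;> simp [Matrix.mul_apply, Fin.sum_univ_two] <;> grind
    rw [e]
    exact mul_mem (mul_mem (mul_mem (mul_mem hA hB) hA) hB) hB
  · have e : xS (.ofAdd z) = io ω * io ω * io ω * ω := by
      refine slExt ?_
      rw [cm, cm, cm, coe_io, cω, coe_xS]
      ext i j
      fin_cases i <;> fin_cases j <;> simp [Matrix.mul_apply, Fin.sum_univ_two] <;> grind
    rw [e]
    exact mul_mem (mul_mem (mul_mem hB hB) hB) hA

theorem nine_mul {i₀ a b c d a' b' c' d' r s t u : F} (h3 : (3 : F) = 0) (hi : i₀ * i₀ = -1)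
    {A B : SpecialLinearGroup (Fin 2) F} (hA : (A : Matrix (Fin 2) (Fin 2) F) = !![a, b; c, d])
    (hB : (B : Matrix (Fin 2) (Fin 2) F) = !![a', b'; c', d']) (h00 : a * a' + b * c' = r)
    (h01 : a * b' + b * d' = s) (h10 : c * a' + d * c' = t) (h11 : c * b' + d * d' = u) :
    ((A * B : SpecialLinearGroup (Fin 2) F) : Matrix (Fin 2) (Fin 2) F) = !![r, s; t, u] := by
  rw [cm, hA, hB, Matrix.mul_fin_two, h00, h01, h10, h11]

/-- The field with nine elements. -/
theorem exists_nine [Fintype F] (h9 : Fintype.card F = 9) :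
    ∃ ω : SpecialLinearGroup (Fin 2) F, Subgroup.closure {ω, io ω} = ⊤ := by
  haveI := char_of_card (F := F) Nat.prime_three (by rw [h9]; norm_num)
  have h3 : (3 : F) = 0 := by exact_mod_cast CharP.cast_eq_zero F 3
  obtain ⟨i₀, hi⟩ : IsSquare (-1 : F) := by
    rw [FiniteField.isSquare_neg_one_iff, h9]; decide
  have hi' : i₀ * i₀ = -1 := hi.symm
  have hne : ∀ m : ℕ, m < 3 → i₀ ≠ (m : F) := by
    intro m hm e
    have h1 : (1 : F) ≠ 0 := one_ne_zero
    interval_cases m <;> simp [e] at hi'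
    all_goals grind
  let ω : SpecialLinearGroup (Fin 2) F := ⟨!![2, i₀; 1, 2 + 2 * i₀], by
    rw [det_fin_two_of]; linear_combination (1 + i₀) * h3⟩
  have cω : (ω : Matrix (Fin 2) (Fin 2) F) = !![2, i₀; 1, 2 + 2 * i₀] := rfl
  refine ⟨ω, top_of_params (p := 3) i₀ Nat.prime_three (by rw [h9]; norm_num)
    (not_natCast (by norm_num) hne) (CharP.cast_eq_zero F 3) ?_ ?_⟩
  all_goals
    have hA : ω ∈ Subgroup.closure {ω, io ω} := Subgroup.subset_closure (Or.inl rfl)
    have hB : io ω ∈ Subgroup.closure {ω, io ω} := Subgroup.subset_closure (Or.inr rfl)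
  · have cB := coe_io ω
    simp only [cω, Matrix.cons_val', Matrix.cons_val_zero, Matrix.cons_val_one, Matrix.of_apply,
      Matrix.empty_val', Matrix.cons_val_fin_one] at cB
    have eBA : ((io ω * ω : SpecialLinearGroup (Fin 2) F) : Matrix (Fin 2) (Fin 2) F) =
        !![2 + i₀, i₀; 2 + 2 * i₀, i₀] := nine_mul h3 hi' cB cω (by grind) (by grind) (by grind) (by grind)
    have eAB : ((ω * io ω : SpecialLinearGroup (Fin 2) F) : Matrix (Fin 2) (Fin 2) F) =
        !![i₀, 2 + 2 * i₀; i₀, 2 + i₀] := nine_mul h3 hi' cω cB (by grind) (by grind) (by grind) (by grind)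
    have eBB : ((io ω * io ω : SpecialLinearGroup (Fin 2) F) : Matrix (Fin 2) (Fin 2) F) =
        !![0, 1 + 2 * i₀; 1 + i₀, 1 + i₀] := nine_mul h3 hi' cB cB (by grind) (by grind) (by grind) (by grind)
    have eBAAB : ((io ω * ω * (ω * io ω) : SpecialLinearGroup (Fin 2) F) :
        Matrix (Fin 2) (Fin 2) F) = !![1 + 2 * i₀, 1 + 2 * i₀; 2 * i₀, 2 + i₀] :=
      nine_mul h3 hi' eBA eAB (by grind) (by grind) (by grind) (by grind)
    have eBAABA : ((io ω * ω * (ω * io ω) * ω : SpecialLinearGroup (Fin 2) F) :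
        Matrix (Fin 2) (Fin 2) F) = !![0, 2 + i₀; 2 + 2 * i₀, 0] :=
      nine_mul h3 hi' eBAAB cω (by grind) (by grind) (by grind) (by grind)
    have e : xS (.ofAdd (1 : F)) = io ω * ω * (ω * io ω) * ω * (io ω * io ω) :=
      slExt ((coe_xS 1).trans (nine_mul h3 hi' eBAABA eBB (by grind) (by grind) (by grind) (by grind)).symm)
    rw [e]
    exact mul_mem (mul_mem (mul_mem (mul_mem hB hA) (mul_mem hA hB)) hA) (mul_mem hB hB)
  · have cB := coe_io ω
    simp only [cω, Matrix.cons_val', Matrix.cons_val_zero, Matrix.cons_val_one, Matrix.of_apply,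
      Matrix.empty_val', Matrix.cons_val_fin_one] at cB
    have eBA : ((io ω * ω : SpecialLinearGroup (Fin 2) F) : Matrix (Fin 2) (Fin 2) F) =
        !![2 + i₀, i₀; 2 + 2 * i₀, i₀] := nine_mul h3 hi' cB cω (by grind) (by grind) (by grind) (by grind)
    have eAB : ((ω * io ω : SpecialLinearGroup (Fin 2) F) : Matrix (Fin 2) (Fin 2) F) =
        !![i₀, 2 + 2 * i₀; i₀, 2 + i₀] := nine_mul h3 hi' cω cB (by grind) (by grind) (by grind) (by grind)
    have eAA : ((ω * ω : SpecialLinearGroup (Fin 2) F) : Matrix (Fin 2) (Fin 2) F) =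
        !![1 + i₀, 1 + i₀; 1 + 2 * i₀, 0] := nine_mul h3 hi' cω cω (by grind) (by grind) (by grind) (by grind)
    have eAAAB : ((ω * ω * (ω * io ω) : SpecialLinearGroup (Fin 2) F) :
        Matrix (Fin 2) (Fin 2) F) = !![1 + 2 * i₀, 1 + i₀; 1 + i₀, 1] :=
      nine_mul h3 hi' eAA eAB (by grind) (by grind) (by grind) (by grind)
    have eAAABBA : ((ω * ω * (ω * io ω) * (io ω * ω) : SpecialLinearGroup (Fin 2) F) :
        Matrix (Fin 2) (Fin 2) F) = !![0, 2 * i₀; 2 * i₀, 2 + 2 * i₀] :=
      nine_mul h3 hi' eAAAB eBA (by grind) (by grind) (by grind) (by grind)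
    have e : xS (.ofAdd i₀) = ω * ω * (ω * io ω) * (io ω * ω) * io ω :=
      slExt ((coe_xS i₀).trans (nine_mul h3 hi' eAAABBA cB (by grind) (by grind) (by grind) (by grind)).symm)
    rw [e]
    exact mul_mem (mul_mem (mul_mem (mul_mem hA hA) (mul_mem hA hB)) (mul_mem hB hA)) hB

/-- Rescaling the off-diagonal entries. -/
def scl (c : Fˣ) : SpecialLinearGroup (Fin 2) F →* SpecialLinearGroup (Fin 2) F where
  toFun A := ⟨!![A.1 0 0, A.1 0 1 * (c : F)⁻¹; A.1 1 0 * c, A.1 1 1], by
    have h := A.2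
    rw [det_fin_two] at h
    rw [det_fin_two_of]
    have := c.ne_zero
    field_simp
    linear_combination h⟩
  map_one' := slExt (by ext i j; fin_cases i <;> fin_cases j <;> simp)
  map_mul' A B := slExt (by
    show !![(A.1 * B.1) 0 0, (A.1 * B.1) 0 1 * (c : F)⁻¹; (A.1 * B.1) 1 0 * c, (A.1 * B.1) 1 1] =
      !![A.1 0 0, A.1 0 1 * (c : F)⁻¹; A.1 1 0 * c, A.1 1 1] *
        !![B.1 0 0, B.1 0 1 * (c : F)⁻¹; B.1 1 0 * c, B.1 1 1]
    ext i j
    have := c.ne_zero
    fin_cases i <;> fin_cases j <;>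
      simp [Matrix.mul_apply, Fin.sum_univ_two] <;> field_simp)

theorem coe_scl (c : Fˣ) (A : SpecialLinearGroup (Fin 2) F) :
    ((scl c A : SpecialLinearGroup (Fin 2) F) : Matrix (Fin 2) (Fin 2) F) =
      !![A.1 0 0, A.1 0 1 * (c : F)⁻¹; A.1 1 0 * c, A.1 1 1] := rfl

theorem scl_surjective (c : Fˣ) : Function.Surjective (scl c) := fun A => ⟨scl c⁻¹ A, slExt (by
  rw [coe_scl, coe_scl]
  ext i j
  fin_cases i <;> fin_cases j <;> simp)⟩

/-- Odd characteristic: a single root element. -/
theorem exists_odd [Fintype F] (h2 : (2 : F) ≠ 0) (h9 : Fintype.card F ≠ 9) :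
    ∃ ω : SpecialLinearGroup (Fin 2) F, Subgroup.closure {ω, io ω} = ⊤ := by
  classical
  haveI : Finite F := Finite.of_fintype F
  obtain ⟨ζ, hgen⟩ := IsCyclic.exists_generator (α := Fˣ)
  set c : F := (ζ : F) with hc
  have hc0 : c ≠ 0 := ζ.ne_zero
  have hcl : Subfield.closure ({c ^ 2} : Set F) = ⊤ := by
    rw [eq_top_iff]
    intro x _
    set K := Subfield.closure ({c ^ 2} : Set F) with hK
    let S : AddSubgroup F :=
      { carrier := K
        zero_mem' := K.zero_mem
        add_mem' := fun ha hb => K.add_mem ha hb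
        neg_mem' := fun ha => K.neg_mem ha }
    have h : S = ⊤ :=
      H40.BlockPres.sq_span S fun a => by
        by_cases ha : a = 0
        · show a * a ∈ K
          rw [ha, mul_zero]; exact K.zero_mem
        obtain ⟨k, hk⟩ := mem_powers_iff_mem_zpowers.2 (hgen (Units.mk0 a ha))
        have e : c ^ k = a := (Units.val_pow_eq_pow_val ζ k).symm.trans (congrArg Units.val hk)
        show a * a ∈ K
        rw [← e, ← mul_pow, ← pow_two]
        exact pow_mem (show c ^ 2 ∈ K from Subfield.subset_closure (Set.mem_singleton _)) k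
    have : x ∈ S := by rw [h]; trivial
    exact this
  have htop : Subgroup.closure {H37.lower2 (1 : F), H37.upper2 (c ^ 2)} = ⊤ :=
    H37.two_unipotents_eq_top h2 (pow_ne_zero 2 hc0) hcl fun h => h9 h.1
  refine ⟨xS (.ofAdd c), ?_⟩
  set H := Subgroup.closure {xS (.ofAdd c), io (xS (.ofAdd c))}
  have e1 : scl ζ (H37.lower2 1) = io (xS (.ofAdd c)) := by
    refine slExt ?_
    rw [coe_scl, coe_io, coe_xS]
    ext i j; fin_cases i <;> fin_cases j <;> simp [H37.lower2, hc]
  have e2 : scl ζ (H37.upper2 (c ^ 2)) = xS (.ofAdd c) := by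
    refine slExt ?_
    rw [coe_scl, coe_xS]
    ext i j; fin_cases i <;> fin_cases j <;> simp [H37.upper2, hc, pow_two]
  have h := congrArg (Subgroup.map (scl ζ)) htop
  rw [MonoidHom.map_closure, Set.image_pair, Subgroup.map_top_of_surjective _ (scl_surjective ζ),
    e1, e2, Set.pair_comm] at h
  exact h

section Even

variable [Fintype F] [CharP F 2] (k : F)

/-- Conjugated torus element, first entry. -/
def eA (u : F) : F := u⁻¹ + k ^ 2 * (u - u⁻¹)

/-- Last entry. -/
def eD (u : F) : F := u - k ^ 2 * (u - u⁻¹)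

end Even

theorem exists_two [Fintype F] (h2 : (2 : F) = 0) (h8 : 4 < Fintype.card F) :
    ∃ ω : SpecialLinearGroup (Fin 2) F, Subgroup.closure {ω, io ω} = ⊤ := by
  classical
  haveI : Finite F := Finite.of_fintype F
  haveI : CharP F 2 := CharTwo.of_one_ne_zero_of_two_eq_zero one_ne_zero h2
  obtain ⟨ζ, hgen⟩ := IsCyclic.exists_generator (α := Fˣ)
  have hord : orderOf ζ = Fintype.card F - 1 := by
    rw [orderOf_eq_card_of_forall_mem_zpowers hgen, Nat.card_eq_fintype_card, Fintype.card_units]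
  set k : F := (ζ : F) with hk
  have hk0 : k ≠ 0 := ζ.ne_zero
  have hk1 : k ≠ 1 := by
    intro e
    have : orderOf ζ = 1 := orderOf_eq_one_iff.2 (Units.ext e)
    omega
  have hsq : ∀ a b : F, a ^ 2 = b ^ 2 → a = b := fun a b h => by
    have : (a - b) ^ 2 = 0 := by linear_combination h + (b ^ 2 - a * b) * h2
    exact sub_eq_zero.1 (sq_eq_zero_iff.1 this)
  have hk2 : 1 - k ^ 2 ≠ 0 := fun h => hk1 (hsq k 1 (by linear_combination -h))
  set P : SpecialLinearGroup (Fin 2) F := H37.lower2 k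
  set ω := P⁻¹ * hS ζ * P with hω
  refine ⟨ω, ?_⟩
  set H := Subgroup.closure {ω, io ω} with hH
  set H' := H.map (MulAut.conj P).toMonoidHom with hH'
  suffices H' = ⊤ by
    have h := congrArg (Subgroup.comap (MulAut.conj P).toMonoidHom) this
    rw [hH', Subgroup.comap_map_eq_self_of_injective (MulAut.conj P).injective,
      Subgroup.comap_top] at h
    exact h
  -- the torus
  have hh : hS ζ ∈ H' := ⟨ω, Subgroup.subset_closure (Or.inl rfl), by
    show P * ω * P⁻¹ = _; rw [hω]; group⟩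
  have hpow : ∀ u : Fˣ, hS u ∈ H' ∧ P * io (P⁻¹ * hS u * P) * P⁻¹ ∈ H' := by
    intro u
    obtain ⟨n, hn⟩ := mem_powers_iff_mem_zpowers.2 (hgen u)
    have e : hS u = hS ζ ^ n := slExt (by
      rw [coe_hS_pow, coe_hS, ← hn]; simp)
    refine ⟨by rw [e]; exact pow_mem hh n, Subgroup.mem_map.2
      ⟨io ω ^ n, pow_mem (show io ω ∈ H from Subgroup.subset_closure (Or.inr rfl)) n, ?_⟩⟩
    show P * (io ω) ^ n * P⁻¹ = _
    rw [e, ← map_pow, hω]
    congr 3
    rw [show P⁻¹ * hS ζ * P = P⁻¹ * hS ζ * (P⁻¹)⁻¹ by group, conj_pow, inv_inv]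
  have hP : ∀ u : Fˣ, ((P * io (P⁻¹ * hS u * P) * P⁻¹ : SpecialLinearGroup (Fin 2) F) :
      Matrix (Fin 2) (Fin 2) F) =
      !![eA k u, -(k * ((u : F) - (u : F)⁻¹));
        -(k * ((u : F) - (u : F)⁻¹) * (1 - k ^ 2)), eD k u] := by
    intro u
    have hi : ((P⁻¹ : SpecialLinearGroup (Fin 2) F) : Matrix (Fin 2) (Fin 2) F) = !![1, 0; -k, 1] := by
      have e : P⁻¹ = H37.lower2 (-k) := inv_eq_of_mul_eq_one_right (slExt (by
        rw [cm]
        ext i j; fin_cases i <;> fin_cases j <;>
          simp [P, H37.lower2, Matrix.mul_apply, Fin.sum_univ_two]))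
      rw [e]; rfl
    rw [cm, cm, coe_io, cm, cm, hi, coe_hS]
    ext i j
    fin_cases i <;> fin_cases j <;>
      simp [P, H37.lower2, eA, eD, Matrix.mul_apply, Fin.sum_univ_two] <;> ring
  -- two parameters
  have hcard : 8 ≤ Fintype.card F := by
    obtain ⟨n, -, hn⟩ := FiniteField.card F 2
    rw [hn] at h8 ⊢
    have : 3 ≤ (n : ℕ) := by
      by_contra h
      have := Nat.pow_le_pow_right (show 0 < 2 by norm_num) (show (n : ℕ) ≤ 2 by omega)
      omega
    calc 8 = 2 ^ 3 := by norm_num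
      _ ≤ _ := Nat.pow_le_pow_right (by norm_num) this
  obtain ⟨u, hu0, hu1, hDu⟩ : ∃ u : F, u ≠ 0 ∧ u ≠ 1 ∧ eD k u ≠ 0 := by
    have hc : 1 < (Finset.univ \ ({0, 1} : Finset F)).card := by
      have := Finset.le_card_sdiff ({0, 1} : Finset F) Finset.univ
      have := Finset.card_le_two (a := (0 : F)) (b := 1)
      rw [Finset.card_univ] at *
      omega
    obtain ⟨a, ha, b, hb, hab⟩ := Finset.one_lt_card.1 hc
    simp only [Finset.mem_sdiff, Finset.mem_univ, true_and, Finset.mem_insert, Finset.mem_singleton,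
      not_or] at ha hb
    by_contra! hall
    have e1 := hall a ha.1 ha.2
    have e2 := hall b hb.1 hb.2
    refine hab (hsq a b (mul_left_cancel₀ hk2 ?_))
    have := ha.1; have := hb.1
    simp only [eD] at e1 e2
    field_simp at e1 e2
    linear_combination e1 - e2
  obtain ⟨w, hw0, hw1, hwu, hwu', hAw⟩ : ∃ w : F, w ≠ 0 ∧ w ≠ 1 ∧ w ≠ u ∧ w ≠ u⁻¹ ∧ eA k w ≠ 0 := by
    have hc : 1 < (Finset.univ \ ({0, 1, u, u⁻¹} : Finset F)).card := by
      have := Finset.le_card_sdiff ({0, 1, u, u⁻¹} : Finset F) Finset.univ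
      have := Finset.card_le_four (a := (0 : F)) (b := 1) (c := u) (d := u⁻¹)
      rw [Finset.card_univ] at *
      omega
    obtain ⟨a, ha, b, hb, hab⟩ := Finset.one_lt_card.1 hc
    simp only [Finset.mem_sdiff, Finset.mem_univ, true_and, Finset.mem_insert, Finset.mem_singleton,
      not_or] at ha hb
    by_contra! hall
    have e1 := hall a ha.1 ha.2.1 ha.2.2.1 ha.2.2.2
    have e2 := hall b hb.1 hb.2.1 hb.2.2.1 hb.2.2.2
    refine hab (hsq a b (mul_left_cancel₀ (pow_ne_zero 2 hk0) ?_))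
    have := ha.1; have := hb.1
    simp only [eA] at e1 e2
    field_simp at e1 e2
    linear_combination e1 - e2
  set eu : F := u - u⁻¹ with heu
  set ew : F := w - w⁻¹ with hew
  have heu0 : eu ≠ 0 := fun h => hu1 (hsq u 1 (by rw [heu] at h; field_simp at h; linear_combination h))
  have hew0 : ew ≠ 0 := fun h => hw1 (hsq w 1 (by rw [hew] at h; field_simp at h; linear_combination h))
  have hne : eu ^ 2 - ew ^ 2 ≠ 0 := by
    intro h
    have h' : eu = ew := hsq _ _ (sub_eq_zero.1 h)
    rw [heu, hew] at h'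
    have : (u - w) * (u * w + 1) = 0 := by
      field_simp at h'
      linear_combination h'
    rcases mul_eq_zero.1 this with h | h
    · exact hwu (sub_eq_zero.1 h).symm
    · refine hwu' (eq_inv_of_mul_eq_one_left ?_)
      linear_combination h - h2
  obtain ⟨v, hv⟩ : IsSquare (-(eD k u * ew) / (eu * eA k w)) :=
    FiniteField.isSquare_of_char_two (CharP.ringChar_of_prime_eq_zero Nat.prime_two h2) _
  have hv0 : v ≠ 0 := by
    rintro rfl
    rw [mul_zero, div_eq_zero_iff, neg_eq_zero, mul_eq_zero, mul_eq_zero] at hv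
    tauto
  set T := (P * io (P⁻¹ * hS (Units.mk0 u hu0) * P) * P⁻¹) * hS (Units.mk0 v hv0) *
    (P * io (P⁻¹ * hS (Units.mk0 w hw0) * P) * P⁻¹) with hT
  have hTmem : T ∈ H' := mul_mem (mul_mem (hpow _).2 (hpow _).1) (hpow _).2
  have hv' : v * v * (eu * eA k w) = -(eD k u * ew) := by
    rw [← hv]; field_simp
  obtain ⟨t00, t01, t11, hTm, ht01⟩ : ∃ t00 t01 t11 : F,
      (T : Matrix (Fin 2) (Fin 2) F) = !![t00, t01; 0, t11] ∧ t01 ≠ 0 := by
    refine ⟨(T : Matrix (Fin 2) (Fin 2) F) 0 0, (T : Matrix (Fin 2) (Fin 2) F) 0 1,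
      (T : Matrix (Fin 2) (Fin 2) F) 1 1, ?_, ?_⟩
    · refine (Matrix.eta_fin_two (T : Matrix (Fin 2) (Fin 2) F)).trans ?_
      have h10 : (T : Matrix (Fin 2) (Fin 2) F) 1 0 = 0 := by
        rw [hT, cm, cm, hP, hP, coe_hS]
        simp [Matrix.mul_apply, Fin.sum_univ_two, ← heu, ← hew]
        field_simp
        linear_combination -(k * (1 - k ^ 2)) * hv'
      rw [h10]
    · intro h01
      rw [hT, cm, cm, hP, hP, coe_hS] at h01
      simp [Matrix.mul_apply, Fin.sum_univ_two, ← heu, ← hew] at h01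
      field_simp at h01
      have hAD : ∀ z : F, z ≠ 0 → eA k z * eD k z =
          1 + k ^ 2 * (1 - k ^ 2) * (z - z⁻¹) ^ 2 := by
        intro z hz
        simp only [eA, eD]
        field_simp
        ring
      have : k * (eu ^ 2 - ew ^ 2) = 0 := by
        have h1 := hAD u hu0
        have h2' := hAD w hw0
        rw [← heu] at h1
        rw [← hew] at h2'
        linear_combination -(eu * eA k w) * h01 + (k * ew ^ 2) * h1 - (k * eu ^ 2) * h2' -
          (k * eA k u * ew) * hv'
      rcases mul_eq_zero.1 this with h | h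
      · exact hk0 h
      · exact hne h
  clear_value T
  have hdet : t00 * t11 = 1 := by
    have := T.2
    rw [hTm, det_fin_two_of] at this
    linear_combination this
  have hc : t00 * t01 * ((ζ : F)⁻¹ - ζ) * ζ ≠ 0 := by
    refine mul_ne_zero (mul_ne_zero (mul_ne_zero (left_ne_zero_of_mul_eq_one hdet) ht01) ?_) hk0
    intro h
    refine hk1 (hsq k 1 ?_)
    rw [← hk] at h
    field_simp at h
    linear_combination -h
  have hunip : xS (.ofAdd (t00 * t01 * ((ζ : F)⁻¹ - ζ) * ζ)) ∈ H' := by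
    have e : xS (.ofAdd (t00 * t01 * ((ζ : F)⁻¹ - ζ) * ζ)) = T * hS ζ * T⁻¹ * (hS ζ)⁻¹ := by
      rw [eq_mul_inv_iff_mul_eq, eq_mul_inv_iff_mul_eq]
      refine slExt ?_
      rw [cm, cm, cm, hTm, coe_hS, coe_xS]
      have := ζ.ne_zero
      ext i j
      fin_cases i <;> fin_cases j <;> simp [Matrix.mul_apply, Fin.sum_univ_two] <;>
        field_simp <;> grind
    rw [e]
    exact mul_mem (mul_mem (mul_mem hTmem hh) (inv_mem hTmem)) (inv_mem hh)
  have hall := H40.PSLPres.root_all hgen hh hc hunip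
  refine H40.PSLPres.eq_top_of_root hall ?_
  -- the Weyl element
  set M := P * io (P⁻¹ * hS (Units.mk0 u hu0) * P) * P⁻¹
  set C : F := -(k * eu * (1 - k ^ 2)) with hC
  have hC0 : C ≠ 0 := neg_ne_zero.2 (mul_ne_zero (mul_ne_zero hk0 heu0) hk2)
  have e : tS = hS (Units.mk0 (-C) (neg_ne_zero.2 hC0)) *
      (xS (.ofAdd (-(eA k u) / C)) * M * xS (.ofAdd (-(eD k u) / C))) := by
    refine slExt ?_
    have hM := hP (Units.mk0 u hu0)
    simp only [Units.val_mk0, ← heu, ← hC] at hM
    rw [cm, cm, cm, hM, coe_hS, coe_xS, coe_xS, coe_tS]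
    have hd : eA k u * eD k u - (-(k * eu)) * C = 1 := by
      have := M.2
      rw [hM, det_fin_two_of] at this
      exact this
    ext i j
    fin_cases i <;> fin_cases j <;> simp [Matrix.mul_apply, Fin.sum_univ_two] <;>
      field_simp <;> first | exact Or.inr (by ring) | linear_combination -hd
  rw [e]
  exact mul_mem (hpow _).1 (mul_mem (mul_mem (hall _) (hpow _).2) (hall _))

/-- Every finite field. -/
theorem exists_swap_gen [Fintype F] :
    ∃ ω : SpecialLinearGroup (Fin 2) F, Subgroup.closure {ω, io ω} = ⊤ := by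
  classical
  by_cases h2 : (2 : F) = 0
  · rcases Nat.lt_or_ge 4 (Fintype.card F) with h | h
    · exact exists_two h2 h
    by_cases h4 : Fintype.card F = 4
    · exact exists_four h4
    -- two elements
    haveI : CharP F 2 := CharTwo.of_one_ne_zero_of_two_eq_zero one_ne_zero h2
    obtain ⟨n, -, hn⟩ := FiniteField.card F 2
    have hn1 : (n : ℕ) = 1 := by
      rcases Nat.lt_or_ge (n : ℕ) 2 with hlt | hge
      · have := n.pos; omega
      · have h' := Nat.pow_le_pow_right (show 0 < 2 by norm_num) hge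
        omega
    have hall : ∀ z : F, z = 0 ∨ z = 1 := by
      intro z
      by_contra! hz
      have hc : ({0, 1, z} : Finset F).card = 3 :=
        Finset.card_eq_three.2 ⟨0, 1, z, zero_ne_one, hz.1.symm, hz.2.symm, rfl⟩
      have := Finset.card_le_univ ({0, 1, z} : Finset F)
      rw [hn, hn1, pow_one] at this
      omega
    refine ⟨xS (.ofAdd (1 : F)), top_of_upper fun z => ?_⟩
    rcases hall z with rfl | rfl
    · rw [ofAdd_zero, (xS (F := F)).map_one]; exact one_mem _
    · exact Subgroup.subset_closure (Or.inl rfl)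
  · by_cases h9 : Fintype.card F = 9
    · exact exists_nine h9
    · exact exists_odd h2 h9

end H69.SL2Swap
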