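import Cfsg.Agent.H40.SL3Pres

/-!
`SL₃(q)` on four generators: thirteen relations and the order of the three-cycle.
-/

set_option autoImplicit false
set_option linter.style.haveILetI false
set_option linter.unusedSectionVars false

namespace H69.SL3Less

open Matrix H40.CRW H40.SL3

variable {F : Type*} [Field F] [Fintype F]

/-- Thirteen relations besides the order of the three-cycle. -/
theorem exists_pres_less :
    ∃ rels : Finset (FreeGroup (Fin 4)), rels.card ≤ 13 ∧
      ∃ e : PresentedGroup (↑(insert (cV * cV * cV) rels) : Set (FreeGroup (Fin 4))) ≃*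
        SpecialLinearGroup (Fin 3) F, e (PresentedGroup.mk _ cV) = cT := by
  classical
  obtain ⟨p, hchar⟩ := CharP.exists F
  haveI := hchar
  haveI : Fact p.Prime := ⟨CharP.char_is_prime F p⟩
  letI : Algebra (ZMod p) F := ZMod.algebra F p
  obtain ⟨f₀, -, hcard⟩ := FiniteField.card F p
  obtain ⟨ζ, hgen⟩ := IsCyclic.exists_generator (α := Fˣ)
  obtain ⟨hsurj, L, hL, hL2, hsound, hcomp⟩ := exists_root_data.{_, _} (p := p) hcard ζ hgen
  -- the exponent of `-1`
  obtain ⟨m, hm, hm2⟩ : ∃ m : ℕ, (ζ : F) ^ m = -1 ∧ (p = 2 → m = 0) := by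
    by_cases hp : p = 2
    · subst hp; exact ⟨0, by rw [pow_zero, CharTwo.neg_eq], fun _ => rfl⟩
    · obtain ⟨m, hm⟩ := mem_powers_iff_mem_zpowers.2 (hgen (-1))
      exact ⟨m, by simpa using congrArg Units.val hm, fun h => absurd h hp⟩
  set C₀ := stdCtx ζ hgen m hm with hC₀
  set rChev : FreeGroup (Fin 4) → FreeGroup (Fin 4) := fun w =>
    uV * wX12 w * uV⁻¹ * (wX12 w)⁻¹ * (wX02 w)⁻¹
  set rRow : FreeGroup (Fin 4) := uV * wX02 uV * uV⁻¹ * (wX02 uV)⁻¹
  set rCol : FreeGroup (Fin 4) := wX02 uV * wX12 uV * (wX02 uV)⁻¹ * (wX12 uV)⁻¹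
  set kV'' : FreeGroup (Fin 4) := cV * kV' * cV⁻¹
  set rG : FreeGroup (Fin 4) := tV * tV * (kV'' ^ m)⁻¹
  set W : Finset (FreeGroup (Fin 4)) := {cV * cV * cV, cV * tV⁻¹ * (cV * tV⁻¹),
    kV * kV' * kV⁻¹ * kV'⁻¹, kV * kV' * kV'', tV⁻¹ * kV * tV * kV',
    uV * (tV * uV * tV⁻¹) * uV * tV⁻¹} with hW
  set X : Finset (FreeGroup (Fin 4)) :=
    if p = 2 then {rChev uV, rChev (kV * uV * kV⁻¹)} else {rG, rRow, rCol, rChev uV} with hX
  -- the standard evaluation satisfies everything
  set f₁ := stdHom3 (F := F) ζ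
  have vu : f₁ uV = C₀.x (.ofAdd 1) := by simp [f₁, stdHom3]; rfl
  have vk : f₁ kV = C₀.k := by simp [f₁, stdHom3]; rfl
  have vt : f₁ tV = C₀.t := by simp [f₁, stdHom3]; rfl
  have vc : f₁ cV = C₀.c := by simp [f₁, stdHom3]; rfl
  obtain ⟨W', hW', hW6⟩ : ∃ W' : Finset (FreeGroup (Fin 4)),
      W = insert (cV * cV * cV) W' ∧ W'.card ≤ 5 :=
    ⟨({cV * tV⁻¹ * (cV * tV⁻¹), kV * kV' * kV⁻¹ * kV'⁻¹, kV * kV' * kV'', tV⁻¹ * kV * tV * kV',
      uV * (tV * uV * tV⁻¹) * uV * tV⁻¹} : Finset (FreeGroup (Fin 4))), rfl, Finset.card_le_five⟩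
  have hins : insert (cV * cV * cV) (L ∪ (W' ∪ X)) = L ∪ (W ∪ X) := by
    rw [hW', Finset.insert_union, Finset.union_insert]
  refine ⟨L ∪ (W' ∪ X), ?_, ?_⟩
  · refine (Finset.card_union_le _ _).trans ?_
    refine le_trans (Nat.add_le_add_left (Finset.card_union_le _ _) _) ?_
    by_cases hp : p = 2
    · have : X.card ≤ 2 := by rw [hX, if_pos hp]; exact Finset.card_le_two
      have := hL2 hp
      omega
    · have : X.card ≤ 4 := by rw [hX, if_neg hp]; exact Finset.card_le_four
      omega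
  rw [hins]
  have hstd : ∀ r ∈ L ∪ (W ∪ X), f₁ r = 1 := by
    intro r hr
    have hchev : ∀ w (a : F), f₁ w = C₀.x (.ofAdd a) → f₁ (rChev w) = 1 := by
      intro w a hw
      obtain ⟨h1, h2⟩ := evalW C₀ f₁ vt vc w a hw
      simp only [rChev, map_mul, map_inv, h1, h2]
      rw [vu, ← C₀.X01, stdX, stdX, stdX, mul_inv_eq_one, ← commutatorElement_def]
      · exact (H37.commutator_transvection _ _ (show (0 : Fin 3) ≠ 2 by decide) 1 a).trans (by rw [one_mul])
      all_goals decide
    rcases Finset.mem_union.1 hr with hr | hr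
    · exact hsound f₁ C₀.x vu.symm (fun z => by rw [vk]; exact C₀.hk z)
        (fun z => by
          rw [show f₁ kV' = C₀.c * C₀.k * C₀.c⁻¹ by simp only [kV', map_mul, map_inv, vk, vc]]
          exact C₀.hk' z) r hr
    rcases Finset.mem_union.1 hr with hr | hr
    · simp only [hW, Finset.mem_insert, Finset.mem_singleton] at hr
      rcases hr with rfl | rfl | rfl | rfl | rfl | rfl
      · simp only [map_mul, vc]; exact C₀.c3
      · simp only [map_mul, map_inv, vc, vt]; exact C₀.ct
      · simp only [kV', map_mul, map_inv, vc, vk]; rw [C₀.kk.eq]; group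
      · simp only [kV'', kV', map_mul, map_inv, vc, vk]; exact C₀.hP
      · simp only [kV', map_mul, map_inv, vc, vk, vt]; exact C₀.hF
      · simp only [map_mul, map_inv, vu, vt, mul_inv_eq_one]; exact tT_R1
    · rw [hX] at hr
      split_ifs at hr with hp <;> simp only [Finset.mem_insert, Finset.mem_singleton] at hr
      · rcases hr with rfl | rfl
        · exact hchev _ 1 vu
        · exact hchev _ ((ζ : F) * 1) (by simp only [map_mul, map_inv, vu, vk]; exact C₀.hk 1)
      · rcases hr with rfl | rfl | rfl | rfl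
        · simp only [rG, kV'', kV', map_mul, map_inv, map_pow, vc, vk, vt, mul_inv_eq_one]
          exact C₀.hG
        · obtain ⟨-, h2⟩ := evalW C₀ f₁ vt vc uV 1 vu
          simp only [rRow, map_mul, map_inv, h2]
          rw [vu, ← C₀.X01, stdX _ _ _ _ (show (0 : Fin 3) ≠ 1 by decide),
            stdX _ _ _ _ (show (0 : Fin 3) ≠ 2 by decide)]
          have := (H40.transvection_strel (K := F) (n := 3)).comm 0 1 0 2 (by decide) (by decide)
            (by decide) (by decide) 1 1
          rw [dif_pos (show (0 : Fin 3) ≠ 1 by decide), dif_pos (show (0 : Fin 3) ≠ 2 by decide)] at this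
          rw [this.eq]; group
        · obtain ⟨h1, h2⟩ := evalW C₀ f₁ vt vc uV 1 vu
          simp only [rCol, map_mul, map_inv, h1, h2]
          rw [stdX _ _ _ _ (show (0 : Fin 3) ≠ 2 by decide),
            stdX _ _ _ _ (show (1 : Fin 3) ≠ 2 by decide)]
          have := (H40.transvection_strel (K := F) (n := 3)).comm 0 2 1 2 (by decide) (by decide)
            (by decide) (by decide) 1 1
          rw [dif_pos (show (0 : Fin 3) ≠ 2 by decide), dif_pos (show (1 : Fin 3) ≠ 2 by decide)] at this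
          rw [this.eq]; group
        · exact hchev _ 1 vu
  -- the presented group
  set N := (↑(L ∪ (W ∪ X)) : Set (FreeGroup (Fin 4)))
  set g := PresentedGroup.mk N
  have hg : Function.Surjective g := PresentedGroup.mk_surjective _
  have hrel : ∀ r ∈ L ∪ (W ∪ X), g r = 1 := fun r hr => PresentedGroup.one_of_mem (show r ∈ N from hr)
  have hWr : ∀ r ∈ W, g r = 1 := fun r hr =>
    hrel r (Finset.mem_union_right _ (Finset.mem_union_left _ hr))
  simp only [hW, Finset.mem_insert, Finset.mem_singleton, forall_eq_or_imp, forall_eq] at hWr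
  obtain ⟨wc3, wct, wkk, wP, wF, wR1⟩ := hWr
  simp only [kV'', kV', map_mul, map_inv] at wc3 wct wkk wP wF wR1
  rw [mul_inv_eq_one] at wR1
  have hkk : Commute (g kV) (g cV * g kV * (g cV)⁻¹) := by
    rw [mul_inv_eq_one, mul_inv_eq_iff_eq_mul] at wkk
    exact wkk
  obtain ⟨x, hx1, hxk, hxk'⟩ := hcomp g (fun r hr => hrel r (Finset.mem_union_left _ hr))
    (by simpa only [kV', map_mul, map_inv] using hkk)
  simp only [kV', map_mul, map_inv] at hxk'
  rw [← hx1] at wR1
  have hXr : ∀ r ∈ X, g r = 1 := fun r hr =>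
    hrel r (Finset.mem_union_right _ (Finset.mem_union_right _ hr))
  have htt : g tV * g tV = (g cV * (g cV * g kV * (g cV)⁻¹) * (g cV)⁻¹) ^ m := by
    by_cases hp : p = 2
    · rw [hm2 hp, pow_zero]
      have hu : x (.ofAdd (1 : F)) * x (.ofAdd 1) = 1 := by
        subst hp
        rw [← map_mul, ← ofAdd_add, CharTwo.add_self_eq_zero, ofAdd_zero, map_one]
      have e : g tV = (x (.ofAdd 1) * g tV) * x (.ofAdd 1) * (x (.ofAdd 1) * g tV)⁻¹ := by
        rw [_root_.mul_inv_rev, inv_eq_of_mul_eq_one_right hu]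
        conv_lhs => rw [← wR1]
        group
      calc g tV * g tV = ((x (.ofAdd 1) * g tV) * x (.ofAdd 1) * (x (.ofAdd 1) * g tV)⁻¹) *
            ((x (.ofAdd 1) * g tV) * x (.ofAdd 1) * (x (.ofAdd 1) * g tV)⁻¹) := by rw [← e]
        _ = (x (.ofAdd 1) * g tV) * (x (.ofAdd 1) * x (.ofAdd 1)) * (x (.ofAdd 1) * g tV)⁻¹ := by
            group
        _ = 1 := by rw [hu]; group
    · have := hXr rG (by rw [hX, if_neg hp]; simp)
      simp only [rG, kV'', kV', map_mul, map_inv, map_pow, mul_inv_eq_one] at this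
      exact this
  let C : Ctx F (PresentedGroup N) :=
    { x := x, k := g kV, t := g tV, c := g cV, ζ := ζ, m := m, hgen := hgen, c3 := wc3, ct := wct,
      kk := hkk, hP := wP, hF := wF, hm := hm, hG := htt, hk := hxk, hk' := hxk' }
  have gu : g uV = C.x (.ofAdd 1) := hx1.symm
  have gchev : ∀ w (a : F), g w = C.x (.ofAdd a) → g (rChev w) = 1 →
      C.X 0 1 1 * C.X 1 2 a * (C.X 0 1 1)⁻¹ * (C.X 1 2 a)⁻¹ = C.X 0 2 a := by
    intro w a hw h
    obtain ⟨h1, h2⟩ := evalW C g rfl rfl w a hw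
    simp only [rChev, map_mul, map_inv, h1, h2] at h
    rw [gu, ← C.X01, mul_inv_eq_one] at h
    exact h
  have hS : H40.StRel C.X := by
    by_cases hp : p = 2
    · subst hp
      have hk1 : g (kV * uV * kV⁻¹) = C.x (.ofAdd (ζ : F)) := by
        simp only [map_mul, map_inv, ← hx1]; rw [hxk, mul_one]
      have hE : ∀ e ∈ ({1, (ζ : F)} : Set F),
          C.X 0 1 1 * C.X 1 2 e * (C.X 0 1 1)⁻¹ * (C.X 1 2 e)⁻¹ = C.X 0 2 e := by
        rintro e (rfl | rfl)
        · exact gchev uV 1 gu (hXr _ (by rw [hX, if_pos rfl]; simp))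
        · exact gchev _ _ hk1 (hXr _ (by rw [hX, if_pos rfl]; simp))
      have hsq : ∀ (i j : Fin 3) (a : F), C.X i j a * C.X i j a = 1 := fun i j a => by
        rw [← C.X_add, CharTwo.add_self_eq_zero, C.X_zero]
      have inv2 : ∀ (i j : Fin 3) (a : F), (C.X i j a)⁻¹ = C.X i j a := fun i j a =>
        inv_eq_of_mul_eq_one_right (hsq i j a)
      have h4 : Fintype.card F = 4 → (ζ : F) ≠ 0 ∧ (ζ : F) ≠ 1 ∧ (ζ : F) * ζ ≠ 1 := by
        intro h4
        have hord : orderOf ζ = 3 := by
          rw [orderOf_eq_card_of_forall_mem_zpowers hgen, Nat.card_eq_fintype_card,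
            Fintype.card_units, h4]
        refine ⟨ζ.ne_zero, fun h => ?_, fun h => ?_⟩
        · rw [orderOf_eq_one_iff.2 (Units.ext h)] at hord; omega
        · have := orderOf_dvd_of_pow_eq_one
            (show ζ ^ 2 = 1 from Units.ext (by rw [pow_two, Units.val_mul]; exact h))
          rw [hord] at this; norm_num at this
      have hrow := C.row_of {1, (ζ : F)} (fun e he => by
        have h := hE e he
        have hz := hsq 0 2 e
        rw [inv2, inv2] at h
        rw [← h] at hz ⊢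
        exact (involution_commute (hsq 0 1 1) (hsq 1 2 e) hz).1)
        (spanning _ (Or.inl rfl) (fun h => ⟨(ζ : F), Or.inr rfl, (h4 h).1, (h4 h).2.1⟩))
      have hcol := C.col_of {1, (ζ : F) * ζ} (fun e he => by
        -- from the relation at `(1, a)`, moved by the torus
        obtain ⟨a, ha, ha0, rfl⟩ : ∃ a : F, a ∈ ({1, (ζ : F)} : Set F) ∧ a ≠ 0 ∧ a * a = e := by
          rcases he with rfl | rfl
          · exact ⟨1, Or.inl rfl, one_ne_zero, one_mul 1⟩
          · exact ⟨ζ, Or.inr rfl, ζ.ne_zero, rfl⟩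
        have hcm : Commute (C.X 0 2 a) (C.X 1 2 a) := by
          have h := hE a ha
          have hz := hsq 0 2 a
          rw [inv2, inv2] at h
          rw [← h] at hz ⊢
          exact (involution_commute (hsq 0 1 1) (hsq 1 2 a) hz).2
        obtain ⟨t, ht⟩ := C.exists_torus ![(Units.mk0 a ha0)⁻¹, Units.mk0 a ha0, 1] (by simp)
        have h' := Ctx.Sc.commute C ht (show (0 : Fin 3) ≠ 2 by decide)
          (show (1 : Fin 3) ≠ 2 by decide) hcm
        simpa [ha0] using h')
        (spanning _ (Or.inl rfl) (fun h => ⟨(ζ : F) * ζ, Or.inr rfl,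
          mul_ne_zero (h4 h).1 (h4 h).1, (h4 h).2.2⟩))
      exact C.strel hrow hcol (C.chev_of hcol _ hE
        (spanning _ (Or.inl rfl) (fun h => ⟨(ζ : F), Or.inr rfl, (h4 h).1, (h4 h).2.1⟩)))
    · have hXr' := hXr
      simp only [hX, if_neg hp, Finset.mem_insert, Finset.mem_singleton, forall_eq_or_imp,
        forall_eq] at hXr'
      obtain ⟨-, hr, hc, hch⟩ := hXr'
      obtain ⟨h1, h2⟩ := evalW C g rfl rfl uV 1 gu
      have hspan := spanning (F := F) ({1} : Set F) rfl (fun h => absurd (by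
        have hdvd : p ∣ 2 ^ 2 := by
          rw [show (2 : ℕ) ^ 2 = Fintype.card F by rw [h]; rfl, hcard]; exact dvd_pow_self p f₀.pos.ne'
        exact (Nat.prime_dvd_prime_iff_eq Fact.out Nat.prime_two).1
          ((Fact.out : p.Prime).dvd_of_dvd_pow hdvd)) hp)
      simp only [rRow, map_mul, map_inv, h2] at hr
      rw [gu, ← C.X01, mul_inv_eq_one, mul_inv_eq_iff_eq_mul] at hr
      simp only [rCol, map_mul, map_inv, h1, h2] at hc
      rw [mul_inv_eq_one, mul_inv_eq_iff_eq_mul] at hc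
      have hcol := C.col_of {1} (by rintro e rfl; exact hc) hspan
      exact C.strel (C.row_of {1} (by rintro e rfl; exact hr) hspan) hcol
        (C.chev_of hcol {1} (by rintro e rfl; exact gchev uV 1 gu hch) hspan)
  have hfin := finite_card_le C hS wR1 (by
    show Subgroup.closure {x (.ofAdd 1), g kV, g tV, g cV} = ⊤
    rw [hx1]; exact closure_gens4 g hg)
  haveI := hfin.1
  have elift : FreeGroup.lift (fun i => f₁ (FreeGroup.of i)) = f₁ := FreeGroup.ext_hom _ _ (by simp)
  let φ : PresentedGroup N →* SpecialLinearGroup (Fin 3) F :=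
    PresentedGroup.toGroup (f := fun i => f₁ (FreeGroup.of i)) fun r hr => by
      rw [elift]; exact hstd r hr
  have hφ : φ.comp g = f₁ := FreeGroup.ext_hom _ _ fun i => by
    show φ (PresentedGroup.of i) = f₁ (FreeGroup.of i)
    exact PresentedGroup.toGroup.of (f := fun i => f₁ (FreeGroup.of i)) _
  have hφs : Function.Surjective φ := fun q => by
    obtain ⟨w, rfl⟩ := stdHom3_surjective ζ hgen m hm hsurj q
    exact ⟨g w, DFunLike.congr_fun hφ w⟩
  refine ⟨MulEquiv.ofBijective φ ((Nat.bijective_iff_surjective_and_card φ).2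
    ⟨hφs, le_antisymm hfin.2 (Nat.card_le_card_of_surjective _ hφs)⟩), ?_⟩
  show φ (g cV) = cT
  rw [← MonoidHom.comp_apply φ g, hφ, vc]
  rfl

end H69.SL3Less
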