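import Cfsg.Agent.H69.SU3Model

/-!
All product relations of `SU₃(q)` follow from one central and three further ones.
-/

set_option autoImplicit false
set_option linter.unusedSectionVars false

namespace H69.SU3

open Matrix Cfsg H50 H37 H69.BruhatOne

universe u v

variable {F : Type u} [Field F] [Fintype F] {q : ℕ}

/-- A frame with a torus generator and a Weyl element. -/
structure Geo (q : ℕ) (e z f : Fin 3 → F) (θ : F) (t w : SU 3 F q) : Prop where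
  frame : UFrame q e z f
  gen : ∀ x : F, x ≠ 0 → ∃ k : ℕ, θ ^ k = x
  ne : θ ≠ 0
  tor : IsTor e z f t θ
  weyl : suMat w *ᵥ e = f ∧ suMat w *ᵥ z = -z ∧ suMat w *ᵥ f = e

theorem exists_geo (hF : Fintype.card F = q ^ 2) :
    ∃ (e z f : Fin 3 → F) (θ : F) (t w : SU 3 F q), Geo q e z f θ t w := by
  obtain ⟨e, z, f, Φ⟩ := exists_uframe hF
  obtain ⟨ζ, hζ⟩ := IsCyclic.exists_generator (α := Fˣ)
  obtain ⟨t, ht⟩ := exists_tor hF Φ ζ.ne_zero
  obtain ⟨w, hw⟩ := exists_weyl hF Φ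
  refine ⟨e, z, f, ζ, t, w, Φ, fun x hx => ?_, ζ.ne_zero, ht, hw⟩
  obtain ⟨k, hk⟩ := mem_powers_iff_mem_zpowers.2 (hζ (Units.mk0 x hx))
  exact ⟨k, by simpa using congrArg Units.val hk⟩

variable (hF : Fintype.card F = q ^ 2) {e z f : Fin 3 → F}
include hF

/-- The root group at `e`. -/
def rootGroup (Φ : UFrame q e z f) : Subgroup (SU 3 F q) where
  carrier := {g | ∃ c γ, IsEi e z g c γ}
  one_mem' := ⟨0, 0, IsEi.one hF Φ⟩
  mul_mem' := fun ⟨_, _, h⟩ ⟨_, _, h'⟩ => ⟨_, _, h.mul hF Φ h'⟩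
  inv_mem' := fun ⟨_, _, h⟩ => ⟨_, _, h.inv hF Φ⟩

variable {θ : F} {t w : SU 3 F q} (g : Geo q e z f θ t w)
include g

theorem mem_tor {s : SU 3 F q} (hs : s ∈ Subgroup.zpowers t) :
    ∃ L, IsTor e z f s L := by
  obtain ⟨k, rfl⟩ := mem_powers_iff_mem_zpowers.2 hs
  exact ⟨_, g.tor.pow hF g.frame k⟩

theorem tor_mem {s : SU 3 F q} {L : F} (hs : IsTor e z f s L) : s ∈ Subgroup.zpowers t := by
  obtain ⟨k, rfl⟩ := g.gen L hs.1
  rw [hs.unique hF g.frame (g.tor.pow hF g.frame k)]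
  exact Subgroup.npow_mem_zpowers t k

theorem exists_root {c γ : F} (h : γ + γ ^ q + c * c ^ q = 0) :
    ∃ v : rootGroup hF g.frame, IsEi e z v.1 c γ := by
  obtain ⟨u, hu⟩ := exists_isEi hF g.frame h
  exact ⟨⟨u, c, γ, hu⟩, hu⟩

theorem exists_torus {L : F} (hL : L ≠ 0) : ∃ s : Subgroup.zpowers t, IsTor e z f s.1 L := by
  obtain ⟨s, hs⟩ := exists_tor hF g.frame hL
  exact ⟨⟨s, tor_mem hF g hs⟩, hs⟩

theorem gamma_ne {u : SU 3 F q} {c γ : F} (hu : IsEi e z u c γ) (h1 : u ≠ 1) : γ ≠ 0 := by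
  rintro rfl
  have ht := hu.trace hF g.frame
  rw [zero_pow (q_ne_zero hF), zero_add, zero_add, mul_eq_zero, pow_q_eq_zero hF, or_self] at ht
  subst ht
  exact h1 (ei_unique hF g.frame hu (IsEi.one hF g.frame))

theorem model : Model (rootGroup hF g.frame) (Subgroup.zpowers t) w := by
  obtain ⟨w1, w2, w3⟩ := g.weyl
  have Φ := g.frame
  refine ⟨?_, ?_, ?_, ?_, ?_, ?_, ?_⟩
  · refine ext3 hF Φ ?_ ?_ ?_ <;>
      simp [suMat_mulVec_mul, suMat_one, w1, w2, w3, mulVec_neg]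
  · intro s hs
    obtain ⟨L, hL, s1, s2, s3⟩ := mem_tor hF g hs
    refine tor_mem hF g (L := (L ^ q)⁻¹) ⟨inv_ne_zero (pow_ne_zero _ hL), ?_, ?_, ?_⟩
    · simp [suMat_mulVec_mul, w1, w3, s3, mulVec_smul]
    · simp [suMat_mulVec_mul, w2, s2, mulVec_smul, mulVec_neg, inv_pow, pow_q_pow_q hF]
      congr 1; field_simp
    · simp [suMat_mulVec_mul, w1, w3, s1, mulVec_smul, inv_pow, pow_q_pow_q hF]
  · rintro s hs u ⟨c, γ, hu⟩
    obtain ⟨L, hL⟩ := mem_tor hF g hs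
    exact ⟨_, _, tor_conj hF Φ hL hu⟩
  · rintro u ⟨c, γ, hu⟩ s hs h
    obtain ⟨L, hL⟩ := mem_tor hF g hs
    have h1 : suMat (u * s) *ᵥ e = L • e := by
      rw [suMat_mulVec_mul, hL.2.1, mulVec_smul, (ei_images hF Φ hu).1]
    rw [h, suMat_one, one_mulVec] at h1
    have : L = 1 :=
      smul_left_injective F (Φ.hyp.fst_ne_zero hF) (show L • e = (1 : F) • e by rw [one_smul, ← h1])
    subst this
    have hs1 := hL.unique hF Φ (IsTor.one hF Φ)
    exact ⟨by rwa [hs1, mul_one] at h, hs1⟩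
  · rintro u ⟨c, γ, hu⟩ s hs v ⟨d, δ, hv⟩ h
    obtain ⟨L, hL⟩ := mem_tor hF g hs
    have hP : ∀ m ∈ rootGroup hF Φ ⊔ Subgroup.zpowers t, ∃ l : F, suMat m *ᵥ e = l • e := by
      intro m hm
      rw [Subgroup.sup_eq_closure] at hm
      induction hm using Subgroup.closure_induction with
      | mem a ha =>
        rcases ha with ⟨c, γ, ha⟩ | ha
        · exact ⟨1, by rw [one_smul, (ei_images hF Φ ha).1]⟩
        · obtain ⟨l, hl⟩ := mem_tor hF g ha
          exact ⟨l, hl.2.1⟩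
      | one => exact ⟨1, by simp [suMat_one]⟩
      | mul a b _ _ iha ihb =>
        obtain ⟨l, hl⟩ := iha
        obtain ⟨l', hl'⟩ := ihb
        exact ⟨l' * l, by rw [suMat_mulVec_mul, hl', mulVec_smul, hl, smul_smul]⟩
      | inv a _ iha =>
        obtain ⟨l, hl⟩ := iha
        have h0 := suMat_inv_mulVec a e
        rw [hl, mulVec_smul] at h0
        have hl0 : l ≠ 0 := fun e' => Φ.hyp.fst_ne_zero hF (by rw [← h0, e', zero_smul])
        exact ⟨l⁻¹, by rw [eq_inv_smul_iff₀ hl0, h0]⟩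
    obtain ⟨l, hl⟩ := hP _ h
    rw [suMat_mulVec_mul, suMat_mulVec_mul, suMat_mulVec_mul, (ei_images hF Φ hv).1, hL.2.1,
      mulVec_smul, w1, mulVec_smul, (ei_images hF Φ hu).2.2] at hl
    have := congrArg (fun x => hermForm 3 F q x e) hl
    simp [h_add_left, h_smul_left, Φ.hyp.1, Φ.fe hF, Φ.ze, hL.1] at this
  · rintro u hu s hs v hv u' hu' s' hs' v' hv' h
    obtain ⟨c, γ, hc⟩ := (rootGroup hF Φ).mul_mem ((rootGroup hF Φ).inv_mem hu') hu
    obtain ⟨d, δ, hd⟩ := (rootGroup hF Φ).mul_mem hv ((rootGroup hF Φ).inv_mem hv')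
    obtain ⟨L, hL⟩ := mem_tor hF g hs
    obtain ⟨L', hL'⟩ := mem_tor hF g hs'
    have e2 : u'⁻¹ * u * (w * (s * (v * v'⁻¹))) = w * s' := by
      calc u'⁻¹ * u * (w * (s * (v * v'⁻¹))) = u'⁻¹ * (u * w * s * v) * v'⁻¹ := by group
        _ = _ := by rw [h]; group
    have e1 : suMat (u'⁻¹ * u * (w * (s * (v * v'⁻¹)))) *ᵥ e = suMat (w * s') *ᵥ e := by rw [e2]
    rw [suMat_mulVec_mul (u'⁻¹ * u), suMat_mulVec_mul w, suMat_mulVec_mul s,
      (ei_images hF Φ hd).1, hL.2.1, mulVec_smul, w1, mulVec_smul, (ei_images hF Φ hc).2.2,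
      suMat_mulVec_mul w s', hL'.2.1, mulVec_smul, w1] at e1
    have k1 := congrArg (fun x => hermForm 3 F q x e) e1
    have k2 := congrArg (fun x => hermForm 3 F q x z) e1
    have k3 := congrArg (fun x => hermForm 3 F q x f) e1
    simp [h_add_left, h_smul_left, Φ.hyp.1, Φ.hyp.2.1, Φ.hyp.2.2, Φ.fe hF, Φ.zz, Φ.ze, Φ.zf,
      Φ.ez hF, Φ.fz hF, hL.1] at k1 k2 k3
    subst k1 k2 k3
    have hu1 : u = u' := (inv_mul_eq_one.1 (ei_unique hF Φ hc (IsEi.one hF Φ))).symm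
    have hs1 : s = s' := hL.unique hF Φ hL'
    subst hu1 hs1
    exact ⟨rfl, rfl, mul_left_cancel h⟩
  · rintro u ⟨c, γ, hu⟩ h1
    have hγ := gamma_ne hF g hu h1
    obtain ⟨ta, tb⟩ := trace_param hF (hu.trace hF Φ) hγ
    obtain ⟨a, ha⟩ := exists_root hF g ta
    obtain ⟨b, hb⟩ := exists_root hF g tb
    obtain ⟨s, hs⟩ := exists_torus hF g hγ
    exact ⟨a.1, a.2, s.1, s.2, b.1, b.2, bruhat hF Φ g.weyl hγ hu ha hs hb⟩

variable {G : Type v} [Group G] {π : G →* SU 3 F q} {x : rootGroup hF g.frame →* G}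
  {h : Subgroup.zpowers t →* G} {W : G}

omit g in
theorem Mc_cube {θ : F} (hθ : θ ≠ 0) : Mc q (θ ^ (2 * q + 1)) = θ ^ 3 := by
  have h0 : θ ^ q ≠ 0 := pow_ne_zero _ hθ
  have e1 : θ ^ (2 * q + 1) = θ ^ q * θ ^ q * θ := by ring
  rw [e1]
  simp only [Mc, mul_pow, pow_q_pow_q hF]
  field_simp

theorem all_rel (D : Data π x h w W)
    (hZ : ∃ v : rootGroup hF g.frame, ∃ δ : F, δ ≠ 0 ∧ IsEi e z v.1 0 δ ∧ Rel x h w W v)
    (hP : ∀ i < 3, ∀ v : rootGroup hF g.frame,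
      IsEi e z v.1 (θ ^ i) (θ ^ i * (θ ^ i) ^ q / (θ ^ q / θ - 1)) → Rel x h w W v) :
    ∀ v : rootGroup hF g.frame, v ≠ 1 → Rel x h w W v := by
  have Φ := g.frame
  have M := model hF g
  have hq := two_le hF
  set g₀ : F := θ ^ q / θ with hg₀
  have hg₀n : g₀ * g₀ ^ q = 1 := by
    rw [hg₀, div_pow, pow_q_pow_q hF]
    field_simp [g.ne]
  have conjR : ∀ (v : rootGroup hF Φ) (c γ L : F), IsEi e z v.1 c γ → v ≠ 1 → Rel x h w W v →
      L ≠ 0 → ∀ v' : rootGroup hF Φ, IsEi e z v'.1 (c * Mc q L) (γ * (L * L ^ q)) →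
      Rel x h w W v' := by
    intro v c γ L hv hv1 hR hL v' hv'
    obtain ⟨s, hs⟩ := exists_torus hF g hL
    have := rel_conj M D hR hv1 s
    rwa [show v' = ⟨_, M.hnorm s.1 s.2 v.1 v.2⟩ from
      Subtype.ext (ei_unique hF Φ hv' (tor_conj hF Φ hs hv))]
  -- the centre
  have hC : ∀ (v : rootGroup hF Φ) (δ : F), δ ≠ 0 → IsEi e z v.1 0 δ → Rel x h w W v := by
    intro v δ hδ hv
    obtain ⟨v₀, δ₀, hδ₀, hv₀, hR⟩ := hZ
    have t0 := hv₀.trace hF Φ
    have t1 := hv.trace hF Φ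
    simp only [zero_mul, add_zero] at t0 t1
    have ha : (δ / δ₀) ^ q = δ / δ₀ := by
      rw [div_pow, show δ ^ q = -δ by linear_combination t1,
        show δ₀ ^ q = -δ₀ by linear_combination t0, neg_div_neg_eq]
    obtain ⟨L, hL⟩ := exists_norm_eq hF ha
    have hL0 : L ≠ 0 := by
      rintro rfl
      rw [zero_pow (by omega)] at hL
      exact div_ne_zero hδ hδ₀ hL.symm
    refine conjR v₀ 0 δ₀ L hv₀ (fun e' => hδ₀ ?_) hR hL0 v ?_
    · rw [e'] at hv₀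
      exact (ei_inj hF Φ hv₀ (IsEi.one hF Φ)).2
    · rw [zero_mul, ← pow_succ' L q, hL, mul_div_cancel₀ _ hδ₀]; exact hv
  -- the first layer
  let P : F → F → Prop := fun c μ => μ ≠ 1 →
    ∀ v : rootGroup hF Φ, IsEi e z v.1 c (c * c ^ q / (μ - 1)) → Rel x h w W v
  have h1 : ∀ c, c ≠ 0 → P c g₀ := by
    intro c hc hμ v hv
    obtain ⟨k, rfl⟩ := g.gen c hc
    set i := k % 3
    set L := (θ ^ (2 * q + 1)) ^ (k / 3) with hL
    have hM : Mc q L = θ ^ (3 * (k / 3)) := by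
      rw [hL, Mc_pow, Mc_cube hF g.ne, pow_mul]
    have hMq : Mc q L * Mc q L ^ q = L * L ^ q := by
      simp only [Mc, mul_pow, div_pow, pow_q_pow_q hF]
      field_simp
    obtain ⟨v₀, hv₀⟩ := exists_root hF g
      (c := θ ^ i) (γ := θ ^ i * (θ ^ i) ^ q / (g₀ - 1)) (by
        have : (θ ^ i * (θ ^ i) ^ q) ^ q = θ ^ i * (θ ^ i) ^ q := by
          rw [mul_pow, pow_q_pow_q hF, mul_comm]
        rw [div_pow, this, sub_pow_q hF, one_pow]
        have h' : g₀ ^ q - 1 ≠ 0 := by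
          rw [← one_pow (M := F) q, ← sub_pow_q hF, Ne, pow_q_eq_zero hF]
          exact sub_ne_zero.2 hμ
        have h'' := sub_ne_zero.2 hμ
        field_simp
        linear_combination (θ ^ i * (θ ^ i) ^ q) * hg₀n)
    refine conjR v₀ _ _ L hv₀ (fun e' => pow_ne_zero i g.ne ?_) (hP i (Nat.mod_lt _ (by omega)) v₀ hv₀)
      (pow_ne_zero _ (pow_ne_zero _ g.ne)) v ?_
    · rw [e'] at hv₀
      exact (ei_inj hF Φ hv₀ (IsEi.one hF Φ)).1
    · have e1 : θ ^ i * Mc q L = θ ^ k := by rw [hM, ← pow_add, Nat.mod_add_div]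
      rw [e1, show θ ^ i * (θ ^ i) ^ q / (g₀ - 1) * (L * L ^ q) =
        θ ^ k * (θ ^ k) ^ q / (g₀ - 1) by rw [← hMq, ← e1, mul_pow]; ring]
      exact hv
  -- the step
  have step : ∀ c μ, c ≠ 0 → μ * μ ^ q = 1 → P c g₀ → P (c * g₀) μ → P c (g₀ * μ) := by
    intro c μ hc hμn p1 p2 hgμ v hv
    by_cases hμ : μ = 1
    · subst hμ; rw [mul_one] at hgμ hv; exact p1 hgμ v hv
    by_cases hg : g₀ = 1
    · rw [hg, one_mul] at hgμ hv; rw [hg, mul_one] at p2; exact p2 hgμ v hv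
    have hN : c * c ^ q ≠ 0 := mul_ne_zero hc (pow_ne_zero _ hc)
    have a1 : g₀ - 1 ≠ 0 := sub_ne_zero.2 hg
    have a2 : g₀ * μ - 1 ≠ 0 := sub_ne_zero.2 hgμ
    have a3 : μ - 1 ≠ 0 := sub_ne_zero.2 hμ
    have hg0 : g₀ ≠ 0 := fun e' => by rw [e', zero_mul] at hg₀n; exact zero_ne_one hg₀n
    set N := c * c ^ q with hNdef
    have hNq : N ^ q = N := by rw [hNdef, mul_pow, pow_q_pow_q hF, mul_comm]
    set γ := N / (g₀ - 1) with hγdef
    set γ' := N / (g₀ * μ - 1) with hγ'def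
    have hγ : γ ≠ 0 := div_ne_zero hN a1
    have hγq : γ ^ q = -(g₀ * γ) := by
      have h' : g₀ ^ q - 1 ≠ 0 := by
        rw [← one_pow (M := F) q, ← sub_pow_q hF, Ne, pow_q_eq_zero hF]; exact a1
      rw [hγdef, div_pow, hNq, sub_pow_q hF, one_pow]
      field_simp
      linear_combination hg₀n
    obtain ⟨u, hu⟩ := exists_root hF g (c := c) (γ := γ) (by
      rw [hγq, hγdef]; field_simp; ring)
    have t' := hv.trace hF Φ
    set δ := γ' - γ with hδdef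
    obtain ⟨z₀, hz⟩ := exists_root hF g (c := 0) (γ := δ) (by
      rw [hδdef, sub_pow_q hF]; linear_combination t' - hu.trace hF Φ)
    have hδ : δ ≠ 0 := by
      rw [hδdef, hγdef, hγ'def, sub_ne_zero]
      intro e'
      field_simp at e'
      exact a3 (by
        have : g₀ * (μ - 1) = 0 := by linear_combination -e'
        exact (mul_eq_zero.1 this).resolve_left hg0)
    have hv' : v = u * z₀ := Subtype.ext <| ei_unique hF Φ hv (by
      have := hu.mul hF Φ hz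
      rw [add_zero, mul_zero, sub_zero, hδdef, add_sub_cancel] at this
      exact this)
    have hu1 : u ≠ 1 := fun e' => hc (by
      rw [e'] at hu; exact (ei_inj hF Φ hu (IsEi.one hF Φ)).1)
    have hz1 : z₀ ≠ 1 := fun e' => hδ (by
      rw [e'] at hz; exact (ei_inj hF Φ hz (IsEi.one hF Φ)).2)
    have huz : u * z₀ ≠ 1 := fun e' => hc (by
      rw [hv', e'] at hv; exact (ei_inj hF Φ hv (IsEi.one hF Φ)).1)
    rw [hv']
    refine rel_mul M D (p1 (sub_ne_zero.1 a1) u hu) (hC z₀ δ hδ hz) hu1 hz1 huz ?_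
    intro a s b a' s' b' ea eb
    obtain ⟨ta, tb⟩ := trace_param hF (hu.trace hF Φ) hγ
    obtain ⟨tc, td⟩ := trace_param hF (hz.trace hF Φ) hδ
    obtain ⟨A, hA⟩ := exists_root hF g ta
    obtain ⟨B, hB⟩ := exists_root hF g tb
    obtain ⟨A', hA'⟩ := exists_root hF g tc
    obtain ⟨B', hB'⟩ := exists_root hF g td
    obtain ⟨S, hS⟩ := exists_torus hF g hγ
    obtain ⟨S', hS'⟩ := exists_torus hF g hδ
    obtain ⟨-, es, eb'⟩ := M.uniq _ a.2 _ s.2 _ b.2 _ A.2 _ S.2 _ B.2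
      (ea.symm.trans (bruhat hF Φ g.weyl hγ hu hA hS hB))
    obtain ⟨ea', -, -⟩ := M.uniq _ a'.2 _ s'.2 _ b'.2 _ A'.2 _ S'.2 _ B'.2
      (eb.symm.trans (bruhat hF Φ g.weyl hδ hz hA' hS' hB'))
    obtain rfl := Subtype.ext es
    obtain rfl := Subtype.ext eb'
    obtain rfl := Subtype.ext ea'
    refine p2 hμ _ ?_
    have hm := tor_conj hF Φ hS (hB.mul hF Φ hA')
    have e1 : (-(c / γ ^ q) + -(0 / δ)) * Mc q γ = c * g₀ := by
      simp only [Mc, zero_div, neg_zero, add_zero]; rw [hγq]; field_simp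
    have e2 : (γ⁻¹ + δ⁻¹ - (-(c / γ ^ q)) ^ q * -(0 / δ)) * (γ * γ ^ q) =
        c * g₀ * (c * g₀) ^ q / (μ - 1) := by
      rw [show c * g₀ * (c * g₀) ^ q = N by rw [hNdef, mul_pow]; linear_combination (c * c ^ q) * hg₀n,
        hγq, zero_div, neg_zero, mul_zero, sub_zero]
      have a4 : (1 : F) - μ ≠ 0 := fun e' => a3 (by linear_combination -e')
      have eδ : δ = N * g₀ * (1 - μ) / ((g₀ * μ - 1) * (g₀ - 1)) := by
        rw [hδdef, hγdef, hγ'def]; field_simp; ring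
      rw [eδ, hγdef]
      field_simp
      ring
    rw [e1, e2] at hm
    exact hm
  -- powers
  have hpow : ∀ n : ℕ, ∀ c, c ≠ 0 → P c (g₀ ^ n) := by
    intro n
    induction n with
    | zero => intro c _ hμ; exact absurd (pow_zero g₀) hμ
    | succ n ih =>
      intro c hc
      have hg0 : g₀ ≠ 0 := fun e' => by rw [e', zero_mul] at hg₀n; exact zero_ne_one hg₀n
      rw [pow_succ']
      exact step c _ hc (by rw [← pow_mul, mul_comm n, pow_mul, ← mul_pow, hg₀n, one_pow])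
        (h1 c hc) (ih _ (mul_ne_zero hc hg0))
  intro v hv1
  obtain ⟨c, γ, hv⟩ := v.2
  have hγ : γ ≠ 0 := gamma_ne hF g hv (fun e' => hv1 (Subtype.ext e'))
  by_cases hc : c = 0
  · subst hc; exact hC v γ hγ hv
  have ht := hv.trace hF Φ
  set μ := -(γ ^ q / γ) with hμdef
  have hμn : μ * μ ^ q = 1 := by
    rw [hμdef, neg_pow_q hF, div_pow, pow_q_pow_q hF]; field_simp
  have hN : c * c ^ q ≠ 0 := mul_ne_zero hc (pow_ne_zero _ hc)
  have hμ1 : μ - 1 = c * c ^ q / γ := by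
    rw [hμdef]; field_simp; linear_combination -ht
  obtain ⟨n, hn⟩ : ∃ n, g₀ ^ n = μ := by
    obtain ⟨k, hk⟩ := g.gen μ (by rw [hμdef]; simp [hγ, pow_q_eq_zero hF])
    have hord : orderOf θ = q ^ 2 - 1 := by
      let u₀ : Fˣ := Units.mk0 θ g.ne
      have hgen : ∀ y : Fˣ, y ∈ Subgroup.zpowers u₀ := by
        intro y
        obtain ⟨j, hj⟩ := g.gen y y.ne_zero
        exact ⟨j, Units.ext (by simpa [u₀] using hj)⟩
      have := orderOf_eq_card_of_forall_mem_zpowers hgen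
      rw [← orderOf_units] at this
      classical
      rw [Nat.card_eq_fintype_card, Fintype.card_units, hF] at this
      exact this
    obtain ⟨r, rfl⟩ : ∃ r, q = r + 1 := ⟨q - 1, by omega⟩
    have hd : (r + 1) ^ 2 - 1 ∣ k * (r + 1 + 1) := by
      rw [← hord, orderOf_dvd_iff_pow_eq_one, pow_mul, hk, pow_succ']
      exact hμn
    have e2 : (r + 1) ^ 2 - 1 = r * (r + 1 + 1) := by
      rw [show (r + 1) ^ 2 = r * (r + 1 + 1) + 1 by ring, Nat.add_sub_cancel]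
    rw [e2] at hd
    obtain ⟨n, hn⟩ := Nat.dvd_of_mul_dvd_mul_right (by omega) hd
    refine ⟨n, ?_⟩
    rw [← hk, hn, hg₀, pow_mul, pow_succ θ r, mul_div_assoc, div_self g.ne, mul_one]
  refine hpow n c hc ?_ v ?_
  · rw [hn]; intro e'; rw [e', sub_self, eq_comm, div_eq_zero_iff] at hμ1; tauto
  · rw [hn, hμ1, div_div_cancel₀ hN]; exact hv

end H69.SU3
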