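import Cfsg.Agent.H40.CRWData
import Cfsg.Agent.H50.Field

/-!
Field data for the root group of `SU₃(q)`.
-/

set_option autoImplicit false
set_option linter.style.haveILetI false
set_option linter.unusedSectionVars false

namespace H69.SU3

open Polynomial H40.CRW H50

universe v w

variable {p : ℕ} [Fact p.Prime] {F : Type w} [Field F] [Algebra (ZMod p) F]

/-- Relators of bounded number for a bounded degree. -/
theorem exists_data_deg [Fintype F] [CharP F p] (ω : F) {d : ℕ}
    (hdeg : (minpoly (ZMod p) ω).natDegree ≤ d) (hd : 0 < d)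
    (hsurj : ∀ z : F, ∃ P : (ZMod p)[X], aeval ω P = z) :
    ∃ L : Finset (FreeGroup (Fin 3)), L.card ≤ d + 1 ∧ IsBorelData.{v} ω L := by
  classical
  set M := minpoly (ZMod p) ω with hM
  refine ⟨{uW ^ p, pW M} ∪ (Finset.Icc 1 (d - 1)).image
    (fun k => uW * (hW ^ k * uW * (hW ^ k)⁻¹) * uW⁻¹ * (hW ^ k * uW * (hW ^ k)⁻¹)⁻¹), ?_, ?_, ?_⟩
  · refine (Finset.card_union_le _ _).trans ((add_le_add Finset.card_le_two Finset.card_image_le).trans ?_)
    rw [Nat.card_Icc]; omega
  · intro Q _ f x hx hh r hr
    simp only [Finset.mem_union, Finset.mem_insert, Finset.mem_singleton, Finset.mem_image] at hr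
    rcases hr with (rfl | rfl) | ⟨k, -, rfl⟩
    · rw [map_pow, ← hx, x_pow_char]
    · rw [pW, map_polyWord, ← hx, polyWord_eval hh, hM, minpoly.aeval, ofAdd_zero, map_one]
    · simp only [map_mul, map_inv, map_pow]
      rw [← hx, x_conj_pow hh, (x_comm (x := x) _ _).eq]
      group
  · intro G _ f hf
    simp only [Finset.mem_union, Finset.mem_insert, Finset.mem_singleton, Finset.mem_image,
      Finset.mem_Icc] at hf
    have hp : f uW ^ p = 1 := by rw [← map_pow]; exact hf _ (Or.inl (Or.inl rfl))
    have hw : polyWord (f hW) (f uW) M = 1 := by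
      rw [← map_polyWord]; exact hf _ (Or.inl (Or.inr rfl))
    set u := f uW with hudef
    set h := f hW with hhdef
    have hc : ∀ k, k < d → Commute u (h ^ k * u * (h ^ k)⁻¹) := by
      intro k hk
      rcases Nat.eq_zero_or_pos k with rfl | hk0
      · simp
      · have := hf _ (Or.inr ⟨k, ⟨hk0, by omega⟩, rfl⟩)
        simp only [map_mul, map_inv, map_pow] at this
        show u * _ = _ * u
        rwa [mul_inv_eq_one, mul_inv_eq_iff_eq_mul] at this
    let c : ℕ → G := fun k => h ^ k * u * (h ^ k)⁻¹
    set U := Subgroup.closure (c '' Set.Iio M.natDegree) with hUdef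
    have hpair : ∀ a b, a < d → b < d → Commute (c a) (c b) := by
      intro a b ha hb
      wlog hab : a ≤ b generalizing a b
      · exact (this b a hb ha (le_of_not_ge hab)).symm
      have h0 := (hc (b - a) (by omega)).map (MulAut.conj (h ^ a)).toMonoidHom
      simp only [MulEquiv.coe_toMonoidHom, MulAut.conj_apply] at h0
      have e : h ^ a * (h ^ (b - a) * u * (h ^ (b - a))⁻¹) * (h ^ a)⁻¹ = c b := by
        show _ = h ^ b * u * (h ^ b)⁻¹
        conv_rhs => rw [← Nat.add_sub_of_le hab, pow_add]
        group
      rwa [e] at h0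
    haveI : IsMulCommutative U := Subgroup.isMulCommutative_closure (by
      rintro _ ⟨a, ha, rfl⟩ _ ⟨b, hb, rfl⟩
      exact (hpair a b (lt_of_lt_of_le ha hdeg) (lt_of_lt_of_le hb hdeg)).eq)
    have hcomm : ∀ a ∈ U, ∀ b ∈ U, a * b = b * a := fun a ha b hb =>
      congrArg Subtype.val (IsMulCommutative.is_comm.comm (⟨a, ha⟩ : U) ⟨b, hb⟩)
    have hexp : ∀ a ∈ U, a ^ p = 1 := by
      intro a ha
      induction ha using Subgroup.closure_induction with
      | mem g hg =>
        obtain ⟨k, -, rfl⟩ := hg
        exact (map_pow (MulAut.conj (h ^ k)).toMonoidHom u p).symm.trans (by rw [hp, map_one])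
      | one => exact one_pow _
      | mul a b ha hb iha ihb =>
        rw [(show Commute a b from hcomm a ha b hb).mul_pow, iha, ihb, one_mul]
      | inv a _ ih => rw [inv_pow, ih, inv_one]
    have hmon : M.coeff M.natDegree = 1 := minpoly.monic (IsIntegral.of_finite _ _)
    have hN : 0 < M.natDegree := minpoly.natDegree_pos (IsIntegral.of_finite _ _)
    have hmem : ∀ i, i ≤ M.natDegree → wordN h u (fun i => (M.coeff i).val) i ∈ U := by
      intro i hi
      induction i with
      | zero => exact one_mem _
      | succ i ih =>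
        refine mul_mem (ih (by omega)) ?_
        rw [show h ^ i * u ^ (M.coeff i).val * (h ^ i)⁻¹ = c i ^ (M.coeff i).val from
          map_pow (MulAut.conj (h ^ i)).toMonoidHom u _]
        have hi' : i ∈ Set.Iio M.natDegree := Set.mem_Iio.2 (by omega)
        exact pow_mem (Subgroup.subset_closure (Set.mem_image_of_mem c hi')) _
    have hU : ∀ a ∈ U, h * a * h⁻¹ ∈ U := by
      have hle : U ≤ U.comap (MulAut.conj h).toMonoidHom := by
        refine (Subgroup.closure_le (U.comap (MulAut.conj h).toMonoidHom)).2 ?_
        rintro g ⟨k, hk, rfl⟩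
        show h * c k * h⁻¹ ∈ U
        rw [show h * c k * h⁻¹ = c (k + 1) by simp only [c, pow_succ']; group]
        rcases Nat.lt_or_ge (k + 1) M.natDegree with hk' | hk'
        · exact Subgroup.subset_closure (Set.mem_image_of_mem c hk')
        · have hkN : k + 1 = M.natDegree := by
            have : k < M.natDegree := hk
            omega
          have hw' : wordN h u (fun i => (M.coeff i).val) (M.natDegree + 1) = 1 := hw
          simp only [wordN, hmon, ZMod.val_one, pow_one] at hw'
          rw [hkN, show c M.natDegree = (wordN h u (fun i => (M.coeff i).val) M.natDegree)⁻¹ from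
            eq_inv_of_mul_eq_one_right hw']
          exact inv_mem (hmem _ le_rfl)
      exact hle
    exact exists_xhom U hcomm hexp h u hU
      (Subgroup.subset_closure ⟨0, hN, by simp [c]⟩) ω hsurj hw

end H69.SU3
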