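import Cfsg.Agent.H69.SU3Closure
import Cfsg.Agent.H69.SU3Field

/-!
Generators of the field and relators for the two layers of the root group of `SU₃(q)`.
-/

set_option autoImplicit false
set_option linter.style.haveILetI false
set_option linter.unusedSectionVars false

namespace H69.SU3

open Polynomial Cfsg H50 H37 H40.CRW

universe u v

variable {F : Type u} [Field F] [Fintype F] {q : ℕ} (hF : Fintype.card F = q ^ 2)
include hF

/-- The fixed field. -/
def Fix : Subfield F := (conjHom hF).eqLocusField (RingHom.id F)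

theorem mem_fix {a : F} : a ∈ Fix hF ↔ a ^ q = a := Iff.rfl

theorem card_Fix : Nat.card (Fix hF) = q := card_fixed hF

theorem Mc_fixed {a : F} (ha : a ^ q = a) : Mc q a = a := by
  rcases eq_or_ne a 0 with rfl | h0
  · simp [Mc, zero_pow (q_ne_zero hF)]
  · simp only [Mc, ha]; field_simp

variable {p : ℕ}

/-- An element in no proper subfield generates the field. -/
theorem surj_of [Fact p.Prime] [Algebra (ZMod p) F] {x : F} (hx : x ≠ 0)
    (h : ∀ k r : ℕ, 2 ≤ k → 2 ≤ r → k ^ r = q ^ 2 → x ^ (k - 1) ≠ 1) (z : F) :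
    ∃ P : (ZMod p)[X], aeval x P = z := by
  classical
  let R : Subring F := (aeval (R := ZMod p) x).range.toSubring
  have hinv : ∀ a ∈ R, a⁻¹ ∈ R := by
    intro a ha
    rcases eq_or_ne a 0 with rfl | ha0
    · simp [R.zero_mem]
    · have h1 := FiniteField.pow_card_sub_one_eq_one a ha0
      have h2 : 1 < Fintype.card F := Fintype.one_lt_card
      rw [show Fintype.card F - 1 = Fintype.card F - 2 + 1 by omega, pow_succ] at h1
      rw [← eq_inv_of_mul_eq_one_left h1]
      exact R.pow_mem ha _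
  let K : Subfield F := { R with inv_mem' := hinv }
  by_contra hne
  have hxK : x ∈ K := ⟨X, aeval_X x⟩
  have h1 := Module.card_eq_pow_finrank (K := K) (V := F)
  have hr : 2 ≤ Module.finrank K F := by
    by_contra h'
    have h'' : Module.finrank K F = 1 := by
      have := Module.finrank_pos (R := K) (M := F)
      omega
    obtain ⟨c, hc⟩ := (finrank_eq_one_iff_of_nonzero' (1 : F) one_ne_zero).1 h'' z
    refine hne ?_
    rw [Subfield.smul_def, smul_eq_mul, mul_one] at hc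
    obtain ⟨P, hP⟩ := c.2
    exact ⟨P, hP.trans hc⟩
  refine h (Fintype.card K) _ Fintype.one_lt_card hr (by rw [← h1, hF]) ?_
  have := FiniteField.pow_card_sub_one_eq_one (⟨x, hxK⟩ : K)
    (fun h' => hx (congrArg Subtype.val h'))
  simpa using congrArg Subtype.val this

variable {e z f : Fin 3 → F} {θ : F} {t w : SU 3 F q} (g : Geo q e z f θ t w)
include g

theorem order_theta {k : ℕ} : θ ^ k = 1 ↔ q ^ 2 - 1 ∣ k := by
  classical
  let u₀ : Fˣ := Units.mk0 θ g.ne
  have hgen : ∀ y : Fˣ, y ∈ Subgroup.zpowers u₀ := by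
    intro y
    obtain ⟨j, hj⟩ := g.gen y y.ne_zero
    exact ⟨j, Units.ext (by simpa [u₀] using hj)⟩
  have := orderOf_eq_card_of_forall_mem_zpowers hgen
  rw [← orderOf_units, Nat.card_eq_fintype_card, Fintype.card_units, hF] at this
  rw [← this]
  exact orderOf_dvd_iff_pow_eq_one.symm

theorem sq_pred : q ^ 2 - 1 = (q - 1) * (q + 1) := by
  obtain ⟨r, rfl⟩ : ∃ r, q = r + 1 := ⟨q - 1, by have := two_le hF; omega⟩
  rw [show (r + 1) ^ 2 = r * (r + 1 + 1) + 1 by ring, Nat.add_sub_cancel, Nat.add_sub_cancel]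

theorem nu_mem : θ ^ (q + 1) ∈ Fix hF := norm_fixed hF θ

theorem nu_gen {a : F} (ha : a ^ q = a) (h0 : a ≠ 0) : ∃ k : ℕ, (θ ^ (q + 1)) ^ k = a := by
  obtain ⟨k, rfl⟩ := g.gen a h0
  have hq := two_le hF
  have h1 : θ ^ (k * (q - 1)) = 1 := by
    refine mul_right_cancel₀ h0 ?_
    rw [one_mul, ← pow_add, ← Nat.mul_succ, show (q - 1).succ = q by omega, pow_mul, ha]
  rw [order_theta hF g, sq_pred hF g, mul_comm k] at h1
  obtain ⟨j, hj⟩ := Nat.dvd_of_mul_dvd_mul_left (by omega) h1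
  exact ⟨j, by rw [← pow_mul, ← hj]⟩

/-- The multiplier of the torus generator generates the field. -/
theorem omega_surj [Fact p.Prime] [Algebra (ZMod p) F] (hq : 3 ≤ q) (a : F) :
    ∃ P : (ZMod p)[X], aeval (Mc q θ) P = a := by
  refine surj_of hF (by simp [Mc, g.ne]) (fun k r hk hr hkr h => ?_) a
  have h1 : θ ^ (3 * (k - 1)) = 1 := by
    rw [pow_mul, ← Mc_cube hF g.ne, Mc_pow, ← pow_mul, mul_comm, pow_mul, h, one_pow]
  have h2 := Nat.le_of_dvd (by omega) ((order_theta hF g).1 h1)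
  have h3 : k ^ 2 ≤ q ^ 2 := hkr ▸ Nat.pow_le_pow_right (by omega) hr
  have h4 : k ≤ q := (Nat.pow_le_pow_iff_left (by norm_num)).1 h3
  have : 3 * q ≤ q ^ 2 := by rw [pow_two]; exact Nat.mul_le_mul_right q hq
  omega

/-- The cube of a generator of the norm one elements generates the field. -/
theorem y_surj [Fact p.Prime] [Algebra (ZMod p) F] (h2 : q ≠ 2) (h5 : q ≠ 5) (h8 : q ≠ 8) (a : F) :
    ∃ P : (ZMod p)[X], aeval (Mc q θ ^ (q - 1)) P = a := by
  refine surj_of hF (pow_ne_zero _ (by simp [Mc, g.ne])) (fun k r hk hr hkr h => ?_) a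
  have hq := two_le hF
  have h1 : θ ^ (3 * (k - 1) * (q - 1)) = 1 := by
    rw [mul_assoc, pow_mul, ← Mc_cube hF g.ne, Mc_pow, ← pow_mul, mul_comm (2 * q + 1),
      mul_comm (k - 1) (q - 1), pow_mul, pow_mul, h, one_pow]
  rw [order_theta hF g, sq_pred hF g, mul_comm (3 * (k - 1))] at h1
  have hd := Nat.dvd_of_mul_dvd_mul_left (by omega) h1
  have h3 := Nat.le_of_dvd (by omega) hd
  rcases Nat.lt_or_ge r 3 with hr3 | hr3
  · obtain rfl : r = 2 := by omega
    have : k = q := Nat.pow_left_injective (by norm_num) hkr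
    subst this
    obtain ⟨m, hm⟩ := hd
    have : m < 3 := by
      by_contra hm'
      have : 3 * (k + 1) ≤ (k + 1) * m := by rw [mul_comm (k + 1)]; exact Nat.mul_le_mul_right _ (by omega)
      omega
    interval_cases m <;> omega
  · have hk3 : k ^ 3 ≤ q ^ 2 := hkr ▸ Nat.pow_le_pow_right (by omega) hr3
    have hq27 : q < 27 := by
      by_contra hq'
      have : (q + 1) ^ 3 ≤ 27 * q ^ 2 := calc
        (q + 1) ^ 3 ≤ (3 * k) ^ 3 := Nat.pow_le_pow_left (by omega) 3
        _ ≤ 27 * q ^ 2 := by rw [mul_pow]; exact Nat.mul_le_mul (by norm_num) hk3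
      nlinarith [Nat.le_of_not_lt hq', sq_nonneg (q : ℕ)]
    have hkq : k < 27 := by
      by_contra hk'
      have : 27 ^ 3 ≤ k ^ 3 := Nat.pow_le_pow_left (by omega) 3
      have : q ^ 2 ≤ 27 ^ 2 := Nat.pow_le_pow_left (by omega) 2
      omega
    have key : ∀ b c : Fin 27, ¬(2 ≤ b.1 ∧ 2 ≤ c.1 ∧ c.1 ^ 3 ≤ b.1 ^ 2 ∧ (b.1 + 1) ∣ 3 * (c.1 - 1) ∧ b.1 ≠ 8) := by
      decide
    exact key ⟨q, hq27⟩ ⟨k, hkq⟩ ⟨hq, hk, hk3, hd, h8⟩

/-- The cube of a norm one element, increased by one, is a multiplier. -/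
theorem exists_ab [Fact p.Prime] [Algebra (ZMod p) F] (h2 : q ≠ 2) (h5 : q ≠ 5) (h8 : q ≠ 8) :
    ∃ i, 1 ≤ i ∧ Mc q θ ^ i = 1 + Mc q θ ^ (q - 1) := by
  have hq := two_le hF
  have hθq : θ ^ q ≠ 0 := pow_ne_zero _ g.ne
  set y := Mc q θ ^ (q - 1) with hy
  have hy' : y = θ ^ 3 / (θ ^ q) ^ 3 := by
    have e : θ ^ (q - 1) = θ ^ q / θ := by
      rw [eq_div_iff g.ne, ← pow_succ, Nat.sub_add_cancel (by omega)]
    rw [hy, ← Mc_pow, e]
    simp only [Mc, div_pow, pow_q_pow_q hF]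
    field_simp
  have hne : 1 + y ≠ 0 := fun h => by
    obtain ⟨P, hP⟩ := y_surj (p := p) hF g h2 h5 h8 θ
    have hK : ∀ R : (ZMod p)[X], aeval y R ∈ Fix hF := by
      intro R
      have hyK : y ∈ Fix hF := by
        rw [show y = -1 by linear_combination h]; exact neg_mem (one_mem _)
      induction R using Polynomial.induction_on' with
      | add R S hR hS => rw [map_add]; exact add_mem hR hS
      | monomial n c =>
        rw [aeval_monomial]
        refine mul_mem ?_ (pow_mem hyK n)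
        rw [← ZMod.natCast_zmod_val c, map_natCast]
        exact natCast_mem _ _
    have h1 : θ ^ q = θ := (mem_fix hF).1 (hP ▸ hK P)
    have h2' : θ ^ (q - 1) = 1 := by
      refine mul_right_cancel₀ g.ne ?_
      rw [one_mul, ← pow_succ, Nat.sub_add_cancel (by omega), h1]
    have := Nat.le_of_dvd (by omega) ((order_theta hF g).1 h2')
    have : 2 * q ≤ q ^ 2 := by rw [pow_two]; exact Nat.mul_le_mul_right q hq
    omega
  obtain ⟨j, hj⟩ := nu_gen hF g (a := (1 + y) / θ ^ 3) (by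
    rw [div_pow, pow_right_comm, add_pow_q hF, one_pow, hy']
    simp only [div_pow, pow_right_comm _ 3 q, pow_q_pow_q hF]
    field_simp [g.ne]
    ring) (div_ne_zero hne (pow_ne_zero _ g.ne))
  refine ⟨(2 * q + 1) + (q + 1) * j, by omega, ?_⟩
  rw [pow_add, pow_mul _ (q + 1) j, ← Mc_pow, ← Mc_pow θ (q + 1), Mc_cube hF g.ne,
    Mc_fixed hF (norm_fixed hF θ), hj]
  field_simp [g.ne]

/-- Data for the quotient by the centre. -/
theorem quot_data [Fact p.Prime] [CharP F p] [Algebra (ZMod p) F] (hq : 3 ≤ q) :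
    ∃ L : Finset (FreeGroup (Fin 3)), L.card ≤ 7 ∧ IsBorelData.{v} (Mc q θ) L ∧
      (q ≠ 5 ∧ q ≠ 8 → L.card ≤ 4) := by
  by_cases hs : q = 5 ∨ q = 8
  · have hdeg : (minpoly (ZMod p) (Mc q θ)).natDegree ≤ 6 := by
      refine le_trans (minpoly.natDegree_le _) ?_
      have h := Module.card_eq_pow_finrank (K := ZMod p) (V := F)
      rw [hF, ZMod.card] at h
      have hle : 2 ^ Module.finrank (ZMod p) F ≤ 2 ^ 6 := by
        refine le_trans (Nat.pow_le_pow_left (Fact.out : p.Prime).two_le _) ?_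
        rw [← h]
        rcases hs with rfl | rfl <;> norm_num
      exact (Nat.pow_le_pow_iff_right (by norm_num)).1 hle
    obtain ⟨L, hL, hd⟩ := exists_data_deg.{v} (p := p) (Mc q θ) hdeg (by norm_num)
      (omega_surj hF g hq)
    exact ⟨L, hL, hd, fun h => absurd hs (by tauto)⟩
  · push Not at hs
    obtain ⟨i, hi, hab⟩ := exists_ab (p := p) hF g (by omega) hs.1 hs.2
    obtain ⟨L, hL, hd⟩ := exists_data_odd.{v} (p := p) (Mc q θ) i (q - 1) hi (by omega) hab
      (omega_surj hF g hq) fun a => by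
        obtain ⟨P, hP⟩ := y_surj (p := p) hF g (by omega) hs.1 hs.2 a
        exact ⟨P.comp (X - 1), by rw [aeval_comp, map_sub, aeval_X, map_one, hab, add_sub_cancel_left, hP]⟩
    exact ⟨L, by omega, hd, fun _ => hL⟩

/-- The generator of the fixed field. -/
def nu : Fix hF := ⟨θ ^ (q + 1), nu_mem hF g⟩

theorem nu_surj [Fact p.Prime] [Algebra (ZMod p) (Fix hF)] (a : Fix hF) :
    ∃ P : (ZMod p)[X], aeval (nu hF g) P = a := by
  rcases eq_or_ne a 0 with rfl | ha
  · exact ⟨0, map_zero _⟩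
  · obtain ⟨k, hk⟩ := nu_gen hF g a.2 (fun h => ha (Subtype.ext h))
    exact ⟨X ^ k, by rw [map_pow, aeval_X]; exact Subtype.ext hk⟩

/-- Data for the centre. -/
theorem centre_data [Fact p.Prime] [Fintype (Fix hF)] [CharP (Fix hF) p] [Algebra (ZMod p) (Fix hF)]
    (hq : 3 ≤ q) :
    ∃ L : Finset (FreeGroup (Fin 3)), L.card ≤ 4 ∧ IsBorelData.{v} (nu hF g) L := by
  have h1 : θ ^ (q + 1) - 1 ≠ 0 := sub_ne_zero.2 fun h => by
    have := Nat.le_of_dvd (by omega) ((order_theta hF g).1 h)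
    have : 3 * q ≤ q ^ 2 := by rw [pow_two]; exact Nat.mul_le_mul_right q hq
    omega
  obtain ⟨j, hj⟩ := nu_gen hF g (a := θ ^ (q + 1) - 1)
    (by rw [sub_pow_q hF, one_pow, norm_fixed hF]) h1
  have hord : (θ ^ (q + 1)) ^ (q - 1) = 1 := by
    rw [← pow_mul, mul_comm, ← sq_pred hF g, order_theta hF g]
  refine exists_data_odd.{v} (p := p) (nu hF g) 1 (j + (q - 1)) le_rfl (by omega) (Subtype.ext ?_)
    (nu_surj hF g) (by simpa using nu_surj (p := p) hF g)
  show (θ ^ (q + 1)) ^ 1 = 1 + (θ ^ (q + 1)) ^ (j + (q - 1))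
  rw [pow_add (θ ^ (q + 1)), hord, mul_one, hj, pow_one, add_sub_cancel]

end H69.SU3
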