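import Cfsg.Agent.H69.SU3Words
import Cfsg.Agent.H40.BlockAbstract

/-!
Groups with the relations of `SU₃(q)` map injectively to it.
-/

set_option autoImplicit false
set_option linter.style.haveILetI false
set_option linter.unusedSectionVars false

namespace H69.SU3

open Matrix Polynomial Cfsg H50 H37 H40.CRW H69.BruhatOne

universe u

variable {F : Type u} [Field F] [Fintype F] {q : ℕ} (hF : Fintype.card F = q ^ 2)
  {e z f : Fin 3 → F} {θ : F} {E₁ t w : SU 3 F q} {γ₁ : F}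
include hF
variable (X : Gens q e z f θ E₁ t w γ₁)
include X
variable {p : ℕ} [Fact p.Prime] [CharP F p] [Algebra (ZMod p) F] [Algebra (ZMod p) (Fix hF)]

/-- The torus element of the model with a given exponent. -/
theorem tor_pow_eq {k : ℕ} : t ^ k = 1 ↔ q ^ 2 - 1 ∣ k := by
  have Φ := X.geo.frame
  rw [← order_theta hF X.geo]
  constructor
  · intro h
    have h1 := (X.geo.tor.pow hF Φ k).2.1
    rw [h, suMat_one, one_mulVec] at h1
    exact (smul_left_injective F (Φ.hyp.fst_ne_zero hF)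
      (show (1 : F) • e = θ ^ k • e by rw [one_smul, ← h1])).symm
  · intro h
    have h1 := X.geo.tor.pow hF Φ k
    rw [h] at h1
    exact h1.unique hF Φ (IsTor.one hF Φ)

include p

/-- The product relation at a root element. -/
noncomputable def relW (v a b : FreeGroup (Fin 3)) (k : ℕ) : FreeGroup (Fin 3) :=
  tW * v * tW * (a * tW * hW ^ k * b)⁻¹

/-- A word for the product relation at a root element. -/
theorem exists_relW {c γ : F} (hγ : γ ≠ 0) (ht : γ + γ ^ q + c * c ^ q = 0) :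
    ∃ (v : rootGroup hF X.geo.frame) (rv ra rb : FreeGroup (Fin 3)) (k : ℕ),
      IsEi e z v.1 c γ ∧ rv ∈ PW ∧ ra ∈ PW ∧ rb ∈ PW ∧ ev X rv = v.1 ∧
      ev X (relW rv ra rb k) = 1 := by
  obtain ⟨ta, tb⟩ := trace_param hF ht hγ
  obtain ⟨v, hv⟩ := exists_root hF X.geo ht
  obtain ⟨a, ha⟩ := exists_root hF X.geo ta
  obtain ⟨b, hb⟩ := exists_root hF X.geo tb
  obtain ⟨k, hk⟩ := X.geo.gen γ hγ
  have hs := X.geo.tor.pow hF X.geo.frame k
  rw [hk] at hs
  obtain ⟨rv, h1, h1'⟩ := exists_wQ (p := p) hF X v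
  obtain ⟨ra, h2, h2'⟩ := exists_wQ (p := p) hF X a
  obtain ⟨rb, h3, h3'⟩ := exists_wQ (p := p) hF X b
  refine ⟨v, rv, ra, rb, k, hv, h1, h2, h3, h1', ?_⟩
  rw [relW, map_mul, map_inv, mul_inv_eq_one]
  simp only [map_mul, map_pow, ev_h hF X, ev_w hF X, h1', h2', h3']
  exact bruhat hF X.geo.frame X.geo.weyl hγ hv ha hs hb

variable {G : Type} [Group G] (φ : FreeGroup (Fin 3) →* G) (π : G →* SU 3 F q)

/-- What the relations give. -/
structure Sat : Prop where
  compat : π.comp φ = ev X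
  ord : φ hW ^ (q ^ 2 - 1) = 1
  ww : φ tW * φ tW = 1
  wt : φ tW * φ hW * φ tW = (φ hW ^ q)⁻¹
  gens : Subgroup.closure {φ uW, φ hW, φ tW} = ⊤
  xz : ∃ x : Multiplicative (Fix hF) →* G, x (.ofAdd 1) = φ z0W ∧
      (∀ a, φ hW * x (.ofAdd a) * (φ hW)⁻¹ = x (.ofAdd (nu hF X.geo * a))) ∧
      (∀ a, Commute (φ uW) (x (.ofAdd a))) ∧
      ∃ (N : Subgroup G) (_ : N = x.range) (hu : φ uW ∈ Subgroup.normalizer (N : Set G))
        (hh : φ hW ∈ Subgroup.normalizer (N : Set G))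
        (xb : Multiplicative F →* Subgroup.normalizer (N : Set G) ⧸
          N.subgroupOf (Subgroup.normalizer (N : Set G))),
        xb (.ofAdd 1) = QuotientGroup.mk' _ ⟨_, hu⟩ ∧
        ∀ c, QuotientGroup.mk' _ ⟨_, hh⟩ * xb (.ofAdd c) * (QuotientGroup.mk' _ ⟨_, hh⟩)⁻¹ =
          xb (.ofAdd (Mc q θ * c))

variable {φ π}

theorem Sat.classes (S : Sat hF X φ π) :
    ∀ r ∈ PW, ev X r = 1 → φ r = 1 := by
  obtain ⟨x, hx1, hx2, hxu, N, hN, hu, hh, xb, hb1, hb2⟩ := S.xz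
  subst hN
  set B := Subgroup.normalizer ((x.range : Subgroup G) : Set G)
  have hcl : ∀ r ∈ PW, ∃ (hm : φ r ∈ B) (c γ : F),
      QuotientGroup.mk' _ (⟨φ r, hm⟩ : B) = xb (.ofAdd c) ∧ IsEi e z (ev X r) c γ := by
    intro r hr
    induction hr using Subgroup.closure_induction with
    | mem r hr =>
      obtain ⟨k, rfl⟩ := hr
      obtain ⟨γ, hγ⟩ := ev_conj hF X k
      have hm : φ (hW ^ k * uW * (hW ^ k)⁻¹) = (((⟨_, hh⟩ : B) ^ k * ⟨_, hu⟩ *
          ((⟨_, hh⟩ : B) ^ k)⁻¹ : B) : G) := by simp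
      refine ⟨by rw [hm]; exact SetLike.coe_mem _, _, γ, ?_, hγ⟩
      have := x_conj_pow (x := xb) hb2 k 1
      rw [mul_one, hb1] at this
      rw [← this, ← map_pow, ← map_inv, ← map_mul, ← map_mul]
      congr 1
      exact Subtype.ext hm
    | one =>
      refine ⟨by rw [map_one]; exact one_mem _, 0, 0, ?_, by rw [map_one]; exact IsEi.one hF X.geo.frame⟩
      rw [ofAdd_zero, map_one xb, ← map_one (QuotientGroup.mk' (x.range.subgroupOf B))]
      congr 1
      exact Subtype.ext (map_one φ)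
    | mul a b _ _ iha ihb =>
      obtain ⟨ha, c, γ, ea, hea⟩ := iha
      obtain ⟨hb, c', γ', eb, heb⟩ := ihb
      refine ⟨by rw [map_mul]; exact mul_mem ha hb, c + c', _, ?_,
        by rw [map_mul]; exact hea.mul hF X.geo.frame heb⟩
      rw [ofAdd_add, map_mul xb, ← ea, ← eb, ← map_mul (QuotientGroup.mk' _)]
      congr 1
      exact Subtype.ext (map_mul φ a b)
    | inv a _ iha =>
      obtain ⟨ha, c, γ, ea, hea⟩ := iha
      refine ⟨by rw [map_inv]; exact inv_mem ha, -c, _, ?_,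
        by rw [map_inv]; exact hea.inv hF X.geo.frame⟩
      rw [ofAdd_neg, map_inv xb, ← ea, ← map_inv (QuotientGroup.mk' (x.range.subgroupOf B))]
      congr 1
      exact Subtype.ext (map_inv φ a)
  intro r hr hev
  obtain ⟨hm, c, γ, e1, e2⟩ := hcl r hr
  rw [hev] at e2
  obtain ⟨rfl, -⟩ := ei_inj hF X.geo.frame e2 (IsEi.one hF X.geo.frame)
  rw [ofAdd_zero, map_one] at e1
  obtain ⟨a, ha⟩ := (QuotientGroup.eq_one_iff (⟨φ r, hm⟩ : B)).1 e1
  have ha' : x a = φ r := ha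
  have he : π (φ r) = xC hF X a := by
    rw [← ha', ← ofAdd_toAdd a, ← map_wZ (p := p) hF X φ hx1 hx2, ← MonoidHom.comp_apply, S.compat,
      ev_wZ hF X]
  rw [← MonoidHom.comp_apply, S.compat, hev] at he
  have h0 := xC_isEi hF X a.toAdd
  rw [ofAdd_toAdd, ← he] at h0
  have := (ei_inj hF X.geo.frame h0 (IsEi.one hF X.geo.frame)).2
  rw [mul_eq_zero, or_iff_right (δ₀_ne hF X)] at this
  have : a = 1 := Multiplicative.toAdd.injective (Subtype.ext this)
  rw [← ha', this, map_one]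

theorem Sat.eq_of_ev (S : Sat hF X φ π) {r r' : FreeGroup (Fin 3)} (hr : r ∈ PW) (hr' : r' ∈ PW)
    (h : ev X r = ev X r') : φ r = φ r' := by
  rw [← mul_inv_eq_one, ← map_inv, ← map_mul]
  refine S.classes (p := p) hF X _ (mul_mem hr (inv_mem hr')) ?_
  rw [map_mul, map_inv, h, mul_inv_cancel]

/-- The root group inside the group with the relations. -/
noncomputable def Sat.x (S : Sat hF X φ π) : rootGroup hF X.geo.frame →* G :=
  MonoidHom.mk' (fun v => φ (exists_wQ (p := p) hF X v).choose) fun a b => by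
    rw [← map_mul]
    refine S.eq_of_ev (p := p) hF X (exists_wQ (p := p) hF X (a * b)).choose_spec.1
      (mul_mem (exists_wQ (p := p) hF X a).choose_spec.1 (exists_wQ (p := p) hF X b).choose_spec.1) ?_
    rw [map_mul, (exists_wQ (p := p) hF X (a * b)).choose_spec.2,
      (exists_wQ (p := p) hF X a).choose_spec.2, (exists_wQ (p := p) hF X b).choose_spec.2]
    rfl

theorem Sat.x_eq (S : Sat hF X φ π) {r : FreeGroup (Fin 3)} (hr : r ∈ PW)
    {v : rootGroup hF X.geo.frame} (h : ev X r = v.1) : S.x (p := p) hF X v = φ r :=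
  S.eq_of_ev (p := p) hF X (exists_wQ (p := p) hF X v).choose_spec.1 hr
    ((exists_wQ (p := p) hF X v).choose_spec.2.trans h.symm)

theorem injective (S : Sat hF X φ π)
    (hZ : ∃ rv ra rb k, ∃ δ : F, δ ≠ 0 ∧ rv ∈ PW ∧ ra ∈ PW ∧ rb ∈ PW ∧
      IsEi e z (ev X rv) 0 δ ∧ ev X (relW rv ra rb k) = 1 ∧ φ (relW rv ra rb k) = 1)
    (hP : ∀ i < 3, ∃ rv ra rb k, rv ∈ PW ∧ ra ∈ PW ∧ rb ∈ PW ∧
      IsEi e z (ev X rv) (θ ^ i) (θ ^ i * (θ ^ i) ^ q / (θ ^ q / θ - 1)) ∧
      ev X (relW rv ra rb k) = 1 ∧ φ (relW rv ra rb k) = 1) :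
    Function.Injective π := by
  classical
  have g := X.geo
  have Φ := g.frame
  have M := model hF g
  have hord : orderOf t = q ^ 2 - 1 :=
    Nat.dvd_antisymm (orderOf_dvd_iff_pow_eq_one.2 ((tor_pow_eq hF X).2 dvd_rfl))
      ((tor_pow_eq hF X).1 (pow_orderOf_eq_one t))
  let tT : Subgroup.zpowers t := ⟨t, Subgroup.mem_zpowers t⟩
  have hgenT : ∀ s : Subgroup.zpowers t, s ∈ Subgroup.zpowers tT := by
    rintro ⟨s, k, rfl⟩
    exact ⟨k, Subtype.ext (by simp [tT])⟩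
  let h : Subgroup.zpowers t →* G := monoidHomOfForallMemZpowers hgenT (g' := φ hW) (by
    rw [show orderOf tT = orderOf t from (Subgroup.orderOf_coe tT).symm, hord]
    exact orderOf_dvd_iff_pow_eq_one.2 S.ord)
  have hh1 : h tT = φ hW := monoidHomOfForallMemZpowers_apply_gen hgenT _
  have hhp : ∀ k : ℕ, h (tT ^ k) = φ hW ^ k := fun k => by rw [map_pow, hh1]
  have hpow : ∀ s : Subgroup.zpowers t, ∃ k : ℕ, s = tT ^ k := fun s => by
    obtain ⟨k, hk⟩ := mem_powers_iff_mem_zpowers.2 (hgenT s)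
    exact ⟨k, hk.symm⟩
  set x := S.x (p := p) hF X
  set W := φ tW
  have hπφ : ∀ r, π (φ r) = ev X r := fun r => DFunLike.congr_fun S.compat r
  have D : Data π x h w W := by
    refine ⟨fun v => ?_, fun s => ?_, (hπφ tW).trans (ev_w hF X), S.ww, fun s v hm => ?_,
      fun s hm => ?_⟩
    · obtain ⟨r, hr, hr'⟩ := exists_wQ (p := p) hF X v
      rw [show x v = φ r from S.x_eq (p := p) hF X hr hr', hπφ, hr']
    · obtain ⟨k, rfl⟩ := hpow s
      rw [hhp, map_pow, hπφ, ev_h hF X]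
      simp [tT]
    · obtain ⟨k, rfl⟩ := hpow s
      obtain ⟨r, hr, hr'⟩ := exists_wQ (p := p) hF X v
      rw [show x v = φ r from S.x_eq (p := p) hF X hr hr', hhp,
        S.x_eq (p := p) hF X (PW_pow_conj hF X hr k) (v := ⟨_, hm⟩)
          (by rw [map_mul, map_mul, map_inv, map_pow, ev_h hF X, hr']; simp [tT])]
      simp only [map_mul, map_inv, map_pow]
    · obtain ⟨k, rfl⟩ := hpow s
      have e1 : ∀ n : ℕ, W * φ hW ^ n * W = ((φ hW ^ q)⁻¹) ^ n := by
        intro n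
        induction n with
        | zero => simp [W, S.ww]
        | succ n ih =>
          rw [← S.wt] at ih ⊢
          rw [pow_succ _ n, pow_succ (φ tW * φ hW * φ tW) n, ← ih]
          calc W * (φ hW ^ n * φ hW) * W = W * φ hW ^ n * (φ tW * φ tW) * φ hW * W := by
                rw [S.ww, mul_one]; group
            _ = _ := by simp only [W]; group
      obtain ⟨j, hj⟩ := hpow ⟨_, hm⟩
      rw [hhp, hj, hhp, e1]
      have e2 : t ^ j = ((t ^ q)⁻¹) ^ k := by
        have h0 : (t ^ j : SU 3 F q) = w * t ^ k * w := by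
          have := congrArg Subtype.val hj
          simpa [tT] using this.symm
        have h1 := congrArg π (e1 k)
        simp only [map_mul, map_pow, map_inv, hπφ, ev_h hF X, W, ev_w hF X] at h1
        rw [h0, h1]
      rw [inv_pow, ← pow_mul, eq_inv_iff_mul_eq_one, ← pow_add] at e2
      rw [inv_pow, ← pow_mul, inv_eq_iff_mul_eq_one, ← pow_add]
      obtain ⟨m, hm2⟩ := (tor_pow_eq hF X).1 e2
      rw [add_comm, hm2, pow_mul, S.ord, one_pow]
  have seed : ∀ rv ra rb k, rv ∈ PW → ra ∈ PW → rb ∈ PW → ev X (relW rv ra rb k) = 1 →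
      φ (relW rv ra rb k) = 1 → ∀ v : rootGroup hF Φ, ev X rv = v.1 →
      BruhatOne.Rel x h w W v := by
    intro rv ra rb k hv ha hb e1 e2 v hev
    rw [relW, map_mul, map_inv, mul_inv_eq_one] at e1 e2
    simp only [map_mul, map_pow, ev_h hF X, ev_w hF X, hev] at e1
    simp only [map_mul, map_pow] at e2
    refine rel_intro M D (a := ⟨_, ev_PW hF X ha⟩) (t := tT ^ k) (b := ⟨_, ev_PW hF X hb⟩)
      (by simpa [tT] using e1) ?_
    rw [show x v = φ rv from S.x_eq (p := p) hF X hv hev, hhp,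
      show x ⟨_, ev_PW hF X ha⟩ = φ ra from S.x_eq (p := p) hF X ha rfl,
      show x ⟨_, ev_PW hF X hb⟩ = φ rb from S.x_eq (p := p) hF X hb rfl]
    exact e2
  refine BruhatOne.injective M D (all_rel hF g D ?_ ?_) ?_
  · obtain ⟨rv, ra, rb, k, δ, hδ, hv, ha, hb, hE, e1, e2⟩ := hZ
    exact ⟨⟨_, ev_PW hF X hv⟩, δ, hδ, hE, seed rv ra rb k hv ha hb e1 e2 _ rfl⟩
  · intro i hi v hv
    obtain ⟨rv, ra, rb, k, h1, h2, h3, hE, e1, e2⟩ := hP i hi
    exact seed rv ra rb k h1 h2 h3 e1 e2 v (ei_unique hF Φ hE hv)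
  · rw [eq_top_iff, ← S.gens, Subgroup.closure_le]
    rintro a (rfl | rfl | rfl)
    · refine Subgroup.subset_closure (Or.inl (Or.inl ⟨⟨E₁, 1, γ₁, X.root⟩, ?_⟩))
      exact S.x_eq (p := p) hF X (by simpa using conjW_mem 0) (ev_u hF X)
    · exact Subgroup.subset_closure (Or.inl (Or.inr ⟨tT, hh1⟩))
    · exact Subgroup.subset_closure (Or.inr rfl)

end H69.SU3
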