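import Cfsg.Agent.H37.SU3Gen
import Cfsg.Agent.H69.BruhatOne

/-!
The rank one decomposition of `SU₃(q)` and the propagation of its product relations from four of
them.
-/

set_option autoImplicit false
set_option linter.unusedSectionVars false

namespace H69.SU3

open Matrix Cfsg H50 H37

universe u v

variable {F : Type u} [Field F] [Fintype F] {q : ℕ}

/-- The multiplier of the torus on the root group. -/
def Mc (q : ℕ) (L : F) : F := L ^ q * L ^ q / L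

theorem Mc_pow (L : F) (k : ℕ) : Mc q (L ^ k) = Mc q L ^ k := by
  simp [Mc, div_pow, mul_pow, ← pow_mul, mul_comm k]

theorem Mc_mul (L L' : F) : Mc q (L * L') = Mc q L * Mc q L' := by
  simp only [Mc, mul_pow]; field_simp

/-- A torus element with parameter `L`. -/
def IsTor (e z f : Fin 3 → F) (g : SU 3 F q) (L : F) : Prop :=
  L ≠ 0 ∧ suMat g *ᵥ e = L • e ∧ suMat g *ᵥ z = (L ^ q / L) • z ∧ suMat g *ᵥ f = (L ^ q)⁻¹ • f

variable (hF : Fintype.card F = q ^ 2) {e z f : Fin 3 → F}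
include hF

theorem ext3 (Φ : UFrame q e z f) {g g' : SU 3 F q} (he : suMat g *ᵥ e = suMat g' *ᵥ e)
    (hz : suMat g *ᵥ z = suMat g' *ᵥ z) (hf : suMat g *ᵥ f = suMat g' *ᵥ f) : g = g' :=
  suMat_ext fun x => by
    rw [Φ.dec hF x]
    simp only [mulVec_add, mulVec_smul, he, hz, hf]

theorem exists_of_frame (Φ : UFrame q e z f) {a b c : Fin 3 → F} (Ψ : UFrame q a b c)
    (D : Matrix (Fin 3) (Fin 3) F) (ha : a = D 0 0 • e + D 1 0 • z + D 2 0 • f)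
    (hb : b = D 0 1 • e + D 1 1 • z + D 2 1 • f) (hc : c = D 0 2 • e + D 1 2 • z + D 2 2 • f)
    (hD : D.det = 1) :
    ∃ g : SU 3 F q, suMat g *ᵥ e = a ∧ suMat g *ᵥ z = b ∧ suMat g *ᵥ f = c := by
  set M : Matrix (Fin 3) (Fin 3) F := vecMulVec a (fun j => f j ^ q) +
    vecMulVec b (fun j => z j ^ q) + vecMulVec c (fun j => e j ^ q) with hM
  have hMx : ∀ x, M *ᵥ x = hermForm 3 F q x f • a + hermForm 3 F q x z • b +
      hermForm 3 F q x e • c := by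
    intro x
    rw [hM, add_mulVec, add_mulVec, vecMulVec_pow_mulVec, vecMulVec_pow_mulVec, vecMulVec_pow_mulVec]
  have me : M *ᵥ e = a := by rw [hMx, Φ.hyp.2.2, Φ.ez hF, Φ.hyp.1]; simp
  have mz : M *ᵥ z = b := by rw [hMx, Φ.zf, Φ.zz, Φ.ze]; simp
  have mf : M *ᵥ f = c := by rw [hMx, Φ.hyp.2.1, Φ.fz hF, Φ.fe hF]; simp
  have hiso : IsIso q M := by
    intro x y
    conv_rhs => rw [Φ.dec hF x, Φ.dec hF y]
    rw [hMx, hMx]
    simp only [h_add_left, h_add_right hF, h_smul_left, h_smul_right hF, Φ.hyp.1, Φ.hyp.2.1,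
      Φ.hyp.2.2, Φ.fe hF, Φ.zz, Φ.ze, Φ.zf, Φ.ez hF, Φ.fz hF, Ψ.hyp.1, Ψ.hyp.2.1,
      Ψ.hyp.2.2, Ψ.fe hF, Ψ.zz, Ψ.ze, Ψ.zf, Ψ.ez hF, Ψ.fz hF]
  exact ⟨mkSU M hiso ((det_of_frame hF Φ (me.trans ha) (mz.trans hb) (mf.trans hc)).trans hD),
    me, mz, mf⟩

theorem exists_tor (Φ : UFrame q e z f) {L : F} (hL : L ≠ 0) :
    ∃ g : SU 3 F q, IsTor e z f g L := by
  have hLq : L ^ q ≠ 0 := pow_ne_zero _ hL
  have Ψ : UFrame q (L • e) ((L ^ q / L) • z) ((L ^ q)⁻¹ • f) := by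
    refine ⟨⟨?_, ?_, ?_⟩, ?_, ?_, ?_⟩ <;>
      simp only [h_smul_left, h_smul_right hF, Φ.hyp.1, Φ.hyp.2.1, Φ.hyp.2.2, Φ.zz, Φ.ze, Φ.zf,
        mul_zero, mul_one, inv_pow, div_pow, pow_q_pow_q hF]
    all_goals field_simp
  obtain ⟨g, h1, h2, h3⟩ := exists_of_frame hF Φ Ψ !![L, 0, 0; 0, L ^ q / L, 0; 0, 0, (L ^ q)⁻¹]
    (by simp) (by simp) (by simp) (by simp [Matrix.det_fin_three]; field_simp)
  exact ⟨g, hL, h1, h2, h3⟩

theorem exists_weyl (Φ : UFrame q e z f) :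
    ∃ g : SU 3 F q, suMat g *ᵥ e = f ∧ suMat g *ᵥ z = -z ∧ suMat g *ᵥ f = e := by
  have Ψ : UFrame q f (-z) e := by
    refine ⟨Φ.hyp.symm hF, ?_, ?_, ?_⟩ <;>
      simp only [← neg_one_smul F z, h_smul_left, h_smul_right hF, Φ.zz, Φ.ze, Φ.zf,
        neg_pow_q hF, one_pow] <;> ring
  exact exists_of_frame hF Φ Ψ !![0, 0, 1; 0, -1, 0; 1, 0, 0]
    (by simp) (by simp) (by simp) (by simp [Matrix.det_fin_three])

variable (Φ : UFrame q e z f)
include Φ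

theorem IsTor.unique {g g' : SU 3 F q} {L : F} (h : IsTor e z f g L) (h' : IsTor e z f g' L) :
    g = g' :=
  ext3 hF Φ (h.2.1.trans h'.2.1.symm) (h.2.2.1.trans h'.2.2.1.symm) (h.2.2.2.trans h'.2.2.2.symm)

theorem IsTor.mul {g g' : SU 3 F q} {L L' : F} (h : IsTor e z f g L) (h' : IsTor e z f g' L') :
    IsTor e z f (g * g') (L * L') := by
  refine ⟨mul_ne_zero h.1 h'.1, ?_, ?_, ?_⟩
  · rw [suMat_mulVec_mul, h'.2.1, mulVec_smul, h.2.1, smul_smul, mul_comm]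
  · rw [suMat_mulVec_mul, h'.2.2.1, mulVec_smul, h.2.2.1, smul_smul, mul_pow]
    congr 1; ring
  · rw [suMat_mulVec_mul, h'.2.2.2, mulVec_smul, h.2.2.2, smul_smul, mul_pow]
    congr 1; rw [mul_inv]; ring

theorem IsTor.one : IsTor e z f (1 : SU 3 F q) 1 :=
  ⟨one_ne_zero, by simp [suMat_one], by simp [suMat_one], by simp [suMat_one]⟩

theorem IsTor.pow {g : SU 3 F q} {L : F} (h : IsTor e z f g L) (k : ℕ) :
    IsTor e z f (g ^ k) (L ^ k) := by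
  induction k with
  | zero => simpa using IsTor.one hF Φ
  | succ k ih => rw [pow_succ, pow_succ]; exact ih.mul hF Φ h

theorem ei_images {g : SU 3 F q} {c γ : F} (h : IsEi e z g c γ) :
    suMat g *ᵥ e = e ∧ suMat g *ᵥ z = z - c ^ q • e ∧ suMat g *ᵥ f = γ • e + c • z + f := by
  refine ⟨?_, ?_, ?_⟩
  · rw [h, Φ.hyp.1, Φ.ez hF]; simp
  · rw [h, Φ.ze, Φ.zz]; simp; module
  · rw [h, Φ.fe hF, Φ.fz hF]; simp; module

theorem isEi_of_images {g : SU 3 F q} {c γ : F} (h1 : suMat g *ᵥ e = e)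
    (h2 : suMat g *ᵥ z = z - c ^ q • e) (h3 : suMat g *ᵥ f = γ • e + c • z + f) :
    IsEi e z g c γ := fun x => by
  conv_lhs => rw [Φ.dec hF x]
  simp only [mulVec_add, mulVec_smul, h1, h2, h3]
  conv_rhs => arg 1; arg 1; rw [Φ.dec hF x]
  module

theorem ei_unique {g g' : SU 3 F q} {c γ : F} (h : IsEi e z g c γ) (h' : IsEi e z g' c γ) :
    g = g' := suMat_ext fun x => by rw [h, h']

theorem ei_inj {g : SU 3 F q} {c γ c' γ' : F} (h : IsEi e z g c γ) (h' : IsEi e z g c' γ') :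
    c = c' ∧ γ = γ' := by
  have h1 := (ei_images hF Φ h).2.2.symm.trans (ei_images hF Φ h').2.2
  obtain ⟨a1, a2, a3⟩ := Φ.coords hF γ c 1
  obtain ⟨b1, b2, b3⟩ := Φ.coords hF γ' c' 1
  rw [one_smul] at a1 a2 a3 b1 b2 b3
  rw [h1] at a2 a3
  exact ⟨a2.symm.trans b2, a3.symm.trans b3⟩

theorem IsEi.one : IsEi e z (1 : SU 3 F q) 0 0 := fun x => by
  rw [suMat_one, one_mulVec, zero_pow (q_ne_zero hF)]; simp

/-- Conjugation by the torus. -/
theorem tor_conj {g u : SU 3 F q} {L c γ : F} (hg : IsTor e z f g L) (hu : IsEi e z u c γ) :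
    IsEi e z (g * u * g⁻¹) (c * Mc q L) (γ * (L * L ^ q)) := by
  have hL := hg.1
  have ht := hu.trace hF Φ
  have htr : γ * (L * L ^ q) + (γ * (L * L ^ q)) ^ q + c * Mc q L * (c * Mc q L) ^ q = 0 := by
    simp only [Mc, mul_pow, div_pow, pow_q_pow_q hF]
    field_simp
    linear_combination (L * L ^ q) * ht
  obtain ⟨u', hu'⟩ := exists_isEi hF Φ htr
  suffices g * u = u' * g by rw [this, mul_inv_cancel_right]; exact hu'
  obtain ⟨e1, e2, e3⟩ := ei_images hF Φ hu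
  obtain ⟨f1, f2, f3⟩ := ei_images hF Φ hu'
  obtain ⟨-, g1, g2, g3⟩ := hg
  refine ext3 hF Φ ?_ ?_ ?_
  · rw [suMat_mulVec_mul, suMat_mulVec_mul, e1, g1, mulVec_smul, f1]
  · rw [suMat_mulVec_mul, suMat_mulVec_mul, e2, g2, mulVec_sub, mulVec_smul, mulVec_smul, g1, g2,
      f2, smul_sub, smul_smul, smul_smul]
    congr 2
    simp only [Mc, mul_pow, div_pow, pow_q_pow_q hF]
    field_simp
  · rw [suMat_mulVec_mul, suMat_mulVec_mul, e3, g3, mulVec_add, mulVec_add, mulVec_smul,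
      mulVec_smul, mulVec_smul, g1, g2, g3, f3, smul_add, smul_add, smul_smul, smul_smul, smul_smul,
      smul_smul]
    have hLq : L ^ q ≠ 0 := pow_ne_zero _ hL
    congr 3
    · field_simp
    · simp only [Mc]; field_simp

/-- The decomposition of a conjugate of a root element by the Weyl element. -/
theorem bruhat {w u a s b : SU 3 F q} {c γ : F} (hw : suMat w *ᵥ e = f ∧ suMat w *ᵥ z = -z ∧
    suMat w *ᵥ f = e) (hγ : γ ≠ 0) (hu : IsEi e z u c γ) (ha : IsEi e z a (-(c / γ)) γ⁻¹)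
    (hs : IsTor e z f s γ) (hb : IsEi e z b (-(c / γ ^ q)) γ⁻¹) :
    w * u * w = a * w * s * b := by
  obtain ⟨w1, w2, w3⟩ := hw
  obtain ⟨u1, u2, u3⟩ := ei_images hF Φ hu
  obtain ⟨a1, a2, a3⟩ := ei_images hF Φ ha
  obtain ⟨b1, b2, b3⟩ := ei_images hF Φ hb
  obtain ⟨-, s1, s2, s3⟩ := hs
  have ht := hu.trace hF Φ
  have hγq : γ ^ q ≠ 0 := pow_ne_zero _ hγ
  refine ext3 hF Φ ?_ ?_ ?_ <;>
    simp only [suMat_mulVec_mul, w1, w2, w3, u1, u2, u3, a1, a2, a3, b1, b2, b3, s1, s2, s3,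
      mulVec_add, mulVec_sub, mulVec_neg, mulVec_smul, neg_pow_q hF, div_pow, pow_q_pow_q hF] <;>
    match_scalars <;> field_simp <;> grind

omit Φ in
theorem trace_param {c γ : F} (ht : γ + γ ^ q + c * c ^ q = 0) (hγ : γ ≠ 0) :
    γ⁻¹ + γ⁻¹ ^ q + -(c / γ) * (-(c / γ)) ^ q = 0 ∧
      γ⁻¹ + γ⁻¹ ^ q + -(c / γ ^ q) * (-(c / γ ^ q)) ^ q = 0 := by
  have hγq : γ ^ q ≠ 0 := pow_ne_zero _ hγ
  simp only [neg_pow_q hF, div_pow, inv_pow, pow_q_pow_q hF]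
  constructor <;> field_simp <;> linear_combination ht

end H69.SU3
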