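import Cfsg.Agent.H69.SU3Lift
import Cfsg.Agent.H40.PresN

/-!
A presentation of `SU₃(q)`, `q ≥ 3`, on three generators.
-/

set_option autoImplicit false
set_option linter.style.haveILetI false
set_option linter.unusedSectionVars false

namespace H69.SU3

open Matrix Polynomial Cfsg H50 H37 H40.CRW H40.PresN

universe u

variable {F : Type u} [Field F] [Fintype F] {q : ℕ} (hF : Fintype.card F = q ^ 2)
  {e z f : Fin 3 → F} {θ : F} {E₁ t w : SU 3 F q} {γ₁ : F}
include hF
variable (X : Gens q e z f θ E₁ t w γ₁)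
include X

theorem g₀_ne : θ ^ q / θ ≠ 1 := by
  intro h
  rw [div_eq_one_iff_eq X.geo.ne] at h
  refine omega_not_fixed hF X ?_
  simp only [Mc, div_pow, mul_pow, h]

variable {p : ℕ} [Fact p.Prime] [CharP F p] [Algebra (ZMod p) F] [Algebra (ZMod p) (Fix hF)]
include p

/-- Relators forcing the root element to centralise the centre. -/
def IsCommData (E : Finset (FreeGroup (Fin 3))) : Prop :=
  (∀ r ∈ E, ev X r = 1) ∧
  ∀ {G : Type} [Group G] (φ : FreeGroup (Fin 3) →* G) (x : Multiplicative (Fix hF) →* G),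
    x (.ofAdd 1) = φ z0W →
    (∀ a, φ hW * x (.ofAdd a) * (φ hW)⁻¹ = x (.ofAdd (nu hF X.geo * a))) →
    (∀ r ∈ E, φ r = 1) → ∀ a, Commute (φ uW) (x (.ofAdd a))

theorem comm_small (hdeg : (minpoly (ZMod p) (nu hF X.geo)).natDegree ≤ 3) :
    ∃ E : Finset (FreeGroup (Fin 3)), E.card ≤ 3 ∧ IsCommData hF X E := by
  classical
  haveI : Fintype (Fix hF) := Fintype.ofFinite _
  refine ⟨(Finset.range 3).image fun k =>
    uW * wZ (p := p) hF X (nu hF X.geo ^ k) * uW⁻¹ * (wZ (p := p) hF X (nu hF X.geo ^ k))⁻¹,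
    Finset.card_image_le.trans (by simp), ?_, ?_⟩
  · intro r hr
    obtain ⟨k, -, rfl⟩ := Finset.mem_image.1 hr
    simp only [map_mul, map_inv, ev_wZ hF X, ev_u hF X, (root_commute hF X X.root _).eq]
    group
  · intro G _ φ x hx1 hx2 hE a
    let S : AddSubgroup (Fix hF) :=
      { carrier := {b | Commute (φ uW) (x (.ofAdd b))}
        zero_mem' := by simp
        add_mem' := fun {b c} hb hc => by
          show Commute _ _
          rw [ofAdd_add, map_mul]; exact hb.mul_right hc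
        neg_mem' := fun {b} hb => by
          show Commute _ _
          rw [ofAdd_neg, map_inv]; exact hb.inv_right }
    have hgen : ∀ k < 3, nu hF X.geo ^ k ∈ S := by
      intro k hk
      have := hE _ (Finset.mem_image.2 ⟨k, Finset.mem_range.2 hk, rfl⟩)
      simp only [map_mul, map_inv, map_wZ (p := p) hF X φ hx1 hx2] at this
      show φ uW * x (.ofAdd (nu hF X.geo ^ k)) = x (.ofAdd (nu hF X.geo ^ k)) * φ uW
      rwa [mul_inv_eq_one, mul_inv_eq_iff_eq_mul] at this
    obtain ⟨P, hP⟩ := nu_surj (p := p) hF X.geo a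
    set M := minpoly (ZMod p) (nu hF X.geo)
    have hmon : M.Monic := minpoly.monic (IsIntegral.of_finite _ _)
    have ha : aeval (nu hF X.geo) (P %ₘ M) = a := by
      rw [modByMonic_eq_sub_mul_div (p := P) (q := M), map_sub, map_mul, minpoly.aeval, zero_mul,
        sub_zero, hP]
    have hd : (P %ₘ M).natDegree < 3 := by
      have h1 := natDegree_modByMonic_lt P hmon (minpoly.ne_one _ _)
      omega
    show a ∈ S
    rw [← ha, aeval_eq_sum_range' hd]
    refine sum_mem fun i hi => ?_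
    rw [← ZMod.natCast_zmod_val ((P %ₘ M).coeff i), Algebra.smul_def, map_natCast, ← nsmul_eq_mul]
    exact nsmul_mem (hgen i (Finset.mem_range.1 hi)) _

theorem comm_general (h5 : q ≠ 5) (h8 : q ≠ 8) :
    ∃ E : Finset (FreeGroup (Fin 3)), E.card ≤ 2 ∧ IsCommData hF X E := by
  classical
  have hq := X.three_le
  obtain ⟨P, hP⟩ := y_surj (p := p) hF X.geo (by omega) h5 h8 (θ ^ (q + 1))
  set rL : FreeGroup (Fin 3) := hW ^ (q + 1) * uW * (hW ^ (q + 1))⁻¹
  set rR : FreeGroup (Fin 3) := polyWord (hW ^ (q - 1)) uW P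
  have e2 := x_conj_pow (x := xBar hF X) (bar_conj hF X) (q + 1) 1
  have e3 := polyWord_eval (x := xBar hF X) (h := QuotientGroup.mk' _ (evN hF X hW) ^ (q - 1))
    (ω := Mc q θ ^ (q - 1)) (fun c => x_conj_pow (bar_conj hF X) (q - 1) c) P
  rw [hP] at e3
  rw [mul_one, ← Mc_pow, Mc_fixed hF (norm_fixed hF θ)] at e2
  rw [bar_one hF X] at e2 e3
  rw [← map_pow, ← map_inv, ← map_mul, ← map_mul] at e2
  rw [← map_pow, ← map_polyWord] at e3
  obtain ⟨γL, hL⟩ := of_xBar hF X e2
  obtain ⟨γR, hR⟩ := of_xBar hF X e3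
  have coe : ∀ r, ((evN hF X r : _) : SU 3 F q) = ev X (subW uW r) := fun r => by
    rw [← Subgroup.coe_subtype, ← MonoidHom.comp_apply, evN_coe, MonoidHom.comp_apply]
  rw [← map_pow, ← map_inv, ← map_mul, ← map_mul, coe,
    show subW uW rL = rL by simp [rL, subW]] at hL
  rw [← map_pow, ← map_polyWord, coe, show subW uW rR = rR by
    simp only [rR]; rw [map_polyWord]; simp [subW]] at hR
  obtain ⟨a, ha⟩ := bar_eq hF X hR hL
  refine ⟨{rL * (rR * wZ (p := p) hF X a.toAdd)⁻¹, uW * z0W * uW⁻¹ * z0W⁻¹}, Finset.card_le_two,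
    ?_, ?_⟩
  · intro r hr
    rw [Finset.mem_insert, Finset.mem_singleton] at hr
    rcases hr with rfl | rfl
    swap
    · simp only [map_mul, map_inv, ev_u hF X, ← xC_one hF X, (root_commute hF X X.root _).eq]
      group
    rw [map_mul (ev X) rL, map_inv, map_mul (ev X) rR, ev_wZ hF X, show xC hF X (.ofAdd a.toAdd) = _ from ha,
      mul_inv_cancel_left, mul_inv_cancel]
  · intro G _ φ x hx1 hx2 hE b
    have hrel := hE _ (Finset.mem_insert_self _ _)
    have hcz := hE _ (Finset.mem_insert_of_mem (Finset.mem_singleton_self _))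
    rw [map_mul φ rL, map_inv, mul_inv_eq_one, map_mul φ rR, map_wZ (p := p) hF X φ hx1 hx2] at hrel
    let S : AddSubgroup (Fix hF) :=
      { carrier := {b | Commute (φ uW) (x (.ofAdd b))}
        zero_mem' := by simp
        add_mem' := fun {b c} hb hc => by
          show Commute _ _
          rw [ofAdd_add, map_mul]; exact hb.mul_right hc
        neg_mem' := fun {b} hb => by
          show Commute _ _
          rw [ofAdd_neg, map_inv]; exact hb.inv_right }
    have hν := nu_pow_pred hF X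
    set ν := nu hF X.geo with hνdef
    have hν0 : ν ≠ 0 := fun h => by
      rw [h, zero_pow (by omega)] at hν
      exact zero_ne_one hν
    have hinv : ∀ b ∈ S, (ν ^ 2)⁻¹ * b ∈ S := by
      intro b hb
      have hτ : ∀ k : ℕ, Commute ((φ hW ^ (q - 1)) ^ k) (x (.ofAdd b)) := fun k => by
        refine Commute.pow_left ?_ k
        have := x_conj_pow hx2 (q - 1) b
        rw [hν, one_mul, mul_inv_eq_iff_eq_mul] at this
        exact this
      have hword : Commute (φ rL) (x (.ofAdd b)) := by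
        rw [hrel]
        refine Commute.mul_left ?_ ((Commute.all _ _).map x)
        show Commute (φ rR) _
        simp only [rR]
        rw [map_polyWord, map_pow]
        have : polyWord (φ hW ^ (q - 1)) (φ uW) P ∈ Subgroup.centralizer {x (.ofAdd b)} := by
          refine wordN_mem (fun k => ?_) _ _
          rw [Subgroup.mem_centralizer_singleton_iff]
          exact (((hτ k).mul_left hb).mul_left (hτ k).inv_left).eq
        exact Subgroup.mem_centralizer_singleton_iff.1 this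
      have h1 := hword.map (MulAut.conj ((φ hW ^ (q + 1))⁻¹)).toMonoidHom
      simp only [MulEquiv.coe_toMonoidHom, MulAut.conj_apply, inv_inv] at h1
      rw [x_conj_pow_neg hν0 hx2, show ν ^ (q + 1) = ν ^ 2 by
        rw [show q + 1 = q - 1 + 2 by omega, pow_add, hν, one_mul]] at h1
      show Commute (φ uW) _
      convert h1 using 1
      simp only [rL, map_mul, map_inv, map_pow]
      group
    have h1 : (1 : Fix hF) ∈ S := by
      show φ uW * x (.ofAdd 1) = x (.ofAdd 1) * φ uW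
      rw [hx1]
      simp only [map_mul, map_inv] at hcz
      rwa [mul_inv_eq_one, mul_inv_eq_iff_eq_mul] at hcz
    have hpow : ∀ k : ℕ, ((ν ^ 2)⁻¹) ^ k ∈ S := by
      intro k
      induction k with
      | zero => simpa using h1
      | succ k ih => rw [pow_succ']; exact hinv _ ih
    have htop : S = ⊤ := H40.BlockPres.sq_span S fun c => by
      rcases eq_or_ne c 0 with rfl | hc
      · rw [mul_zero]; exact S.zero_mem
      · obtain ⟨k, hk⟩ := nu_gen hF X.geo (a := ((c⁻¹ : Fix hF) : F)) (c⁻¹ : Fix hF).2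
          (fun h => inv_ne_zero hc (Subtype.ext h))
        have hk' : ν ^ k = c⁻¹ := Subtype.ext hk
        convert hpow k using 1
        rw [inv_pow, ← pow_mul, mul_comm 2 k, pow_mul, hk', inv_pow, inv_inv, pow_two]
    show b ∈ S
    rw [htop]
    trivial

end H69.SU3

namespace H69.SU3

open Matrix Polynomial Cfsg H50 H37 H40.CRW H40.PresN

universe v

variable {F : Type v} [Field F] [Fintype F] {q : ℕ} (hF : Fintype.card F = q ^ 2)
  {e z f : Fin 3 → F} {θ : F} {E₁ t w : SU 3 F q} {γ₁ : F}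
include hF
variable (X : Gens q e z f θ E₁ t w γ₁)
include X

theorem mem_of_fix {k : SU 3 F q} {L : F} (hk : suMat k *ᵥ e = L • e) :
    k ∈ rootGroup hF X.geo.frame ⊔ Subgroup.zpowers t := by
  have Φ := X.geo.frame
  obtain ⟨hL, -⟩ := fix_point_action hF Φ hk
  obtain ⟨s, hs⟩ := exists_torus hF X.geo hL
  set k' := s.1⁻¹ * k with hk'
  have h1 : suMat k' *ᵥ e = (1 : F) • e := by
    rw [hk', suMat_mulVec_mul, hk, ← hs.2.1, suMat_inv_mulVec, one_smul]
  obtain ⟨-, μ, κ, hz, hμ⟩ := fix_point_action hF Φ h1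
  rw [one_pow, mul_one] at hμ
  subst hμ
  rw [one_smul] at h1
  rw [one_smul, zero_smul, add_zero] at hz
  have h3 : hermForm 3 F q (suMat k' *ᵥ f) e = 1 := by
    conv_lhs => arg 5; rw [← h1]
    rw [suMat_h, Φ.fe hF]
  have hf := Φ.dec hF (suMat k' *ᵥ f)
  rw [h3, one_smul] at hf
  set γ := hermForm 3 F q (suMat k' *ᵥ f) f
  set c := hermForm 3 F q (suMat k' *ᵥ f) z
  have h4 := suMat_h k' z f
  rw [hz, hf, Φ.zf] at h4
  simp [h_add_left, h_add_right hF, h_smul_left, h_smul_right hF, Φ.hyp.1, Φ.hyp.2.2, Φ.zz, Φ.ze,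
    Φ.zf, Φ.ez hF] at h4
  have hm : k' ∈ rootGroup hF Φ := ⟨c, γ, isEi_of_images hF Φ h1 (by
    rw [hz, show κ = -c ^ q by linear_combination h4]; module) hf⟩
  rw [show k = s.1 * k' by rw [hk', mul_inv_cancel_left]]
  exact mul_mem (Subgroup.mem_sup_right s.2) (Subgroup.mem_sup_left hm)

theorem su3_eq_top (H : Subgroup (SU 3 F q)) (hQ : rootGroup hF X.geo.frame ≤ H) (ht : t ∈ H)
    (hw : w ∈ H) : H = ⊤ := by
  have Φ := X.geo.frame
  have hB : ∀ k : SU 3 F q, ∀ L : F, suMat k *ᵥ e = L • e → k ∈ H := fun k L hk =>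
    (sup_le hQ (Subgroup.zpowers_le.2 ht)) (mem_of_fix hF X hk)
  refine eq_top_iff.2 fun k _ => ?_
  set x := suMat k *ᵥ e with hx
  have hxx : hermForm 3 F q x x = 0 := by rw [hx, suMat_h]; exact Φ.hyp.1
  have hd := Φ.dec hF x
  set x₁ := hermForm 3 F q x f
  set x₂ := hermForm 3 F q x z
  set x₃ := hermForm 3 F q x e with hx₃
  have hiso : x₁ * x₃ ^ q + x₂ * x₂ ^ q + x₃ * x₁ ^ q = 0 := by
    rw [hd] at hxx
    simp [h_add_left, h_add_right hF, h_smul_left, h_smul_right hF, Φ.hyp.1, Φ.hyp.2.1, Φ.hyp.2.2,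
      Φ.fe hF, Φ.zz, Φ.ze, Φ.zf, Φ.ez hF, Φ.fz hF] at hxx
    linear_combination hxx
  rcases eq_or_ne x₃ 0 with h0 | h0
  · rw [h0, zero_pow (q_ne_zero hF)] at hiso
    simp [pow_q_eq_zero hF] at hiso
    rw [hiso, h0, zero_smul, zero_smul, add_zero, add_zero] at hd
    exact hB k _ (hx.symm.trans hd)
  · have h0q : x₃ ^ q ≠ 0 := pow_ne_zero _ h0
    obtain ⟨E, hE⟩ := exists_isEi hF Φ (c := x₂ / x₃) (γ := x₁ / x₃) (by
      rw [div_pow, div_pow]
      field_simp
      linear_combination hiso)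
    have h1 : suMat (E * w) *ᵥ (x₃ • e) = x := by
      have := hE.apply_comb hF Φ 0 0 x₃
      simp only [zero_smul, zero_add, mul_zero, sub_zero, div_mul_cancel₀ _ h0] at this
      rw [suMat_mulVec_mul, mulVec_smul, X.geo.weyl.1, this, ← hd]
    have h2 : suMat ((E * w)⁻¹ * k) *ᵥ e = x₃ • e := by
      rw [suMat_mulVec_mul, ← hx, ← h1, suMat_inv_mulVec]
    rw [← mul_inv_cancel_left (E * w) k]
    exact mul_mem (mul_mem (hQ ⟨_, _, hE⟩) hw) (hB _ _ h2)

variable {p : ℕ} [Fact p.Prime] [CharP F p] [Algebra (ZMod p) F] [Algebra (ZMod p) (Fix hF)]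
include p

theorem ev_surjective : Function.Surjective (ev X) := by
  rw [← MonoidHom.range_eq_top]
  refine su3_eq_top hF X _ (fun v hv => ?_) ⟨hW, ev_h hF X⟩ ⟨tW, ev_w hF X⟩
  obtain ⟨r, -, hr⟩ := exists_wQ (p := p) hF X ⟨v, hv⟩
  exact ⟨r, hr⟩

theorem hasPresN_of_data {L₁ L₂ E : Finset (FreeGroup (Fin 3))}
    (h₁ : IsBorelData.{v} (nu hF X.geo) L₁) (h₂ : IsBorelData.{v} (Mc q θ) L₂)
    (hE : IsCommData hF X E) :
    HasPresN (SU 3 F q) 3 (3 + L₁.card + E.card + L₂.card + 4) := by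
  classical
  have Φ := X.geo.frame
  have hq := X.three_le
  -- product relations
  obtain ⟨v₀, v₀W, a₀, b₀, k₀, hv₀, hv₀m, ha₀, hb₀, hv₀e, hr₀⟩ :=
    exists_relW (p := p) hF X (c := 0) (δ₀_ne hF X) ((z0_isEi hF X).trace hF Φ)
  have hsd : ∀ i : ℕ, ∃ (v : rootGroup hF Φ) (rv ra rb : FreeGroup (Fin 3)) (k : ℕ),
      IsEi e z v.1 (θ ^ i) (θ ^ i * (θ ^ i) ^ q / (θ ^ q / θ - 1)) ∧ rv ∈ PW ∧ ra ∈ PW ∧ rb ∈ PW ∧
      ev X rv = v.1 ∧ ev X (relW rv ra rb k) = 1 := by
    intro i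
    have hμ := sub_ne_zero.2 (g₀_ne hF X)
    have hN : θ ^ i * (θ ^ i) ^ q ≠ 0 :=
      mul_ne_zero (pow_ne_zero _ X.geo.ne) (pow_ne_zero _ (pow_ne_zero _ X.geo.ne))
    refine exists_relW (p := p) hF X (div_ne_zero hN hμ) ?_
    have hNq : (θ ^ i * (θ ^ i) ^ q) ^ q = θ ^ i * (θ ^ i) ^ q := by
      rw [mul_pow, pow_q_pow_q hF, mul_comm]
    set N := θ ^ i * (θ ^ i) ^ q
    set μ := θ ^ q / θ with hμdef
    have hn : μ * μ ^ q = 1 := by
      rw [hμdef, div_pow, pow_q_pow_q hF]; field_simp [X.geo.ne]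
    have h' : μ ^ q - 1 ≠ 0 := by
      rw [← one_pow (M := F) q, ← sub_pow_q hF, Ne, pow_q_eq_zero hF]; exact hμ
    rw [div_pow, hNq, sub_pow_q hF, one_pow]
    field_simp
    linear_combination N * hn
  choose sv srv sra srb sk hsv hsrv hsra hsrb hse hsr using hsd
  -- the lifts of the quotient relators
  have hL2 : ∀ r ∈ L₂, ∃ a : Fix hF, ev X (subW uW r) = xC hF X (.ofAdd a) := by
    intro r hr
    have h := h₂.1 ((QuotientGroup.mk' _).comp (evN hF X)) (xBar hF X) (bar_one hF X)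
      (bar_conj hF X) r hr
    rw [MonoidHom.comp_apply, QuotientGroup.mk'_apply, QuotientGroup.eq_one_iff] at h
    obtain ⟨a, ha⟩ := h
    refine ⟨a.toAdd, ?_⟩
    rw [← MonoidHom.comp_apply, ← evN_coe]
    exact ha.symm
  choose aL haL using hL2
  let R0 : Finset (FreeGroup (Fin 3)) := {hW ^ (q ^ 2 - 1), tW * tW, tW * hW * tW * hW ^ q}
  let R1 : Finset (FreeGroup (Fin 3)) := L₁.image (subW z0W)
  let R2 : Finset (FreeGroup (Fin 3)) :=
    L₂.attach.image fun r => subW uW r.1 * (wZ (p := p) hF X (aL r.1 r.2))⁻¹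
  let R3 : Finset (FreeGroup (Fin 3)) := insert (relW v₀W a₀ b₀ k₀)
    ((Finset.range 3).image fun i => relW (srv i) (sra i) (srb i) (sk i))
  let rels : Finset (FreeGroup (Fin 3)) := R0 ∪ R1 ∪ E ∪ R2 ∪ R3
  have hR3 : R3.card ≤ 4 :=
    (Finset.card_insert_le _ _).trans (Nat.succ_le_succ (Finset.card_image_le.trans (by simp)))
  refine ⟨rels, ?_, ?_⟩
  · have h0 : R0.card ≤ 3 := Finset.card_le_three
    have h1 : R1.card ≤ L₁.card := Finset.card_image_le
    have h2 : R2.card ≤ L₂.card := Finset.card_image_le.trans (by simp)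
    have := Finset.card_union_le (R0 ∪ R1 ∪ E ∪ R2) R3
    have := Finset.card_union_le (R0 ∪ R1 ∪ E) R2
    have := Finset.card_union_le (R0 ∪ R1) E
    have := Finset.card_union_le R0 R1
    show (R0 ∪ R1 ∪ E ∪ R2 ∪ R3).card ≤ _
    omega
  -- soundness
  have hord : ev X (hW ^ (q ^ 2 - 1)) = 1 := by
    rw [map_pow, ev_h hF X, tor_pow_eq hF X]
  have hwt : ev X (tW * hW * tW * hW ^ q) = 1 := by
    obtain ⟨w1, w2, w3⟩ := X.geo.weyl
    obtain ⟨-, t1, t2, t3⟩ := X.geo.tor
    obtain ⟨-, p1, p2, p3⟩ := X.geo.tor.pow hF Φ q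
    simp only [map_mul, map_pow, ev_h hF X, ev_w hF X]
    refine ext3 hF Φ ?_ ?_ ?_ <;>
      simp only [suMat_mulVec_mul, suMat_one, one_mulVec, w1, w2, w3, t1, t2, t3, p1, p2, p3,
        mulVec_smul, mulVec_neg, smul_smul, smul_neg, neg_neg, pow_q_pow_q hF]
    · rw [mul_inv_cancel₀ (pow_ne_zero _ X.geo.ne), one_smul]
    · convert one_smul F z using 2
      field_simp [X.geo.ne]
    · rw [inv_mul_cancel₀ X.geo.ne, one_smul]
  have hsound : ∀ r ∈ (↑rels : Set (FreeGroup (Fin 3))), FreeGroup.lift ![E₁, t, w] r = 1 := by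
    intro r hr
    show ev X r = 1
    simp only [rels, R0, R1, R2, R3, Finset.coe_union, Set.mem_union, Finset.mem_coe,
      Finset.mem_insert, Finset.mem_singleton, Finset.mem_image, Finset.mem_attach, true_and,
      Subtype.exists] at hr
    rcases hr with ((((rfl | rfl | rfl) | ⟨r₀, hr₀, rfl⟩) | hr) | ⟨r₀, hr₀, rfl⟩) | (rfl | ⟨i, -, rfl⟩)
    · exact hord
    · rw [map_mul, ev_w hF X]; exact (model hF X.geo).ww
    · exact hwt
    · exact h₁.1 ((ev X).comp (subW z0W)) (xC hF X) (by simp [xC_one hF X, subW])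
        (fun a => by simpa [subW, ev] using xC_conj hF X a) r₀ hr₀
    · exact hE.1 r hr
    · rw [map_mul, map_inv, haL _ hr₀, ev_wZ hF X, mul_inv_cancel]
    · exact hr₀
    · exact hsr i
  let G := PresentedGroup (↑rels : Set (FreeGroup (Fin 3)))
  let φ : FreeGroup (Fin 3) →* G := PresentedGroup.mk _
  let π : G →* SU 3 F q := PresentedGroup.toGroup hsound
  have hcomp : π.comp φ = ev X := FreeGroup.ext_hom _ _ fun i => by
    rw [MonoidHom.comp_apply]
    exact (PresentedGroup.toGroup.of hsound).trans (by simp [ev])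
  have hrel : ∀ r ∈ rels, φ r = 1 := fun r hr => PresentedGroup.one_of_mem (Finset.mem_coe.2 hr)
  have hmem : ∀ r, (r ∈ R0 ∨ r ∈ R1 ∨ r ∈ E ∨ r ∈ R2 ∨ r ∈ R3) → φ r = 1 := fun r hr =>
    hrel r (by simp only [rels, Finset.mem_union]; tauto)
  obtain ⟨x, hx1, hx2⟩ := h₁.2 (φ.comp (subW z0W)) fun r hr =>
    hmem _ (Or.inr (Or.inl (Finset.mem_image_of_mem _ hr)))
  simp only [MonoidHom.comp_apply, subW, FreeGroup.lift_apply_of, Matrix.cons_val_zero,
    Matrix.cons_val_one] at hx1 hx2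
  have hxu := hE.2 φ x hx1 hx2 fun r hr => hmem r (Or.inr (Or.inr (Or.inl hr)))
  haveI : Finite x.range := Finite.of_surjective _ x.rangeRestrict_surjective
  have hu : φ uW ∈ Subgroup.normalizer ((x.range : Subgroup G) : Set G) :=
    mem_normalizer_of_finite x.range fun n ⟨a, ha⟩ => by
      have h := hxu a.toAdd
      rw [ofAdd_toAdd, ha] at h
      rw [h.eq, mul_inv_cancel_right, ← ha]
      exact ⟨a, rfl⟩
  have hh : φ hW ∈ Subgroup.normalizer ((x.range : Subgroup G) : Set G) :=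
    mem_normalizer_of_finite x.range fun n ⟨a, ha⟩ => by
      rw [← ha, ← ofAdd_toAdd a, hx2]
      exact ⟨_, rfl⟩
  let B := Subgroup.normalizer ((x.range : Subgroup G) : Set G)
  let φB : FreeGroup (Fin 3) →* B := FreeGroup.lift ![⟨_, hu⟩, ⟨_, hh⟩, 1]
  have hφB : (Subgroup.subtype B).comp φB = φ.comp (subW uW) := by
    rw [map_subW]
    refine FreeGroup.ext_hom _ _ fun i => ?_
    fin_cases i <;> simp [φB]
  obtain ⟨xb, hb1, hb2⟩ := h₂.2 ((QuotientGroup.mk' (x.range.subgroupOf B)).comp φB) fun r hr => by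
    rw [MonoidHom.comp_apply, QuotientGroup.mk'_apply, QuotientGroup.eq_one_iff]
    have h := hmem _ (Or.inr (Or.inr (Or.inr (Or.inl
      (Finset.mem_image.2 ⟨⟨r, hr⟩, Finset.mem_attach _ _, rfl⟩)))))
    rw [map_mul, map_inv, mul_inv_eq_one, map_wZ (p := p) hF X φ hx1 hx2, ← MonoidHom.comp_apply,
      ← hφB] at h
    exact ⟨_, h.symm⟩
  simp only [MonoidHom.comp_apply, φB, FreeGroup.lift_apply_of, Matrix.cons_val_zero,
    Matrix.cons_val_one] at hb1 hb2
  have S : Sat hF X φ π := by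
    refine ⟨hcomp, ?_, ?_, ?_, ?_, x, hx1, hx2, hxu, x.range, rfl, hu, hh, xb, hb1, hb2⟩
    · rw [← map_pow]; exact hmem _ (Or.inl (by simp [R0]))
    · rw [← map_mul]; exact hmem _ (Or.inl (by simp [R0]))
    · rw [eq_inv_iff_mul_eq_one, ← map_pow, ← map_mul, ← map_mul, ← map_mul]
      exact hmem _ (Or.inl (by simp [R0]))
    · rw [eq_top_iff, ← PresentedGroup.closure_range_of (↑rels : Set (FreeGroup (Fin 3))),
        Subgroup.closure_le]
      rintro _ ⟨i, rfl⟩
      refine Subgroup.subset_closure ?_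
      fin_cases i <;> simp [φ] <;> tauto
  have hinj : Function.Injective π := by
    refine injective (p := p) hF X S ?_ fun i hi => ?_
    · exact ⟨v₀W, a₀, b₀, k₀, _, δ₀_ne hF X, hv₀m, ha₀, hb₀, by rw [hv₀e]; exact hv₀, hr₀,
        hmem _ (Or.inr (Or.inr (Or.inr (Or.inr (Finset.mem_insert_self _ _)))))⟩
    · exact ⟨srv i, sra i, srb i, sk i, hsrv i, hsra i, hsrb i, by rw [hse]; exact hsv i, hsr i,
        hmem _ (Or.inr (Or.inr (Or.inr (Or.inr (Finset.mem_insert_of_mem
          (Finset.mem_image.2 ⟨i, Finset.mem_range.2 hi, rfl⟩))))))⟩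
  have hsurj : Function.Surjective π := fun y => by
    obtain ⟨r, hr⟩ := ev_surjective (p := p) hF X y
    exact ⟨φ r, by rw [← MonoidHom.comp_apply, hcomp, hr]⟩
  exact ⟨MulEquiv.ofBijective π ⟨hinj, hsurj⟩⟩

end H69.SU3

namespace H69.SU3

open Matrix Polynomial Cfsg H50 H37 H40.CRW H40.PresN

variable {F : Type*} [Field F] [Fintype F] {q : ℕ}

/-- `SU₃(q)` on three generators. -/
theorem hasPresN_SU3 (hF : Fintype.card F = q ^ 2) (hq : 3 ≤ q) :
    HasPresN (SU 3 F q) 3 21 ∧ (q ≠ 5 → q ≠ 8 → HasPresN (SU 3 F q) 3 17) := by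
  classical
  obtain ⟨e, z, f, θ, E₁, t, w, γ₁, X⟩ := exists_gens hF hq
  obtain ⟨p, m, hp, hm, hc, hqp⟩ := exists_prime_pow hF
  haveI : Fact p.Prime := ⟨hp⟩
  letI : Algebra (ZMod p) F := ZMod.algebra F p
  haveI : CharP (Fix hF) p := (RingHom.charP_iff (Fix hF).subtype Subtype.coe_injective p).2 hc
  letI : Algebra (ZMod p) (Fix hF) := ZMod.algebra (Fix hF) p
  haveI : Fintype (Fix hF) := Fintype.ofFinite _
  obtain ⟨L₁, hL₁, h₁⟩ := centre_data (p := p) hF X.geo hq
  obtain ⟨L₂, hL₂, h₂, hL₂'⟩ := quot_data (p := p) hF X.geo hq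
  by_cases hs : q = 5 ∨ q = 8
  · have hdeg : (minpoly (ZMod p) (nu hF X.geo)).natDegree ≤ 3 := by
      refine le_trans (minpoly.natDegree_le _) ?_
      letI : Module (ZMod p) (Fix hF) := Algebra.toModule
      have h := Module.card_eq_pow_finrank (K := ZMod p) (V := Fix hF)
      rw [← Nat.card_eq_fintype_card, card_Fix hF, ZMod.card] at h
      have hle : 2 ^ Module.finrank (ZMod p) (Fix hF) ≤ 2 ^ 3 := by
        refine le_trans (Nat.pow_le_pow_left hp.two_le _) ?_
        rw [← h]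
        rcases hs with rfl | rfl <;> norm_num
      exact (Nat.pow_le_pow_iff_right Nat.one_lt_two).1 hle
    obtain ⟨E, hEc, hE⟩ := comm_small (p := p) hF X hdeg
    exact ⟨(hasPresN_of_data hF X h₁ h₂ hE).mono (by omega), fun a b => by tauto⟩
  · push Not at hs
    obtain ⟨E, hEc, hE⟩ := comm_general (p := p) hF X hs.1 hs.2
    have := hL₂' hs
    exact ⟨(hasPresN_of_data hF X h₁ h₂ hE).mono (by omega),
      fun _ _ => (hasPresN_of_data hF X h₁ h₂ hE).mono (by omega)⟩

end H69.SU3
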