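import Cfsg.Agent.H69.SU3Data

/-!
Words for the elements of the root group of `SU₃(q)` in a root element and the torus generator.
-/

set_option autoImplicit false
set_option linter.style.haveILetI false
set_option linter.unusedSectionVars false

namespace H69.SU3

open Matrix Polynomial Cfsg H50 H37 H40.CRW

universe u

theorem mem_normalizer_of_finite {G : Type*} [Group G] (N : Subgroup G) [Finite N] {k : G}
    (h : ∀ n ∈ N, k * n * k⁻¹ ∈ N) : k ∈ Subgroup.normalizer (N : Set G) := by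
  rw [Subgroup.mem_normalizer_iff]
  intro n
  refine ⟨h n, fun hn => ?_⟩
  let φ : N → N := fun m => ⟨k * m.1 * k⁻¹, h m.1 m.2⟩
  have hinj : Function.Injective φ := fun a b e => Subtype.ext
    (mul_left_cancel (mul_right_cancel (congrArg Subtype.val e)))
  obtain ⟨m, hm⟩ := Finite.surjective_of_injective hinj ⟨_, hn⟩
  have e := congrArg Subtype.val hm
  rw [← mul_left_cancel (mul_right_cancel e)]
  exact m.2

/-- Substitution of the first two generators. -/
def subW (r : FreeGroup (Fin 3)) : FreeGroup (Fin 3) →* FreeGroup (Fin 3) :=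
  FreeGroup.lift ![r, hW, 1]

theorem map_subW {H : Type*} [Group H] (φ : FreeGroup (Fin 3) →* H) (r : FreeGroup (Fin 3)) :
    φ.comp (subW r) = FreeGroup.lift ![φ r, φ hW, 1] := by
  refine FreeGroup.ext_hom _ _ fun i => ?_
  fin_cases i <;> simp [subW]

/-- The word for a central element. -/
def z0W : FreeGroup (Fin 3) := uW * (hW * uW * hW⁻¹) * uW⁻¹ * (hW * uW * hW⁻¹)⁻¹

/-- The words for the root group. -/
def PW : Subgroup (FreeGroup (Fin 3)) :=
  Subgroup.closure (Set.range fun k : ℕ => hW ^ k * uW * (hW ^ k)⁻¹)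

theorem conjW_mem (k : ℕ) : hW ^ k * uW * (hW ^ k)⁻¹ ∈ PW := Subgroup.subset_closure ⟨k, rfl⟩

theorem PW_conj {r : FreeGroup (Fin 3)} (hr : r ∈ PW) : hW * r * hW⁻¹ ∈ PW := by
  have hle : PW ≤ PW.comap (MulAut.conj hW).toMonoidHom := by
    refine (Subgroup.closure_le (PW.comap (MulAut.conj hW).toMonoidHom)).2 ?_
    rintro _ ⟨k, rfl⟩
    show hW * (hW ^ k * uW * (hW ^ k)⁻¹) * hW⁻¹ ∈ PW
    rw [show hW * (hW ^ k * uW * (hW ^ k)⁻¹) * hW⁻¹ = hW ^ (k + 1) * uW * (hW ^ (k + 1))⁻¹ by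
      rw [pow_succ']; group]
    exact conjW_mem _
  exact hle hr

theorem z0W_mem : z0W ∈ PW := by
  have h0 : uW ∈ PW := by simpa using conjW_mem 0
  have h1 : hW * uW * hW⁻¹ ∈ PW := PW_conj h0
  exact mul_mem (mul_mem (mul_mem h0 h1) (inv_mem h0)) (inv_mem h1)

variable {F : Type u} [Field F] [Fintype F] {q : ℕ}

/-- A root element with the frame. -/
structure Gens (q : ℕ) (e z f : Fin 3 → F) (θ : F) (E₁ t w : SU 3 F q) (γ₁ : F) : Prop where
  geo : Geo q e z f θ t w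
  root : IsEi e z E₁ 1 γ₁
  three_le : 3 ≤ q

theorem exists_gens (hF : Fintype.card F = q ^ 2) (hq : 3 ≤ q) :
    ∃ (e z f : Fin 3 → F) (θ : F) (E₁ t w : SU 3 F q) (γ₁ : F), Gens q e z f θ E₁ t w γ₁ := by
  obtain ⟨e, z, f, θ, t, w, g⟩ := exists_geo hF
  obtain ⟨γ, hγ⟩ := exists_trace_eq hF (c := (-1 : F)) (by rw [neg_pow_q hF, one_pow])
  obtain ⟨E, hE⟩ := exists_isEi hF g.frame (c := (1 : F)) (γ := γ) (by
    rw [one_pow, one_mul]; linear_combination hγ)
  exact ⟨e, z, f, θ, E, t, w, γ, g, hE, hq⟩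

variable (hF : Fintype.card F = q ^ 2) {e z f : Fin 3 → F} {θ : F} {E₁ t w : SU 3 F q} {γ₁ : F}
include hF

variable (X : Gens q e z f θ E₁ t w γ₁)
include X

/-- The interpretation of the generators. -/
def ev (_X : Gens q e z f θ E₁ t w γ₁) : FreeGroup (Fin 3) →* SU 3 F q :=
  FreeGroup.lift ![E₁, t, w]

theorem ev_u : ev X uW = E₁ := by simp [ev]

theorem ev_h : ev X hW = t := by simp [ev]

theorem ev_w : ev X tW = w := by simp [ev]

theorem ev_conj (k : ℕ) : ∃ γ, IsEi e z (ev X (hW ^ k * uW * (hW ^ k)⁻¹)) (Mc q θ ^ k) γ := by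
  rw [map_mul, map_mul, map_inv, map_pow, ev_u hF X, ev_h hF X, ← Mc_pow]
  have := tor_conj hF X.geo.frame (X.geo.tor.pow hF X.geo.frame k) X.root
  rw [one_mul] at this
  exact ⟨_, this⟩

theorem ev_PW {r : FreeGroup (Fin 3)} (hr : r ∈ PW) :
    ev X r ∈ rootGroup hF X.geo.frame := by
  have hle : PW ≤ (rootGroup hF X.geo.frame).comap (ev X) := by
    refine (Subgroup.closure_le ((rootGroup hF X.geo.frame).comap (ev X))).2 ?_
    rintro _ ⟨k, rfl⟩
    obtain ⟨γ, hγ⟩ := ev_conj hF X k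
    exact ⟨_, γ, hγ⟩
  exact hle hr

theorem omega_not_fixed : Mc q θ ^ q ≠ Mc q θ := by
  intro h
  have hq := X.three_le
  have h0 : Mc q θ ≠ 0 := by simp [Mc, X.geo.ne]
  have h1 : Mc q θ ^ (q - 1) = 1 := by
    refine mul_right_cancel₀ h0 ?_
    rw [one_mul, ← pow_succ, Nat.sub_add_cancel (by omega), h]
  have h2 : θ ^ (3 * (q - 1)) = 1 := by
    rw [pow_mul, ← Mc_cube hF X.geo.ne, Mc_pow, ← pow_mul, mul_comm, pow_mul, h1, one_pow]
  have h3 := Nat.le_of_dvd (by omega) ((order_theta hF X.geo).1 h2)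
  have : 3 * q ≤ q ^ 2 := by rw [pow_two]; exact Nat.mul_le_mul_right q hq
  omega

theorem exists_centre : ∃ δ : F, δ ≠ 0 ∧ IsEi e z (ev X z0W) 0 δ := by
  have Φ := X.geo.frame
  have h₁ : IsEi e z (ev X uW) 1 γ₁ := by rw [ev_u hF X]; exact X.root
  obtain ⟨γ₂, h₂'⟩ := ev_conj hF X 1
  have h₂ : IsEi e z (ev X (hW * uW * hW⁻¹)) (Mc q θ) γ₂ := by simpa using h₂'
  have h := ((h₁.mul hF Φ h₂).mul hF Φ (h₁.inv hF Φ)).mul hF Φ (h₂.inv hF Φ)
  have t1 := h₁.trace hF Φ
  have t2 := h₂.trace hF Φ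
  refine ⟨Mc q θ ^ q - Mc q θ, sub_ne_zero.2 (omega_not_fixed hF X), ?_⟩
  have ec : 1 + Mc q θ + -1 + -Mc q θ = 0 := by ring
  have eg : γ₁ + γ₂ - (1 : F) ^ q * Mc q θ + γ₁ ^ q - (1 + Mc q θ) ^ q * -1 + γ₂ ^ q -
      (1 + Mc q θ + -1) ^ q * -Mc q θ = Mc q θ ^ q - Mc q θ := by
    rw [show (1 : F) + Mc q θ + -1 = Mc q θ by ring, add_pow_q hF]
    simp only [one_pow, mul_one] at t1 ⊢
    linear_combination t1 + t2
  rw [ec, eg] at h
  simpa only [z0W, map_mul, map_inv] using h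

/-- The parameter of the central generator. -/
noncomputable def δ₀ : F := (exists_centre hF X).choose

theorem δ₀_ne : δ₀ hF X ≠ 0 := (exists_centre hF X).choose_spec.1

theorem z0_isEi : IsEi e z (ev X z0W) 0 (δ₀ hF X) := (exists_centre hF X).choose_spec.2

theorem centre_trace (a : Fix hF) :
    δ₀ hF X * a.1 + (δ₀ hF X * a.1) ^ q + 0 * (0 : F) ^ q = 0 := by
  have h := (z0_isEi hF X).trace hF X.geo.frame
  rw [mul_pow, (mem_fix hF).1 a.2]
  linear_combination a.1 * h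

theorem exists_xc (a : Fix hF) : ∃ v : SU 3 F q, IsEi e z v 0 (δ₀ hF X * a.1) :=
  exists_isEi hF X.geo.frame (centre_trace hF X a)

/-- The centre of the root group. -/
noncomputable def xC : Multiplicative (Fix hF) →* SU 3 F q :=
  MonoidHom.mk' (fun a => (exists_xc hF X a.toAdd).choose) fun a b => by
    refine ei_unique hF X.geo.frame (exists_xc hF X (a * b).toAdd).choose_spec ?_
    have := (exists_xc hF X a.toAdd).choose_spec.mul hF X.geo.frame
      (exists_xc hF X b.toAdd).choose_spec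
    rw [add_zero, mul_zero, sub_zero, ← mul_add] at this
    exact this

theorem xC_isEi (a : Fix hF) : IsEi e z (xC hF X (.ofAdd a)) 0 (δ₀ hF X * a.1) :=
  (exists_xc hF X a).choose_spec

theorem xC_one : xC hF X (.ofAdd 1) = ev X z0W :=
  ei_unique hF X.geo.frame (xC_isEi hF X 1) (by simpa using z0_isEi hF X)

theorem xC_eq {v : SU 3 F q} {δ : F} (hv : IsEi e z v 0 δ) :
    ∃ a, v = xC hF X (.ofAdd a) := by
  have h := hv.trace hF X.geo.frame
  have h' := (z0_isEi hF X).trace hF X.geo.frame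
  refine ⟨⟨δ / δ₀ hF X, (mem_fix hF).2 ?_⟩, ei_unique hF X.geo.frame hv ?_⟩
  · rw [div_pow, show δ ^ q = -δ by linear_combination h,
      show δ₀ hF X ^ q = -δ₀ hF X by linear_combination h', neg_div_neg_eq]
  · have := xC_isEi hF X ⟨δ / δ₀ hF X, (mem_fix hF).2 (by
      rw [div_pow, show δ ^ q = -δ by linear_combination h,
        show δ₀ hF X ^ q = -δ₀ hF X by linear_combination h', neg_div_neg_eq])⟩
    rwa [mul_div_cancel₀ _ (δ₀_ne hF X)] at this

theorem xC_conj (a : Fix hF) :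
    t * xC hF X (.ofAdd a) * t⁻¹ = xC hF X (.ofAdd (nu hF X.geo * a)) := by
  refine ei_unique hF X.geo.frame ?_ (xC_isEi hF X _)
  have := tor_conj hF X.geo.frame X.geo.tor (xC_isEi hF X a)
  rw [zero_mul] at this
  rw [show δ₀ hF X * ((nu hF X.geo * a : Fix hF) : F) = δ₀ hF X * a.1 * (θ * θ ^ q) by
    show δ₀ hF X * (θ ^ (q + 1) * a.1) = _
    ring]
  exact this

theorem nu_pow_pred : nu hF X.geo ^ (q - 1) = 1 := Subtype.ext (by
  show (θ ^ (q + 1)) ^ (q - 1) = 1
  rw [← pow_mul, mul_comm, ← sq_pred hF X.geo, order_theta hF X.geo])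

/-- The centre of the root group as a subgroup. -/
noncomputable def NC : Subgroup (SU 3 F q) := (xC hF X).range

theorem normalizes {k : SU 3 F q} (h : ∀ a, ∃ b, k * xC hF X (.ofAdd a) * k⁻¹ = xC hF X (.ofAdd b)) :
    k ∈ Subgroup.normalizer (NC hF X : Set (SU 3 F q)) :=
  mem_normalizer_of_finite (NC hF X) fun n ⟨a, ha⟩ => by
    obtain ⟨b, hb⟩ := h a.toAdd
    rw [← ha]
    exact ⟨.ofAdd b, hb.symm⟩

theorem root_commute {v : SU 3 F q} {c γ : F} (hv : IsEi e z v c γ) (a : Fix hF) :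
    Commute v (xC hF X (.ofAdd a)) := by
  have Φ := X.geo.frame
  have h1 := hv.mul hF Φ (xC_isEi hF X a)
  have h2 := (xC_isEi hF X a).mul hF Φ hv
  rw [add_zero, mul_zero, sub_zero] at h1
  rw [zero_add, zero_pow (q_ne_zero hF), zero_mul, sub_zero, add_comm] at h2
  exact ei_unique hF Φ h1 h2

theorem root_normalizes {v : SU 3 F q} (hv : v ∈ rootGroup hF X.geo.frame) :
    v ∈ Subgroup.normalizer (NC hF X : Set (SU 3 F q)) :=
  normalizes hF X fun a => by
    obtain ⟨c, γ, h⟩ := hv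
    exact ⟨a, by rw [(root_commute hF X h a).eq, mul_inv_cancel_right]⟩

theorem tor_normalizes : t ∈ Subgroup.normalizer (NC hF X : Set (SU 3 F q)) :=
  normalizes hF X fun a => ⟨_, xC_conj hF X a⟩

/-- The normaliser of the centre modulo the centre. -/
abbrev Bar := Subgroup.normalizer (NC hF X : Set (SU 3 F q)) ⧸
  (NC hF X).subgroupOf (Subgroup.normalizer (NC hF X : Set (SU 3 F q)))

theorem exists_root_c (c : F) : ∃ (v : SU 3 F q) (γ : F), IsEi e z v c γ := by
  obtain ⟨γ, hγ⟩ := exists_trace_eq hF (c := -(c * c ^ q)) (by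
    rw [neg_pow_q hF, mul_pow, pow_q_pow_q hF, mul_comm])
  obtain ⟨v, hv⟩ := exists_isEi hF X.geo.frame (c := c) (γ := γ) (by linear_combination hγ)
  exact ⟨v, γ, hv⟩

theorem bar_eq {v v' : SU 3 F q} {c γ γ' : F} (hv : IsEi e z v c γ) (hv' : IsEi e z v' c γ') :
    v⁻¹ * v' ∈ NC hF X := by
  have h := (hv.inv hF X.geo.frame).mul hF X.geo.frame hv'
  rw [neg_add_cancel] at h
  obtain ⟨a, ha⟩ := xC_eq hF X h
  exact ⟨.ofAdd a, ha.symm⟩

/-- The additive group modulo the centre. -/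
noncomputable def xBar : Multiplicative F →* Bar hF X :=
  MonoidHom.mk' (fun c => QuotientGroup.mk' _
    ⟨(exists_root_c hF X c.toAdd).choose,
      root_normalizes hF X ⟨_, _, (exists_root_c hF X c.toAdd).choose_spec.choose_spec⟩⟩)
    fun a b => by
      rw [← map_mul, QuotientGroup.mk'_eq_mk']
      refine ⟨_, ?_, mul_inv_cancel_left _ _⟩
      exact bar_eq hF X (exists_root_c hF X (a * b).toAdd).choose_spec.choose_spec
        ((exists_root_c hF X a.toAdd).choose_spec.choose_spec.mul hF X.geo.frame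
          (exists_root_c hF X b.toAdd).choose_spec.choose_spec)

theorem xBar_of {v : SU 3 F q} {c γ : F} (hv : IsEi e z v c γ) :
    xBar hF X (.ofAdd c) = QuotientGroup.mk' _ ⟨v, root_normalizes hF X ⟨c, γ, hv⟩⟩ := by
  show QuotientGroup.mk' _ _ = _
  rw [QuotientGroup.mk'_eq_mk']
  exact ⟨_, bar_eq hF X (exists_root_c hF X c).choose_spec.choose_spec hv, mul_inv_cancel_left _ _⟩

theorem of_xBar {v : Subgroup.normalizer (NC hF X : Set (SU 3 F q))} {c : F}
    (h : QuotientGroup.mk' _ v = xBar hF X (.ofAdd c)) : ∃ γ, IsEi e z v.1 c γ := by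
  obtain ⟨v₀, γ, hv₀⟩ := exists_root_c hF X c
  rw [xBar_of hF X hv₀, eq_comm, QuotientGroup.mk'_eq_mk'] at h
  obtain ⟨n, ⟨a, ha⟩, hn⟩ := h
  have hn' : v₀ * (n : SU 3 F q) = v.1 := congrArg Subtype.val hn
  rw [← hn', ← show _ = (n : SU 3 F q) from ha]
  have := hv₀.mul hF X.geo.frame (xC_isEi hF X a.toAdd)
  rw [add_zero] at this
  exact ⟨_, this⟩

/-- The interpretation in the normaliser. -/
noncomputable def evN : FreeGroup (Fin 3) →* Subgroup.normalizer (NC hF X : Set (SU 3 F q)) :=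
  FreeGroup.lift ![⟨E₁, root_normalizes hF X ⟨1, γ₁, X.root⟩⟩, ⟨t, tor_normalizes hF X⟩, 1]

theorem evN_coe : (Subgroup.subtype _).comp (evN hF X) = (ev X).comp (subW uW) := by
  rw [map_subW]
  refine FreeGroup.ext_hom _ _ fun i => ?_
  fin_cases i <;> simp [evN, ev]

theorem bar_conj (c : F) :
    QuotientGroup.mk' _ (evN hF X hW) * xBar hF X (.ofAdd c) *
      (QuotientGroup.mk' _ (evN hF X hW))⁻¹ = xBar hF X (.ofAdd (Mc q θ * c)) := by
  obtain ⟨v, γ, hv⟩ := exists_root_c hF X c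
  have hv' := tor_conj hF X.geo.frame X.geo.tor hv
  rw [xBar_of hF X hv, mul_comm (Mc q θ) c, xBar_of hF X hv', ← map_inv, ← map_mul, ← map_mul]
  congr 1
  exact Subtype.ext (by simp [evN])

theorem bar_one : xBar hF X (.ofAdd 1) = QuotientGroup.mk' _ (evN hF X uW) := by
  rw [xBar_of hF X X.root]
  congr 1
  exact Subtype.ext (by simp [evN])

variable {p : ℕ} [Fact p.Prime]

/-- The word of a central element. -/
noncomputable def wZ [Algebra (ZMod p) (Fix hF)] (a : Fix hF) : FreeGroup (Fin 3) :=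
  subW z0W (pW (nu_surj (p := p) hF X.geo a).choose)

theorem map_wZ [Algebra (ZMod p) (Fix hF)] {G : Type*} [Group G] (φ : FreeGroup (Fin 3) →* G)
    {x : Multiplicative (Fix hF) →* G} (h1 : x (.ofAdd 1) = φ z0W)
    (h2 : ∀ a, φ hW * x (.ofAdd a) * (φ hW)⁻¹ = x (.ofAdd (nu hF X.geo * a))) (a : Fix hF) :
    φ (wZ (p := p) hF X a) = x (.ofAdd a) := by
  rw [wZ, ← MonoidHom.comp_apply φ, map_subW, pW, map_polyWord]
  simp only [FreeGroup.lift_apply_of, Matrix.cons_val_zero, Matrix.cons_val_one]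
  rw [← h1, polyWord_eval h2, (nu_surj (p := p) hF X.geo a).choose_spec]

theorem ev_wZ [Algebra (ZMod p) (Fix hF)] (a : Fix hF) :
    ev X (wZ (p := p) hF X a) = xC hF X (.ofAdd a) :=
  map_wZ hF X _ (xC_one hF X) (fun b => by rw [ev_h hF X]; exact xC_conj hF X b) a

theorem PW_pow_conj {r : FreeGroup (Fin 3)} (hr : r ∈ PW) (k : ℕ) :
    hW ^ k * r * (hW ^ k)⁻¹ ∈ PW := conj_pow_mem (fun _ h => PW_conj h) hr k

theorem wZ_mem [Algebra (ZMod p) (Fix hF)] (a : Fix hF) : wZ (p := p) hF X a ∈ PW := by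
  rw [wZ, pW, map_polyWord]
  simp only [subW, FreeGroup.lift_apply_of, Matrix.cons_val_zero, Matrix.cons_val_one]
  exact wordN_mem (PW_pow_conj hF X z0W_mem) _ _

/-- Every root element has a word. -/
theorem exists_wQ [CharP F p] [Algebra (ZMod p) F] [Algebra (ZMod p) (Fix hF)]
    (v : rootGroup hF X.geo.frame) : ∃ r ∈ PW, ev X r = v.1 := by
  obtain ⟨c, γ, hv⟩ := v.2
  obtain ⟨P, hP⟩ := omega_surj (p := p) hF X.geo X.three_le c
  have hr : pW P ∈ PW := wordN_mem conjW_mem _ _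
  have h1 := polyWord_eval (x := xBar hF X) (bar_conj hF X) P
  rw [bar_one hF X, hP, ← map_polyWord] at h1
  obtain ⟨γ', hγ'⟩ := of_xBar hF X h1
  have e1 : ((polyWord (evN hF X hW) (evN hF X uW) P : _) : SU 3 F q) = ev X (pW P) := by
    rw [← map_polyWord (evN hF X), ← Subgroup.coe_subtype, ← MonoidHom.comp_apply, evN_coe,
      MonoidHom.comp_apply]
    congr 1
    rw [map_polyWord]
    simp [subW]
  rw [e1] at hγ'
  obtain ⟨a, ha⟩ := bar_eq hF X hγ' hv
  refine ⟨pW P * wZ (p := p) hF X a.toAdd, mul_mem hr (wZ_mem hF X _), ?_⟩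
  rw [map_mul, ev_wZ hF X, show xC hF X (.ofAdd a.toAdd) = _ from ha, mul_inv_cancel_left]

end H69.SU3
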