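import Cfsg.Agent.H69.SUStep

/-!
A chain of consecutive windows with commuting blocks gives the whole `SU_n`.
-/

set_option autoImplicit false
set_option linter.unusedSectionVars false

namespace H69.SUW

open Matrix Cfsg H50 H37

universe u v

variable {F : Type u} [Field F] {q n : ℕ}

/-- Consecutive coordinates. -/
def blk (n a m : ℕ) : Finset (Fin n) := Finset.univ.filter fun i => a ≤ i.1 ∧ i.1 < a + m

theorem mem_blk {a m : ℕ} {i : Fin n} : i ∈ blk n a m ↔ a ≤ i.1 ∧ i.1 < a + m := by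
  simp [blk]

theorem blk_mono {a m a' m' : ℕ} (h1 : a' ≤ a) (h2 : a + m ≤ a' + m') :
    blk n a m ⊆ blk n a' m' := fun i hi => by
  rw [mem_blk] at hi ⊢; omega

theorem blk_univ : blk n 0 n = Finset.univ := by
  ext i; simp [mem_blk]

theorem card_blk {a m : ℕ} (h : a + m ≤ n) : (blk n a m).card = m := by
  have e : blk n a m = Finset.univ.image fun j : Fin m => (⟨a + j.1, by omega⟩ : Fin n) := by
    ext i
    simp only [mem_blk, Finset.mem_image, Finset.mem_univ, true_and]
    constructor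
    · exact fun hi => ⟨⟨i.1 - a, by omega⟩, Fin.ext (show a + (i.1 - a) = i.1 by omega)⟩
    · rintro ⟨j, rfl⟩
      exact ⟨Nat.le_add_right _ _, Nat.add_lt_add_left j.2 a⟩
  rw [e, Finset.card_image_of_injective _ fun x y hxy => Fin.ext (by simpa using congrArg Fin.val hxy),
    Finset.card_univ, Fintype.card_fin]

theorem blk_two {a : ℕ} (h : a + 2 ≤ n) :
    blk n a 2 = {⟨a, by omega⟩, ⟨a + 1, by omega⟩} := by
  ext i; simp [mem_blk, Fin.ext_iff]; omega

theorem blk_three {a : ℕ} (h : a + 3 ≤ n) :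
    blk n a 3 = {⟨a, by omega⟩, ⟨a + 1, by omega⟩, ⟨a + 2, by omega⟩} := by
  ext i; simp [mem_blk, Fin.ext_iff]; omega

theorem blk_four {a : ℕ} (h : a + 4 ≤ n) :
    blk n a 4 = {⟨a, by omega⟩, ⟨a + 1, by omega⟩, ⟨a + 2, by omega⟩, ⟨a + 3, by omega⟩} := by
  ext i; simp [mem_blk, Fin.ext_iff]; omega

theorem blk_erase {m : ℕ} (h : m < n) : (blk n 0 (m + 1)).erase ⟨m, h⟩ = blk n 0 m := by
  ext i; simp [mem_blk, Fin.ext_iff]; omega

/-- Homomorphisms on consecutive windows. -/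
structure Chain {G : Type v} [Group G] (π : G →* SU n F q)
    (P : ∀ a, Win F q (blk n a 2) →* G) (T : ∀ a, Win F q (blk n a 3) →* G)
    (Φ : ∀ a, Win F q (blk n a 4) →* G) : Prop where
  sec : ∀ a, a + 4 ≤ n → ∀ g, π (Φ a g) = g.1
  secT : ∀ a, a + 3 ≤ n → ∀ g, π (T a g) = g.1
  left : ∀ a, a + 4 ≤ n → ∀ g : Win F q (blk n a 3),
    Φ a ⟨g.1, win_mono (blk_mono le_rfl (by omega)) g.2⟩ = T a g
  right : ∀ a, a + 4 ≤ n → ∀ g : Win F q (blk n (a + 1) 3),
    Φ a ⟨g.1, win_mono (blk_mono (by omega) (by omega)) g.2⟩ = T (a + 1) g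
  pleft : ∀ a, a + 3 ≤ n → ∀ g : Win F q (blk n a 2),
    T a ⟨g.1, win_mono (blk_mono le_rfl (by omega)) g.2⟩ = P a g
  pright : ∀ a, a + 3 ≤ n → ∀ g : Win F q (blk n (a + 1) 2),
    T a ⟨g.1, win_mono (blk_mono (by omega) (by omega)) g.2⟩ = P (a + 1) g
  tp : ∀ a b, a + 3 ≤ b → b + 2 ≤ n → ∀ x y, Commute (T a x) (P b y)
  tt : ∀ a b, a + 3 ≤ b → b + 3 ≤ n → ∀ x y, Commute (T a x) (T b y)
  pt : 5 ≤ n → ∀ x y, Commute (P 0 x) (T 2 y)

theorem app_congr {G : Type v} [Group G] {m : ℕ} (P : ∀ a, Win F q (blk n a m) →* G) {a b : ℕ}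
    (h : a = b) {g : SU n F q} (hg : g ∈ Win F q (blk n a m)) (hg' : g ∈ Win F q (blk n b m)) :
    P a ⟨g, hg⟩ = P b ⟨g, hg'⟩ := by
  subst h; rfl

variable [Fintype F] (hF : Fintype.card F = q ^ 2)
include hF

theorem gen_blk {m : ℕ} (h3 : 3 ≤ m) (hm : m ≤ n) (K : Subgroup (SU n F q))
    (h : ∀ a, a + 3 ≤ m → Win F q (blk n a 3) ≤ K) : Win F q (blk n 0 m) ≤ K := by
  induction m, h3 using Nat.le_induction with
  | base => exact h 0 le_rfl
  | succ m h3 ih =>
    refine (gen_big hF (S := blk n 0 (m + 1)) (i₁ := ⟨m - 2, by omega⟩) (i₂ := ⟨m - 1, by omega⟩)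
      (i₃ := ⟨m, by omega⟩) (by rw [card_blk (by omega)] <;> omega) (by simp [mem_blk] <;> omega)
      (by simp [mem_blk] <;> omega) (by simp [mem_blk]) (by simp [Fin.ext_iff] <;> omega)
      (by simp [Fin.ext_iff] <;> omega) (by simp [Fin.ext_iff] <;> omega)).trans (sup_le ?_ ?_)
    · rw [blk_erase]; exact ih (by omega) fun a ha => h a (by omega)
    · have e : ({⟨m - 2, by omega⟩, ⟨m - 1, by omega⟩, ⟨m, by omega⟩} : Finset (Fin n)) =
          blk n (m - 2) 3 := by
        ext i; simp [mem_blk, Fin.ext_iff]; omega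
      rw [e]
      exact h _ (by omega)

variable {G : Type v} [Group G] {π : G →* SU n F q} {P : ∀ a, Win F q (blk n a 2) →* G}
  {T : ∀ a, Win F q (blk n a 3) →* G} {Φ : ∀ a, Win F q (blk n a 4) →* G}

theorem Chain.extend (C : Chain π P T Φ) {k : ℕ} (h4 : 4 ≤ k) (hk : k ≤ n) :
    ∃ Ψ : Win F q (blk n 0 k) →* G, (∀ g, π (Ψ g) = g.1) ∧
      ∀ a (ha : a + 4 ≤ k), ∀ g : Win F q (blk n a 4),
        Ψ ⟨g.1, win_mono (blk_mono (by omega) (by omega)) g.2⟩ = Φ a g := by
  induction k, h4 using Nat.le_induction with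
  | base =>
    refine ⟨Φ 0, C.sec 0 hk, fun a ha g => ?_⟩
    obtain rfl : a = 0 := by omega
    rfl
  | succ k h4 ih =>
    set j : Fin n := ⟨k, by omega⟩
    set S := blk n 0 k with hS
    set W := blk n (k - 3) 4 with hW
    set i₁ : Fin n := ⟨k - 3, by omega⟩
    set i₂ : Fin n := ⟨k - 2, by omega⟩
    set i₃ : Fin n := ⟨k - 1, by omega⟩
    obtain ⟨Ψ, hπ, hΦ⟩ := ih (by omega)
    -- the triples and the first pair
    have hT : ∀ a (ha : a + 3 ≤ k), ∀ g : Win F q (blk n a 3),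
        Ψ ⟨g.1, win_mono (blk_mono (by omega) (by omega)) g.2⟩ = T a g := by
      intro a ha g
      by_cases h : a + 4 ≤ k
      · rw [← C.left a (by omega) g, ← hΦ a h]
      · obtain ⟨b, rfl⟩ : ∃ b, a = b + 1 := ⟨a - 1, by omega⟩
        rw [← C.right b (by omega) g, ← hΦ b (by omega)]
    have hWe : W = {i₁, i₂, i₃, j} := by
      ext i; simp [hW, mem_blk, i₁, i₂, i₃, j, Fin.ext_iff]; omega
    let D : Subgroup G := Ψ.range ⊔ (Φ (k - 3)).range
    let a' : Win F q S →* D := Ψ.codRestrict D fun x => Subgroup.mem_sup_left ⟨x, rfl⟩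
    let b' : Win F q W →* D := (Φ (k - 3)).codRestrict D fun x => Subgroup.mem_sup_right ⟨x, rfl⟩
    have hab : ∀ g (hgS : g ∈ Win F q S) (hgT : g ∈ Win F q W), a' ⟨g, hgS⟩ = b' ⟨g, hgT⟩ := by
      intro g hgS hgT
      have hgR : g ∈ Win F q (blk n (k - 3) 3) := win_mono (fun i hi => by
        simp only [hS, hW, Finset.mem_inter, mem_blk] at hi ⊢; omega) (win_inter hgS hgT)
      exact Subtype.ext ((hT (k - 3) (by omega) ⟨g, hgR⟩).trans
        (C.left (k - 3) (by omega) ⟨g, hgR⟩).symm)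
    have c1 : ∀ (h : Win F q S) (x : Win F q W), h.1 ∈ Win F q (S.erase i₃) →
        x.1 ∈ Win F q {i₃, j} → Commute (a' h) (b' x) := by
      intro h x hh hx
      refine Subtype.ext (show Commute (Ψ h) (Φ (k - 3) x) from ?_).eq
      have hx' : x.1 ∈ Win F q (blk n (k - 1) 2) := win_mono (fun i hi => by
        simp [mem_blk, i₃, j, Fin.ext_iff] at hi ⊢; omega) hx
      have ex : Φ (k - 3) x = P (k - 1) ⟨x.1, hx'⟩ := by
        have hx'' : x.1 ∈ Win F q (blk n (k - 3 + 1) 3) :=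
          win_mono (blk_mono (by omega) (by omega)) hx'
        have hx3 : x.1 ∈ Win F q (blk n (k - 3 + 1 + 1) 2) :=
          win_mono (blk_mono (by omega) (by omega)) hx'
        refine (C.right (k - 3) (by omega) ⟨x.1, hx''⟩).trans ?_
        exact (C.pright (k - 3 + 1) (by omega) ⟨x.1, hx3⟩).trans
          (app_congr P (by omega) hx3 hx')
      rw [ex]
      let K : Subgroup (SU n F q) :=
        ((Subgroup.centralizer {P (k - 1) ⟨x.1, hx'⟩}).comap Ψ).map (Win F q S).subtype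
      have hK : Win F q (blk n 0 (k - 1)) ≤ K := by
        refine gen_blk hF (by omega) (by omega) K fun a ha g hg => ?_
        refine ⟨⟨g, win_mono (blk_mono (by omega) (by omega)) hg⟩, ?_, rfl⟩
        rw [SetLike.mem_coe, Subgroup.mem_comap, Subgroup.mem_centralizer_singleton_iff,
          hT a (by omega) ⟨g, hg⟩]
        exact (C.tp a (k - 1) (by omega) (by omega) _ _).eq
      have hh' : h.1 ∈ Win F q (blk n 0 (k - 1)) := win_mono (fun i hi => by
        simp [hS, mem_blk, i₃, Fin.ext_iff] at hi ⊢; omega) hh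
      obtain ⟨h', hm, e⟩ := hK hh'
      rw [show h = h' from Subtype.ext e.symm]
      exact Subgroup.mem_centralizer_singleton_iff.1 hm
    have c2 : ∀ (h : Win F q S) (x : Win F q W), h.1 ∈ Win F q ((S.erase i₂).erase i₃) →
        x.1 ∈ Win F q {i₂, i₃, j} → Commute (a' h) (b' x) := by
      intro h x hh hx
      refine Subtype.ext (show Commute (Ψ h) (Φ (k - 3) x) from ?_).eq
      have hx' : x.1 ∈ Win F q (blk n (k - 2) 3) := win_mono (fun i hi => by
        simp [mem_blk, i₂, i₃, j, Fin.ext_iff] at hi ⊢; omega) hx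
      have ex : Φ (k - 3) x = T (k - 2) ⟨x.1, hx'⟩ := by
        exact (C.right (k - 3) (by omega)
          ⟨x.1, win_mono (blk_mono (by omega) (by omega)) hx'⟩).trans
          (app_congr T (by omega) _ hx')
      rw [ex]
      have hh' : h.1 ∈ Win F q (blk n 0 (k - 2)) := win_mono (fun i hi => by
        simp [hS, mem_blk, i₂, i₃, Fin.ext_iff] at hi ⊢; omega) hh
      by_cases h5 : k = 4
      · subst h5
        have e0 : Ψ h = P 0 ⟨h.1, hh'⟩ := by
          refine (hT 0 (by omega) ⟨h.1, win_mono (blk_mono le_rfl (by omega)) hh'⟩).trans ?_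
          exact C.pleft 0 (by omega) ⟨h.1, hh'⟩
        rw [e0]
        exact C.pt (by omega) _ _
      · let K : Subgroup (SU n F q) :=
          ((Subgroup.centralizer {T (k - 2) ⟨x.1, hx'⟩}).comap Ψ).map (Win F q S).subtype
        have hK : Win F q (blk n 0 (k - 2)) ≤ K := by
          refine gen_blk hF (by omega) (by omega) K fun a ha g hg => ?_
          refine ⟨⟨g, win_mono (blk_mono (by omega) (by omega)) hg⟩, ?_, rfl⟩
          rw [SetLike.mem_coe, Subgroup.mem_comap, Subgroup.mem_centralizer_singleton_iff,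
            hT a (by omega) ⟨g, hg⟩]
          exact (C.tt a (k - 2) (by omega) (by omega) _ _).eq
        obtain ⟨h', hm, e⟩ := hK hh'
        rw [show h = h' from Subtype.ext e.symm]
        exact Subgroup.mem_centralizer_singleton_iff.1 hm
    have hra : a'.range = Ψ.range.subgroupOf D := by
      ext d; simp [a', S, Subgroup.mem_subgroupOf, Subtype.ext_iff]
    have hrb : b'.range = (Φ (k - 3)).range.subgroupOf D := by
      ext d; simp [b', W, Subgroup.mem_subgroupOf, Subtype.ext_iff]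
    have htop : a'.range ⊔ b'.range = ⊤ := by
      rw [hra, hrb, ← Subgroup.subgroupOf_sup (show Ψ.range ≤ D from le_sup_left)
        (show (Φ (k - 3)).range ≤ D from le_sup_right), Subgroup.subgroupOf_self]
    obtain ⟨hinj, hgen⟩ := step hF (π.comp D.subtype) a' b' (i₁ := i₁) (i₂ := i₂) (i₃ := i₃) (j := j)
      (by rw [hS, card_blk (by omega)]; omega) (by simp [hS, mem_blk, i₁]; omega)
      (by simp [hS, mem_blk, i₂]; omega) (by simp [hS, mem_blk, i₃]; omega)
      (by simp [hS, mem_blk, j]) (by simp [i₁, i₂, Fin.ext_iff]; omega)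
      (by simp [i₁, i₃, Fin.ext_iff]; omega) (by simp [i₂, i₃, Fin.ext_iff]; omega) hWe
      hπ (C.sec _ (by omega)) hab c1 c2 htop
    have hins : insert j S = blk n 0 (k + 1) := by
      ext i; simp [hS, mem_blk, j, Fin.ext_iff]; omega
    rw [hins] at hgen
    obtain ⟨Ψ', h1, h2, h3⟩ := exists_ext hF (a := a') (b := b') (π := π.comp D.subtype) (U := blk n 0 (k + 1))
      hπ (C.sec _ (by omega)) hinj (blk_mono le_rfl (by omega)) (blk_mono (by omega) (by omega)) hgen
    refine ⟨D.subtype.comp Ψ', h1, fun a ha g => ?_⟩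
    by_cases h : a + 4 ≤ k
    · rw [← hΦ a h g]
      exact congrArg Subtype.val (h2 ⟨g.1, win_mono (blk_mono (by omega) (by omega)) g.2⟩)
    · obtain rfl : a = k - 3 := by omega
      exact congrArg Subtype.val (h3 g)

/-- A chain gives a section on the whole group. -/
theorem Chain.exists_section (C : Chain π P T Φ) (hn : 4 ≤ n) :
    ∃ Ψ : SU n F q →* G, (∀ g, π (Ψ g) = g) ∧
      ∀ a, a + 4 ≤ n → ∀ g : Win F q (blk n a 4), Ψ g.1 = Φ a g := by
  obtain ⟨Ψ, hπ, hΦ⟩ := C.extend hF hn le_rfl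
  refine ⟨Ψ.comp ((MonoidHom.id _).codRestrict _ fun g => by rw [blk_univ]; exact win_univ g),
    fun g => hπ _, fun a ha g => hΦ a ha g⟩

end H69.SUW
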