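import Cfsg.Agent.H69.SUGen

/-!
Cosets indexed by vectors of norm one: two windows of `SU_n` in an abstract group.
-/

set_option autoImplicit false
set_option linter.unusedSectionVars false

namespace H69.SUW

open Matrix Cfsg H50 H37

universe u v

variable {F : Type u} [Field F] {q n : ℕ} {S T : Finset (Fin n)} {D : Type v} [Group D]

/-- The coset attached to a vector through a product of elements of the two windows. -/
def Cl (a : Win F q S →* D) (b : Win F q T →* D) (j : Fin n) (u : Fin n → F) (x : D ⧸ a.range) :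
    Prop :=
  ∃ (h : Win F q S) (k : Win F q T), suMat (h.1 * k.1) *ᵥ δ j = u ∧
    x = QuotientGroup.mk (a h * b k)

/-- Compatibility of a group element with the coset map. -/
def Moves (π : D →* SU n F q) (a : Win F q S →* D) (b : Win F q T →* D) (j : Fin n) (d : D) :
    Prop :=
  ∀ u x, Cl a b j u x → Cl a b j (suMat (π d) *ᵥ u) (d • x)

variable [Fintype F] {a : Win F q S →* D} {b : Win F q T →* D} {π : D →* SU n F q} {j : Fin n}

theorem cl_base : Cl a b j (δ j) (QuotientGroup.mk 1) :=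
  ⟨1, 1, by rw [Subgroup.coe_one, Subgroup.coe_one, one_mul, suMat_one, one_mulVec],
    by rw [map_one, map_one, one_mul]⟩

theorem moves_left (hπa : ∀ h, π (a h) = h.1) (h : Win F q S) : Moves π a b j (a h) := by
  rintro u x ⟨h', k, e, rfl⟩
  refine ⟨h * h', k, ?_, ?_⟩
  · rw [← e, hπa, ← suMat_mulVec_mul, Subgroup.coe_mul, mul_assoc]
  · rw [MulAction.Quotient.smul_coe, map_mul, smul_eq_mul, mul_assoc]

/-- The criterion for injectivity. -/
theorem injective_of_moves (hπa : ∀ h, π (a h) = h.1)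
    (huniq : ∀ u x y, Cl a b j u x → Cl a b j u y → x = y) (M : Set D)
    (hM : ∀ d ∈ M, Moves π a b j d ∧ Moves π a b j d⁻¹) (htop : Subgroup.closure M = ⊤) :
    Function.Injective π := by
  have key : ∀ d, Moves π a b j d ∧ Moves π a b j d⁻¹ := by
    intro d
    have hd : d ∈ Subgroup.closure M := by rw [htop]; exact Subgroup.mem_top d
    induction hd using Subgroup.closure_induction with
    | mem d hd => exact hM d hd
    | one =>
      rw [inv_one]
      refine ⟨?_, ?_⟩ <;> intro u x h <;> rwa [map_one, suMat_one, one_mulVec, one_smul]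
    | mul d d' _ _ hd hd' =>
      refine ⟨fun u x h => ?_, fun u x h => ?_⟩
      · rw [map_mul, suMat_mulVec_mul, mul_smul]
        exact hd.1 _ _ (hd'.1 _ _ h)
      · rw [_root_.mul_inv_rev, map_mul, suMat_mulVec_mul, mul_smul]
        exact hd'.2 _ _ (hd.2 _ _ h)
    | inv d _ hd => exact ⟨hd.2, by rw [inv_inv]; exact hd.1⟩
  refine (injective_iff_map_eq_one π).2 fun d hd => ?_
  have h1 := (key d).1 _ _ cl_base
  rw [hd, suMat_one, one_mulVec, MulAction.Quotient.smul_coe, smul_eq_mul, mul_one] at h1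
  have h2 := huniq _ _ _ h1 cl_base
  rw [QuotientGroup.eq, mul_one, inv_mem_iff] at h2
  obtain ⟨h, rfl⟩ := h2
  rw [hπa] at hd
  rw [show h = 1 from Subtype.ext hd, map_one]

/-- Uniqueness from the case of vectors in the second window. -/
theorem uniq_of_flat
    (H : ∀ (h : Win F q S) (k k' : Win F q T), suMat h.1 *ᵥ (suMat k.1 *ᵥ δ j) = suMat k'.1 *ᵥ δ j →
      (QuotientGroup.mk (a h * b k) : D ⧸ a.range) = QuotientGroup.mk (b k')) :
    ∀ u x y, Cl a b j u x → Cl a b j u y → x = y := by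
  rintro u x y ⟨h, k, e, rfl⟩ ⟨h', k', e', rfl⟩
  have := H (h'⁻¹ * h) k k' (by
    rw [Subgroup.coe_mul, Subgroup.coe_inv, suMat_mulVec_mul, ← suMat_mulVec_mul h.1, e, ← e',
      suMat_mulVec_mul, suMat_inv_mulVec])
  rw [QuotientGroup.eq] at this ⊢
  rw [map_mul, map_inv] at this
  simpa [mul_assoc] using this

variable (hF : Fintype.card F = q ^ 2)
  (hab : ∀ g (hS : g ∈ Win F q S) (hT : g ∈ Win F q T), a ⟨g, hS⟩ = b ⟨g, hT⟩)
  (hTS : T.erase j ⊆ S)
include hF hab hTS

theorem b_same {k k' : Win F q T} (e : suMat k.1 *ᵥ δ j = suMat k'.1 *ᵥ δ j) :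
    (QuotientGroup.mk (b k) : D ⧸ a.range) = QuotientGroup.mk (b k') := by
  rw [QuotientGroup.eq, ← map_inv, ← map_mul]
  have hg : (k⁻¹ * k').1 ∈ Win F q (T.erase j) := win_erase (k⁻¹ * k').2 (by
    rw [Subgroup.coe_mul, Subgroup.coe_inv, suMat_mulVec_mul, ← e, suMat_inv_mulVec])
  exact ⟨⟨_, win_mono hTS hg⟩, hab _ (win_mono hTS hg) (k⁻¹ * k').2⟩

theorem shift {s : SU n F q} (hsS : s ∈ Win F q S) (hsT : s ∈ Win F q T) (k : Win F q T) :
    a ⟨s, hsS⟩ * b k = b (⟨s, hsT⟩ * k) := by
  rw [map_mul, hab]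

/-- An element of both windows fixing the vector of `k` fixes its coset. -/
theorem fix_shift {s : SU n F q} (hsS : s ∈ Win F q S) (hsT : s ∈ Win F q T) {k : Win F q T}
    (e : suMat s *ᵥ (suMat k.1 *ᵥ δ j) = suMat k.1 *ᵥ δ j) :
    (QuotientGroup.mk (a ⟨s, hsS⟩ * b k) : D ⧸ a.range) = QuotientGroup.mk (b k) := by
  rw [shift hF hab hTS hsS hsT k]
  exact b_same hF hab hTS (by rw [Subgroup.coe_mul, suMat_mulVec_mul, e])

omit hab hTS in
/-- An element of the first window commuting with `b k` fixes its coset. -/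
theorem fix_comm {h : Win F q S} {k : Win F q T} (hc : Commute (a h) (b k)) :
    (QuotientGroup.mk (a h * b k) : D ⧸ a.range) = QuotientGroup.mk (b k) := by
  rw [hc.eq, QuotientGroup.eq, _root_.mul_inv_rev, mul_assoc, inv_mul_cancel, mul_one, inv_mem_iff]
  exact ⟨h, rfl⟩

omit hTS hab in
/-- Changing the representative. -/
theorem fix_congr {h : Win F q S} {k k' : Win F q T}
    (hkk : (QuotientGroup.mk (b k) : D ⧸ a.range) = QuotientGroup.mk (b k'))
    (e : (QuotientGroup.mk (a h * b k') : D ⧸ a.range) = QuotientGroup.mk (b k')) :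
    (QuotientGroup.mk (a h * b k) : D ⧸ a.range) = QuotientGroup.mk (b k) := by
  have h2 := congrArg (fun z : D ⧸ a.range => a h • z) hkk
  simp only [MulAction.Quotient.smul_coe, smul_eq_mul] at h2
  rw [h2, e, hkk]

omit hTS hab in
/-- The elements of the first window fixing the coset of `k`, inside `SU_n`. -/
theorem stab_sub (k : Win F q T) :
    ∃ K : Subgroup (SU n F q), ∀ g (hg : g ∈ Win F q S), g ∈ K ↔
      (QuotientGroup.mk (a ⟨g, hg⟩ * b k) : D ⧸ a.range) = QuotientGroup.mk (b k) := by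
  refine ⟨((MulAction.stabilizer D (QuotientGroup.mk (b k) : D ⧸ a.range)).comap a).map
    (Win F q S).subtype, fun g hg => ?_⟩
  constructor
  · rintro ⟨⟨g', hg'⟩, hmem, e⟩
    have e' : g' = g := e
    subst e'
    rw [SetLike.mem_coe, Subgroup.mem_comap, MulAction.mem_stabilizer_iff,
      MulAction.Quotient.smul_coe, smul_eq_mul] at hmem
    exact hmem
  · intro e
    exact ⟨⟨g, hg⟩, by
      rw [SetLike.mem_coe, Subgroup.mem_comap, MulAction.mem_stabilizer_iff,
        MulAction.Quotient.smul_coe, smul_eq_mul]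
      exact e, rfl⟩

omit hab hTS in
/-- Conjugation inside the overlap. -/
theorem fix_conj {h : Win F q S} {k : Win F q T} {s : Win F q S} {k' : Win F q T}
    (hk' : (QuotientGroup.mk (a s * b k) : D ⧸ a.range) = QuotientGroup.mk (b k'))
    (e : (QuotientGroup.mk (a (s * h * s⁻¹) * b k') : D ⧸ a.range) = QuotientGroup.mk (b k')) :
    (QuotientGroup.mk (a h * b k) : D ⧸ a.range) = QuotientGroup.mk (b k) := by
  have h2 : a (s * h * s⁻¹) • (QuotientGroup.mk (a s * b k) : D ⧸ a.range) =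
      QuotientGroup.mk (a s * b k) := by
    rw [hk', MulAction.Quotient.smul_coe, smul_eq_mul]
    exact e
  have := congrArg (fun z : D ⧸ a.range => (a s)⁻¹ • z) h2
  simp only [MulAction.Quotient.smul_coe, smul_eq_mul, map_mul, map_inv] at this
  simpa [mul_assoc] using this

omit hab hTS in
/-- The inverse homomorphism on a window covered by the image. -/
theorem exists_ext (hπa : ∀ h, π (a h) = h.1) (hπb : ∀ k, π (b k) = k.1)
    (hinj : Function.Injective π) {U : Finset (Fin n)} (hSU : S ⊆ U) (hTU : T ⊆ U)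
    (hU : Win F q U ≤ Win F q S ⊔ Win F q T) :
    ∃ Ψ : Win F q U →* D, (∀ g, π (Ψ g) = g.1) ∧
      (∀ h : Win F q S, Ψ ⟨h.1, win_mono hSU h.2⟩ = a h) ∧
      ∀ k : Win F q T, Ψ ⟨k.1, win_mono hTU k.2⟩ = b k := by
  have hle : Win F q U ≤ π.range := hU.trans (sup_le (fun g hg => ⟨a ⟨g, hg⟩, hπa _⟩)
    fun g hg => ⟨b ⟨g, hg⟩, hπb _⟩)
  choose f hf using fun g : Win F q U => hle g.2
  exact ⟨MonoidHom.mk' f fun g g' => hinj (by rw [map_mul, hf, hf, hf]; rfl), hf,
    fun h => hinj ((hf _).trans (hπa h).symm), fun k => hinj ((hf _).trans (hπb k).symm)⟩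

end H69.SUW
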