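import Cfsg.Agent.H40.CRWModule
import Cfsg.Agent.H50.Field

/-!
Spanning a field of square order by powers of a root of unity of order dividing `q + 1`.
-/

set_option autoImplicit false
set_option linter.unusedSectionVars false

namespace H69.SUField

open Polynomial

variable {F : Type*} [Field F] [Fintype F]

theorem not_dvd_four {p f d : ℕ} (hp : p.Prime) (hf : 2 ≤ f) (hd : 1 ≤ d) (hd' : d < 2 * f) :
    ¬ p ^ f + 1 ∣ 4 * (p ^ d - 1) := by
  intro h
  have hp2 := hp.two_le
  have h4 : 4 ≤ p ^ f := le_trans (by norm_num : 4 ≤ 2 ^ 2)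
    (le_trans (Nat.pow_le_pow_left hp2 2) (Nat.pow_le_pow_right (by omega) hf))
  have hlt : ∀ e, e < f → p ^ e * p ≤ p ^ f := fun e he => by
    rw [← pow_succ]; exact Nat.pow_le_pow_right (by omega) he
  have hodd2 : p = 2 → ∀ k, p ^ f + 1 ∣ 4 * k → p ^ f + 1 ∣ k := fun e k hk => by
    refine Nat.Coprime.dvd_of_dvd_mul_left ?_ hk
    have : Odd (p ^ f + 1) := by
      subst e; exact (even_two.pow_of_ne_zero (by omega)).add_one
    exact (Nat.Coprime.pow_right 2 (Nat.coprime_two_right.2 this) : Nat.Coprime _ (2 ^ 2))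
  have hone : ∀ e, 1 ≤ p ^ e := fun e => Nat.one_le_pow _ _ (by omega)
  rcases lt_trichotomy d f with hdf | rfl | hdf
  · have hpd := hlt d hdf
    have hd1 : p ≤ p ^ d := Nat.le_self_pow (by omega) p
    rcases (show p = 2 ∨ p = 3 ∨ 4 ≤ p by omega) with e | e | e
    · subst e
      have h2' : 2 ≤ 2 ^ d := Nat.le_self_pow (by omega) 2
      have := Nat.le_of_dvd (by omega) (hodd2 rfl _ h)
      omega
    · subst e
      obtain ⟨k, hk⟩ := h
      rcases k with _ | _ | k
      · omega
      · have h3 : 3 ∣ 3 ^ f := dvd_pow_self 3 (by omega)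
        have h3' : 3 ∣ 3 ^ d := dvd_pow_self 3 (by omega)
        omega
      · have : (3 ^ f + 1) * 2 ≤ (3 ^ f + 1) * (k + 1 + 1) := Nat.mul_le_mul_left _ (by omega)
        omega
    · have := Nat.le_of_dvd (by omega) h
      have : p ^ d * 4 ≤ p ^ d * p := Nat.mul_le_mul_left _ e
      omega
  · have h8 : p ^ d + 1 ∣ 8 := by
      have h' : p ^ d + 1 ∣ 4 * (p ^ d + 1) := dvd_mul_left _ _
      have := Nat.dvd_sub h' h
      rwa [show 4 * (p ^ d + 1) - 4 * (p ^ d - 1) = 8 by omega] at this
    have h7 := Nat.le_of_dvd (by omega) h8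
    have hp3 : p ≤ 3 := by
      by_contra hp4
      have h16 : 4 ^ 2 ≤ p ^ d :=
        le_trans (Nat.pow_le_pow_left (by omega) 2) (Nat.pow_le_pow_right (by omega) hf)
      omega
    have hd2 : d ≤ 2 := by
      by_contra hd3
      have h8' : 2 ^ 3 ≤ p ^ d :=
        le_trans (Nat.pow_le_pow_left hp2 3) (Nat.pow_le_pow_right (by omega) (by omega))
      omega
    obtain rfl : d = 2 := by omega
    rcases (show p = 2 ∨ p = 3 by omega) with rfl | rfl <;> norm_num at h8
  · obtain ⟨e, rfl⟩ : ∃ e, d = f + e := ⟨d - f, by omega⟩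
    have he : e < f := by omega
    have he1 : 1 ≤ e := by omega
    have hpe := hlt e he
    have h' : p ^ f + 1 ∣ 4 * (p ^ e + 1) := by
      have h1 : p ^ f + 1 ∣ 4 * p ^ e * (p ^ f + 1) := dvd_mul_left _ _
      have := Nat.dvd_sub h1 h
      rwa [show 4 * p ^ e * (p ^ f + 1) - 4 * (p ^ (f + e) - 1) = 4 * (p ^ e + 1) by
        have h1 : 1 ≤ p ^ f * p ^ e := Nat.one_le_iff_ne_zero.2 (by positivity)
        have h2 : 4 * p ^ e * (p ^ f + 1) = 4 * (p ^ f * p ^ e) + 4 * p ^ e := by ring
        rw [h2, pow_add]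
        omega] at this
    have hd1 : p ≤ p ^ e := Nat.le_self_pow (by omega) p
    rcases (show p = 2 ∨ p = 3 ∨ 5 ≤ p by
      rcases hp.eq_two_or_odd' with h | ⟨k, hk⟩
      · exact Or.inl h
      · omega) with e' | e' | e'
    · have := Nat.le_of_dvd (by omega) (hodd2 e' _ h')
      subst e'
      omega
    · subst e'
      obtain ⟨k, hk⟩ := h'
      rcases k with _ | _ | k
      · omega
      · rcases Nat.eq_or_lt_of_le he1 with rfl | he2
        · rcases Nat.eq_or_lt_of_le hf with rfl | hf3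
          · norm_num at hk
          · have : 3 ^ 3 ≤ 3 ^ f := Nat.pow_le_pow_right (by norm_num) hf3
            omega
        · have h9 : 3 ^ 2 ∣ 3 ^ f := pow_dvd_pow 3 (by omega)
          have h9' : 3 ^ 2 ∣ 3 ^ e := pow_dvd_pow 3 he2
          omega
      · have : (3 ^ f + 1) * 2 ≤ (3 ^ f + 1) * (k + 1 + 1) := Nat.mul_le_mul_left _ (by omega)
        omega
    · have := Nat.le_of_dvd (by omega) h'
      have : p ^ e * 5 ≤ p ^ e * p := Nat.mul_le_mul_left _ e'
      omega

/-- Closed under multiplication by a field generator: a subfield multiple. -/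
theorem mem_of_aeval {p : ℕ} [Fact p.Prime] [Algebra (ZMod p) F] (A : AddSubgroup F) {ζ a : F}
    (ha : a ∈ A) (hA : ∀ x ∈ A, ζ * x ∈ A) (P : (ZMod p)[X]) : aeval ζ P * a ∈ A := by
  induction P using Polynomial.induction_on' with
  | add P Q hP hQ => rw [map_add, add_mul]; exact add_mem hP hQ
  | monomial k c =>
    rw [aeval_monomial, mul_assoc]
    have hk : ζ ^ k * a ∈ A := by
      induction k with
      | zero => simpa using ha
      | succ k ih => rw [pow_succ', mul_assoc]; exact hA _ ih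
    rw [← ZMod.natCast_zmod_val c, map_natCast, ← nsmul_eq_mul]
    exact nsmul_mem hk _

/-- An additive subgroup with `1`, a primitive element and closed under a fixed multiplier. -/
theorem eq_top_of_closed {q : ℕ} (hF : Fintype.card F = q ^ 2) (hq : 3 ≤ q) {θ : Fˣ}
    (hθ : ∀ u : Fˣ, u ∈ Subgroup.zpowers θ) {E : ℕ}
    (hE : E + (3 * q - 1) * (q - 1) = (2 * q - 1) * (q ^ 2 - 1)) (A : AddSubgroup F)
    (h1 : (1 : F) ∈ A) (ht : (θ : F) ∈ A) (hA : ∀ x ∈ A, (θ : F) ^ E * x ∈ A) : A = ⊤ := by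
  classical
  obtain ⟨p, f, hp, hf0, hchar, rfl⟩ := H50.exists_prime_pow hF
  haveI : Fact p.Prime := ⟨hp⟩
  haveI : CharP F p := hchar
  letI : Algebra (ZMod p) F := ZMod.algebra F p
  have hord : orderOf θ = (p ^ f) ^ 2 - 1 := by
    rw [orderOf_eq_card_of_forall_mem_zpowers hθ, Nat.card_eq_fintype_card, Fintype.card_units, hF]
  rcases Nat.lt_or_ge f 2 with hf1 | hf2
  · obtain rfl : f = 1 := by omega
    rw [pow_one] at hq hord hF
    have hle : AddSubgroup.zmultiples (1 : F) ≤ A := AddSubgroup.zmultiples_le.2 h1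
    have hc1 : Nat.card (AddSubgroup.zmultiples (1 : F)) = p := by
      rw [Nat.card_zmultiples]; exact CharP.eq F (CharP.addOrderOf_one F) ‹CharP F p›
    haveI : Finite F := Finite.of_fintype F
    have hdvd : Nat.card A ∣ p ^ 2 := by
      have := AddSubgroup.card_addSubgroup_dvd_card A
      rwa [Nat.card_eq_fintype_card (α := F), hF] at this
    obtain ⟨k, hk, hkc⟩ := (Nat.dvd_prime_pow hp).1 hdvd
    have hk2 : k = 2 := by
      have hle' := AddSubgroup.card_le_of_le hle
      rw [hc1, hkc] at hle'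
      rcases (show k = 0 ∨ k = 1 ∨ k = 2 by omega) with rfl | rfl | h
      · simp at hle'
        omega
      · exfalso
        have heq : AddSubgroup.zmultiples (1 : F) = A := by
          refine AddSubgroup.eq_of_le_of_card_ge hle ?_
          rw [hc1, hkc, pow_one]
        rw [← heq, AddSubgroup.mem_zmultiples_iff] at ht
        obtain ⟨m, hm⟩ := ht
        have hfix : (θ : F) ^ p = (θ : F) := by
          rw [← hm, zsmul_one, ← map_intCast (ZMod.castHom (dvd_refl p) F), ← map_pow, ZMod.pow_card]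
        have hdv : p ^ 2 - 1 ∣ p - 1 := by
          rw [← hord, orderOf_dvd_iff_pow_eq_one, Units.ext_iff, Units.val_pow_eq_pow_val,
            Units.val_one]
          refine mul_right_cancel₀ θ.ne_zero ?_
          rw [one_mul, ← pow_succ, Nat.sub_add_cancel (by omega), hfix]
        have := Nat.le_of_dvd (by omega) hdv
        have : 3 * p ≤ p ^ 2 := by rw [sq]; exact Nat.mul_le_mul_right _ hq
        omega
      · exact h
    exact AddSubgroup.eq_top_of_card_eq _ (by rw [hkc, hk2, Nat.card_eq_fintype_card, hF])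
  · have hcard : Fintype.card F = p ^ (2 * f) := by rw [hF, ← pow_mul, mul_comm]
    have hsurj := H40.CRW.aeval_surjective (p := p) hcard ((θ : F) ^ E) (fun d hd hd' h => by
      refine not_dvd_four hp hf2 hd hd' ?_
      set q := p ^ f with hq'
      have hpd : 1 ≤ p ^ d := Nat.one_le_pow _ _ hp.pos
      have h1' : ((θ : F) ^ E) ^ (p ^ d - 1) = 1 := by
        refine mul_right_cancel₀ (pow_ne_zero E θ.ne_zero) ?_
        rw [one_mul, ← pow_succ, Nat.sub_add_cancel hpd, h]
      have hdv : q ^ 2 - 1 ∣ E * (p ^ d - 1) := by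
        rw [← hord, orderOf_dvd_iff_pow_eq_one, Units.ext_iff, Units.val_pow_eq_pow_val,
          Units.val_one, pow_mul]
        exact h1'
      have h2 : q ^ 2 - 1 ∣ (E + (3 * q - 1) * (q - 1)) * (p ^ d - 1) := by
        rw [hE]; exact Dvd.dvd.mul_right (dvd_mul_left _ _) _
      rw [add_mul] at h2
      have h3 := (Nat.dvd_add_right hdv).1 h2
      have hsq : q ^ 2 - 1 = (q + 1) * (q - 1) := by
        rw [← Nat.sq_sub_sq]
      rw [hsq, mul_assoc, mul_comm (q - 1), ← mul_assoc] at h3
      have h4 := Nat.dvd_of_mul_dvd_mul_right (by omega) h3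
      have h5 : q + 1 ∣ 3 * (q + 1) * (p ^ d - 1) :=
        Dvd.dvd.mul_right (dvd_mul_left _ _) _
      have h6 := Nat.dvd_sub h5 h4
      rwa [← Nat.sub_mul, show 3 * (q + 1) - (3 * q - 1) = 4 by omega] at h6)
    rw [eq_top_iff]
    intro z _
    obtain ⟨P, hP⟩ := hsurj z
    have := mem_of_aeval A h1 hA P
    rwa [hP, mul_one] at this

end H69.SUField
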