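import Cfsg.Agent.H69.SUFourRel

/-!
`SU₄(q)`, `q ≥ 3`, from two overlapping triples.
-/

set_option autoImplicit false
set_option linter.unusedSectionVars false

namespace H69.SUW

open Matrix Cfsg H50 H37

universe u v

variable {F : Type u} [Field F] {q n : ℕ} [Fintype F] (hF : Fintype.card F = q ^ 2)
  {S T : Finset (Fin n)} {D : Type v} [Group D] {π : D →* SU n F q} {a : Win F q S →* D}
  {b : Win F q T →* D} {i₁ i₂ i₃ j : Fin n}
include hF

/-- An element of the first triple moving a vector of the common pair and fixing the outer line. -/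
theorem line_trans (h12 : i₁ ≠ i₂) (h13 : i₁ ≠ i₃) (h23 : i₂ ≠ i₃) {w w' : Fin n → F}
    (hw : Supp {i₂, i₃} w) (hw' : Supp {i₂, i₃} w')
    (hN : hermForm n F q w w = hermForm n F q w' w') (h0 : w = 0 ↔ w' = 0) :
    ∃ g ∈ Win F q {i₁, i₂, i₃}, ∃ c : F, suMat g *ᵥ δ i₁ = c • δ i₁ ∧ suMat g *ᵥ w = w' := by
  have hsub : ({i₂, i₃} : Finset (Fin n)) ⊆ {i₁, i₂, i₃} := Finset.subset_insert _ _
  have hi1 : i₁ ∉ ({i₂, i₃} : Finset (Fin n)) := by simp [h12, h13]
  by_cases hn : hermForm n F q w w = 0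
  · by_cases hz : w = 0
    · exact ⟨1, one_mem _, 1, by rw [suMat_one, one_mulVec, one_smul],
        by rw [suMat_one, one_mulVec, hz, h0.1 hz]⟩
    obtain ⟨e, he, hee, hei, hej⟩ := exists_iso_pair hF h23
    have he0 : e ≠ 0 := fun z => by simp [z] at hei
    obtain ⟨f₀, hf₀, hh₀⟩ := exists_partner hF he he0 hee
    have toE : ∀ x : Fin n → F, Supp {i₂, i₃} x → hermForm n F q x x = 0 → x ≠ 0 →
        ∃ g ∈ Win F q {i₁, i₂, i₃}, ∃ c : F, suMat g *ᵥ δ i₁ = c • δ i₁ ∧ suMat g *ᵥ x = e := by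
      intro x hx hxx hx0
      obtain ⟨f, hf, hh⟩ := exists_partner hF hx hx0 hxx
      obtain ⟨g, hg, e1, e2⟩ := trans_hyp hF
        (show 3 ≤ ({i₁, i₂, i₃} : Finset (Fin n)).card by simp [h12, h13, h23]) hh hh₀
        (hx.mono hsub) (hf.mono hsub) (he.mono hsub) (hf₀.mono hsub)
      set y := suMat g *ᵥ (δ i₁ : Fin n → F)
      have hy : Supp (insert i₁ {i₂, i₃}) y := supp_image hF hg (supp_single (by simp))
      have orth : ∀ z : Fin n → F, Supp {i₂, i₃} z → suMat g⁻¹ *ᵥ z = x ∨ suMat g⁻¹ *ᵥ z = f →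
          hermForm n F q (proj {i₂, i₃} y) z = 0 := by
        intro z hz hzz
        rw [h_supp_congr hz (fun i hi => proj_apply hi) (q_ne_zero hF)]
        show hermForm n F q (suMat g *ᵥ δ i₁) z = 0
        rw [← suMat_mulVec_inv g z, suMat_h]
        rcases hzz with hzz | hzz <;> rw [hzz]
        · exact h_disjoint hF (supp_single (Finset.mem_singleton_self i₁)) hx (by simp [h12, h13])
        · exact h_disjoint hF (supp_single (Finset.mem_singleton_self i₁)) hf (by simp [h12, h13])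
      have hp : proj {i₂, i₃} y = 0 := by
        rw [pair_decomp hF h23 he hei hej hf₀ hh₀ (supp_proj y),
          orth e he (Or.inl (by rw [← e1, suMat_inv_mulVec])),
          orth f₀ hf₀ (Or.inr (by rw [← e2, suMat_inv_mulVec])), zero_smul, zero_smul, add_zero]
      refine ⟨g, hg, y i₁, ?_, e1⟩
      show y = y i₁ • δ i₁
      conv_lhs => rw [eq_add_single hy hi1, hp, zero_add]
    obtain ⟨g₁, hg₁, c₁, l₁, e₁⟩ := toE w hw hn hz
    obtain ⟨g₂, hg₂, c₂, l₂, e₂⟩ := toE w' hw' (hN ▸ hn) (fun z => hz (h0.2 z))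
    refine ⟨g₂⁻¹ * g₁, mul_mem (inv_mem hg₂) hg₁, c₁ * c₂⁻¹, ?_, ?_⟩
    · have hc₂ : c₂ ≠ 0 := fun z => by
        rw [z, zero_smul] at l₂
        have := congrArg (fun v => suMat g₂⁻¹ *ᵥ v) l₂
        simp only [suMat_inv_mulVec, mulVec_zero] at this
        simpa using congrFun this i₁
      have hl : suMat g₂⁻¹ *ᵥ (δ i₁ : Fin n → F) = c₂⁻¹ • δ i₁ := by
        have := congrArg (fun v => c₂⁻¹ • (suMat g₂⁻¹ *ᵥ v)) l₂
        simp only [suMat_inv_mulVec, mulVec_smul, smul_smul, inv_mul_cancel₀ hc₂, one_smul] at this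
        exact this.symm
      rw [suMat_mulVec_mul, l₁, mulVec_smul, hl, smul_smul]
    · rw [suMat_mulVec_mul, e₁, ← e₂, suMat_inv_mulVec]
  · obtain ⟨s, hs, es⟩ := trans_ni hF (by rw [Finset.card_pair h23]) hw hw' hN hn
    exact ⟨s, win_mono hsub hs, 1, by rw [hs i₁ hi1, one_smul], es⟩

variable (K : Four π a b i₁ i₂ i₃ j) (hq : 3 ≤ q)
include K hq

theorem conjA (h : Win F q S) {c : F} (hh : suMat h.1 *ᵥ δ i₁ = c • δ i₁) (k : Win F q T) :
    ∃ hm : h.1 * k.1 * h.1⁻¹ ∈ Win F q T,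
      a h * b k * (a h)⁻¹ = b ⟨h.1 * k.1 * h.1⁻¹, hm⟩ :=
  conj_line hF hq π a b K.h12 K.h13 K.h23 K.h1j K.h2j K.h3j K.hS K.hT K.hπa K.hπb K.hab K.hc h hh k

theorem conjB (k : Win F q T) {c : F} (hk : suMat k.1 *ᵥ δ j = c • δ j) (h : Win F q S) :
    ∃ hm : k.1 * h.1 * k.1⁻¹ ∈ Win F q S,
      b k * a h * (b k)⁻¹ = a ⟨k.1 * h.1 * k.1⁻¹, hm⟩ :=
  conj_line hF hq π b a (A := T) (B := S) (i := j) (x := i₃) (y := i₂) (z := i₁)
    K.h3j.symm K.h2j.symm K.h23.symm K.h1j.symm K.h13.symm K.h12.symm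
    (by rw [K.hT]; ext l; simp; tauto) (by rw [K.hS]; ext l; simp; tauto) K.hπb K.hπa
    (fun g hgT hgS => (K.hab g hgS hgT).symm)
    (fun h k hh hk => (K.hc k h (by rwa [Finset.pair_comm]) (by rwa [Finset.pair_comm])).symm)
    k hk h

theorem sub_erase : T.erase j ⊆ S := by
  intro x
  simp only [K.hT, K.hS, Finset.mem_erase, Finset.mem_insert, Finset.mem_singleton]
  tauto

/-- The root groups at one isotropic point commute, so the cosets are well defined. -/
theorem four_uniq {e : Fin n → F} (he : Supp {i₂, i₃} e) (hee : hermForm n F q e e = 0)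
    (hei : e i₂ = 1) (hej : e i₃ ^ (q + 1) = -1)
    (htot : ∀ α μ : F, μ ≠ 0 → EC a b e i₁ j α μ) :
    ∀ u x y, Cl a b j u x → Cl a b j u y → x = y := by
  have hTS := sub_erase hF K hq
  set Q : Finset (Fin n) := {i₂, i₃} with hQ
  have hQS : Q ⊆ S := by simp [hQ, K.hS, Finset.subset_iff]
  have hjQ : j ∉ Q := by simp [hQ, K.h2j.symm, K.h3j.symm]
  have hjS : j ∉ S := by simp [K.hS, K.h1j.symm, K.h2j.symm, K.h3j.symm]
  have hpT : ({i₃, j} : Finset (Fin n)) ⊆ T := by simp [K.hT, Finset.subset_iff]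
  have hT' : T = insert j Q := by rw [K.hT]; ext x; simp [hQ]; tauto
  have hjT : j ∈ T := by simp [K.hT]
  have hvT : ∀ k : Win F q T, Supp (insert j Q) (suMat k.1 *ᵥ δ j) := fun k => by
    rw [← hT']; exact supp_image hF k.2 (supp_single hjT)
  -- moving the common part by an element fixing the outer line
  have move : ∀ (k : Win F q T) (g : Win F q S) (c : F), suMat g.1 *ᵥ δ i₁ = c • δ i₁ →
      ∃ k' : Win F q T, suMat k'.1 *ᵥ δ j = suMat g.1 *ᵥ (suMat k.1 *ᵥ δ j) ∧
        (QuotientGroup.mk (a g * b k) : D ⧸ a.range) = QuotientGroup.mk (b k') := by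
    intro k g c hg
    obtain ⟨hm, e⟩ := conjA hF K hq g hg k
    refine ⟨⟨_, hm⟩, ?_, ?_⟩
    · rw [suMat_mulVec_mul, suMat_mulVec_mul, suMat_inv_fix (g.2 j hjS)]
    · rw [QuotientGroup.eq, ← e, inv_mem_iff.symm]
      refine ⟨g, ?_⟩
      simp [mul_assoc]
  refine uniq_of_flat ?_
  intro h k k' hhk
  have hd := eq_add_single (hvT k) hjQ
  have hd' := eq_add_single (hvT k') hjQ
  set v := suMat k.1 *ᵥ (δ j : Fin n → F)
  set v' := suMat k'.1 *ᵥ (δ j : Fin n → F)
  have hw := supp_proj (S := Q) v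
  have hw' := supp_proj (S := Q) v'
  have fixj : ∀ (g : Win F q S) (c : F), suMat g.1 *ᵥ (c • δ j) = c • δ j := fun g c => by
    rw [mulVec_smul, g.2 j hjS]
  have hhw : suMat h.1 *ᵥ proj Q v = proj Q v' := by
    have e1 : proj S v = proj Q v := by
      funext i
      by_cases hi : i ∈ Q
      · rw [proj_apply hi, proj_apply (hQS hi)]
      · rw [supp_proj _ i hi]
        by_cases hiS : i ∈ S
        · rw [proj_apply hiS]
          refine hvT k i ?_
          simp only [Finset.mem_insert, not_or]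
          exact ⟨fun e => hjS (e ▸ hiS), hi⟩
        · exact supp_proj _ i hiS
    have e2 : proj S v' = proj Q v' := by
      funext i
      by_cases hi : i ∈ Q
      · rw [proj_apply hi, proj_apply (hQS hi)]
      · rw [supp_proj _ i hi]
        by_cases hiS : i ∈ S
        · rw [proj_apply hiS]
          refine hvT k' i ?_
          simp only [Finset.mem_insert, not_or]
          exact ⟨fun e => hjS (e ▸ hiS), hi⟩
        · exact supp_proj _ i hiS
    rw [← e1, ← proj_image hF h.2, hhk, e2]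
  -- elements fixing the common part fix the coset
  have fix : ∀ (h : Win F q S) (k : Win F q T),
      suMat h.1 *ᵥ proj Q (suMat k.1 *ᵥ δ j) = proj Q (suMat k.1 *ᵥ δ j) →
      (QuotientGroup.mk (a h * b k) : D ⧸ a.range) = QuotientGroup.mk (b k) := by
    -- scalar representatives
    have fix0 : ∀ (h : Win F q S) (k : Win F q T) (c : F), suMat k.1 *ᵥ δ j = c • δ j →
        (QuotientGroup.mk (a h * b k) : D ⧸ a.range) = QuotientGroup.mk (b k) := by
      intro h k c hk
      have hc : c ≠ 0 := fun z => by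
        rw [z, zero_smul] at hk
        have := congrArg (fun v => suMat k.1⁻¹ *ᵥ v) hk
        simp only [suMat_inv_mulVec, mulVec_zero] at this
        simpa using congrFun this j
      have hk' : suMat (k⁻¹).1 *ᵥ δ j = c⁻¹ • δ j := by
        have := congrArg (fun v => c⁻¹ • (suMat k.1⁻¹ *ᵥ v)) hk
        simp only [suMat_inv_mulVec, mulVec_smul, smul_smul, inv_mul_cancel₀ hc, one_smul] at this
        rw [Subgroup.coe_inv]
        exact this.symm
      obtain ⟨hm, e⟩ := conjB hF K hq k⁻¹ hk' h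
      rw [map_inv, inv_inv] at e
      rw [QuotientGroup.eq, inv_mem_iff.symm]
      refine ⟨⟨_, hm⟩, ?_⟩
      rw [← e]
      simp [mul_assoc]
    intro h k hfix
    have hv := hvT k
    have hn : hermForm n F q (suMat k.1 *ᵥ δ j) (suMat k.1 *ᵥ δ j) = 1 := by
      rw [suMat_h, h_single hF]
    set v := suMat k.1 *ᵥ (δ j : Fin n → F)
    have hd := eq_add_single hv hjQ
    have hw := supp_proj (S := Q) v
    set w := proj Q v
    have hN : hermForm n F q w w + v j ^ (q + 1) = 1 := by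
      rw [← norm_add_single hF hw hjQ, ← hd, hn]
    have reduce : ∀ w' : Fin n → F, Supp Q w' → hermForm n F q w w = hermForm n F q w' w' →
        (w = 0 ↔ w' = 0) →
        (∀ (h : Win F q S) (k : Win F q T), suMat h.1 *ᵥ w' = w' →
          suMat k.1 *ᵥ δ j = w' + v j • δ j →
          (QuotientGroup.mk (a h * b k) : D ⧸ a.range) = QuotientGroup.mk (b k)) →
        (QuotientGroup.mk (a h * b k) : D ⧸ a.range) = QuotientGroup.mk (b k) := by
      intro w' hw' hN' h0 H
      obtain ⟨g, hg, c, hl, eg⟩ := line_trans hF K.h12 K.h13 K.h23 hw hw' hN' h0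
      rw [← K.hS] at hg
      obtain ⟨k₂, ek₂, hkk⟩ := move k ⟨g, hg⟩ c hl
      refine fix_conj hF (s := ⟨g, hg⟩) hkk (H _ _ ?_ ?_)
      · rw [Subgroup.coe_mul, Subgroup.coe_mul, Subgroup.coe_inv, suMat_mulVec_mul,
          suMat_mulVec_mul]
        conv_lhs => rw [← eg, suMat_inv_mulVec, hfix]
        exact eg
      · rw [ek₂]
        show suMat g *ᵥ v = _
        rw [hd, mulVec_add, eg, fixj ⟨g, hg⟩, ← hd]
    by_cases hw0 : w = 0
    · refine reduce 0 supp_zero (by rw [hw0]) (iff_of_true hw0 rfl) fun h k _ ek => ?_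
      rw [zero_add] at ek
      exact fix0 h k _ ek
    by_cases hN0 : hermForm n F q w w = 0
    · have he0 : e ≠ 0 := fun z => by simp [z] at hei
      refine reduce e he (by rw [hN0, hee]) (iff_of_false hw0 he0) fun h k hh ek => ?_
      rw [hN0, zero_add] at hN
      set l := v j
      have hl : l ≠ 0 := fun z => by rw [z, zero_pow (by omega)] at hN; exact zero_ne_one hN
      obtain ⟨τ, hτ, eτ⟩ := trans_ni hF
        (show 2 ≤ ({i₃, j} : Finset (Fin n)).card by rw [Finset.card_pair K.h3j]) (v := δ j)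
        (v' := l • δ j) (supp_single (by simp)) ((supp_single (by simp)).smul _)
        (by rw [h_single hF, h_smul_single hF, hN]) (by rw [h_single hF]; exact one_ne_zero)
      set μ := (-l⁻¹) ^ q with hμ
      have hμ0 : μ ≠ 0 := pow_ne_zero _ (neg_ne_zero.2 (inv_ne_zero hl))
      have hμq : μ ^ q = -l⁻¹ := pow_q_pow_q hF _
      obtain ⟨-, Y, -, γY, -, -, hY, hγY⟩ := ec_exists hF K he hee 0 μ
      have hYj : suMat (Y * ⟨τ, win_mono hpT hτ⟩).1 *ᵥ δ j = e + l • δ j := by
        rw [Subgroup.coe_mul, suMat_mulVec_mul, eτ, mulVec_smul, hY]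
        have h1 : hermForm n F q (δ j : Fin n → F) e = 0 :=
          h_disjoint hF (supp_single (Finset.mem_singleton_self j)) he
            (by simp [hQ, K.h2j.symm, K.h3j.symm])
        rw [h1, zero_smul, add_zero, mul_zero, zero_sub, h_smul_right hF, h_single hF, mul_one,
          hμq, neg_neg, smul_add, smul_smul, mul_inv_cancel₀ hl, one_smul, add_comm]
      have hkk := b_same hF K.hab hTS (ek.trans hYj.symm)
      refine fix_congr hF hkk ?_
      -- decomposition of `h`
      obtain ⟨f, hf, hef⟩ := exists_partner hF he he0 hee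
      set y := suMat h.1 *ᵥ f
      have hi1 : i₁ ∉ Q := by simp [hQ, K.h12, K.h13]
      have hy : Supp (insert i₁ Q) y := by
        refine supp_image hF (win_mono ?_ h.2) (hf.mono (Finset.subset_insert _ _))
        simp [hQ, K.hS]
      have hyd0 := eq_add_single hy hi1
      have hp := supp_proj (S := Q) y
      set p := proj Q y
      set α := y i₁
      have hxe : hermForm n F q (α • (δ i₁ : Fin n → F)) e = 0 := e_left hF K he hee α
      have hxf : hermForm n F q (α • (δ i₁ : Fin n → F)) f = 0 :=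
        h_disjoint hF ((supp_single (Finset.mem_singleton_self i₁)).smul α) hf
          (by simp [hQ, K.h12, K.h13])
      have hy1 : hermForm n F q y e = 1 := by
        conv_lhs => rw [← hh]
        rw [suMat_h, (hef.symm hF).2.2]
      have hpd := pair_decomp hF K.h23 he hei hej hf hef hp
      rw [show hermForm n F q p e = 1 by
        rw [hyd0, h_add_left, hxe, add_zero] at hy1; exact hy1, one_smul] at hpd
      set γ := hermForm n F q p f
      have hyd : y = f + α • δ i₁ + γ • e := by rw [hyd0, hpd]; abel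
      have hγ : γ + γ ^ q + α ^ (q + 1) = 0 := by
        have h0 : hermForm n F q y y = 0 := by rw [suMat_h]; exact hef.2.1
        rw [← h_smul_single hF α i₁]
        rw [hyd] at h0
        generalize α • (δ i₁ : Fin n → F) = x at h0 hxe hxf ⊢
        simp only [h_add_left, h_add_right hF, h_smul_left, h_smul_right hF, hef.1, hef.2.1,
          hef.2.2, (hef.symm hF).2.2, hxe, hxf, (h_eq_zero_comm hF).1 hxe,
          (h_eq_zero_comm hF).1 hxf] at h0
        linear_combination h0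
      obtain ⟨E, hE⟩ := exists_isEich hF hee hxe (γ := γ) (by rw [h_smul_single hF]; exact hγ)
      have hES : E ∈ Win F q S :=
        e_winS hF K he hee hE ((supp_single (by simp [K.hS])).smul α)
      have hEf : suMat E *ᵥ f = y := by rw [eich_partner hF hE hef hxf, hyd]
      have hre : suMat (E⁻¹ * h.1) *ᵥ e = e := by
        rw [suMat_mulVec_mul, hh, suMat_inv_fix (eich_fix hF hE hee hxe)]
      have hrf : suMat (E⁻¹ * h.1) *ᵥ f = f := by
        rw [suMat_mulVec_mul]; show suMat E⁻¹ *ᵥ y = f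
        rw [← hEf, suMat_inv_mulVec]
      have hfixpair : ∀ i ∈ Q, suMat (E⁻¹ * h.1) *ᵥ (δ i : Fin n → F) = δ i := fun i hi => by
        rw [pair_decomp hF K.h23 he hei hej hf hef (y := δ i) (supp_single hi), mulVec_add,
          mulVec_smul, mulVec_smul, hre, hrf]
      have hr : E⁻¹ * h.1 ∈ Win F q {i₁} := by
        refine win_mono ?_ (win_erase (win_erase (mul_mem (inv_mem hES) h.2)
          (hfixpair i₂ (by simp [hQ]))) (hfixpair i₃ (by simp [hQ])))
        intro x
        simp only [K.hS, Finset.mem_erase, Finset.mem_insert, Finset.mem_singleton]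
        tauto
      have hhE : h = ⟨E, hES⟩ := Subtype.ext (by
        have := eq_one_of_single hF hr
        rw [inv_mul_eq_one] at this
        exact this.symm)
      have hcomm := ec_all hF K he hee (htot α μ hμ0) ⟨E, hES⟩ Y hE hγ hY hγY
      rw [hhE, map_mul b, ← mul_assoc, hcomm.eq, mul_assoc]
      have := congrArg (fun z : D ⧸ a.range => b Y • z) (fix0 ⟨E, hES⟩ ⟨τ, win_mono hpT hτ⟩ l eτ)
      simpa only [MulAction.Quotient.smul_coe, smul_eq_mul] using this
    · obtain ⟨y, hy⟩ := exists_norm_eq hF (h_self_fixed hF w)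
      have hy0 : y ≠ 0 := fun z => hN0 (by rw [← hy, z, zero_pow (by omega)])
      refine reduce (y • δ i₃) ((supp_single (by simp [hQ])).smul y)
        (by rw [h_smul_single hF, hy]) (iff_of_false hw0 fun z => hN0 (by
          rw [← hy, ← h_smul_single hF y i₃, z, h_zero_left])) fun h k hh ek => ?_
      obtain ⟨k', hk', ek'⟩ := trans_ni hF
        (show 2 ≤ ({i₃, j} : Finset (Fin n)).card by rw [Finset.card_pair K.h3j]) (v := δ j)
        (v' := y • δ i₃ + v j • δ j) (supp_single (by simp))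
        (((supp_single (by simp)).smul _).add ((supp_single (by simp)).smul _))
        (by rw [h_single hF, norm_add_single hF
          ((supp_single (Finset.mem_singleton_self i₃)).smul y) (by simp [K.h3j.symm]),
          h_smul_single hF, hy, hN]) (by rw [h_single hF]; exact one_ne_zero)
      have hkk := b_same hF K.hab hTS (k' := ⟨k', win_mono hpT hk'⟩) (ek.trans ek'.symm)
      have hh' : h.1 ∈ Win F q {i₁, i₂} := by
        refine win_mono ?_ (win_erase h.2 (j := i₃) (by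
          rw [mulVec_smul] at hh
          exact smul_right_injective (Fin n → F) hy0 hh))
        intro x
        simp only [K.hS, Finset.mem_erase, Finset.mem_insert, Finset.mem_singleton]
        tauto
      exact fix_congr hF hkk (fix_comm hF (K.hc h ⟨k', win_mono hpT hk'⟩ hh' hk'))
  have hn0 : proj Q v = 0 ↔ proj Q v' = 0 := by
    rw [← hhw]
    refine ⟨fun z => by rw [z, mulVec_zero], fun z => ?_⟩
    have := congrArg (fun x => suMat h.1⁻¹ *ᵥ x) z
    rwa [suMat_inv_mulVec, mulVec_zero] at this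
  obtain ⟨g, hg, c, hl, eg⟩ := line_trans hF K.h12 K.h13 K.h23 hw hw'
    (by rw [← hhw, suMat_h]) hn0
  rw [← K.hS] at hg
  have h1' := fix (⟨g, hg⟩⁻¹ * h) k (by
    rw [Subgroup.coe_mul, Subgroup.coe_inv, suMat_mulVec_mul, hhw, ← eg, suMat_inv_mulVec])
  have h2' := congrArg (fun z : D ⧸ a.range => a ⟨g, hg⟩ • z) h1'
  simp only [MulAction.Quotient.smul_coe, smul_eq_mul, map_mul, map_inv, ← mul_assoc,
    mul_inv_cancel, one_mul] at h2'
  obtain ⟨k₂, ek₂, hkk⟩ := move k ⟨g, hg⟩ c hl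
  rw [h2', hkk]
  refine b_same hF K.hab hTS ?_
  rw [ek₂]
  show suMat g *ᵥ v = v'
  rw [← hhk, hd, mulVec_add, mulVec_add, eg, hhw, fixj ⟨g, hg⟩, fixj h]

/-- Every vector of norm one carries a coset. -/
theorem four_exists {u : Fin n → F} (hu : Supp (insert j S) u) (hn : hermForm n F q u u = 1) :
    ∃ x, Cl a b j u x := by
  obtain ⟨w', hw', hN', h0⟩ : ∃ w' : Fin n → F, Supp {i₂, i₃} w' ∧
      hermForm n F q (proj S u) (proj S u) = hermForm n F q w' w' ∧ (proj S u = 0 ↔ w' = 0) := by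
    by_cases hw0 : proj S u = 0
    · exact ⟨0, supp_zero, by rw [hw0], iff_of_true hw0 rfl⟩
    by_cases hN0 : hermForm n F q (proj S u) (proj S u) = 0
    · obtain ⟨w', a, b, c, -⟩ := exists_iso_pair hF K.h23
      exact ⟨w', a, by rw [hN0, b], iff_of_false hw0 fun e => by simp [e] at c⟩
    · obtain ⟨y, hy⟩ := exists_norm_eq hF (h_self_fixed hF (proj S u))
      refine ⟨y • δ i₃, (supp_single (by simp)).smul y, by rw [h_smul_single hF, hy],
        iff_of_false hw0 fun e => hN0 ?_⟩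
      rw [← hy, ← h_smul_single hF y i₃, e, h_zero_left]
  obtain ⟨r, hr, er⟩ := trans3 hF
    (show 3 ≤ S.card by simp [K.hS, K.h12, K.h13, K.h23]) (supp_proj u)
    (hw'.mono (by simp [K.hS, Finset.subset_iff])) hN' h0
  have hru : Supp T (suMat r *ᵥ u) := fun i hi => by
    simp only [K.hT, Finset.mem_insert, Finset.mem_singleton, not_or] at hi
    by_cases hi' : i ∈ S
    · have := congrFun (proj_image hF hr u) i
      rw [proj_apply hi', er] at this
      rw [this]
      exact hw' i (by simp [hi.1, hi.2.1])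
    · rw [win_apply hF hr u hi']
      refine hu i ?_
      simp [hi', hi.2.2]
  obtain ⟨k, hk, ek⟩ := trans_ni hF
    (show 2 ≤ T.card by simp [K.hT, K.h23, K.h2j, K.h3j]) (v := δ j)
    (supp_single (by simp [K.hT])) hru
    (by rw [suMat_h, hn, h_single hF]) (by rw [h_single hF]; exact one_ne_zero)
  exact ⟨_, ⟨r, hr⟩⁻¹, ⟨k, hk⟩, by rw [Subgroup.coe_inv, suMat_mulVec_mul, ek, suMat_inv_mulVec],
    rfl⟩

/-- Elements of the outer pair respect the cosets away from isotropic projections. -/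
theorem four_good (huniq : ∀ u x y, Cl a b j u x → Cl a b j u y → x = y) {k : Win F q T}
    (hk : k.1 ∈ Win F q {i₃, j}) {u : Fin n → F} (hu : Supp (insert j S) u)
    (hn : hermForm n F q u u = 1)
    (hgood : proj {i₁, i₂} u = 0 ∨
      hermForm n F q (proj {i₁, i₂} u) (proj {i₁, i₂} u) ≠ 0)
    {x : D ⧸ a.range} (hx : Cl a b j u x) : Cl a b j (suMat k.1 *ᵥ u) (b k • x) := by
  have hP : ({i₁, i₂} : Finset (Fin n)) ⊆ S := by simp [K.hS, Finset.subset_iff]
  obtain ⟨r, hr, hri⟩ : ∃ r ∈ Win F q {i₁, i₂}, (suMat r *ᵥ u) i₁ = 0 := by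
    rcases hgood with h | h
    · refine ⟨1, one_mem _, ?_⟩
      rw [suMat_one, one_mulVec, ← proj_apply (S := {i₁, i₂}) (v := u) (i := i₁) (by simp), h]
      rfl
    · obtain ⟨y, hy⟩ := exists_norm_eq hF (h_self_fixed hF (proj {i₁, i₂} u))
      obtain ⟨r, hr, e⟩ := trans_ni hF (by rw [Finset.card_pair K.h12]) (supp_proj u)
        ((supp_single (i := i₂) (by simp)).smul y) (by rw [h_smul_single hF, hy]) h
      refine ⟨r, hr, ?_⟩
      rw [← proj_apply (S := {i₁, i₂}) (v := suMat r *ᵥ u) (i := i₁) (by simp),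
        proj_image hF hr, e]
      simp [K.h12]
  have hrS : r ∈ Win F q S := win_mono hP hr
  have hru : Supp T (suMat r *ᵥ u) := fun i hi => by
    have hins : Supp (insert j S) (suMat r *ᵥ u) :=
      supp_image hF (win_mono (Finset.subset_insert _ _) hrS) hu
    by_cases hi1 : i = i₁
    · rw [hi1, hri]
    · refine hins i ?_
      simp only [K.hT, K.hS, Finset.mem_insert, Finset.mem_singleton, not_or] at hi ⊢
      exact ⟨hi.2.2, hi1, hi.1, hi.2.1⟩
  obtain ⟨k₀, hk₀, ek⟩ := trans_ni hF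
    (show 2 ≤ T.card by simp [K.hT, K.h23, K.h2j, K.h3j]) (v := δ j)
    (supp_single (by simp [K.hT])) hru
    (by rw [suMat_h, hn, h_single hF]) (by rw [h_single hF]; exact one_ne_zero)
  have hcl : Cl a b j u (QuotientGroup.mk (a (⟨r, hrS⟩⁻¹) * b ⟨k₀, hk₀⟩)) :=
    ⟨_, _, by rw [Subgroup.coe_inv, suMat_mulVec_mul, ek, suMat_inv_mulVec], rfl⟩
  have hc := K.hc (⟨r, hrS⟩⁻¹) k (inv_mem hr) hk
  have hc' := hc.map π
  rw [K.hπa, K.hπb] at hc'
  rw [huniq u x _ hx hcl, MulAction.Quotient.smul_coe, smul_eq_mul]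
  refine ⟨⟨r, hrS⟩⁻¹, k * ⟨k₀, hk₀⟩, ?_, ?_⟩
  · rw [Subgroup.coe_mul, ← mul_assoc, hc'.eq, mul_assoc, Subgroup.coe_inv, suMat_mulVec_mul,
      suMat_mulVec_mul, ek, suMat_inv_mulVec]
  · rw [map_mul b, ← mul_assoc, ← hc.eq, mul_assoc]

/-- Elements of the outer pair respect all cosets. -/
theorem four_moves (huniq : ∀ u x y, Cl a b j u x → Cl a b j u y → x = y) {m : Win F q T}
    (hm : m.1 ∈ Win F q {i₃, j}) : Moves π a b j (b m) := by
  intro u x hx
  rw [K.hπb]
  have hTS := sub_erase hF K hq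
  have hU : T ⊆ insert j S := by simp [K.hT, K.hS, Finset.subset_iff]
  have hpT : ({i₃, j} : Finset (Fin n)) ⊆ T := by simp [K.hT, Finset.subset_iff]
  have hQT : ({i₂, i₃} : Finset (Fin n)) ⊆ T := by simp [K.hT, Finset.subset_iff]
  have hQS : ({i₂, i₃} : Finset (Fin n)) ⊆ S := by simp [K.hS, Finset.subset_iff]
  have hP : ({i₁, i₂} : Finset (Fin n)) ⊆ S := by simp [K.hS, Finset.subset_iff]
  obtain ⟨h, k, e, hxe⟩ := hx
  have hu : Supp (insert j S) u := by
    rw [← e]
    exact supp_image hF (mul_mem (win_mono (Finset.subset_insert _ _) h.2) (win_mono hU k.2))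
      (supp_single (Finset.mem_insert_self _ _))
  have hn : hermForm n F q u u = 1 := by rw [← e, suMat_h, h_single hF]
  have hx : Cl a b j u x := ⟨h, k, e, hxe⟩
  by_cases hgood : proj {i₁, i₂} u = 0 ∨
      hermForm n F q (proj {i₁, i₂} u) (proj {i₁, i₂} u) ≠ 0
  · exact four_good hF K hq huniq hm hu hn hgood hx
  rw [not_or, not_not] at hgood
  -- adjust the first coordinate
  obtain ⟨ν, hν, hν0, hν1⟩ := exists_fixed_avoid hF hq 1
  obtain ⟨r, hr, er⟩ := pair_move hF K.h12 (supp_proj (S := {i₁, i₂}) u) hgood.1 hν hν0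
  have hrS : r ∈ Win F q S := win_mono hP hr
  suffices main : ∀ (u : Fin n → F) (x : D ⧸ a.range), Supp (insert j S) u →
      hermForm n F q u u = 1 → Cl a b j u x → u i₁ ^ (q + 1) = ν →
      Cl a b j (suMat m.1 *ᵥ u) (b m • x) by
    have hc := K.hc ⟨r, hrS⟩ m hr hm
    have hc' : Commute r m.1 := by
      have := hc.map π
      rw [K.hπa, K.hπb] at this
      exact this
    have hc'' : r⁻¹ * m.1 * r = m.1 := by rw [mul_assoc, ← hc'.eq, inv_mul_cancel_left]
    have h1 := moves_left K.hπa ⟨r, hrS⟩ u x hx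
    rw [K.hπa] at h1
    have h2 := main _ _ (supp_image hF (win_mono (Finset.subset_insert _ _) hrS) hu)
      (by rw [suMat_h, hn]) h1 (by
        rw [← er, show (suMat r *ᵥ u) i₁ = (suMat r *ᵥ proj {i₁, i₂} u) i₁ by
          rw [← proj_image hF hr, proj_apply (by simp)]])
    have h3 := moves_left K.hπa (⟨r, hrS⟩⁻¹) _ _ h2
    rw [K.hπa, Subgroup.coe_inv, ← suMat_mulVec_mul, ← suMat_mulVec_mul, smul_smul, smul_smul,
      map_inv, mul_assoc (a ⟨r, hrS⟩)⁻¹, ← hc.eq, inv_mul_cancel_left, hc''] at h3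
    exact h3
  clear! u x r
  intro u x hu hn hx huc
  set c := u i₁
  have hc0 : c ≠ 0 := fun z => hν0 (by rw [← huc, z, zero_pow (by omega)])
  obtain ⟨a₀, ha₀⟩ := exists_norm_eq hF (c := 1 - ν) (by rw [sub_pow_q hF, one_pow, hν])
  have ha0 : a₀ ≠ 0 := fun z => hν1 (by
    rw [z, zero_pow (by omega)] at ha₀; linear_combination ha₀)
  set v₀ : Fin n → F := a₀ • δ j with hv₀
  have hi1T : i₁ ∉ T := by simp [K.hT, K.h12, K.h13, K.h1j]
  have hnorm : ∀ v : Fin n → F, Supp T v → hermForm n F q v v = 1 - ν →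
      hermForm n F q (v + c • δ i₁) (v + c • δ i₁) = 1 := fun v hv hvn => by
    rw [norm_add_single hF hv hi1T, hvn, huc]; ring
  have hsupp : ∀ v : Fin n → F, Supp T v → Supp (insert j S) (v + c • δ i₁) := fun v hv =>
    (hv.mono hU).add ((supp_single (by simp [K.hS])).smul c)
  have fix1 : ∀ g ∈ Win F q T, ∀ v : Fin n → F,
      suMat g *ᵥ (v + c • δ i₁) = suMat g *ᵥ v + c • δ i₁ := fun g hg v => by
    rw [mulVec_add, mulVec_smul, hg i₁ hi1T]
  have hproj : ∀ v : Fin n → F, Supp T v →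
      hermForm n F q (proj {i₁, i₂} (v + c • δ i₁)) (proj {i₁, i₂} (v + c • δ i₁)) =
        ν + v i₂ ^ (q + 1) := fun v hv => by
    rw [h_pair hF K.h12 (supp_proj _), proj_apply (by simp), proj_apply (by simp)]
    simp [hv i₁ hi1T, K.h12.symm, huc]
  have hv0T : Supp T v₀ := (supp_single (by simp [K.hT])).smul _
  have hv0n : hermForm n F q v₀ v₀ = 1 - ν := by rw [hv₀, h_smul_single hF, ha₀]
  obtain ⟨x₀, hx₀⟩ := four_exists hF K hq (hsupp v₀ hv0T) (hnorm v₀ hv0T hv0n)
  have step0 : ∀ v : Fin n → F, Supp {i₃, j} v → hermForm n F q v v = 1 - ν →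
      ∀ y, Cl a b j (v + c • δ i₁) y →
        ∃ k : Win F q T, suMat k.1 *ᵥ v₀ = v ∧ y = b k • x₀ := by
    intro v hv hvn y hy
    obtain ⟨k, hk, ek⟩ := trans_ni hF
      (show 2 ≤ ({i₃, j} : Finset (Fin n)).card by rw [Finset.card_pair K.h3j])
      ((supp_single (i := j) (by simp)).smul a₀) hv (by rw [hvn]; exact hv0n)
      (by rw [hv0n]; exact fun z => hν1 (by linear_combination -z))
    refine ⟨⟨k, win_mono hpT hk⟩, ek, huniq _ _ _ hy ?_⟩
    have := four_good hF K hq huniq (k := ⟨k, win_mono hpT hk⟩) hk (hsupp v₀ hv0T)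
      (hnorm v₀ hv0T hv0n) (Or.inr (by
        rw [hproj v₀ hv0T]; simp [hv₀, K.h2j, zero_pow, hν0])) hx₀
    rwa [fix1 k (win_mono hpT hk), ek] at this
  have step1 : ∀ v : Fin n → F, Supp T v → hermForm n F q v v = 1 - ν →
      (proj {i₂, i₃} v = 0 ∨ hermForm n F q (proj {i₂, i₃} v) (proj {i₂, i₃} v) ≠ 0) →
      ∀ y, Cl a b j (v + c • δ i₁) y →
        ∃ k : Win F q T, suMat k.1 *ᵥ v₀ = v ∧ y = b k • x₀ := by
    intro v hv hvn hpv y hy
    obtain ⟨s, hs, hs2⟩ : ∃ s ∈ Win F q {i₂, i₃}, (suMat s *ᵥ v) i₂ = 0 := by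
      rcases hpv with h | h
      · refine ⟨1, one_mem _, ?_⟩
        rw [suMat_one, one_mulVec, ← proj_apply (S := {i₂, i₃}) (v := v) (i := i₂) (by simp), h]
        rfl
      · obtain ⟨z, hz⟩ := exists_norm_eq hF (h_self_fixed hF (proj {i₂, i₃} v))
        obtain ⟨s, hs, e⟩ := trans_ni hF (by rw [Finset.card_pair K.h23]) (supp_proj v)
          ((supp_single (i := i₃) (by simp)).smul z) (by rw [h_smul_single hF, hz]) h
        refine ⟨s, hs, ?_⟩
        rw [← proj_apply (S := {i₂, i₃}) (v := suMat s *ᵥ v) (i := i₂) (by simp),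
          proj_image hF hs, e]
        simp [K.h23]
    have hsT := win_mono hQT hs
    have hsv : Supp {i₃, j} (suMat s *ᵥ v) := fun i hi => by
      by_cases h2 : i = i₂
      · rw [h2, hs2]
      · refine supp_image hF hsT hv i ?_
        simp only [K.hT, Finset.mem_insert, Finset.mem_singleton, not_or] at hi ⊢
        exact ⟨h2, hi.1, hi.2⟩
    have h1 := moves_left K.hπa ⟨s, win_mono hQS hs⟩ _ _ hy
    rw [K.hπa] at h1
    simp only [fix1 s hsT] at h1
    obtain ⟨k', ek', ey⟩ := step0 _ hsv (by rw [suMat_h, hvn]) _ h1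
    refine ⟨⟨s, hsT⟩⁻¹ * k', ?_, ?_⟩
    · rw [Subgroup.coe_mul, Subgroup.coe_inv, suMat_mulVec_mul, ek', suMat_inv_mulVec]
    · rw [map_mul, map_inv, mul_smul, ← ey, K.hab s (win_mono hQS hs) hsT, inv_smul_smul]
  have all : ∀ v : Fin n → F, Supp T v → hermForm n F q v v = 1 - ν →
      ∀ y, Cl a b j (v + c • δ i₁) y →
        ∃ k : Win F q T, suMat k.1 *ᵥ v₀ = v ∧ y = b k • x₀ := by
    intro v hv hvn y hy
    by_cases hpv : proj {i₂, i₃} v = 0 ∨
        hermForm n F q (proj {i₂, i₃} v) (proj {i₂, i₃} v) ≠ 0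
    · exact step1 v hv hvn hpv y hy
    rw [not_or, not_not] at hpv
    obtain ⟨ν₂, hν₂, hν₂0, hν₂'⟩ := exists_fixed_avoid hF hq (-ν)
    obtain ⟨s, hs, es⟩ := pair_move hF K.h23 (supp_proj (S := {i₂, i₃}) v) hpv.1 hν₂ hν₂0
    have hsT := win_mono hQT hs
    set v₁ := suMat s *ᵥ v with hv₁
    have hv₁T : Supp T v₁ := supp_image hF hsT hv
    have hv₁2 : v₁ i₂ ^ (q + 1) = ν₂ := by
      rw [← es, hv₁, show (suMat s *ᵥ v) i₂ = (suMat s *ᵥ proj {i₂, i₃} v) i₂ by
        rw [← proj_image hF hs, proj_apply (by simp)]]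
    have hv₁3 : v₁ i₃ ≠ 0 := fun z => by
      have := hpv.2
      rw [← suMat_h s, ← proj_image hF hs, h_pair hF K.h23 (supp_proj _), proj_apply (by simp),
        proj_apply (by simp), ← hv₁, hv₁2, z, zero_pow (by omega), add_zero] at this
      exact hν₂0 this
    obtain ⟨ν₃, hν₃, hν₃0, hν₃'⟩ := exists_fixed_avoid hF hq (-ν₂)
    obtain ⟨k, hk, ek⟩ := pair_move hF K.h3j (supp_proj (S := {i₃, j}) v₁) (fun z => hv₁3 (by
      rw [← proj_apply (S := {i₃, j}) (v := v₁) (i := i₃) (by simp), z]; rfl)) hν₃ hν₃0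
    have hkT := win_mono hpT hk
    have h1 := moves_left K.hπa ⟨s, win_mono hQS hs⟩ _ _ hy
    rw [K.hπa] at h1
    simp only [fix1 s hsT] at h1
    have h2 := four_good hF K hq huniq (k := ⟨k, hkT⟩) hk (hsupp v₁ hv₁T)
      (hnorm v₁ hv₁T (by rw [hv₁, suMat_h, hvn])) (Or.inr (by
        rw [hproj v₁ hv₁T, hv₁2]
        exact fun z => hν₂' (by linear_combination z))) h1
    simp only [fix1 k hkT] at h2
    obtain ⟨k', ek', ey⟩ := step1 _ (supp_image hF hkT hv₁T)
      (by rw [suMat_h, hv₁, suMat_h, hvn]) (Or.inr (by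
        rw [h_pair hF K.h23 (supp_proj _), proj_apply (by simp), proj_apply (by simp),
          win_apply hF hk v₁ (by simp [K.h23, K.h2j]), hv₁2,
          show (suMat k *ᵥ v₁) i₃ = (suMat k *ᵥ proj {i₃, j} v₁) i₃ by
            rw [← proj_image hF hk, proj_apply (by simp)], ek]
        exact fun z => hν₃' (by linear_combination z))) _ h2
    refine ⟨⟨s, hsT⟩⁻¹ * (⟨k, hkT⟩⁻¹ * k'), ?_, ?_⟩
    · rw [Subgroup.coe_mul, Subgroup.coe_mul, Subgroup.coe_inv, Subgroup.coe_inv,
        suMat_mulVec_mul, suMat_mulVec_mul, ek', suMat_inv_mulVec, hv₁, suMat_inv_mulVec]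
    · rw [map_mul, map_mul, map_inv, map_inv, mul_smul, mul_smul, ← ey, inv_smul_smul,
        K.hab s (win_mono hQS hs) hsT, inv_smul_smul]
  -- stabiliser of the base vector
  have stab : ∀ k : Win F q T, suMat k.1 *ᵥ v₀ = v₀ → b k • x₀ = x₀ := by
    intro k ek
    have hkj : suMat k.1 *ᵥ (δ j : Fin n → F) = δ j := by
      rw [hv₀, mulVec_smul] at ek
      exact smul_right_injective (Fin n → F) ha0 ek
    have hkS : k.1 ∈ Win F q S := win_mono hTS (win_erase k.2 hkj)
    have h1 := moves_left K.hπa ⟨k.1, hkS⟩ _ _ hx₀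
    rw [K.hπa] at h1
    simp only [fix1 k.1 k.2, ek, K.hab k.1 hkS k.2] at h1
    exact huniq _ _ _ h1 hx₀
  set v := u - c • δ i₁ with hvdef
  have huv : u = v + c • δ i₁ := (sub_add_cancel _ _).symm
  have hv : Supp T v := fun i hi => by
    by_cases h1 : i = i₁
    · subst h1; simp [hvdef, c]
    · simp only [hvdef, Pi.sub_apply, Pi.smul_apply, Pi.single_eq_of_ne h1, smul_zero, sub_zero]
      refine hu i ?_
      simp only [K.hT, K.hS, Finset.mem_insert, Finset.mem_singleton, not_or] at hi ⊢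
      exact ⟨hi.2.2, h1, hi.1, hi.2.1⟩
  have hvn : hermForm n F q v v = 1 - ν := by
    rw [huv, norm_add_single hF hv hi1T, huc] at hn
    linear_combination hn
  rw [huv] at hx
  obtain ⟨k₁, ek₁, hxk⟩ := all v hv hvn x hx
  have hmv : Supp T (suMat m.1 *ᵥ v) := supp_image hF m.2 hv
  obtain ⟨y, hy⟩ := four_exists hF K hq (hsupp _ hmv) (hnorm _ hmv (by rw [suMat_h, hvn]))
  obtain ⟨k₂, ek₂, hyk⟩ := all _ hmv (by rw [suMat_h, hvn]) y hy
  have := stab (k₂⁻¹ * (m * k₁)) (by
    rw [Subgroup.coe_mul, Subgroup.coe_mul, Subgroup.coe_inv, suMat_mulVec_mul, suMat_mulVec_mul,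
      ek₁, ← ek₂, suMat_inv_mulVec])
  rw [map_mul, map_mul, map_inv, mul_smul, mul_smul, ← hxk, inv_smul_eq_iff, ← hyk] at this
  rw [this, huv, fix1 m.1 m.2]
  exact hy

/-- `SU₄` from two triples. -/
theorem four {e : Fin n → F} (he : Supp {i₂, i₃} e) (hee : hermForm n F q e e = 0)
    (hei : e i₂ = 1) (hej : e i₃ ^ (q + 1) = -1) {θ : Fˣ}
    (hθ : ∀ u : Fˣ, u ∈ Subgroup.zpowers θ) (r1 : EC a b e i₁ j 1 1)
    (r2 : EC a b e i₁ j (θ : F) 1) (htop : a.range ⊔ b.range = ⊤) :
    Function.Injective π ∧ Win F q (insert j S) ≤ Win F q S ⊔ Win F q T := by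
  have he0 : e ≠ 0 := fun z => by simp [z] at hei
  have huniq := four_uniq hF K hq he hee hei hej
    (fun α μ hμ => ec_total hF K he hee hq he0 hθ r1 r2 α μ hμ)
  have hpT : ({i₃, j} : Finset (Fin n)) ⊆ T := by simp [K.hT, Finset.subset_iff]
  refine ⟨injective_of_moves K.hπa huniq
    (Set.range a ∪ b '' {m | m.1 ∈ Win F q {i₃, j}}) ?_ ?_, ?_⟩
  · rintro d (⟨h, rfl⟩ | ⟨m, hm, rfl⟩)
    · exact ⟨moves_left K.hπa h, by rw [← map_inv]; exact moves_left K.hπa _⟩
    · exact ⟨four_moves hF K hq huniq hm,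
        by rw [← map_inv]; exact four_moves hF K hq huniq (inv_mem hm)⟩
  · set C := Subgroup.closure (Set.range a ∪ b '' {m | m.1 ∈ Win F q {i₃, j}})
    rw [eq_top_iff, ← htop]
    refine sup_le (fun d hd => Subgroup.subset_closure (Or.inl hd)) ?_
    rintro _ ⟨k, rfl⟩
    have hle : Win F q T ≤ (C.comap b).map (Win F q T).subtype := by
      refine fun g hg => ((gen_three hF hq K.h23 K.h2j K.h3j).trans (sup_le ?_ ?_))
        (show g ∈ Win F q {i₂, i₃, j} by rw [← K.hT]; exact hg)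
      · intro g hg
        have hgT : g ∈ Win F q T := win_mono (by simp [K.hT, Finset.subset_iff]) hg
        have hgS : g ∈ Win F q S := win_mono (by simp [K.hS, Finset.subset_iff]) hg
        refine ⟨⟨g, hgT⟩, ?_, rfl⟩
        show b ⟨g, _⟩ ∈ C
        rw [← K.hab g hgS hgT]
        exact Subgroup.subset_closure (Or.inl ⟨_, rfl⟩)
      · intro g hg
        exact ⟨⟨g, win_mono hpT hg⟩, Subgroup.subset_closure (Or.inr ⟨_, hg, rfl⟩), rfl⟩
    obtain ⟨k', hk', e⟩ := hle k.2
    rw [← show k' = k from Subtype.ext e]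
    exact hk'
  · intro g hg
    have hins : insert j S = ({i₁, i₂, i₃, j} : Finset (Fin n)) := by
      rw [K.hS]; ext x; simp; tauto
    rw [hins] at hg
    exact ((gen_four hF K.h12 K.h13 K.h23 K.h1j K.h2j K.h3j).trans
      (sup_le_sup (win_mono (by rw [K.hS])) (win_mono hpT))) hg

end H69.SUW
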