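import Cfsg.Agent.H69.SUNPres

/-!
A presentation of `SU₄(q)`, `q ≥ 3`: `SU₃(q)` and one element carrying a triple onto another.
-/

set_option autoImplicit false
set_option linter.unusedSectionVars false
set_option linter.style.haveILetI false
set_option maxHeartbeats 1000000

namespace H69.SUW

open Matrix Cfsg H50 H37 H40.PresN

universe u v

variable {F : Type u} [Field F] [Fintype F] {q n : ℕ} (hF : Fintype.card F = q ^ 2)
include hF

/-- Pair windows are two-generated. -/
theorem pair_two_gen_at {a : ℕ} (ha : a + 2 ≤ n) :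
    ∃ x₁ x₂ : Win F q (blk n a 2), Subgroup.closure {x₁, x₂} = ⊤ := by
  obtain ⟨y₁, y₂, hy⟩ := pair_two_gen (n := 2) hF le_rfl
  obtain ⟨d₀⟩ := nonempty_blkEquiv (n := 2) hF (k := 2) le_rfl
  let f : Fin 2 ↪ Fin n := ⟨fun i => ⟨a + i.1, by omega⟩, fun i j e => Fin.ext (by
    have := congrArg Fin.val e
    simp at this
    omega)⟩
  have hf : Finset.univ.map f = blk n a 2 := by
    ext i
    simp only [Finset.mem_map, Finset.mem_univ, true_and, mem_blk]
    exact ⟨fun ⟨x, hx⟩ => by rw [← hx]; exact ⟨Nat.le_add_right _ _, show a + x.1 < a + 2 by omega⟩, fun h => ⟨⟨i.1 - a, by omega⟩, Fin.ext (by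
      show a + (i.1 - a) = i.1
      omega)⟩⟩
  have h2 := winEquiv hF f
  rw [hf] at h2
  let g := d₀.symm.trans h2
  refine ⟨g y₁, g y₂, ?_⟩
  rw [show ({g y₁, g y₂} : Set (Win F q (blk n a 2))) = g.toMonoidHom '' {y₁, y₂} by
    simp [Set.image_insert_eq], ← MonoidHom.map_closure, hy,
    Subgroup.map_top_of_surjective _ g.surjective]

/-- `SU₄(q)` from a presentation of `SU₃(q)`. -/
theorem hasPresN_four (hq : 3 ≤ q) {g R : ℕ} (hB : HasPresN (SU 3 F q) g R) :
    HasPresN (SU 4 F q) (1 + g) (R + 9) := by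
  classical
  obtain ⟨d3⟩ := nonempty_blkEquiv (n := 4) hF (k := 3) (by norm_num)
  have hBw := hB.of_equiv d3
  set S := blk 4 0 3 with hS
  set T := blk 4 1 3 with hT
  set i₁ : Fin 4 := ⟨0, by norm_num⟩
  set i₂ : Fin 4 := ⟨1, by norm_num⟩
  set i₃ : Fin 4 := ⟨2, by norm_num⟩
  set j : Fin 4 := ⟨3, by norm_num⟩
  have eS : S = {i₁, i₂, i₃} := blk_three (a := 0) (by norm_num)
  have eT : T = {i₂, i₃, j} := blk_three (a := 1) (by norm_num)
  have e12 : blk 4 1 2 = ({i₂, i₃} : Finset (Fin 4)) := blk_two (a := 1) (by norm_num)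
  have e01 : blk 4 0 2 = ({i₁, i₂} : Finset (Fin 4)) := blk_two (a := 0) (by norm_num)
  have e23 : blk 4 2 2 = ({i₃, j} : Finset (Fin 4)) := blk_two (a := 2) (by norm_num)
  -- the element carrying the first triple to the second
  obtain ⟨p, -, hp⟩ := trans_ni (n := 4) (q := q) hF (S := (Finset.univ : Finset (Fin 4))) (by simp)
    (v := (δ j : Fin 4 → F)) (v' := δ i₁) (fun i hi => absurd (Finset.mem_univ i) hi)
    (fun i hi => absurd (Finset.mem_univ i) hi) (by rw [h_single hF, h_single hF])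
    (by rw [h_single hF]; exact one_ne_zero)
  have hpinv : suMat p⁻¹ *ᵥ (δ i₁ : Fin 4 → F) = δ j := by rw [← hp, suMat_inv_mulVec]
  have hnS : ∀ i, i ∉ S → i = j := fun i hi => by
    simp [hS, mem_blk] at hi
    exact Fin.ext (show i.1 = 3 by omega)
  have hnT : ∀ i, i ∉ T → i = i₁ := fun i hi => by
    simp [hT, mem_blk] at hi
    exact Fin.ext (show i.1 = 0 by omega)
  have pST : ∀ x ∈ Win F q S, p * x * p⁻¹ ∈ Win F q T := fun x hx i hi => by
    obtain rfl := hnT i hi
    rw [suMat_mulVec_mul, suMat_mulVec_mul, hpinv, hx j (by simp [hS, mem_blk, j]), hp]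
  have pTS : ∀ k ∈ Win F q T, p⁻¹ * k * p ∈ Win F q S := fun k hk i hi => by
    obtain rfl := hnS i hi
    rw [suMat_mulVec_mul, suMat_mulVec_mul, hp, hk i₁ (by simp [hT, mem_blk, i₁]), hpinv]
  let θT : Win F q T →* Win F q S :=
    ((MulAut.conj p⁻¹).toMonoidHom.comp (Win F q T).subtype).codRestrict _ fun k => by
      simpa using pTS k.1 k.2
  have hθT : ∀ k : Win F q T, p * (θT k).1 * p⁻¹ = k.1 := fun k => by
    simp [θT, mul_assoc]
  -- generators of pairs and root elements
  obtain ⟨y₁, y₂, hy⟩ := pair_two_gen_at (n := 4) hF (a := 1) (by norm_num)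
  obtain ⟨u₁, u₂, hu⟩ := pair_two_gen_at (n := 4) hF (a := 0) (by norm_num)
  obtain ⟨v₁, v₂, hv⟩ := pair_two_gen_at (n := 4) hF (a := 2) (by norm_num)
  have l12S : blk 4 1 2 ⊆ S := blk_mono (by norm_num) (by norm_num)
  have l12T : blk 4 1 2 ⊆ T := blk_mono le_rfl (by norm_num)
  have l01S : blk 4 0 2 ⊆ S := blk_mono le_rfl (by norm_num)
  have l23T : blk 4 2 2 ⊆ T := blk_mono (by norm_num) (by norm_num)
  let iS12 : Win F q (blk 4 1 2) →* Win F q S := Subgroup.inclusion (win_mono l12S)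
  let iT12 : Win F q (blk 4 1 2) →* Win F q T := Subgroup.inclusion (win_mono l12T)
  let iS01 : Win F q (blk 4 0 2) →* Win F q S := Subgroup.inclusion (win_mono l01S)
  let iT23 : Win F q (blk 4 2 2) →* Win F q T := Subgroup.inclusion (win_mono l23T)
  obtain ⟨e, hes, hee, he1, he2⟩ := exists_iso_pair (q := q) (n := 4) hF
    (i := i₂) (j := i₃) (by simp [i₂, i₃, Fin.ext_iff])
  obtain ⟨θ, hθ⟩ := IsCyclic.exists_generator (α := Fˣ)
  have hei1 : e i₁ = 0 := hes _ (by simp [i₁, i₂, i₃, Fin.ext_iff])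
  have hej : e j = 0 := hes _ (by simp [j, i₂, i₃, Fin.ext_iff])
  have root : ∀ μ : F, ∃ (h : Win F q S) (γ : F),
      IsEich e (μ • (δ i₁ : Fin 4 → F)) γ h.1 ∧ γ + γ ^ q + μ ^ (q + 1) = 0 := fun μ =>
    exists_eich_win hF hee hei1 (hes.mono (by simp [eS, Finset.subset_iff])) (by simp [eS]) μ
  obtain ⟨hA1, γA1, hA1e, hA1γ⟩ := root 1
  obtain ⟨hAθ, γAθ, hAθe, hAθγ⟩ := root θ
  obtain ⟨kT, γT, hkTe, hkTγ⟩ := exists_eich_win hF (U := T) hee hej
    (hes.mono (by simp [eT, Finset.subset_iff])) (show j ∈ T by simp [eT]) 1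
  -- a word for `p`
  let P : FreeGroup (Multiplicative ℤ ⊕ Win F q S) := FreeGroup.of (Sum.inl (Multiplicative.ofAdd 1))
  let Rr : Win F q S → FreeGroup (Multiplicative ℤ ⊕ Win F q S) := fun x => FreeGroup.of (Sum.inr x)
  let β : Win F q T → FreeGroup (Multiplicative ℤ ⊕ Win F q S) := fun k => P * Rr (θT k) * P⁻¹
  let wd : FreeGroup (Win F q S ⊕ Win F q T) →* FreeGroup (Multiplicative ℤ ⊕ Win F q S) :=
    FreeGroup.lift (Sum.elim Rr β)
  obtain ⟨w, hw⟩ : ∃ w : FreeGroup (Win F q S ⊕ Win F q T),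
      FreeGroup.lift (Sum.elim (Win F q S).subtype (Win F q T).subtype) w = p := by
    set ev := FreeGroup.lift (Sum.elim (Win F q S).subtype (Win F q T).subtype)
    refine MonoidHom.mem_range.1 (?_ : p ∈ ev.range)
    have hle : Win F q S ⊔ Win F q T ≤ ev.range :=
      sup_le (fun x hx => ⟨FreeGroup.of (Sum.inl ⟨x, hx⟩), by simp [ev]⟩)
        (fun x hx => ⟨FreeGroup.of (Sum.inr ⟨x, hx⟩), by simp [ev]⟩)
    refine hle ((sup_le_sup (win_mono (by rw [eS])) (win_mono (by simp [eT, Finset.subset_iff])))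
      (gen_four hF (i₁ := i₁) (i₂ := i₂) (i₃ := i₃) (j := j) (by simp [i₁, i₂, Fin.ext_iff])
        (by simp [i₁, i₃, Fin.ext_iff]) (by simp [i₂, i₃, Fin.ext_iff]) (by simp [i₁, j, Fin.ext_iff])
        (by simp [i₂, j, Fin.ext_iff]) (by simp [i₃, j, Fin.ext_iff]) ?_))
    exact fun i hi => absurd hi (by
      simp only [not_not]
      rcases i with ⟨i, hi'⟩
      interval_cases i <;> simp [i₁, i₂, i₃, j])
  -- the relators
  let cm : FreeGroup (Multiplicative ℤ ⊕ Win F q S) → FreeGroup (Multiplicative ℤ ⊕ Win F q S) →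
      FreeGroup (Multiplicative ℤ ⊕ Win F q S) := fun x y => x * y * x⁻¹ * y⁻¹
  let Eab := ({y₁, y₂} : Finset (Win F q (blk 4 1 2))).image fun y => (Rr (iS12 y))⁻¹ * β (iT12 y)
  let Ec := (({u₁, u₂} : Finset (Win F q (blk 4 0 2))) ×ˢ
    ({v₁, v₂} : Finset (Win F q (blk 4 2 2)))).image fun x => cm (Rr (iS01 x.1)) (β (iT23 x.2))
  let Eec := ({hA1, hAθ} : Finset (Win F q S)).image fun h => cm (Rr h) (β kT)
  let Ew : Finset (FreeGroup (Multiplicative ℤ ⊕ Win F q S)) := {P⁻¹ * wd w}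
  let ιA : Multiplicative ℤ →* SU 4 F q := zpowersHom _ p
  have hP : ∀ {G : Type u} [Group G] (f : Multiplicative ℤ →* G) (g : Win F q S →* G),
      FreeGroup.lift (Sum.elim f g) P = f (Multiplicative.ofAdd 1) := fun f g => by simp [P]
  refine (H69.SUNP.glue (H69.SUNP.hasPresN_int) hBw ιA (Win F q S).subtype
    (Eab ∪ Ec ∪ Eec ∪ Ew) ?_ ?_).mono ?_
  · have hβ : ∀ k, FreeGroup.lift (Sum.elim ιA (Win F q S).subtype) (β k) = k.1 := fun k => by
      simp [β, P, Rr, ιA, zpowersHom_apply, hθT]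
    intro r hr
    simp only [Eab, Ec, Eec, Ew, Finset.mem_union, Finset.mem_image, Finset.mem_product,
      Finset.mem_singleton] at hr
    rcases hr with ((⟨y, -, rfl⟩ | ⟨x, -, rfl⟩) | ⟨h, hh, rfl⟩) | rfl
    · rw [map_mul, map_inv, hβ]
      simp [Rr, iS12, iT12]
    · rw [lift_comm, hβ]
      simp only [Rr, FreeGroup.lift_apply_of, Sum.elim_inr, Subgroup.coe_subtype]
      refine win_commute hF (S := blk 4 0 2) (T := blk 4 2 2) ?_ x.1.2 x.2.2
      rw [Finset.disjoint_left]
      intro i hi hi'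
      simp [mem_blk] at hi hi'
      omega
    · rw [lift_comm, hβ]
      simp only [Rr, FreeGroup.lift_apply_of, Sum.elim_inr, Subgroup.coe_subtype]
      have he' : ∀ (i : Fin 4) (μ : F), i = i₁ ∨ i = j →
          hermForm 4 F q (μ • (δ i : Fin 4 → F)) e = 0 := fun i μ hi =>
        h_disjoint hF ((supp_single (Finset.mem_singleton_self i)).smul μ) hes
          (by rcases hi with rfl | rfl <;> simp [i₁, i₂, i₃, j, Fin.ext_iff])
      have hperp : ∀ μ : F,
          hermForm 4 F q (μ • (δ i₁ : Fin 4 → F)) ((1 : F) • (δ j : Fin 4 → F)) = 0 := fun μ =>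
        h_disjoint hF ((supp_single (Finset.mem_singleton_self i₁)).smul μ)
          ((supp_single (Finset.mem_singleton_self j)).smul (1 : F)) (by simp [i₁, j, Fin.ext_iff])
      rcases Finset.mem_insert.1 hh with rfl | hh
      · exact eich_commute hF hee (he' _ _ (Or.inl rfl)) (he' _ _ (Or.inr rfl)) (hperp _) hA1e hkTe
      · rw [Finset.mem_singleton.1 hh]
        exact eich_commute hF hee (he' _ _ (Or.inl rfl)) (he' _ _ (Or.inr rfl)) (hperp _) hAθe hkTe
    · have hcomp : (FreeGroup.lift (Sum.elim ιA (Win F q S).subtype)).comp wd =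
          FreeGroup.lift (Sum.elim (Win F q S).subtype (Win F q T).subtype) :=
        FreeGroup.ext_hom _ _ fun x => by
          rcases x with x | x
          · simp [wd, Rr]
          · simp only [MonoidHom.comp_apply, wd, FreeGroup.lift_apply_of, Sum.elim_inr, hβ]
            rfl
      rw [map_mul, map_inv, ← MonoidHom.comp_apply _ wd, hcomp, hw]
      simp [P, ιA, zpowersHom_apply]
  · intro G _ π α ψ hπα hπψ hrel htop
    set P' := α (Multiplicative.ofAdd 1) with hP'
    let b : Win F q T →* G := (MulAut.conj P').toMonoidHom.comp (ψ.comp θT)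
    have hβ : ∀ k, FreeGroup.lift (Sum.elim α ψ) (β k) = b k := fun k => by
      simp [β, P, Rr, b, hP']
    have hπb : ∀ k, π (b k) = k.1 := fun k => by
      simp only [b, MonoidHom.comp_apply, MulEquiv.coe_toMonoidHom, MulAut.conj_apply, map_mul,
        map_inv, hπψ, hP', hπα]
      simp [ιA, zpowersHom_apply, hθT]
    have rab : ∀ y, ψ (iS12 y) = b (iT12 y) := fun y => by
      refine DFunLike.congr_fun (MonoidHom.eq_of_eqOn_dense (f := ψ.comp iS12) (g := b.comp iT12) hy
        fun y hy => ?_) y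
      have hm : y ∈ ({y₁, y₂} : Finset (Win F q (blk 4 1 2))) := by
        rcases hy with rfl | rfl <;> simp
      have := hrel ((Rr (iS12 y))⁻¹ * β (iT12 y)) (Finset.mem_union_left _ (Finset.mem_union_left _
        (Finset.mem_union_left _ (Finset.mem_image.2 ⟨y, hm, rfl⟩))))
      rw [map_mul, map_inv, hβ, inv_mul_eq_one] at this
      simpa [Rr] using this
    have rc : ∀ x y, Commute (ψ (iS01 x)) (b (iT23 y)) := fun x y => by
      refine (H40.SpPres.commute_closure (ψ.comp iS01) (b (iT23 y)) {u₁, u₂} hu (fun x hx => ?_) x).symm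
      refine ((H40.SpPres.commute_closure (b.comp iT23) (ψ (iS01 x)) {v₁, v₂} hv (fun y hy => ?_) y)).symm
      have hmx : x ∈ ({u₁, u₂} : Finset (Win F q (blk 4 0 2))) := by
        rcases hx with rfl | rfl <;> simp
      have hmy : y ∈ ({v₁, v₂} : Finset (Win F q (blk 4 2 2))) := by
        rcases hy with rfl | rfl <;> simp
      have := hrel (cm (Rr (iS01 x)) (β (iT23 y))) (Finset.mem_union_left _ (Finset.mem_union_left _
        (Finset.mem_union_right _ (Finset.mem_image.2
          ⟨(x, y), Finset.mem_product.2 ⟨hmx, hmy⟩, rfl⟩))))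
      rw [lift_comm, hβ] at this
      simpa [Rr] using this
    have rec' : ∀ h ∈ ({hA1, hAθ} : Finset (Win F q S)), Commute (ψ h) (b kT) := fun h hh => by
      have := hrel (cm (Rr h) (β kT)) (Finset.mem_union_left _ (Finset.mem_union_right _
        (Finset.mem_image.2 ⟨h, hh, rfl⟩)))
      rw [lift_comm, hβ] at this
      simpa [Rr] using this
    let D : Subgroup G := ψ.range ⊔ b.range
    let a0 : Win F q S →* D := ψ.codRestrict D fun x => Subgroup.mem_sup_left ⟨x, rfl⟩
    let b0 : Win F q T →* D := b.codRestrict D fun x => Subgroup.mem_sup_right ⟨x, rfl⟩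
    have hwin12 : ∀ g : SU 4 F q, g ∈ Win F q S → g ∈ Win F q T → g ∈ Win F q (blk 4 1 2) :=
      fun g h1 h2 => win_mono (fun i hi => by
        simp [hS, hT, Finset.mem_inter, mem_blk] at hi ⊢; omega) (win_inter h1 h2)
    have K : Four (π.comp D.subtype) a0 b0 i₁ i₂ i₃ j := by
      refine ⟨by simp [i₁, i₂, Fin.ext_iff], by simp [i₁, i₃, Fin.ext_iff],
        by simp [i₂, i₃, Fin.ext_iff], by simp [i₁, j, Fin.ext_iff], by simp [i₂, j, Fin.ext_iff],
        by simp [i₃, j, Fin.ext_iff], eS, eT, hπψ, hπb, fun g hgS hgT => Subtype.ext ?_,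
        fun x y hx hy => ?_⟩
      · exact rab ⟨g, hwin12 g hgS hgT⟩
      · refine Subtype.ext (show Commute (ψ x) (b y) from ?_).eq
        rw [← e01] at hx
        rw [← e23] at hy
        exact rc ⟨x.1, hx⟩ ⟨y.1, hy⟩
    have htop4 : a0.range ⊔ b0.range = ⊤ := by
      have hra : a0.range = ψ.range.subgroupOf D := by
        ext d; simp [a0, Subgroup.mem_subgroupOf, Subtype.ext_iff]
      have hrb : b0.range = b.range.subgroupOf D := by
        ext d; simp [b0, Subgroup.mem_subgroupOf, Subtype.ext_iff]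
      rw [hra, hrb, ← Subgroup.subgroupOf_sup (show ψ.range ≤ D from le_sup_left)
        (show b.range ≤ D from le_sup_right), Subgroup.subgroupOf_self]
    obtain ⟨hinj, hgen⟩ := four hF K hq hes hee he1 he2 hθ
      ⟨hA1, kT, γA1, γT, hA1e, hA1γ, hkTe, hkTγ, Subtype.ext (rec' _ (by simp)).eq⟩
      ⟨hAθ, kT, γAθ, γT, hAθe, hAθγ, hkTe, hkTγ, Subtype.ext (rec' _ (by simp)).eq⟩ htop4
    have hpD : P' ∈ D := by
      have := hrel (P⁻¹ * wd w) (Finset.mem_union_right _ (Finset.mem_singleton_self _))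
      rw [map_mul, map_inv, inv_mul_eq_one, ← MonoidHom.comp_apply _ wd] at this
      have hcomp : (FreeGroup.lift (Sum.elim α ψ)).comp wd = FreeGroup.lift (Sum.elim ψ b) :=
        FreeGroup.ext_hom _ _ fun x => by
          rcases x with x | x
          · simp [wd, Rr]
          · simp [wd, hβ]
      rw [hcomp] at this
      rw [show P' = FreeGroup.lift (Sum.elim α ψ) P by simp [P, hP'], this]
      refine (show (FreeGroup.lift (Sum.elim ψ b)).range ≤ D from ?_) ⟨w, rfl⟩
      rw [FreeGroup.range_lift_eq_closure, Subgroup.closure_le]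
      rintro _ ⟨x | x, rfl⟩
      · exact Subgroup.mem_sup_left ⟨x, rfl⟩
      · exact Subgroup.mem_sup_right ⟨x, rfl⟩
    have hDtop : D = ⊤ := by
      rw [eq_top_iff, ← htop, Subgroup.closure_le]
      rintro _ (⟨z, rfl⟩ | ⟨x, rfl⟩)
      · rw [SetLike.mem_coe, show z = Multiplicative.ofAdd (1 : ℤ) ^ (Multiplicative.toAdd z) by
          rw [← ofAdd_zsmul]; simp, map_zpow]
        exact zpow_mem hpD _
      · exact Subgroup.mem_sup_left ⟨x, rfl⟩
    refine ⟨fun x y h => ?_, fun g => ?_⟩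
    · have hx : x ∈ D := hDtop ▸ Subgroup.mem_top x
      have hy : y ∈ D := hDtop ▸ Subgroup.mem_top y
      exact congrArg Subtype.val (hinj (a₁ := ⟨x, hx⟩) (a₂ := ⟨y, hy⟩) h)
    · have hle : Win F q S ⊔ Win F q T ≤ π.range :=
        sup_le (fun x hx => ⟨ψ ⟨x, hx⟩, hπψ _⟩) (fun x hx => ⟨b ⟨x, hx⟩, hπb _⟩)
      refine hle (hgen ?_)
      exact fun i hi => absurd hi (by
        simp only [not_not, hS]
        simp [mem_blk, j, Fin.ext_iff]
        omega)
  · have e1 : Eab.card ≤ 2 := Finset.card_image_le.trans Finset.card_le_two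
    have e2 : Ec.card ≤ 4 := Finset.card_image_le.trans (by
      rw [Finset.card_product]; exact Nat.mul_le_mul Finset.card_le_two Finset.card_le_two)
    have e3 : Eec.card ≤ 2 := Finset.card_image_le.trans Finset.card_le_two
    have e4 : Ew.card = 1 := Finset.card_singleton _
    have u1 := Finset.card_union_le (Eab ∪ Ec ∪ Eec) Ew
    have u2 := Finset.card_union_le (Eab ∪ Ec) Eec
    have u3 := Finset.card_union_le Eab Ec
    omega

end H69.SUW
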