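import Cfsg.Agent.H69.SUFourTools

/-!
Two overlapping triples: commuting of the root groups at a common isotropic point from two
relations.
-/

set_option autoImplicit false
set_option linter.unusedSectionVars false

namespace H69.SUW

open Matrix Cfsg H50 H37

universe u v

variable {F : Type u} [Field F] {q n : ℕ} {S T : Finset (Fin n)} {D : Type v} [Group D]

/-- Two compatible triples `{i₁, i₂, i₃}` and `{i₂, i₃, j}` with commuting outer pairs. -/
structure Four (π : D →* SU n F q) (a : Win F q S →* D) (b : Win F q T →* D)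
    (i₁ i₂ i₃ j : Fin n) : Prop where
  h12 : i₁ ≠ i₂
  h13 : i₁ ≠ i₃
  h23 : i₂ ≠ i₃
  h1j : i₁ ≠ j
  h2j : i₂ ≠ j
  h3j : i₃ ≠ j
  hS : S = {i₁, i₂, i₃}
  hT : T = {i₂, i₃, j}
  hπa : ∀ h, π (a h) = h.1
  hπb : ∀ k, π (b k) = k.1
  hab : ∀ g (hgS : g ∈ Win F q S) (hgT : g ∈ Win F q T), a ⟨g, hgS⟩ = b ⟨g, hgT⟩
  hc : ∀ (h : Win F q S) (k : Win F q T), h.1 ∈ Win F q {i₁, i₂} → k.1 ∈ Win F q {i₃, j} →
    Commute (a h) (b k)

/-- Some root elements with the given parameters commute. -/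
def EC (a : Win F q S →* D) (b : Win F q T →* D) (e : Fin n → F) (i₁ j : Fin n) (α μ : F) : Prop :=
  ∃ (h : Win F q S) (k : Win F q T) (γ γ' : F),
    IsEich e (α • (δ i₁ : Fin n → F)) γ h.1 ∧ γ + γ ^ q + α ^ (q + 1) = 0 ∧
    IsEich e (μ • (δ j : Fin n → F)) γ' k.1 ∧ γ' + γ' ^ q + μ ^ (q + 1) = 0 ∧ Commute (a h) (b k)

variable [Fintype F] (hF : Fintype.card F = q ^ 2) {π : D →* SU n F q} {a : Win F q S →* D}
  {b : Win F q T →* D} {i₁ i₂ i₃ j : Fin n} (K : Four π a b i₁ i₂ i₃ j)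
  {e : Fin n → F} (he : Supp {i₂, i₃} e) (hee : hermForm n F q e e = 0)
include hF K he hee

theorem e_left (c : F) : hermForm n F q (c • (δ i₁ : Fin n → F)) e = 0 :=
  h_disjoint hF ((supp_single (Finset.mem_singleton_self i₁)).smul c) he (by simp [K.h12, K.h13])

theorem e_right (c : F) : hermForm n F q (c • (δ j : Fin n → F)) e = 0 :=
  h_disjoint hF ((supp_single (Finset.mem_singleton_self j)).smul c) he
    (by simp [K.h2j.symm, K.h3j.symm])

theorem e_winS {w : Fin n → F} {γ : F} {g : SU n F q} (hg : IsEich e w γ g) (hw : Supp S w) :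
    g ∈ Win F q S :=
  eich_mem_win hF hg (he.mono (by simp [K.hS, Finset.subset_iff])) hw

theorem e_winT {w : Fin n → F} {γ : F} {g : SU n F q} (hg : IsEich e w γ g) (hw : Supp T w) :
    g ∈ Win F q T :=
  eich_mem_win hF hg (he.mono (by simp [K.hT, Finset.subset_iff])) hw

/-- All elements with the given parameters commute. -/
theorem ec_all {α μ : F} (H : EC a b e i₁ j α μ) (h : Win F q S) (k : Win F q T) {γ γ' : F}
    (hh : IsEich e (α • (δ i₁ : Fin n → F)) γ h.1) (hγ : γ + γ ^ q + α ^ (q + 1) = 0)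
    (hk : IsEich e (μ • (δ j : Fin n → F)) γ' k.1) (hγ' : γ' + γ' ^ q + μ ^ (q + 1) = 0) :
    Commute (a h) (b k) := by
  obtain ⟨h₀, k₀, γ₀, γ₀', hh₀, hγ₀, hk₀, hγ₀', hcomm⟩ := H
  have hαe := e_left hF K he hee α
  have hμe := e_right hF K he hee μ
  obtain ⟨z, hz, ez⟩ := eich_split hF hee hαe hh₀ hh (by rw [h_smul_single hF]; exact hγ₀)
    (by rw [h_smul_single hF]; exact hγ)
  obtain ⟨z', hz', ez'⟩ := eich_split hF hee hμe hk₀ hk (by rw [h_smul_single hF]; exact hγ₀')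
    (by rw [h_smul_single hF]; exact hγ')
  have hzS := e_winS hF K he hee hz supp_zero
  have hzT := e_winT hF K he hee hz supp_zero
  have hz'S := e_winS hF K he hee hz' supp_zero
  have hz'T := e_winT hF K he hee hz' supp_zero
  rw [show h = h₀ * ⟨z, hzS⟩ from Subtype.ext ez, show k = k₀ * ⟨z', hz'T⟩ from Subtype.ext ez',
    map_mul, map_mul]
  have c1 : Commute (a ⟨z, hzS⟩) (b k₀) := by
    rw [K.hab z hzS hzT]
    exact ((show Commute (⟨z, hzT⟩ : Win F q T) k₀ from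
      Subtype.ext (eich_central hF hee hμe hk₀ hz).symm.eq)).map b
  have c2 : Commute (a h₀) (b ⟨z', hz'T⟩) := by
    rw [← K.hab z' hz'S hz'T]
    exact ((show Commute h₀ (⟨z', hz'S⟩ : Win F q S) from
      Subtype.ext (eich_central hF hee hαe hh₀ hz').eq)).map a
  have c3 : Commute (a ⟨z, hzS⟩) (b ⟨z', hz'T⟩) := by
    rw [K.hab z hzS hzT]
    exact ((show Commute (⟨z, hzT⟩ : Win F q T) ⟨z', hz'T⟩ from
      Subtype.ext (eich_central hF hee (h_zero_left e) hz hz').eq)).map b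
  exact (hcomm.mul_right c2).mul_left (c1.mul_right c3)

/-- Existence of root elements. -/
theorem ec_exists (α μ : F) : ∃ (h : Win F q S) (k : Win F q T) (γ γ' : F),
    IsEich e (α • (δ i₁ : Fin n → F)) γ h.1 ∧ γ + γ ^ q + α ^ (q + 1) = 0 ∧
    IsEich e (μ • (δ j : Fin n → F)) γ' k.1 ∧ γ' + γ' ^ q + μ ^ (q + 1) = 0 := by
  obtain ⟨γ, hγ⟩ := exists_trace_eq hF (c := -(α ^ (q + 1)))
    (by rw [neg_pow_q hF, norm_fixed hF])
  obtain ⟨γ', hγ'⟩ := exists_trace_eq hF (c := -(μ ^ (q + 1)))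
    (by rw [neg_pow_q hF, norm_fixed hF])
  obtain ⟨h, hh⟩ := exists_isEich hF hee (e_left hF K he hee α) (γ := γ)
    (by rw [h_smul_single hF, hγ]; ring)
  obtain ⟨k, hk⟩ := exists_isEich hF hee (e_right hF K he hee μ) (γ := γ')
    (by rw [h_smul_single hF, hγ']; ring)
  exact ⟨⟨h, e_winS hF K he hee hh ((supp_single (by simp [K.hS])).smul _)⟩,
    ⟨k, e_winT hF K he hee hk ((supp_single (by simp [K.hT])).smul _)⟩, γ, γ', hh,
    by rw [hγ]; ring, hk, by rw [hγ']; ring⟩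

theorem ec_add {α β μ : F} (Hα : EC a b e i₁ j α μ) (Hβ : EC a b e i₁ j β μ) :
    EC a b e i₁ j (α + β) μ := by
  obtain ⟨h₁, k, γ₁, γ', hh₁, hγ₁, hk, hγ', c1⟩ := Hα
  obtain ⟨h₂, -, γ₂, -, hh₂, hγ₂, -, -⟩ := ec_exists hF K he hee β μ
  have c2 := ec_all hF K he hee Hβ h₂ k hh₂ hγ₂ hk hγ'
  have hm := hh₁.mul hF hh₂ hee (e_left hF K he hee α) (e_left hF K he hee β)
  rw [← add_smul, h_smul_left, h_smul_right hF, h_single hF, mul_one] at hm
  refine ⟨h₁ * h₂, k, _, γ', hm, ?_, hk, hγ', ?_⟩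
  · rw [pow_succ (α + β), add_pow_q hF, sub_pow_q hF, add_pow_q hF, mul_pow, pow_q_pow_q hF]
    rw [pow_succ] at hγ₁ hγ₂
    linear_combination hγ₁ + hγ₂
  · rw [map_mul]; exact c1.mul_left c2

theorem ec_neg {α μ : F} (Hα : EC a b e i₁ j α μ) : EC a b e i₁ j (-α) μ := by
  obtain ⟨h₁, k, γ₁, γ', hh₁, hγ₁, hk, hγ', c1⟩ := Hα
  have hm := hh₁.inv hF hee (e_left hF K he hee α) (by rw [h_smul_single hF]; exact hγ₁)
  rw [← neg_smul] at hm
  refine ⟨h₁⁻¹, k, _, γ', hm, ?_, hk, hγ', ?_⟩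
  · rw [pow_q_pow_q hF, pow_succ (-α), neg_pow_q hF]
    rw [pow_succ] at hγ₁
    linear_combination hγ₁
  · rw [map_inv]; exact c1.inv_left

theorem ec_zero {α μ : F} (Hα : EC a b e i₁ j α μ) : EC a b e i₁ j 0 μ := by
  simpa using ec_add hF K he hee Hα (ec_neg hF K he hee Hα)

/-- Conjugation by a torus element of either triple. -/
theorem ec_conj {α μ θ c d : F} (H : EC a b e i₁ j α μ) (g : D) (r : SU n F q)
    (hS : ∀ x : Win F q S, ∃ hm : r * x.1 * r⁻¹ ∈ Win F q S, g * a x * g⁻¹ = a ⟨_, hm⟩)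
    (hT : ∀ x : Win F q T, ∃ hm : r * x.1 * r⁻¹ ∈ Win F q T, g * b x * g⁻¹ = b ⟨_, hm⟩)
    (he' : suMat r *ᵥ e = θ • e) (hi : suMat r *ᵥ δ i₁ = c • δ i₁)
    (hj : suMat r *ᵥ δ j = d • δ j) :
    EC a b e i₁ j (θ ^ q * (α * c)) (θ ^ q * (μ * d)) := by
  obtain ⟨h, k, γ, γ', hh, hγ, hk, hγ', hcomm⟩ := H
  obtain ⟨hmS, eS⟩ := hS h
  obtain ⟨hmT, eT⟩ := hT k
  have hc1 : c ^ (q + 1) = 1 := by rw [← h_smul_single hF c i₁, ← hi, suMat_h, h_single hF]
  have hd1 : d ^ (q + 1) = 1 := by rw [← h_smul_single hF d j, ← hj, suMat_h, h_single hF]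
  have hh' := hh.conj r
  rw [he', mulVec_smul, hi, smul_smul] at hh'
  have hk' := hk.conj r
  rw [he', mulVec_smul, hj, smul_smul] at hk'
  have hh'' := eich_rescale hF hh'
  have hk'' := eich_rescale hF hk'
  rw [smul_smul] at hh'' hk''
  have tr : ∀ {A G c : F}, G + G ^ q + A ^ (q + 1) = 0 → c ^ (q + 1) = 1 →
      G * (θ * θ ^ q) + (G * (θ * θ ^ q)) ^ q + (θ ^ q * (A * c)) ^ (q + 1) = 0 := by
    intro A G c h1 h2
    simp only [pow_succ, mul_pow, pow_q_pow_q hF] at h1 h2 ⊢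
    linear_combination (θ * θ ^ q) * h1 + (θ * θ ^ q * (A ^ q * A)) * h2
  refine ⟨⟨_, hmS⟩, ⟨_, hmT⟩, _, _, hh'', tr hγ hc1, hk'', tr hγ' hd1, ?_⟩
  rw [← eS, ← eT]
  exact hcomm.map (MulAut.conj g).toMonoidHom

/-- All root elements at the point commute. -/
theorem ec_total (hq : 3 ≤ q) (he0 : e ≠ 0) {θ : Fˣ} (hθ : ∀ u : Fˣ, u ∈ Subgroup.zpowers θ)
    (r1 : EC a b e i₁ j 1 1) (r2 : EC a b e i₁ j (θ : F) 1) (α μ : F) (hμ : μ ≠ 0) :
    EC a b e i₁ j α μ := by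
  have hab' : ∀ g (hgT : g ∈ Win F q T) (hgS : g ∈ Win F q S), b ⟨g, hgT⟩ = a ⟨g, hgS⟩ :=
    fun g hgT hgS => (K.hab g hgS hgT).symm
  have hθ0 : (θ : F) ≠ 0 := θ.ne_zero
  have key : ∀ x : F, x ^ q * x ^ (q - 1) = x ^ (2 * q - 1) := fun x => by
    rw [← pow_add]; congr 1; omega
  obtain ⟨rA, hrA, eA, eA1⟩ := exists_torus hF K.h12 K.h13 K.h23 he he0 hee hθ0
  obtain ⟨rB, hrB, eB, eB1⟩ := exists_torus hF (i₁ := j) (i₂ := i₂) (i₃ := i₃) K.h2j.symm
    K.h3j.symm K.h23 he he0 hee hθ0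
  rw [← K.hS] at hrA
  have hrBT : rB ∈ Win F q T := win_mono (by simp [K.hT, Finset.subset_iff]) hrB
  have stepA : ∀ α μ, EC a b e i₁ j α μ →
      EC a b e i₁ j ((θ : F) ^ (2 * q - 1) * α) ((θ : F) ^ q * μ) := by
    intro α μ H
    have := ec_conj hF K he hee H (a ⟨rA, hrA⟩) rA
      (fun x => ⟨mul_mem (mul_mem hrA x.2) (inv_mem hrA), by rw [← map_inv, ← map_mul, ← map_mul]; rfl⟩)
      (fun x => conj_line hF hq π a b K.h12 K.h13 K.h23 K.h1j K.h2j K.h3j K.hS K.hT K.hπa K.hπb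
        K.hab K.hc ⟨rA, hrA⟩ eA1 x)
      eA eA1 (d := 1) (by rw [one_smul]; exact hrA j (by simp [K.hS, K.h1j.symm, K.h2j.symm, K.h3j.symm]))
    rw [mul_one, mul_comm α, ← mul_assoc, key] at this
    exact this
  have stepB : ∀ α μ, EC a b e i₁ j α μ →
      EC a b e i₁ j ((θ : F) ^ q * α) ((θ : F) ^ (2 * q - 1) * μ) := by
    intro α μ H
    have hc' : ∀ (h : Win F q T) (k : Win F q S), h.1 ∈ Win F q {j, i₃} →
        k.1 ∈ Win F q {i₂, i₁} → Commute (b h) (a k) := fun h k hh hk =>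
      (K.hc k h (by rwa [Finset.pair_comm]) (by rwa [Finset.pair_comm])).symm
    have := ec_conj hF K he hee H (b ⟨rB, hrBT⟩) rB
      (fun x => conj_line hF hq π b a (A := T) (B := S) (i := j) (x := i₃) (y := i₂) (z := i₁)
        K.h3j.symm K.h2j.symm K.h23.symm K.h1j.symm K.h13.symm K.h12.symm
        (by rw [K.hT]; ext l; simp; tauto) (by rw [K.hS]; ext l; simp; tauto) K.hπb K.hπa hab' hc'
        ⟨rB, hrBT⟩ eB1 x)
      (fun x => ⟨mul_mem (mul_mem hrBT x.2) (inv_mem hrBT), by rw [← map_inv, ← map_mul, ← map_mul]; rfl⟩)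
      eB (c := 1) (by rw [one_smul]; exact hrB i₁ (by simp [K.h1j, K.h12, K.h13])) eB1
    rw [mul_one, mul_comm μ, ← mul_assoc, key] at this
    exact this
  have iterA : ∀ (k : ℕ) α μ, EC a b e i₁ j α μ →
      EC a b e i₁ j (((θ : F) ^ (2 * q - 1)) ^ k * α) (((θ : F) ^ q) ^ k * μ) := by
    intro k α μ H
    induction k with
    | zero => simpa using H
    | succ k ih =>
      have := stepA _ _ ih
      rw [← mul_assoc, ← mul_assoc, ← pow_succ', ← pow_succ'] at this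
      exact this
  have iterB : ∀ (k : ℕ) α μ, EC a b e i₁ j α μ →
      EC a b e i₁ j (((θ : F) ^ q) ^ k * α) (((θ : F) ^ (2 * q - 1)) ^ k * μ) := by
    intro k α μ H
    induction k with
    | zero => simpa using H
    | succ k ih =>
      have := stepB _ _ ih
      rw [← mul_assoc, ← mul_assoc, ← pow_succ', ← pow_succ'] at this
      exact this
  have hone : (θ : F) ^ (q ^ 2 - 1) = 1 := by
    rw [← hF]; exact FiniteField.pow_card_sub_one_eq_one _ hθ0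
  have hqq : 2 * q ≤ q ^ 2 := by rw [sq]; exact Nat.mul_le_mul_right _ (by omega)
  -- the multiplier fixing the second parameter
  set E := (2 * q - 1) * (q ^ 2 - 2 * q) + q ^ 2 with hEdef
  have hμ1 : ((θ : F) ^ q) ^ (q ^ 2 - 2 * q) * ((θ : F) ^ (2 * q - 1)) ^ q = 1 := by
    rw [← pow_mul, ← pow_mul, ← pow_add,
      show q * (q ^ 2 - 2 * q) + (2 * q - 1) * q = (q ^ 2 - 1) * q by
        rw [mul_comm q, ← add_mul]; congr 1; omega, pow_mul, hone, one_pow]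
  have hE : E + (3 * q - 1) * (q - 1) = (2 * q - 1) * (q ^ 2 - 1) := by
    have h1 : (2 * q - 1) * (q ^ 2 - 1) = (2 * q - 1) * (q ^ 2 - 2 * q) + (2 * q - 1) * (2 * q - 1) := by
      rw [← Nat.mul_add]; congr 1; omega
    have h2 : q ^ 2 + (3 * q - 1) * (q - 1) = (2 * q - 1) * (2 * q - 1) := by
      obtain ⟨r, rfl⟩ : ∃ r, q = r + 1 := ⟨q - 1, by omega⟩
      rw [show 3 * (r + 1) - 1 = 3 * r + 2 by omega, show r + 1 - 1 = r by omega,
        show 2 * (r + 1) - 1 = 2 * r + 1 by omega]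
      ring
    omega
  let A : AddSubgroup F :=
    { carrier := {α | EC a b e i₁ j α 1}
      zero_mem' := ec_zero hF K he hee r1
      add_mem' := fun h h' => ec_add hF K he hee h h'
      neg_mem' := fun h => ec_neg hF K he hee h }
  have hA : A = ⊤ := SUField.eq_top_of_closed hF hq hθ hE A r1 r2 fun x (hx : EC a b e i₁ j x 1) => by
    have := iterA (q ^ 2 - 2 * q) _ _ (iterB q _ _ hx)
    rw [← mul_assoc, ← mul_assoc, hμ1, one_mul, ← pow_mul, ← pow_mul, ← pow_add, ← sq] at this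
    exact this
  obtain ⟨m, hm⟩ := mem_powers_iff_mem_zpowers.2 (hθ (Units.mk0 μ hμ))
  have hm' : (θ : F) ^ m = μ := by simpa using congrArg Units.val hm
  set c := ((θ : F) ^ (2 * q - 1)) ^ (q * m)
  have hall : α / c ∈ A := by rw [hA]; exact AddSubgroup.mem_top _
  have := iterA (q * m) (α / c) 1 hall
  rw [mul_div_cancel₀ _ (pow_ne_zero _ (pow_ne_zero _ hθ0)), mul_one, pow_mul,
    pow_q_pow_q hF, hm'] at this
  exact this

end H69.SUW
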