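import Cfsg.Agent.H69.SUStep
import Cfsg.Agent.H69.SUField

/-!
Lines of windows: elements of one triple fixing a coordinate line act by conjugation on the other
triple; Eichler elements of the two triples.
-/

set_option autoImplicit false
set_option linter.unusedSectionVars false

namespace H69.SUW

open Matrix Cfsg H50 H37

universe u v

variable {F : Type u} [Field F] {q n : ℕ} [Fintype F] (hF : Fintype.card F = q ^ 2)
include hF

/-- An element of the first triple fixing the line of its private coordinate acts on the second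
triple by conjugation. -/
theorem conj_line (hq : 3 ≤ q) {A B : Finset (Fin n)} {D : Type v} [Group D]
    (π : D →* SU n F q) (a : Win F q A →* D) (b : Win F q B →* D) {i x y z : Fin n}
    (hix : i ≠ x) (hiy : i ≠ y) (hxy : x ≠ y) (hiz : i ≠ z) (hxz : x ≠ z) (hyz : y ≠ z)
    (hA : A = {i, x, y}) (hB : B = {x, y, z})
    (hπa : ∀ h, π (a h) = h.1) (hπb : ∀ k, π (b k) = k.1)
    (hab : ∀ g (hgA : g ∈ Win F q A) (hgB : g ∈ Win F q B), a ⟨g, hgA⟩ = b ⟨g, hgB⟩)
    (hc : ∀ (h : Win F q A) (k : Win F q B), h.1 ∈ Win F q {i, x} → k.1 ∈ Win F q {y, z} →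
      Commute (a h) (b k))
    (h : Win F q A) {c : F} (hh : suMat h.1 *ᵥ δ i = c • δ i) (k : Win F q B) :
    ∃ hm : h.1 * k.1 * h.1⁻¹ ∈ Win F q B,
      a h * b k * (a h)⁻¹ = b ⟨h.1 * k.1 * h.1⁻¹, hm⟩ := by
  have hsub1 : ({i, x} : Finset (Fin n)) ⊆ A := by simp [hA, Finset.subset_iff]
  have hxy_sub : ({x, y} : Finset (Fin n)) ⊆ A ∧ ({x, y} : Finset (Fin n)) ⊆ B := by
    simp [hA, hB, Finset.subset_iff]
  have hyz_sub : ({y, z} : Finset (Fin n)) ⊆ B := by simp [hB, Finset.subset_iff]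
  have hn1 : c ^ (q + 1) = 1 := by
    rw [← h_smul_single hF c i, ← hh, suMat_h, h_single hF]
  -- conjugation keeps the second triple
  have keep : ∀ g : SU n F q, g ∈ Win F q A → ∀ d : F, suMat g *ᵥ δ i = d • δ i →
      ∀ k ∈ Win F q B, g * k * g⁻¹ ∈ Win F q B := by
    intro g hg d hd k hk l hl
    rw [suMat_mulVec_mul, suMat_mulVec_mul]
    by_cases hli : l = i
    · subst hli
      have hd0 : d ≠ 0 := fun e => by
        rw [e, zero_smul] at hd
        have := congrArg (fun v => suMat g⁻¹ *ᵥ v) hd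
        simp only [suMat_inv_mulVec, mulVec_zero] at this
        simpa using congrFun this l
      have e : suMat g⁻¹ *ᵥ (δ l : Fin n → F) = d⁻¹ • δ l := by
        have := congrArg (fun v => d⁻¹ • (suMat g⁻¹ *ᵥ v)) hd
        simp only [suMat_inv_mulVec, mulVec_smul, smul_smul, inv_mul_cancel₀ hd0, one_smul] at this
        exact this.symm
      rw [e, mulVec_smul, hk l hl, mulVec_smul, hd, smul_smul, inv_mul_cancel₀ hd0, one_smul]
    · have hlA : l ∉ A := by
        simp only [hA, hB, Finset.mem_insert, Finset.mem_singleton, not_or] at hl ⊢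
        exact ⟨hli, hl.1, hl.2.1⟩
      rw [suMat_inv_fix (hg l hlA), hk l hl, hg l hlA]
  -- the part in the private pair
  obtain ⟨τ, hτ, eτ⟩ := trans_ni hF (show 2 ≤ ({i, x} : Finset (Fin n)).card by
      rw [Finset.card_pair hix]) (v := δ i) (v' := c • δ i) (supp_single (by simp))
    ((supp_single (by simp)).smul c) (by rw [h_single hF, h_smul_single hF, hn1])
    (by rw [h_single hF]; exact one_ne_zero)
  have hτA : τ ∈ Win F q A := win_mono hsub1 hτ
  set s : Win F q A := ⟨τ, hτA⟩⁻¹ * h with hs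
  have hsQ : s.1 ∈ Win F q {x, y} := by
    have := win_erase s.2 (j := i) (by
      rw [hs, Subgroup.coe_mul, Subgroup.coe_inv, suMat_mulVec_mul, hh, ← eτ, suMat_inv_mulVec])
    refine win_mono (fun l hl => ?_) this
    simp only [hA, Finset.mem_erase, Finset.mem_insert, Finset.mem_singleton] at hl ⊢
    tauto
  have hhs : h = ⟨τ, hτA⟩ * s := by rw [hs, mul_inv_cancel_left]
  have hkτ := keep τ hτA c eτ
  -- the homomorphisms to compare
  let f₁ : Win F q B →* D := (MulAut.conj (a ⟨τ, hτA⟩)).toMonoidHom.comp b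
  let f₂ : Win F q B →* D := b.comp (((MulAut.conj τ).toMonoidHom.comp
    (Win F q B).subtype).codRestrict (Win F q B) fun k => hkτ k.1 k.2)
  have heq : Win F q B ≤ (f₁.eqLocus f₂).map (Win F q B).subtype := by
    refine fun g hg => ((gen_three hF hq hxy hxz hyz).trans (sup_le ?_ ?_))
      (show g ∈ Win F q {x, y, z} by rw [← hB]; exact hg)
    · intro g hg
      refine ⟨⟨g, win_mono hxy_sub.2 hg⟩, ?_, rfl⟩
      show a ⟨τ, hτA⟩ * b ⟨g, _⟩ * (a ⟨τ, hτA⟩)⁻¹ = b ⟨τ * g * τ⁻¹, _⟩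
      have hgA := win_mono hxy_sub.1 hg
      rw [← hab g hgA, ← map_inv, ← map_mul, ← map_mul]
      exact hab (τ * g * τ⁻¹) (mul_mem (mul_mem hτA hgA) (inv_mem hτA)) _
    · intro g hg
      refine ⟨⟨g, win_mono hyz_sub hg⟩, ?_, rfl⟩
      show a ⟨τ, hτA⟩ * b ⟨g, _⟩ * (a ⟨τ, hτA⟩)⁻¹ = b ⟨τ * g * τ⁻¹, _⟩
      have hcm := hc ⟨τ, hτA⟩ ⟨g, win_mono hyz_sub hg⟩ hτ hg
      have hcm' := hcm.map π
      rw [hπa, hπb] at hcm'
      rw [hcm.eq, mul_inv_cancel_right]
      congr 1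
      exact Subtype.ext (show g = τ * g * τ⁻¹ by rw [hcm'.eq, mul_inv_cancel_right])
  have hsB : s.1 ∈ Win F q B := win_mono hxy_sub.2 hsQ
  set k' : Win F q B := ⟨s.1, hsB⟩ * k * ⟨s.1, hsB⟩⁻¹ with hk'
  obtain ⟨k'', hk'', e''⟩ := heq k'.2
  obtain rfl : k'' = k' := Subtype.ext e''
  change a ⟨τ, hτA⟩ * b k' * (a ⟨τ, hτA⟩)⁻¹ = b ⟨τ * k'.1 * τ⁻¹, hkτ k'.1 k'.2⟩ at hk''
  have e1 : h.1 * k.1 * h.1⁻¹ = τ * k'.1 * τ⁻¹ := by
    have hh1 : h.1 = τ * s.1 := congrArg Subtype.val hhs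
    show h.1 * k.1 * h.1⁻¹ = τ * (s.1 * k.1 * s.1⁻¹) * τ⁻¹
    rw [hh1]
    simp only [_root_.mul_inv_rev, mul_assoc]
  refine ⟨e1 ▸ hkτ k'.1 k'.2, ?_⟩
  have e2 : a s = b ⟨s.1, hsB⟩ := hab s.1 s.2 hsB
  calc a h * b k * (a h)⁻¹ = a ⟨τ, hτA⟩ * (b ⟨s.1, hsB⟩ * b k * (b ⟨s.1, hsB⟩)⁻¹) *
        (a ⟨τ, hτA⟩)⁻¹ := by
        rw [hhs, map_mul, e2]; simp only [_root_.mul_inv_rev, mul_assoc]
    _ = b ⟨τ * k'.1 * τ⁻¹, hkτ k'.1 k'.2⟩ := by
        rw [← map_inv, ← map_mul, ← map_mul]; exact hk''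
    _ = _ := by congr 1; exact Subtype.ext e1.symm

/-- Two Eichler elements with the same vector part differ by a central one. -/
theorem eich_split {e w : Fin n → F} (hee : hermForm n F q e e = 0)
    (hwe : hermForm n F q w e = 0) {γ γ' : F} {g g' : SU n F q} (hg : IsEich e w γ g)
    (hg' : IsEich e w γ' g') (hγ : γ + γ ^ q + hermForm n F q w w = 0)
    (hγ' : γ' + γ' ^ q + hermForm n F q w w = 0) :
    ∃ z : SU n F q, IsEich e 0 (γ' - γ) z ∧ g' = g * z := by
  have h0 : hermForm n F q (0 : Fin n → F) e = 0 := h_zero_left e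
  obtain ⟨z, hz⟩ := exists_isEich hF hee h0 (γ := γ' - γ)
    (by rw [sub_pow_q hF, h_zero_left]; linear_combination hγ' - hγ)
  refine ⟨z, hz, hg'.unique ?_⟩
  have := hg.mul hF hz hee hwe h0
  rwa [add_zero, h_zero_left, sub_zero, add_sub_cancel] at this

/-- Central Eichler elements commute with the others at the same point. -/
theorem eich_central {e w : Fin n → F} (hee : hermForm n F q e e = 0)
    (hwe : hermForm n F q w e = 0) {γ γ₀ : F} {g z : SU n F q} (hg : IsEich e w γ g)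
    (hz : IsEich e 0 γ₀ z) : Commute g z := by
  have h0 : hermForm n F q (0 : Fin n → F) e = 0 := h_zero_left e
  have h1 := hg.mul hF hz hee hwe h0
  have h2 := hz.mul hF hg hee h0 hwe
  rw [add_zero, h_zero_left, sub_zero] at h1
  rw [zero_add, h_zero_right hF, sub_zero, add_comm γ₀] at h2
  exact h1.unique h2

theorem eich_rescale {e w : Fin n → F} {γ s : F} {g : SU n F q} (h : IsEich (s • e) w γ g) :
    IsEich e (s ^ q • w) (γ * (s * s ^ q)) g := fun x => by
  rw [h, h_smul_right hF, h_smul_right hF, pow_q_pow_q hF]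
  module

end H69.SUW
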