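import Cfsg.Agent.H69.SUWin

/-!
Windows of `SU_n` are generated by smaller windows; torus elements adapted to an isotropic line.
-/

set_option autoImplicit false
set_option linter.unusedSectionVars false

namespace H69.SUW

open Matrix Cfsg H50 H37

universe u

variable {F : Type u} [Field F] {q n : ℕ} [Fintype F] (hF : Fintype.card F = q ^ 2)
  {S T : Finset (Fin n)}
include hF

theorem win_fix_disjoint {g : SU n F q} (hg : g ∈ Win F q S) {v : Fin n → F} (hv : Supp T v)
    (hST : Disjoint S T) : suMat g *ᵥ v = v := by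
  have h0 : proj S v = 0 := funext fun i => by
    by_cases hi : i ∈ S
    · rw [proj_apply hi, hv i (Finset.disjoint_left.1 hST hi), Pi.zero_apply]
    · rw [supp_proj v i hi, Pi.zero_apply]
  rw [win_split hF hg v, h0, mulVec_zero, zero_add, sub_zero]

theorem exists_iso_pair {i j : Fin n} (hij : i ≠ j) :
    ∃ w : Fin n → F, Supp {i, j} w ∧ hermForm n F q w w = 0 ∧ w i = 1 ∧ w j ^ (q + 1) = -1 := by
  obtain ⟨ε, hε⟩ := exists_norm_eq hF (c := (-1 : F)) (by rw [neg_pow_q hF, one_pow])
  set w : Fin n → F := (δ i : Fin n → F) + ε • (δ j : Fin n → F)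
  have hw : Supp {i, j} w := (supp_single (by simp)).add ((supp_single (by simp)).smul ε)
  have h1 : w i = 1 := by simp [w, hij]
  have h2 : w j = ε := by simp [w, hij.symm]
  exact ⟨w, hw, by rw [h_pair hF hij hw, h1, h2, hε, one_pow, add_neg_cancel], h1, by rw [h2, hε]⟩

theorem h_single (i : Fin n) : hermForm n F q (δ i : Fin n → F) (δ i) = 1 := by
  rw [h_single_single hF, if_pos rfl]

theorem h_smul_single (c : F) (i : Fin n) :
    hermForm n F q (c • (δ i : Fin n → F)) (c • δ i) = c ^ (q + 1) := by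
  rw [h_smul_left, h_smul_right hF, h_single hF, mul_one, pow_succ']

omit hF in
theorem eq_add_single {v : Fin n → F} {j : Fin n} (hv : Supp (insert j T) v) (hj : j ∉ T) :
    v = proj T v + v j • δ j := by
  funext x
  by_cases h1 : x = j
  · subst h1; simp [proj, hj]
  by_cases h2 : x ∈ T
  · simp [proj, h1, h2]
  · simp [proj, h1, h2, hv x (by simp [h1, h2])]

theorem norm_add_single {w : Fin n → F} (hw : Supp T w) {j : Fin n} (hj : j ∉ T) (a : F) :
    hermForm n F q (w + a • δ j) (w + a • δ j) = hermForm n F q w w + a ^ (q + 1) := by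
  have h0 : hermForm n F q w (δ j) = 0 := h_disjoint hF hw (supp_single (Finset.mem_singleton_self j))
    (by simp [hj])
  have h0' : hermForm n F q (δ j : Fin n → F) w = 0 := (h_eq_zero_comm hF).1 h0
  simp only [h_add_left, h_add_right hF, h_smul_left, h_smul_right hF, h0, h0', h_single hF]
  ring

omit hF in
theorem sup_reduce {H : Subgroup (SU n F q)} {g r : SU n F q} (hr : r ∈ H)
    (h : r * g ∈ H) : g ∈ H := by
  simpa using mul_mem (inv_mem hr) h

/-- Four coordinates: a triple and a pair generate. -/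
theorem gen_four {i₁ i₂ i₃ j : Fin n} (h12 : i₁ ≠ i₂) (h13 : i₁ ≠ i₃) (h23 : i₂ ≠ i₃)
    (h1j : i₁ ≠ j) (h2j : i₂ ≠ j) (h3j : i₃ ≠ j) :
    Win F q {i₁, i₂, i₃, j} ≤ Win F q {i₁, i₂, i₃} ⊔ Win F q {i₃, j} := by
  intro g hg
  set R : Finset (Fin n) := {i₁, i₂, i₃} with hR
  set H := Win F q R ⊔ Win F q {i₃, j}
  have hjR : j ∉ R := by simp [hR, h1j.symm, h2j.symm, h3j.symm]
  have hRc : R.card = 3 := by simp [hR, h12, h13, h23]
  have hins : ({i₁, i₂, i₃, j} : Finset (Fin n)) = insert j R := by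
    ext x; simp [hR]; tauto
  have hP : 2 ≤ ({i₃, j} : Finset (Fin n)).card := by rw [Finset.card_pair h3j]
  rw [hins] at hg
  have hs3 : Supp R (δ i₃ : Fin n → F) := supp_single (by simp [hR])
  have fin : ∀ v : Fin n → F, Supp {i₃, j} v → hermForm n F q v v = 1 →
      ∃ r ∈ H, suMat r *ᵥ v = δ j := fun v hv hn => by
    obtain ⟨r, hr, e⟩ := trans_ni hF hP hv (supp_single (i := j) (by simp))
      (by rw [hn, h_single hF]) (by rw [hn]; exact one_ne_zero)
    exact ⟨r, Subgroup.mem_sup_right hr, e⟩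
  have key : ∀ v : Fin n → F, Supp (insert j R) v → hermForm n F q v v = 1 →
      ∃ r ∈ H, suMat r *ᵥ v = δ j := by
    intro v hv hn
    have hd := eq_add_single hv hjR
    have hw := supp_proj (S := R) v
    set w := proj R v
    have hN : hermForm n F q w w + v j ^ (q + 1) = 1 := by
      rw [← norm_add_single hF hw hjR, ← hd, hn]
    by_cases hw0 : w = 0
    · refine fin v ?_ hn
      rw [hd, hw0, zero_add]
      exact (supp_single (by simp)).smul _
    by_cases hN0 : hermForm n F q w w = 0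
    · obtain ⟨w', hw', hw'0, hw'i, -⟩ := exists_iso_pair hF h12
      have hw'R : Supp R w' := hw'.mono (by simp [hR, Finset.subset_iff])
      obtain ⟨r₁, hr₁, e₁⟩ := trans3 hF hRc.ge hw hw'R (by rw [hN0, hw'0])
        ⟨fun e => absurd e hw0, fun e => by simp [e] at hw'i⟩
      obtain ⟨r₂, hr₂, e₂⟩ := trans_ni hF hP (v := v j • δ j) (v' := δ i₃)
        ((supp_single (by simp)).smul _) (supp_single (by simp))
        (by rw [h_smul_single hF, h_single hF, ← hN, hN0, zero_add])
        (by rw [h_smul_single hF]; rw [hN0, zero_add] at hN; rw [hN]; exact one_ne_zero)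
      have hr2w : suMat r₂ *ᵥ w' = w' := win_fix_disjoint hF hr₂ hw'
        (by simp [h13.symm, h23.symm, h1j, h2j, h13, h23, h1j.symm, h2j.symm])
      have hn2 : hermForm n F q (w' + δ i₃) (w' + δ i₃) = 1 := by
        have := norm_add_single hF hw' (j := i₃) (by simp [h13.symm, h23.symm]) 1
        rw [one_smul, one_pow, hw'0, zero_add] at this
        exact this
      obtain ⟨r₃, hr₃, e₃⟩ := trans_ni hF (by omega : 2 ≤ R.card) (hw'R.add hs3) hs3
        (by rw [hn2, h_single hF]) (by rw [hn2]; exact one_ne_zero)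
      obtain ⟨r₄, hr₄, e₄⟩ := fin (δ i₃) (supp_single (by simp)) (h_single hF i₃)
      refine ⟨r₄ * r₃ * r₂ * r₁, mul_mem (mul_mem (mul_mem hr₄ (Subgroup.mem_sup_left hr₃))
        (Subgroup.mem_sup_right hr₂)) (Subgroup.mem_sup_left hr₁), ?_⟩
      rw [hd, suMat_mulVec_mul, suMat_mulVec_mul, suMat_mulVec_mul, mulVec_add (suMat r₁), e₁,
        win_fix_disjoint hF hr₁ ((supp_single (Finset.mem_singleton_self j)).smul _)
          (by simp [hjR]), mulVec_add, hr2w, e₂, e₃, e₄]
    · obtain ⟨y, hy⟩ := exists_norm_eq hF (h_self_fixed hF w)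
      obtain ⟨r₁, hr₁, e₁⟩ := trans_ni hF (by omega : 2 ≤ R.card) hw (hs3.smul y)
        (by rw [h_smul_single hF, hy]) hN0
      obtain ⟨r₂, hr₂, e₂⟩ := fin (y • δ i₃ + v j • δ j)
        (((supp_single (by simp)).smul _).add ((supp_single (by simp)).smul _))
        (by rw [norm_add_single hF ((supp_single (Finset.mem_singleton_self i₃)).smul y)
          (by simp [h3j.symm]), h_smul_single hF, hy, hN])
      refine ⟨r₂ * r₁, mul_mem hr₂ (Subgroup.mem_sup_left hr₁), ?_⟩
      rw [hd, suMat_mulVec_mul, mulVec_add (suMat r₁), e₁,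
        win_fix_disjoint hF hr₁ ((supp_single (Finset.mem_singleton_self j)).smul _)
          (by simp [hjR]), e₂]
  obtain ⟨r, hr, e⟩ := key _ (supp_image hF hg (supp_single (Finset.mem_insert_self j R)))
    (by rw [suMat_h, h_single hF])
  refine sup_reduce hr (Subgroup.mem_sup_left ?_)
  have hle : H ≤ Win F q (insert j R) := sup_le (win_mono (Finset.subset_insert _ _))
    (win_mono (by simp [hR, Finset.subset_iff]))
  have := win_erase (mul_mem (hle hr) hg) (j := j) (by rw [suMat_mulVec_mul, e])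
  rwa [Finset.erase_insert hjR] at this

/-- A window of at least four coordinates is generated by a smaller one and a triple. -/
theorem gen_big {i₁ i₂ i₃ : Fin n} (hS : 4 ≤ S.card) (h1 : i₁ ∈ S) (h2 : i₂ ∈ S) (h3 : i₃ ∈ S)
    (h12 : i₁ ≠ i₂) (h13 : i₁ ≠ i₃) (h23 : i₂ ≠ i₃) :
    Win F q S ≤ Win F q (S.erase i₃) ⊔ Win F q {i₁, i₂, i₃} := by
  intro g hg
  set S' := S.erase i₃ with hS'
  have h3S : i₃ ∉ S' := by simp [hS']
  have hins : insert i₃ S' = S := Finset.insert_erase h3
  have hv : Supp (insert i₃ S') (suMat g *ᵥ δ i₃) := by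
    rw [hins]; exact supp_image hF hg (supp_single h3)
  set v := suMat g *ᵥ (δ i₃ : Fin n → F)
  have hn : hermForm n F q v v = 1 := by rw [suMat_h, h_single hF]
  have hd := eq_add_single hv h3S
  have hw := supp_proj (S := S') v
  set w := proj S' v
  set R : Finset (Fin n) := {i₁, i₂, i₃}
  have hsub : ({i₁, i₂} : Finset (Fin n)) ⊆ S' := by
    simp [hS', Finset.subset_iff, h1, h2, h13, h23]
  obtain ⟨w', hw', hN', h0⟩ : ∃ w' : Fin n → F, Supp {i₁, i₂} w' ∧
      hermForm n F q w w = hermForm n F q w' w' ∧ (w = 0 ↔ w' = 0) := by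
    by_cases hw0 : w = 0
    · exact ⟨0, supp_zero, by rw [hw0], iff_of_true hw0 rfl⟩
    by_cases hN0 : hermForm n F q w w = 0
    · obtain ⟨w', a, b, c, -⟩ := exists_iso_pair hF h12
      exact ⟨w', a, by rw [hN0, b], iff_of_false hw0 fun e => by simp [e] at c⟩
    · obtain ⟨y, hy⟩ := exists_norm_eq hF (h_self_fixed hF w)
      refine ⟨y • δ i₁, (supp_single (by simp)).smul y, by rw [h_smul_single hF, hy],
        iff_of_false hw0 fun e => hN0 ?_⟩
      rw [← hy, ← h_smul_single hF y i₁, e, h_zero_left]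
  have hc : 3 ≤ S'.card := by rw [hS', Finset.card_erase_of_mem h3]; omega
  obtain ⟨r₁, hr₁, e₁⟩ := trans3 hF hc hw (hw'.mono hsub) hN' h0
  have hR2 : 2 ≤ R.card := by simp [R, h12, h13, h23]
  have hv' : Supp R (w' + v i₃ • δ i₃) :=
    (hw'.mono (by simp [R, Finset.subset_iff])).add ((supp_single (by simp [R])).smul _)
  have hn' : hermForm n F q (w' + v i₃ • δ i₃) (w' + v i₃ • δ i₃) = 1 := by
    rw [norm_add_single hF hw' (by simp [h13.symm, h23.symm]), ← hN',
      ← norm_add_single hF hw h3S, ← hd, hn]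
  obtain ⟨r₂, hr₂, e₂⟩ := trans_ni hF hR2 hv' (supp_single (i := i₃) (by simp [R]))
    (by rw [hn', h_single hF]) (by rw [hn']; exact one_ne_zero)
  refine sup_reduce (mul_mem (Subgroup.mem_sup_right hr₂) (Subgroup.mem_sup_left hr₁))
    (Subgroup.mem_sup_left ?_)
  refine win_erase (mul_mem (mul_mem (win_mono (by simp [Finset.subset_iff, h1, h2, h3, R]) hr₂)
    (win_mono (Finset.erase_subset _ _) hr₁)) hg) ?_
  rw [suMat_mulVec_mul]
  show suMat (r₂ * r₁) *ᵥ v = _
  rw [hd, suMat_mulVec_mul, mulVec_add (suMat r₁), e₁,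
    win_fix_disjoint hF hr₁ ((supp_single (Finset.mem_singleton_self i₃)).smul _) (by simp [h3S]),
    e₂]

/-- Three coordinates, `q ≥ 3`: two pairs generate. -/
theorem gen_three (hq : 3 ≤ q) {i k j : Fin n} (hik : i ≠ k) (hij : i ≠ j) (hkj : k ≠ j) :
    Win F q {i, k, j} ≤ Win F q {i, k} ⊔ Win F q {k, j} := by
  intro g hg
  set P : Finset (Fin n) := {i, k}
  set H := Win F q P ⊔ Win F q {k, j}
  have hins : ({i, k, j} : Finset (Fin n)) = insert j P := by ext x; simp [P]; tauto
  have hjP : j ∉ P := by simp [P, hij.symm, hkj.symm]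
  have hP2 : 2 ≤ P.card := by simp [P, hik]
  have hQ2 : 2 ≤ ({k, j} : Finset (Fin n)).card := by rw [Finset.card_pair hkj]
  rw [hins] at hg
  have fin : ∀ v : Fin n → F, Supp {k, j} v → hermForm n F q v v = 1 →
      ∃ r ∈ H, suMat r *ᵥ v = δ j := fun v hv hn => by
    obtain ⟨r, hr, e⟩ := trans_ni hF hQ2 hv (supp_single (i := j) (by simp))
      (by rw [hn, h_single hF]) (by rw [hn]; exact one_ne_zero)
    exact ⟨r, Subgroup.mem_sup_right hr, e⟩
  have good : ∀ v : Fin n → F, Supp (insert j P) v → hermForm n F q v v = 1 →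
      hermForm n F q (proj P v) (proj P v) ≠ 0 → ∃ r ∈ H, suMat r *ᵥ v = δ j := by
    intro v hv hn hN0
    have hd := eq_add_single hv hjP
    have hw := supp_proj (S := P) v
    set w := proj P v
    obtain ⟨y, hy⟩ := exists_norm_eq hF (h_self_fixed hF w)
    obtain ⟨r₁, hr₁, e₁⟩ := trans_ni hF hP2 hw ((supp_single (i := k) (by simp [P])).smul y)
      (by rw [h_smul_single hF, hy]) hN0
    obtain ⟨r₂, hr₂, e₂⟩ := fin (y • δ k + v j • δ j)
      (((supp_single (by simp)).smul _).add ((supp_single (by simp)).smul _))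
      (by rw [norm_add_single hF ((supp_single (Finset.mem_singleton_self k)).smul y)
        (by simp [hkj.symm]), h_smul_single hF, hy, ← norm_add_single hF hw hjP, ← hd, hn])
    refine ⟨r₂ * r₁, mul_mem hr₂ (Subgroup.mem_sup_left hr₁), ?_⟩
    rw [hd, suMat_mulVec_mul, mulVec_add (suMat r₁), e₁,
      win_fix_disjoint hF hr₁ ((supp_single (Finset.mem_singleton_self j)).smul _)
        (by simp [hjP]), e₂]
  have key : ∀ v : Fin n → F, Supp (insert j P) v → hermForm n F q v v = 1 →
      ∃ r ∈ H, suMat r *ᵥ v = δ j := by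
    intro v hv hn
    by_cases hN0 : hermForm n F q (proj P v) (proj P v) = 0
    · have hd := eq_add_single hv hjP
      have hw := supp_proj (S := P) v
      have hN : proj P v i ^ (q + 1) + proj P v k ^ (q + 1) = 0 := by rw [← h_pair hF hik hw, hN0]
      by_cases hw0 : proj P v = 0
      · refine fin v ?_ hn
        rw [hd, hw0, zero_add]
        exact (supp_single (by simp)).smul _
      have hk0 : proj P v k ≠ 0 := fun e => hw0 (by
        rw [e, zero_pow (by omega), add_zero, pow_eq_zero_iff (by omega)] at hN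
        rw [supp_pair hik hw, hN, e, zero_smul, zero_smul, add_zero])
      set y := proj {k, j} v with hy
      have hy0 : y ≠ 0 := fun e => hk0 (by
        have := congrFun e k
        rw [hy, proj_apply (by simp), Pi.zero_apply] at this
        rw [proj_apply (by simp [P]), this])
      obtain ⟨ν, hν, hν0, hν'⟩ := exists_fixed_avoid hF hq (-(v i ^ (q + 1)))
      obtain ⟨r₁, hr₁, e₁⟩ := pair_move hF hkj (supp_proj (S := {k, j}) v) hy0 hν hν0
      have hle : ({k, j} : Finset (Fin n)) ⊆ insert j P := by simp [P, Finset.subset_iff]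
      obtain ⟨r, hr, e⟩ := good (suMat r₁ *ᵥ v) (supp_image hF (win_mono hle hr₁) hv)
        (by rw [suMat_h, hn]) (by
          rw [h_pair hF hik (supp_proj _), proj_apply (by simp [P]), proj_apply (by simp [P]),
            win_apply hF hr₁ v (by simp [hik, hij]),
            show (suMat r₁ *ᵥ v) k = (suMat r₁ *ᵥ y) k by
              rw [hy, ← proj_image hF hr₁, proj_apply (by simp)], e₁]
          intro e
          exact hν' (by linear_combination e))
      exact ⟨r * r₁, mul_mem hr (Subgroup.mem_sup_right hr₁), by rw [suMat_mulVec_mul, e]⟩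
    · exact good v hv hn hN0
  obtain ⟨r, hr, e⟩ := key _ (supp_image hF hg (supp_single (Finset.mem_insert_self j P)))
    (by rw [suMat_h, h_single hF])
  refine sup_reduce hr (Subgroup.mem_sup_left ?_)
  have hle : H ≤ Win F q (insert j P) := sup_le (win_mono (Finset.subset_insert _ _))
    (win_mono (by simp [P, Finset.subset_iff]))
  have := win_erase (mul_mem (hle hr) hg) (j := j) (by rw [suMat_mulVec_mul, e])
  rwa [Finset.erase_insert hjP] at this

/-- A torus element of a triple adapted to an isotropic line in its last two coordinates. -/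
theorem exists_torus {i₁ i₂ i₃ : Fin n} (h12 : i₁ ≠ i₂) (h13 : i₁ ≠ i₃) (h23 : i₂ ≠ i₃)
    {e : Fin n → F} (he : Supp {i₂, i₃} e) (he0 : e ≠ 0) (hee : hermForm n F q e e = 0)
    {θ : F} (hθ : θ ≠ 0) :
    ∃ h ∈ Win F q {i₁, i₂, i₃}, suMat h *ᵥ e = θ • e ∧
      suMat h *ᵥ δ i₁ = θ ^ (q - 1) • δ i₁ := by
  classical
  obtain ⟨f, hf, hh⟩ := exists_partner hF he he0 hee
  let b : Fin 2 ⊕ {i : Fin n // i ∉ ({i₂, i₃} : Finset (Fin n))} → Fin n → F :=
    Sum.elim ![e, f] fun i => δ i.1
  let c : Fin 2 ⊕ {i : Fin n // i ∉ ({i₂, i₃} : Finset (Fin n))} → F :=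
    Sum.elim ![θ, (θ ^ q)⁻¹] fun i => if i.1 = i₁ then θ ^ (q - 1) else 1
  have hbs : ∀ a : Fin 2, Supp {i₂, i₃} (![e, f] a) := fun a => by fin_cases a <;> assumption
  have hd : ∀ (k : {i : Fin n // i ∉ ({i₂, i₃} : Finset (Fin n))}) (a : Fin 2),
      hermForm n F q (δ k.1) (![e, f] a) = 0 := fun k a => by
    rw [h_single_left hF, hbs a k.1 k.2, zero_pow (q_ne_zero hF)]
  have hcard : Fintype.card (Fin 2 ⊕ {i : Fin n // i ∉ ({i₂, i₃} : Finset (Fin n))}) = n := by
    have hle : ({i₂, i₃} : Finset (Fin n)).card ≤ n := by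
      simpa using ({i₂, i₃} : Finset (Fin n)).card_le_univ
    rw [Fintype.card_sum, Fintype.card_subtype_compl, Fintype.card_coe, Fintype.card_fin,
      Fintype.card_fin]
    rw [Finset.card_pair h23] at hle ⊢
    omega
  have hθq : θ ^ q ≠ 0 := pow_ne_zero _ hθ
  have hN : (θ ^ (q - 1)) * (θ ^ (q - 1)) ^ q = 1 := by
    rw [← pow_mul, ← pow_add, show q - 1 + (q - 1) * q = q ^ 2 - 1 by
      obtain ⟨r, rfl⟩ : ∃ r, q = r + 1 := ⟨q - 1, by have := two_le hF; omega⟩
      rw [Nat.add_sub_cancel, show (r + 1) ^ 2 = r + r * (r + 1) + 1 by ring, Nat.add_sub_cancel],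
      ← hF, FiniteField.pow_card_sub_one_eq_one θ hθ]
  obtain ⟨M, hM, hMb, hdet⟩ := H50.exists_iso_diag hF hcard (b := b)
    (GramND.linearIndependent hF (sumElim_gramND hF (hh.gramND hF) (isON_compl hF) hd)) c (by
      rintro (a | a) (a' | a') hne
      · fin_cases a <;> fin_cases a'
        · exact absurd hh.1 hne
        · show θ * ((θ ^ q)⁻¹) ^ q = 1
          rw [inv_pow, pow_q_pow_q hF, mul_inv_cancel₀ hθ]
        · show (θ ^ q)⁻¹ * θ ^ q = 1
          exact inv_mul_cancel₀ hθq
        · exact absurd hh.2.1 hne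
      · exact absurd ((h_eq_zero_comm hF).1 (hd a' a)) hne
      · exact absurd (hd a a') hne
      · have e : a.1 = a'.1 := by
          by_contra e
          refine hne ?_
          show hermForm n F q (δ a.1) (δ a'.1) = 0
          rw [h_single_single hF, if_neg e]
        simp only [c, Sum.elim_inr, ← e]
        split_ifs <;> simp [hN])
  have hdet1 : M.det = 1 := by
    rw [hdet, Fintype.prod_sum_type, Fin.prod_univ_two]
    rw [Finset.prod_eq_single (⟨i₁, by simp [h12, h13]⟩ :
      {i : Fin n // i ∉ ({i₂, i₃} : Finset (Fin n))})]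
    · simp only [c, Sum.elim_inl, Sum.elim_inr, Matrix.cons_val_zero, Matrix.cons_val_one, if_true]
      have hq1 : θ * θ ^ (q - 1) = θ ^ q := by
        rw [← pow_succ', Nat.sub_add_cancel (q_pos hF)]
      rw [mul_right_comm, hq1, mul_inv_cancel₀ hθq]
    · intro x _ hx
      simp only [c, Sum.elim_inr]
      rw [if_neg fun e => hx (Subtype.ext e)]
    · simp
  refine ⟨mkSU M hM hdet1, fun i hi => ?_, hMb (Sum.inl 0), ?_⟩
  · simp only [Finset.mem_insert, Finset.mem_singleton, not_or] at hi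
    have := hMb (Sum.inr ⟨i, by simp [hi.2.1, hi.2.2]⟩)
    simpa [b, c, hi.1] using this
  · have := hMb (Sum.inr ⟨i₁, by simp [h12, h13]⟩)
    simpa [b, c] using this

end H69.SUW
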