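import Cfsg.Agent.H69.SUShift
import Cfsg.Agent.H69.SUFour

/-!
An alternating group and `SU₃(q)` glued along a pair give `SU_n(q)`, for `q ≥ 3`.
-/

set_option autoImplicit false
set_option linter.unusedSectionVars false

namespace H69.SUW

open Matrix Cfsg H50

universe u v

variable {F : Type u} [Field F] {q n : ℕ}

/-- Consecutive three-cycles generate. -/
theorem alt_top {H : Subgroup (alternatingGroup (Fin n))}
    (h : ∀ a, a + 3 ≤ n → ∃ c ∈ H, (∀ i : Fin n, i.1 < a ∨ a + 3 ≤ i.1 → c.1 i = i) ∧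
      ∀ i : Fin n, a ≤ i.1 → i.1 < a + 2 → (c.1 i).1 = i.1 + 1) : H = ⊤ := by
  have key : ∀ m, ∀ σ : alternatingGroup (Fin n), (∀ i : Fin n, m ≤ i.1 → σ.1 i = i) → σ ∈ H := by
    intro m
    induction m with
    | zero =>
      intro σ hσ
      rw [show σ = 1 from Subtype.ext (Equiv.ext fun i => hσ i (Nat.zero_le _))]
      exact one_mem H
    | succ m ih =>
      intro σ hσ
      by_cases hmn : n ≤ m
      · exact ih σ fun i hi => absurd i.2 (by omega)
      by_cases hm : σ.1 ⟨m, by omega⟩ = ⟨m, by omega⟩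
      · refine ih σ fun i hi => ?_
        rcases Nat.eq_or_lt_of_le hi with e | e
        · rw [show i = ⟨m, by omega⟩ from Fin.ext e.symm]; exact hm
        · exact hσ i e
      · have h2 : 2 ≤ m := by
          -- a single transposition is odd
          by_contra h2
          have hne : σ.1 ≠ 1 := fun e => hm (by rw [e]; rfl)
          rcases Nat.eq_zero_or_pos m with rfl | hm0
          · refine hne (Equiv.ext fun i => ?_)
            rcases Nat.eq_zero_or_pos i.1 with hi | hi
            · have h0 : (σ.1 i).1 = 0 := by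
                by_contra e
                have e2 := congrArg Fin.val (σ.1.injective (hσ (σ.1 i) (Nat.pos_of_ne_zero e)))
                omega
              exact Fin.ext (by rw [h0]; exact hi.symm)
            · exact hσ i hi
          obtain rfl : m = 1 := by omega
          have hswap : σ.1 = Equiv.swap ⟨0, by omega⟩ ⟨1, by omega⟩ := by
            have hb : ∀ i : Fin n, i.1 < 2 → (σ.1 i).1 < 2 := fun i hi => by
              by_contra e
              have e2 := congrArg Fin.val (σ.1.injective (hσ (σ.1 i) (by omega)))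
              omega
            have h1 : σ.1 ⟨1, by omega⟩ = ⟨0, by omega⟩ := by
              have := hb ⟨1, by omega⟩ Nat.one_lt_two
              have hne1 : (σ.1 ⟨1, by omega⟩).1 ≠ 1 := fun e => hm (Fin.ext e)
              exact Fin.ext (show (σ.1 ⟨1, by omega⟩).1 = 0 by omega)
            have h0 : σ.1 ⟨0, by omega⟩ = ⟨1, by omega⟩ := by
              have := hb ⟨0, by omega⟩ Nat.zero_lt_two
              have hne0 : (σ.1 ⟨0, by omega⟩).1 ≠ 0 := fun e => by
                have e2 := congrArg Fin.val (σ.1.injective (h1.trans (Fin.ext e.symm)))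
                simp at e2
              exact Fin.ext (show (σ.1 ⟨0, by omega⟩).1 = 1 by omega)
            refine Equiv.ext fun i => ?_
            by_cases hi : 2 ≤ i.1
            · rw [hσ i hi, Equiv.swap_apply_of_ne_of_ne (by simp [Fin.ext_iff]; omega)
                (by simp [Fin.ext_iff]; omega)]
            · rcases (show i.1 = 0 ∨ i.1 = 1 by omega) with e | e
              · rw [show i = ⟨0, by omega⟩ from Fin.ext e, h0, Equiv.swap_apply_left]
              · rw [show i = ⟨1, by omega⟩ from Fin.ext e, h1, Equiv.swap_apply_right]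
          have hs := Equiv.Perm.mem_alternatingGroup.1 σ.2
          rw [hswap, Equiv.Perm.sign_swap (by simp [Fin.ext_iff])] at hs
          exact absurd hs (by decide)
        -- move the image of the last point back
        have up : ∀ d (j : Fin n), j.1 + d = m →
            ∃ c ∈ H, (∀ i : Fin n, m < i.1 → c.1 i = i) ∧ (c.1 j).1 = m := by
          intro d
          induction d with
          | zero => exact fun j hj => ⟨1, one_mem H, fun i _ => by simp, by simpa using hj⟩
          | succ d ihd =>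
            intro j hj
            obtain ⟨c, hc, hc1, hc2⟩ := h (min j.1 (m - 2)) (by omega)
            have e1 := hc2 j (by omega) (by omega)
            obtain ⟨c', hc', h1', h2'⟩ := ihd (c.1 j) (by omega)
            refine ⟨c' * c, mul_mem hc' hc, fun i hi => ?_, h2'⟩
            show c'.1 (c.1 i) = i
            rw [hc1 i (Or.inr (by omega)), h1' i hi]
        have hjm : (σ.1 ⟨m, by omega⟩).1 ≤ m := by
          by_contra e
          exact hm (σ.1.injective (hσ (σ.1 ⟨m, by omega⟩) (by omega)))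
        obtain ⟨c, hc, hc1, hc2⟩ := up (m - (σ.1 ⟨m, by omega⟩).1) (σ.1 ⟨m, by omega⟩) (by omega)
        have := ih (c * σ) fun i hi => by
          show c.1 (σ.1 i) = i
          rcases Nat.eq_or_lt_of_le hi with e | e
          · rw [show i = ⟨m, by omega⟩ from Fin.ext e.symm]; exact Fin.ext hc2
          · rw [hσ i e]; exact hc1 i e
        simpa using mul_mem (inv_mem hc) this
  exact eq_top_iff.2 fun σ _ => key n σ fun i hi => absurd i.2 (by omega)

theorem conj_cycle {g c : alternatingGroup (Fin n)} {a : ℕ} (hg : IsShift g 3 0 a) (ha : a + 3 ≤ n)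
    (hc : ∀ i : Fin n, 3 ≤ i.1 → c.1 i = i) (hc' : ∀ i : Fin n, i.1 < 2 → (c.1 i).1 = i.1 + 1) :
    (∀ i : Fin n, i.1 < a ∨ a + 3 ≤ i.1 → (g * c * g⁻¹).1 i = i) ∧
      ∀ i : Fin n, a ≤ i.1 → i.1 < a + 2 → ((g * c * g⁻¹).1 i).1 = i.1 + 1 := by
  have e : ∀ i : Fin n, (g * c * g⁻¹).1 i = g.1 (c.1 (g.1.symm i)) := fun i => rfl
  refine ⟨fun i hi => ?_, fun i h1 h2 => ?_⟩
  · have h3 : 3 ≤ (g.1.symm i).1 := by
      by_contra h3
      have := hg (g.1.symm i) (Nat.zero_le _) (by omega)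
      rw [Equiv.apply_symm_apply] at this
      omega
    rw [e, hc _ h3, Equiv.apply_symm_apply]
  · have hs : g.1.symm i = ⟨i.1 - a, by omega⟩ := by
      rw [Equiv.symm_apply_eq]
      have := hg ⟨i.1 - a, by omega⟩ (Nat.zero_le _) (show i.1 - a < 0 + 3 by omega)
      exact Fin.ext (by simp at this; omega)
    rw [e, hs]
    have h4 := hc' ⟨i.1 - a, by omega⟩ (show i.1 - a < 2 by omega)
    have h5 := hg (c.1 ⟨i.1 - a, by omega⟩) (Nat.zero_le _) (by simp at h4; omega)
    simp at h4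
    omega

variable [Fintype F] (hF : Fintype.card F = q ^ 2)
include hF

variable {G : Type v} [Group G] {π : G →* SU n F q} {α : alternatingGroup (Fin n) →* G}

/-- A section on the whole group that reaches the generators gives a bijection. -/
theorem bijective_of_chain {P : ∀ a, Win F q (blk n a 2) →* G}
    {T : ∀ a, Win F q (blk n a 3) →* G} {Φ : ∀ a, Win F q (blk n a 4) →* G}
    (C : Chain π P T Φ) (hn : 4 ≤ n) {c : alternatingGroup (Fin n)}
    (hc : ∀ i : Fin n, 3 ≤ i.1 → c.1 i = i) (hc' : ∀ i : Fin n, i.1 < 2 → (c.1 i).1 = i.1 + 1)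
    (hT : ∀ a, a + 3 ≤ n → ∃ g : alternatingGroup (Fin n), IsShift g 3 0 a ∧
      α (g * c * g⁻¹) ∈ (T a).range)
    (htop : Subgroup.closure (Set.range α ∪ Set.range (T 0)) = ⊤) : Function.Bijective π := by
  obtain ⟨Ψ, hπ, hΦ⟩ := C.exists_section hF hn
  have hTr : ∀ a, a + 3 ≤ n → (T a).range ≤ Ψ.range := by
    rintro a ha _ ⟨x, rfl⟩
    by_cases h : a + 4 ≤ n
    · exact ⟨x.1, (hΦ a h ⟨x.1, win_mono (blk_mono le_rfl (by omega)) x.2⟩).trans (C.left a h x)⟩
    · obtain ⟨b, rfl⟩ : ∃ b, a = b + 1 := ⟨a - 1, by omega⟩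
      exact ⟨x.1, (hΦ b (by omega) ⟨x.1, win_mono (blk_mono (by omega) (by omega)) x.2⟩).trans
        (C.right b (by omega) x)⟩
  have hα : Ψ.range.comap α = ⊤ := alt_top fun a ha => by
    obtain ⟨g, hg, hm⟩ := hT a ha
    exact ⟨g * c * g⁻¹, hTr a ha hm, conj_cycle hg ha hc hc'⟩
  have hsurj : Function.Surjective Ψ := by
    rw [← MonoidHom.range_eq_top, eq_top_iff, ← htop, Subgroup.closure_le]
    rintro _ (⟨g, rfl⟩ | ⟨x, rfl⟩)
    · exact (hα ▸ Subgroup.mem_top g : g ∈ Ψ.range.comap α)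
    · exact hTr 0 (by omega) ⟨x, rfl⟩
  refine ⟨fun d d' h => ?_, fun y => ⟨Ψ y, hπ y⟩⟩
  obtain ⟨y, rfl⟩ := hsurj d
  obtain ⟨y', rfl⟩ := hsurj d'
  rw [hπ, hπ] at h
  rw [h]

/-- The first pair inside the first triple. -/
def inc2 : Win F q (blk n 0 2) →* Win F q (blk n 0 3) :=
  Subgroup.inclusion (win_mono (blk_mono le_rfl (by norm_num)))

/-- The pairs of a glued family. -/
noncomputable abbrev pfam (α : alternatingGroup (Fin n) →* G) (ψ : Win F q (blk n 0 3) →* G) (a : ℕ) :
    Win F q (blk n a 2) →* G :=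
  trans α (ψ.comp inc2) a

/-- What the relations of the gluing say. -/
structure Glue3 (π : G →* SU n F q) (α : alternatingGroup (Fin n) →* G)
    (ψ : Win F q (blk n 0 3) →* G) (c : alternatingGroup (Fin n)) (θ : F) (e : Fin n → F) : Prop where
  secα : ∀ g, π (α g) = permSU g
  secψ : ∀ x, π (ψ x) = x.1
  cfix : ∀ i : Fin n, 3 ≤ i.1 → c.1 i = i
  cmove : ∀ i : Fin n, i.1 < 2 → (c.1 i).1 = i.1 + 1
  fix2 : Fixes α (ψ.comp inc2)
  cyc : α c = ψ ⟨permSU c, permSU_mem_win c fun i hi => cfix i (by simp [mem_blk] at hi; omega)⟩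
  pairs : ∀ x y, Commute (ψ (inc2 x)) (pfam α ψ 2 y)
  es : Supp (blk n 1 2) e
  eiso : hermForm n F q e e = 0
  e1 : ∀ i : Fin n, i.1 = 1 → e i = 1
  e2 : ∀ i : Fin n, i.1 = 2 → e i ^ (q + 1) = -1
  ec : ∀ i₁ j : Fin n, i₁.1 = 0 → j.1 = 3 →
    EC ψ (trans α ψ 1) e i₁ j 1 1 ∧ EC ψ (trans α ψ 1) e i₁ j θ 1
  gen : Subgroup.closure (Set.range α ∪ Set.range ψ) = ⊤

variable {ψ : Win F q (blk n 0 3) →* G} {c : alternatingGroup (Fin n)} {θ : F} {e : Fin n → F}
  (K : Glue3 π α ψ c θ e) (hq : 3 ≤ q) (hn : 5 ≤ n)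
include K hq hn

theorem Glue3.fix3 : Fixes α ψ := by
  intro g hg x
  have hgc : Commute g c := Subtype.ext (Equiv.ext fun i => by
    show g.1 (c.1 i) = c.1 (g.1 i)
    by_cases hi : i.1 < 3
    · rw [hg i hi]
      by_cases hi' : i.1 < 2
      · exact hg _ (by rw [K.cmove i hi']; omega)
      · have : (c.1 i).1 < 3 := by
          by_contra e
          have e2 := congrArg Fin.val (c.1.injective (K.cfix (c.1 i) (by omega)))
          omega
        exact hg _ this
    · have : ¬ (g.1 i).1 < 3 := fun e => hi (by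
        have := g.1.injective (hg _ e)
        omega)
      rw [K.cfix i (by omega), K.cfix (g.1 i) (by omega)])
  have hle : Win F q (blk n 0 3) ≤
      ((Subgroup.centralizer {α g}).comap ψ).map (Win F q (blk n 0 3)).subtype := by
    have e3 : blk n 0 3 = ({⟨0, by omega⟩, ⟨1, by omega⟩, ⟨2, by omega⟩} : Finset (Fin n)) :=
      blk_three (by omega)
    have hpair : ∀ y : Win F q (blk n 0 2), Commute (α g) (ψ (inc2 y)) := fun y =>
      K.fix2 g (fun i hi => hg i (by omega)) y
    intro v hv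
    refine (gen_three hF hq (i := (⟨0, by omega⟩ : Fin n)) (k := ⟨1, by omega⟩) (j := ⟨2, by omega⟩)
      (by simp [Fin.ext_iff]) (by simp [Fin.ext_iff]) (by simp [Fin.ext_iff])).trans
      (sup_le ?_ ?_) (by rw [← e3]; exact hv)
    · intro w hw
      have hw' : w ∈ Win F q (blk n 0 2) := by rw [blk_two (a := 0) (by omega)]; exact hw
      exact ⟨inc2 ⟨w, hw'⟩, Subgroup.mem_centralizer_singleton_iff.2 (hpair ⟨w, hw'⟩).eq.symm, rfl⟩
    · intro w hw
      have hsc : IsShift c 2 0 1 := fun i _ h2 => by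
        have := K.cmove i (by omega); omega
      have hw' : w ∈ Win F q (blk n 1 2) := by rw [blk_two (a := 1) (by omega)]; exact hw
      obtain ⟨y, hy⟩ := shiftHom_surj hsc (by omega) ⟨w, hw'⟩
      have hw3 : w ∈ Win F q (blk n 0 3) := win_mono (blk_mono (by omega) (by omega)) hw'
      refine ⟨⟨w, hw3⟩, Subgroup.mem_centralizer_singleton_iff.2 ?_, rfl⟩
      have e : (⟨w, hw3⟩ : Win F q (blk n 0 3)) =
          ⟨permSU c, permSU_mem_win c fun i hi => K.cfix i (by simp [mem_blk] at hi; omega)⟩ *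
            inc2 y * ⟨permSU c, permSU_mem_win c fun i hi => K.cfix i (by simp [mem_blk] at hi; omega)⟩⁻¹ :=
        Subtype.ext (congrArg Subtype.val hy).symm
      rw [e, map_mul, map_mul, map_inv, ← K.cyc]
      have h1 : Commute (α g) (α c) := hgc.map α
      exact ((h1.mul_right (hpair y)).mul_right h1.inv_right).eq.symm
  obtain ⟨x', hx', ex⟩ := hle x.2
  rw [show x = x' from Subtype.ext ex.symm]
  exact (Subgroup.mem_centralizer_singleton_iff.1 hx').symm

theorem Glue3.pleft (a : ℕ) (ha : a + 3 ≤ n) (y : Win F q (blk n a 2)) :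
    trans α ψ a ⟨y.1, win_mono (blk_mono le_rfl (by omega)) y.2⟩ = pfam α ψ a y := by
  obtain ⟨g, hg⟩ := exists_shift (m := 3) 0 a (by omega) ha (by omega)
  have hg2 : IsShift g 2 0 a := hg.mono le_rfl (by omega) rfl
  obtain ⟨x, rfl⟩ := shiftHom_surj hg2 (by omega) y
  simp only [pfam, trans_eq α hF K.fix2 (show a + 2 ≤ n by omega) (by omega) hg2]
  rw [show (⟨(shiftHom hg2 x).1, _⟩ : Win F q (blk n a 3)) = shiftHom hg (inc2 x) from
    Subtype.ext rfl, trans_eq α hF (K.fix3 hF hq hn) ha (by omega) hg]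
  rfl

theorem Glue3.pright (a : ℕ) (ha : a + 3 ≤ n) (y : Win F q (blk n (a + 1) 2)) :
    trans α ψ a ⟨y.1, win_mono (blk_mono (by omega) (by omega)) y.2⟩ = pfam α ψ (a + 1) y := by
  obtain ⟨g, hg⟩ := exists_shift (m := 3) 0 a (by omega) ha (by omega)
  have hsc : IsShift c 2 0 1 := fun i _ h2 => by
    have := K.cmove i (by omega); omega
  have hg' : IsShift g 2 1 (a + 1) := hg.mono (by omega) (by omega) (by omega)
  have hgc : IsShift (g * c) 2 0 (a + 1) := hg'.mul hsc
  obtain ⟨x, rfl⟩ := shiftHom_surj hgc (by omega) y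
  simp only [pfam, trans_eq α hF K.fix2 (show a + 1 + 2 ≤ n by omega) (by omega) hgc]
  rw [show (⟨(shiftHom hgc x).1, _⟩ : Win F q (blk n a 3)) = shiftHom hg
      (⟨permSU c, permSU_mem_win c fun i hi => K.cfix i (by simp [mem_blk] at hi; omega)⟩ *
        inc2 x * ⟨permSU c, permSU_mem_win c fun i hi => K.cfix i (by simp [mem_blk] at hi; omega)⟩⁻¹)
    from Subtype.ext (by simp [inc2, map_mul, mul_assoc]), trans_eq α hF (K.fix3 hF hq hn) ha (by omega) hg,
    map_mul ψ, map_mul ψ, map_inv ψ, ← K.cyc, map_mul α]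
  simp only [MonoidHom.comp_apply]
  group

theorem Glue3.pp (a b : ℕ) (hab : a + 2 ≤ b) (hb : b + 2 ≤ n) (x : Win F q (blk n a 2))
    (y : Win F q (blk n b 2)) : Commute (pfam α ψ a x) (pfam α ψ b y) := by
  obtain ⟨g, hg1, hg2⟩ : ∃ g : alternatingGroup (Fin n), IsShift g 2 0 a ∧ IsShift g 2 2 b := by
    by_cases h6 : 6 ≤ n
    · obtain ⟨g, hg⟩ := exists_even_extend (k := 4)
        (fun i => (⟨i.1, by omega⟩ : Fin n))
        (fun i => (⟨if i.1 < 2 then a + i.1 else b + (i.1 - 2), by split <;> omega⟩ : Fin n))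
        (fun i j e => Fin.ext (by simpa using congrArg Fin.val e))
        (fun i j e => by
          have := congrArg Fin.val e
          simp only at this
          split_ifs at this <;> exact Fin.ext (by omega)) (by omega)
      refine ⟨g, fun i _ h2 => ?_, fun i h1 h2 => ?_⟩
      · have := congrArg Fin.val (hg ⟨i.1, by omega⟩)
        simp [show i.1 < 2 by omega] at this
        omega
      · have := congrArg Fin.val (hg ⟨i.1, by omega⟩)
        simp [show ¬ i.1 < 2 by omega] at this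
        omega
    · obtain rfl : n = 5 := by omega
      have key : ∀ a b : Fin 4, a.1 + 2 ≤ b.1 → ∃ g : alternatingGroup (Fin 5),
          (∀ i : Fin 5, i.1 < 2 → (g.1 i).1 + 0 = a.1 + i.1) ∧
          (∀ i : Fin 5, 2 ≤ i.1 → i.1 < 4 → (g.1 i).1 + 2 = b.1 + i.1) := by
        intro a b h
        refine ⟨if a.1 = 0 ∧ b.1 = 2 then 1
          else if a.1 = 1 then ⟨finRotate 5, Equiv.Perm.mem_alternatingGroup.2 (by decide)⟩
          else ⟨Equiv.swap 2 3 * Equiv.swap 3 4, Equiv.Perm.mem_alternatingGroup.2 (by decide)⟩, ?_⟩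
        revert a b
        decide
      obtain ⟨g, h1, h2⟩ := key ⟨a, by omega⟩ ⟨b, by omega⟩ hab
      exact ⟨g, fun i _ h => h1 i (by omega), fun i h h' => h2 i h (by omega)⟩
  obtain ⟨x₀, rfl⟩ := shiftHom_surj hg1 (by omega) x
  obtain ⟨y₀, rfl⟩ := shiftHom_surj hg2 (by omega) y
  simp only [pfam]
  rw [trans_eq α hF K.fix2 (show a + 2 ≤ n by omega) (by omega) hg1,
    trans_conj α hF K.fix2 (show 2 + 2 ≤ n by omega) hb (by omega) hg2]
  have h0 := K.pairs x₀ y₀
  exact h0.map (MulAut.conj (α g)).toMonoidHom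

theorem Glue3.gen3 (a : ℕ) (ha : a + 3 ≤ n) (K' : Subgroup G) (h1 : ∀ x, pfam α ψ a x ∈ K')
    (h2 : ∀ x, pfam α ψ (a + 1) x ∈ K') (x : Win F q (blk n a 3)) : trans α ψ a x ∈ K' := by
  have hle : Win F q (blk n a 3) ≤ (K'.comap (trans α ψ a)).map (Win F q (blk n a 3)).subtype := by
    intro v hv
    refine (gen_three hF hq (i := (⟨a, by omega⟩ : Fin n)) (k := ⟨a + 1, by omega⟩)
      (j := ⟨a + 2, by omega⟩) (by simp [Fin.ext_iff]) (by simp [Fin.ext_iff])
      (by simp [Fin.ext_iff])).trans (sup_le ?_ ?_) (by rw [← blk_three ha]; exact hv)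
    · intro w hw
      have hw' : w ∈ Win F q (blk n a 2) := by rw [blk_two (a := a) (by omega)]; exact hw
      refine ⟨⟨w, win_mono (blk_mono le_rfl (by omega)) hw'⟩, ?_, rfl⟩
      rw [SetLike.mem_coe, Subgroup.mem_comap, K.pleft hF hq hn a ha ⟨w, hw'⟩]
      exact h1 _
    · intro w hw
      have hw' : w ∈ Win F q (blk n (a + 1) 2) := by rw [blk_two (a := a + 1) (by omega)]; exact hw
      refine ⟨⟨w, win_mono (blk_mono (by omega) (by omega)) hw'⟩, ?_, rfl⟩
      rw [SetLike.mem_coe, Subgroup.mem_comap, K.pright hF hq hn a ha ⟨w, hw'⟩]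
      exact h2 _
  obtain ⟨x', hx', ex⟩ := hle x.2
  rw [show x = x' from Subtype.ext ex.symm]
  exact hx'

theorem Glue3.quad {θu : Fˣ} (hθu : (θu : F) = θ) (hθ : ∀ u : Fˣ, u ∈ Subgroup.zpowers θu) :
    ∃ Φ0 : Win F q (blk n 0 4) →* G, (∀ g, π (Φ0 g) = g.1) ∧
      (∀ y : Win F q (blk n 0 3), Φ0 ⟨y.1, win_mono (blk_mono le_rfl (by omega)) y.2⟩ = trans α ψ 0 y) ∧
      ∀ y : Win F q (blk n 1 3),
        Φ0 ⟨y.1, win_mono (blk_mono (by omega) (by omega)) y.2⟩ = trans α ψ 1 y := by
  subst hθu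
  have hfix3 := K.fix3 hF hq hn
  have hT0 : ∀ x, trans α ψ 0 x = ψ x := trans_zero α hF hfix3 (by omega)
  have hsecT : ∀ a, a + 3 ≤ n → ∀ y, π (trans α ψ a y) = y.1 := fun a ha =>
    trans_sec α hF π K.secα K.secψ ha (by omega)
  -- the first quad
  let D : Subgroup G := ((trans α ψ 0)).range ⊔ ((trans α ψ 1)).range
  let a0 : Win F q (blk n 0 3) →* D := ((trans α ψ 0)).codRestrict D fun x => Subgroup.mem_sup_left ⟨x, rfl⟩
  let b0 : Win F q (blk n 1 3) →* D := ((trans α ψ 1)).codRestrict D fun x => Subgroup.mem_sup_right ⟨x, rfl⟩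
  set i₁ : Fin n := ⟨0, by omega⟩
  set i₂ : Fin n := ⟨1, by omega⟩
  set i₃ : Fin n := ⟨2, by omega⟩
  set j : Fin n := ⟨3, by omega⟩
  have K4 : Four (π.comp D.subtype) a0 b0 i₁ i₂ i₃ j := by
    refine ⟨by simp [i₁, i₂, Fin.ext_iff], by simp [i₁, i₃, Fin.ext_iff], by simp [i₂, i₃, Fin.ext_iff],
      by simp [i₁, j, Fin.ext_iff], by simp [i₂, j, Fin.ext_iff], by simp [i₃, j, Fin.ext_iff],
      blk_three (a := 0) (by omega), blk_three (a := 1) (by omega),
      hsecT 0 (by omega), hsecT 1 (by omega), fun g hgS hgT => Subtype.ext ?_, fun x y hx hy => ?_⟩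
    · have hg : g ∈ Win F q (blk n 1 2) := win_mono (fun i hi => by
        simp [Finset.mem_inter, mem_blk] at hi ⊢; omega) (win_inter hgS hgT)
      exact (K.pright hF hq hn 0 (by omega) ⟨g, hg⟩).trans (K.pleft hF hq hn 1 (by omega) ⟨g, hg⟩).symm
    · have hx' : x.1 ∈ Win F q (blk n 0 2) := by rw [blk_two (a := 0) (by omega)]; exact hx
      have hy' : y.1 ∈ Win F q (blk n 2 2) := by rw [blk_two (a := 2) (by omega)]; exact hy
      refine Subtype.ext (show Commute ((trans α ψ 0) x) ((trans α ψ 1) y) from ?_).eq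
      rw [show (trans α ψ 0) x = pfam α ψ 0 ⟨x.1, hx'⟩ from K.pleft hF hq hn 0 (by omega) ⟨x.1, hx'⟩,
        show (trans α ψ 1) y = pfam α ψ 2 ⟨y.1, hy'⟩ from K.pright hF hq hn 1 (by omega) ⟨y.1, hy'⟩]
      exact K.pp hF hq hn 0 2 le_rfl (by omega) _ _
  have he : Supp ({i₂, i₃} : Finset (Fin n)) e := by
    rw [← blk_two (a := 1) (show 1 + 2 ≤ n by omega)]; exact K.es
  have ecD : ∀ μ : F, EC ψ ((trans α ψ 1)) e i₁ j μ 1 → EC a0 b0 e i₁ j μ 1 := by
    rintro μ ⟨x, y, γ, γ', h1, h2, h3, h4, hc⟩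
    exact ⟨x, y, γ, γ', h1, h2, h3, h4, Subtype.ext (show Commute ((trans α ψ 0) x) ((trans α ψ 1) y) by
      rw [hT0]; exact hc).eq⟩
  have hra : a0.range = ((trans α ψ 0)).range.subgroupOf D := by
    ext d; simp [a0, Subgroup.mem_subgroupOf, Subtype.ext_iff]
  have hrb : b0.range = ((trans α ψ 1)).range.subgroupOf D := by
    ext d; simp [b0, Subgroup.mem_subgroupOf, Subtype.ext_iff]
  have htop4 : a0.range ⊔ b0.range = ⊤ := by
    rw [hra, hrb, ← Subgroup.subgroupOf_sup (show ((trans α ψ 0)).range ≤ D from le_sup_left)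
      (show ((trans α ψ 1)).range ≤ D from le_sup_right), Subgroup.subgroupOf_self]
  obtain ⟨hinj, hgen⟩ := four hF K4 hq he K.eiso (K.e1 i₂ rfl) (K.e2 i₃ rfl) hθ
    (ecD _ (K.ec i₁ j rfl rfl).1) (ecD _ (K.ec i₁ j rfl rfl).2) htop4
  have hins : insert j (blk n 0 3) = blk n 0 4 := by
    ext i; simp [mem_blk, j, Fin.ext_iff]; omega
  rw [hins] at hgen
  obtain ⟨Φ₀, hΦ₀, hΦl, hΦr⟩ := exists_ext hF (a := a0) (b := b0) (π := π.comp D.subtype)
    (U := blk n 0 4) (hsecT 0 (by omega)) (hsecT 1 (by omega)) hinj (blk_mono le_rfl (by omega))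
    (blk_mono (by omega) (by omega)) hgen
  set Φ0 := D.subtype.comp Φ₀ with hΦ0
  exact ⟨Φ0, hΦ₀, fun y => congrArg Subtype.val (hΦl y), fun y => congrArg Subtype.val (hΦr y)⟩

theorem Glue3.bijective {θu : Fˣ} (hθu : (θu : F) = θ) (hθ : ∀ u : Fˣ, u ∈ Subgroup.zpowers θu) :
    Function.Bijective π := by
  have hfix3 := K.fix3 hF hq hn
  have hT0 : ∀ x, trans α ψ 0 x = ψ x := trans_zero α hF hfix3 (by omega)
  set P := fun a => pfam α ψ a with hP
  set T := fun a => trans α ψ a with hTdef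
  have hsecT : ∀ a, a + 3 ≤ n → ∀ y, π (T a y) = y.1 := fun a ha =>
    trans_sec α hF π K.secα K.secψ ha (by omega)
  have pleft := K.pleft hF hq hn
  have pright := K.pright hF hq hn
  have tp : ∀ a b, a + 3 ≤ b → b + 2 ≤ n → ∀ x y, Commute (T a x) (P b y) := fun a b h1 h2 x y =>
    Subgroup.mem_centralizer_singleton_iff.1 (K.gen3 hF hq hn a (by omega) (Subgroup.centralizer {P b y})
      (fun x => Subgroup.mem_centralizer_singleton_iff.2 (K.pp hF hq hn a b (by omega) h2 x y).eq)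
      (fun x => Subgroup.mem_centralizer_singleton_iff.2 (K.pp hF hq hn (a + 1) b (by omega) h2 x y).eq) x)
  have tt : ∀ a b, a + 3 ≤ b → b + 3 ≤ n → ∀ x y, Commute (T a x) (T b y) := fun a b h1 h2 x y =>
    (show Commute (T b y) (T a x) from Subgroup.mem_centralizer_singleton_iff.1
      (K.gen3 hF hq hn b h2 (Subgroup.centralizer {T a x})
      (fun y => Subgroup.mem_centralizer_singleton_iff.2 (tp a b h1 (by omega) x y).eq.symm)
      (fun y => Subgroup.mem_centralizer_singleton_iff.2 (tp a (b + 1) (by omega) (by omega) x y).eq.symm)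
      y)).symm
  have pt : 5 ≤ n → ∀ x y, Commute (P 0 x) (T 2 y) := fun _ x y =>
    (show Commute (T 2 y) (P 0 x) from Subgroup.mem_centralizer_singleton_iff.1
      (K.gen3 hF hq hn 2 (by omega) (Subgroup.centralizer {P 0 x})
      (fun y => Subgroup.mem_centralizer_singleton_iff.2 (K.pp hF hq hn 0 2 le_rfl (by omega) x y).eq.symm)
      (fun y => Subgroup.mem_centralizer_singleton_iff.2 (K.pp hF hq hn 0 3 (by omega) (by omega) x y).eq.symm)
      y)).symm
  obtain ⟨Φ0, hΦ₀, hΦl, hΦr⟩ := K.quad hF hq hn hθu hθ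
  -- transported quads
  have hquad : ∀ a, a + 4 ≤ n → ∃ Φ : Win F q (blk n a 4) →* G, (∀ g, π (Φ g) = g.1) ∧
      (∀ y : Win F q (blk n a 3), Φ ⟨y.1, win_mono (blk_mono le_rfl (by omega)) y.2⟩ = trans α ψ a y) ∧
      ∀ y : Win F q (blk n (a + 1) 3),
        Φ ⟨y.1, win_mono (blk_mono (by omega) (by omega)) y.2⟩ = trans α ψ (a + 1) y := by
    intro a ha
    obtain ⟨g, hg⟩ : ∃ g : alternatingGroup (Fin n), IsShift g 4 0 a := by
      by_cases h6 : 6 ≤ n
      · exact exists_shift 0 a (by omega) ha (by omega)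
      · obtain rfl : n = 5 := by omega
        rcases (show a = 0 ∨ a = 1 by omega) with rfl | rfl
        · exact ⟨1, isShift_one 4 0⟩
        · refine ⟨⟨finRotate 5, Equiv.Perm.mem_alternatingGroup.2 (by decide)⟩, fun i _ h => ?_⟩
          revert i; decide
    refine ⟨((MulAut.conj (α g)).toMonoidHom.comp Φ0).comp (shiftHom (hg.inv (by omega))),
      fun y => ?_, fun y => ?_, fun y => ?_⟩
    · simp only [MonoidHom.comp_apply, MulEquiv.coe_toMonoidHom, MulAut.conj_apply, map_mul, map_inv,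
        K.secα]
      rw [show π (Φ0 (shiftHom (hg.inv (by omega)) y)) = _ from hΦ₀ _]
      simp [map_inv, mul_assoc]
    · have h3 : IsShift g 3 0 a := hg.mono le_rfl (by omega) rfl
      obtain ⟨x, rfl⟩ := shiftHom_surj h3 (by omega) y
      simp only [MonoidHom.comp_apply, MulEquiv.coe_toMonoidHom, MulAut.conj_apply, MonoidHom.comp_apply]
      rw [trans_eq α hF hfix3 (show a + 3 ≤ n by omega) (by omega) h3, ← hT0,
        show trans α ψ 0 x = Φ0 ⟨x.1, win_mono (blk_mono le_rfl (by omega)) x.2⟩ from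
          (hΦl x).symm]
      congr 3
      exact Subtype.ext (by simp [map_inv, mul_assoc])
    · have h3 : IsShift g 3 1 (a + 1) := hg.mono (by omega) (by omega) (by omega)
      obtain ⟨x, rfl⟩ := shiftHom_surj h3 (by omega) y
      simp only [MonoidHom.comp_apply, MulEquiv.coe_toMonoidHom, MulAut.conj_apply, MonoidHom.comp_apply]
      rw [trans_conj α hF hfix3 (show 1 + 3 ≤ n by omega) (by omega) (by omega) h3,
        show trans α ψ 1 x = Φ0 ⟨x.1, win_mono (blk_mono (by omega) (by omega)) x.2⟩ from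
          (hΦr x).symm]
      congr 3
      exact Subtype.ext (by simp [map_inv, mul_assoc])
  classical
  let Φ : ∀ a, Win F q (blk n a 4) →* G := fun a =>
    if h : a + 4 ≤ n then (hquad a h).choose else 1
  have hΦe : ∀ a (h : a + 4 ≤ n), Φ a = (hquad a h).choose := fun a h => dif_pos h
  have C : Chain π P T Φ := by
    refine ⟨fun a h g => ?_, hsecT, fun a h g => ?_, fun a h g => ?_, pleft, pright, tp, tt, pt⟩
    · rw [hΦe a h]; exact (hquad a h).choose_spec.1 g
    · rw [hΦe a h]; exact (hquad a h).choose_spec.2.1 g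
    · rw [hΦe a h]; exact (hquad a h).choose_spec.2.2 g
  refine bijective_of_chain hF (α := α) C (by omega) K.cfix K.cmove (fun a ha => ?_) ?_
  · obtain ⟨g, hg⟩ := exists_shift (m := 3) 0 a (by omega) ha (by omega)
    let cW : Win F q (blk n 0 3) :=
      ⟨permSU c, permSU_mem_win c fun i hi => K.cfix i (by simp [mem_blk] at hi; omega)⟩
    refine ⟨g, hg, ⟨shiftHom hg cW, ?_⟩⟩
    show trans α ψ a (shiftHom hg cW) = _
    rw [trans_eq α hF hfix3 ha (by omega) hg, ← K.cyc, map_mul, map_mul, map_inv]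
  · rw [show Set.range (T 0) = Set.range ψ by rw [show (T 0 : _ → G) = ψ from funext hT0]]
    exact K.gen

end H69.SUW
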