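import Cfsg.Agent.H69.SUWin

/-!
Even permutation matrices in `SU_n`, and windows as copies of smaller unitary groups.
-/

set_option autoImplicit false
set_option linter.unusedSectionVars false

namespace H69.SUW

open Matrix Cfsg H50

universe u

variable {F : Type u} [Field F] {q n k : ℕ}

/-- The matrix of a permutation of the coordinates. -/
def permMat (σ : Equiv.Perm (Fin n)) : Matrix (Fin n) (Fin n) F :=
  (1 : Matrix (Fin n) (Fin n) F).submatrix σ.symm id

theorem permMat_mulVec (σ : Equiv.Perm (Fin n)) (v : Fin n → F) :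
    permMat σ *ᵥ v = v ∘ σ.symm := funext fun i => by
  simp [permMat, mulVec, dotProduct, submatrix_apply, Matrix.one_apply]

theorem permMat_iso (σ : Equiv.Perm (Fin n)) : IsIso q (permMat σ : Matrix (Fin n) (Fin n) F) :=
  fun x y => by
    rw [permMat_mulVec, permMat_mulVec]
    exact Equiv.sum_comp σ.symm fun i => x i * y i ^ q

theorem permMat_det (σ : alternatingGroup (Fin n)) :
    (permMat σ.1 : Matrix (Fin n) (Fin n) F).det = 1 := by
  rw [permMat, det_permute, det_one, mul_one, Equiv.Perm.sign_symm,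
    Equiv.Perm.mem_alternatingGroup.1 σ.2]
  simp

theorem mkSU_apply (M : Matrix (Fin n) (Fin n) F) (h : IsIso q M) (hd : M.det = 1) :
    suMat (mkSU M h hd) = M := rfl

/-- Even permutations as elements of `SU_n`. -/
def permSU : alternatingGroup (Fin n) →* SU n F q :=
  MonoidHom.mk' (fun σ => mkSU (permMat σ.1) (permMat_iso σ.1) (permMat_det σ)) fun σ τ => suMat_ext fun v => by
    rw [suMat_mulVec_mul, mkSU_apply, mkSU_apply, mkSU_apply, permMat_mulVec, permMat_mulVec,
      permMat_mulVec]
    funext i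
    simp [Equiv.Perm.mul_def]

theorem permSU_apply (σ : alternatingGroup (Fin n)) (v : Fin n → F) :
    suMat (permSU (q := q) σ) *ᵥ v = v ∘ σ.1.symm := permMat_mulVec _ _

theorem permSU_single (σ : alternatingGroup (Fin n)) (i : Fin n) :
    suMat (permSU (q := q) σ) *ᵥ (δ i : Fin n → F) = δ (σ.1 i) := by
  rw [permSU_apply]
  funext j
  simp only [Function.comp_apply, Pi.single_apply]
  congr 1
  exact propext (Equiv.symm_apply_eq σ.1)

theorem permSU_mem_win (σ : alternatingGroup (Fin n)) {S : Finset (Fin n)}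
    (h : ∀ i, i ∉ S → σ.1 i = i) : permSU σ ∈ Win F q S := fun i hi => by
  rw [permSU_single, h i hi]

theorem perm_conj_win {g : SU n F q} (σ : alternatingGroup (Fin n)) {S T : Finset (Fin n)}
    (hg : g ∈ Win F q S) (hST : ∀ i, i ∈ S → σ.1 i ∈ T) :
    permSU σ * g * (permSU σ)⁻¹ ∈ Win F q T := fun i hi => by
  have h : σ.1.symm i ∉ S := fun e => hi (by simpa using hST _ e)
  have e := permSU_single (F := F) (q := q) σ (σ.1.symm i)
  rw [Equiv.apply_symm_apply] at e
  rw [suMat_mulVec_mul, suMat_mulVec_mul, suMat_inv_h_single e, hg _ h, e]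
where
  suMat_inv_h_single {g : SU n F q} {v w : Fin n → F} (e : suMat g *ᵥ v = w) :
      suMat g⁻¹ *ᵥ w = v := by rw [← e, suMat_inv_mulVec]

/-- The inclusion of coordinates. -/
def inclMat (f : Fin k ↪ Fin n) : Matrix (Fin n) (Fin k) F :=
  (1 : Matrix (Fin n) (Fin n) F).submatrix id f

theorem incl_apply (f : Fin k ↪ Fin n) (x : Fin k → F) (a : Fin k) : (inclMat f *ᵥ x) (f a) = x a := by
  simp [inclMat, mulVec, dotProduct, submatrix_apply, Matrix.one_apply, f.injective.eq_iff]

theorem incl_outside (f : Fin k ↪ Fin n) (x : Fin k → F) {i : Fin n} (hi : i ∉ Finset.univ.map f) :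
    (inclMat f *ᵥ x) i = 0 := by
  simp only [Finset.mem_map, Finset.mem_univ, true_and, not_exists] at hi
  simp only [inclMat, mulVec, dotProduct, submatrix_apply, id, Matrix.one_apply]
  exact Finset.sum_eq_zero fun a _ => by rw [if_neg (fun e => hi a e.symm), zero_mul]

theorem incl_transpose (f : Fin k ↪ Fin n) (y : Fin n → F) : (inclMat f)ᵀ *ᵥ y = y ∘ f :=
  funext fun a => by
    simp [inclMat, mulVec, dotProduct, submatrix_apply, Matrix.one_apply]

theorem incl_mul (f : Fin k ↪ Fin n) :
    ((inclMat f : Matrix (Fin n) (Fin k) F))ᵀ * (inclMat f : Matrix (Fin n) (Fin k) F) =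
      (1 : Matrix (Fin k) (Fin k) F) := by
  refine Matrix.ext_of_mulVec_single fun i => ?_
  rw [← mulVec_mulVec, incl_transpose, one_mulVec]
  exact funext fun a => incl_apply f _ a

/-- The matrix of the embedded element. -/
def embMat (f : Fin k ↪ Fin n) (M : Matrix (Fin k) (Fin k) F) : Matrix (Fin n) (Fin n) F :=
  1 + (inclMat f : Matrix (Fin n) (Fin k) F) * (M - 1) * (inclMat f : Matrix (Fin n) (Fin k) F)ᵀ

theorem embMat_mulVec (f : Fin k ↪ Fin n) (M : Matrix (Fin k) (Fin k) F) (y : Fin n → F) :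
    embMat f M *ᵥ y = y + inclMat f *ᵥ (M *ᵥ (y ∘ f) - y ∘ f) := by
  rw [embMat, add_mulVec, one_mulVec, ← mulVec_mulVec, ← mulVec_mulVec, incl_transpose, sub_mulVec,
    one_mulVec]

theorem embMat_inside (f : Fin k ↪ Fin n) (M : Matrix (Fin k) (Fin k) F) (y : Fin n → F) (a : Fin k) :
    (embMat f M *ᵥ y) (f a) = (M *ᵥ (y ∘ f)) a := by
  simp [embMat_mulVec, incl_apply]

theorem embMat_outside (f : Fin k ↪ Fin n) (M : Matrix (Fin k) (Fin k) F) (y : Fin n → F)
    {i : Fin n} (hi : i ∉ Finset.univ.map f) : (embMat f M *ᵥ y) i = y i := by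
  simp [embMat_mulVec, incl_outside f _ hi]

theorem sum_split (f : Fin k ↪ Fin n) (w : Fin n → F) :
    ∑ i, w i = ∑ a, w (f a) + ∑ i ∈ (Finset.univ.map f)ᶜ, w i := by
  rw [← Finset.sum_map _ f w, Finset.sum_add_sum_compl]

theorem embMat_iso (f : Fin k ↪ Fin n) {M : Matrix (Fin k) (Fin k) F} (h : IsIso q M) :
    IsIso q (embMat f M) := fun x y => by
  have e : ∀ i ∈ (Finset.univ.map f)ᶜ, (embMat f M *ᵥ x) i * (embMat f M *ᵥ y) i ^ q = x i * y i ^ q :=
    fun i hi => by
      rw [Finset.mem_compl] at hi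
      rw [embMat_outside f M x hi, embMat_outside f M y hi]
  show ∑ i, _ = ∑ i, _
  rw [sum_split f, sum_split f, Finset.sum_congr rfl e]
  congr 1
  simp only [embMat_inside]
  exact h (x ∘ f) (y ∘ f)

theorem embMat_det (f : Fin k ↪ Fin n) {M : Matrix (Fin k) (Fin k) F} (h : M.det = 1) :
    (embMat f M).det = 1 := by
  rw [embMat, det_one_add_mul_comm, ← Matrix.mul_assoc, incl_mul, Matrix.one_mul, add_sub_cancel, h]

/-- A smaller unitary group on some of the coordinates. -/
def embSU (f : Fin k ↪ Fin n) : SU k F q →* SU n F q :=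
  MonoidHom.mk' (fun g => mkSU (embMat f (suMat g)) (embMat_iso f (SU_isIso g)) (embMat_det f g.1.2))
    fun g g' => suMat_ext fun y => by
      rw [suMat_mulVec_mul, mkSU_apply, mkSU_apply, mkSU_apply]
      funext i
      by_cases hi : i ∈ Finset.univ.map f
      · obtain ⟨a, -, rfl⟩ := Finset.mem_map.1 hi
        rw [embMat_inside, embMat_inside, show (embMat f (suMat g') *ᵥ y) ∘ f = suMat g' *ᵥ (y ∘ f) from
          funext fun b => embMat_inside f _ y b, suMat_mulVec_mul]
      · rw [embMat_outside f _ _ hi, embMat_outside f _ _ hi, embMat_outside f _ _ hi]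

theorem embSU_mem (f : Fin k ↪ Fin n) (g : SU k F q) :
    embSU f g ∈ Win F q (Finset.univ.map f) := fun i hi => by
  show embMat f (suMat g) *ᵥ δ i = δ i
  have h0 : (δ i : Fin n → F) ∘ f = 0 := funext fun a =>
    Pi.single_eq_of_ne (fun e => hi (by rw [← e]; exact Finset.mem_map_of_mem _ (Finset.mem_univ a))) 1
  rw [embMat_mulVec, h0, mulVec_zero, sub_zero, mulVec_zero, add_zero]

theorem embSU_injective (f : Fin k ↪ Fin n) : Function.Injective (embSU (F := F) (q := q) f) :=
  fun g g' e => suMat_ext fun v => by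
    have h := congrArg (fun x => suMat x *ᵥ (inclMat f *ᵥ v)) e
    change embMat f (suMat g) *ᵥ _ = embMat f (suMat g') *ᵥ _ at h
    funext a
    have h' := congrFun h (f a)
    rw [embMat_inside, embMat_inside,
      show (inclMat f *ᵥ v) ∘ f = v from funext fun b => incl_apply f v b] at h'
    exact h'

variable [Fintype F] (hF : Fintype.card F = q ^ 2)
include hF

theorem win_eq_emb (f : Fin k ↪ Fin n) {h : SU n F q} (hh : h ∈ Win F q (Finset.univ.map f)) :
    ∃ g : SU k F q, embSU f g = h := by
  set M : Matrix (Fin k) (Fin k) F := (suMat h).submatrix f f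
  have hM : ∀ x : Fin k → F, suMat h *ᵥ (inclMat f *ᵥ x) = inclMat f *ᵥ (M *ᵥ x) := fun x => by
    funext i
    by_cases hi : i ∈ Finset.univ.map f
    · obtain ⟨a, -, rfl⟩ := Finset.mem_map.1 hi
      rw [incl_apply]
      simp only [mulVec, dotProduct, M, submatrix_apply]
      rw [sum_split f, Finset.sum_eq_zero (s := (Finset.univ.map f)ᶜ) (fun j hj => by
        show suMat h (f a) j * (inclMat f *ᵥ x) j = 0
        rw [incl_outside f x (Finset.mem_compl.1 hj), mul_zero]), add_zero]
      refine Finset.sum_congr rfl fun b _ => ?_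
      show suMat h (f a) (f b) * (inclMat f *ᵥ x) (f b) = _
      rw [incl_apply]
    · rw [win_apply hF hh _ hi, incl_outside f _ hi, incl_outside f _ hi]
  have hI : ∀ x y : Fin k → F,
      hermForm n F q (inclMat f *ᵥ x) (inclMat f *ᵥ y) = hermForm k F q x y := fun x y => by
    show ∑ i, _ = _
    rw [sum_split f, Finset.sum_eq_zero (s := (Finset.univ.map f)ᶜ) (fun j hj => by
      rw [incl_outside f x (Finset.mem_compl.1 hj), zero_mul]), add_zero]
    simp only [incl_apply]
    rfl
  have hiso : IsIso q M := fun x y => by rw [← hI, ← hM, ← hM, suMat_h, hI]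
  have he : suMat h = embMat f M := by
    refine Matrix.ext_of_mulVec_single fun i => ?_
    by_cases hi : i ∈ Finset.univ.map f
    · obtain ⟨a, -, rfl⟩ := Finset.mem_map.1 hi
      have e1 : (Pi.single (f a) 1 : Fin n → F) = inclMat f *ᵥ Pi.single a 1 := by
        funext j
        simp [inclMat, Matrix.one_apply, Pi.single_apply]
      rw [e1, hM, embMat_mulVec,
        show (inclMat f *ᵥ Pi.single a (1 : F)) ∘ f = Pi.single a 1 from
          funext fun b => incl_apply f _ b, mulVec_sub, add_sub_cancel]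
    · rw [hh i hi, embMat_mulVec]
      have h0 : (Pi.single i (1 : F) : Fin n → F) ∘ f = 0 := funext fun a =>
        Pi.single_eq_of_ne (fun e => hi (by rw [← e]; exact Finset.mem_map_of_mem _ (Finset.mem_univ a))) 1
      rw [h0, mulVec_zero, sub_zero, mulVec_zero, add_zero]
  have hd : M.det = 1 := by
    have h1 := congrArg Matrix.det he
    rw [show (suMat h).det = 1 from h.1.2, embMat, det_one_add_mul_comm, ← Matrix.mul_assoc,
      incl_mul, Matrix.one_mul, add_sub_cancel] at h1
    exact h1.symm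
  exact ⟨mkSU M hiso hd, suMat_ext fun v => by rw [he]; rfl⟩

/-- A window is a smaller unitary group. -/
noncomputable def winEquiv (f : Fin k ↪ Fin n) : SU k F q ≃* Win F q (Finset.univ.map f) :=
  MulEquiv.ofBijective ((embSU f).codRestrict _ (embSU_mem f))
    ⟨fun _ _ e => embSU_injective f (congrArg Subtype.val e),
      fun h => (win_eq_emb hF f h.2).imp fun _ e => Subtype.ext e⟩

end H69.SUW
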