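import Cfsg.Agent.H40.SpPres
import Cfsg.Agent.H69.SUPerm
import Cfsg.Agent.H69.SUChain
import Cfsg.Agent.H24.AltPresAll
import Cfsg.Agent.S0281

/-!
Gluing two presented groups along extra relations, and few generators for small pieces.
-/

set_option autoImplicit false
set_option linter.unusedSectionVars false
set_option linter.style.haveILetI false

namespace H69.SUNP

open H40.PresN (HasPresN)

universe u v w

/-- Two presented groups and relators `E` in their elements. -/
theorem glue {A : Type u} [Group A] {B : Type v} [Group B] {Q : Type w} [Group Q] {a b RA RB : ℕ}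
    (hA : HasPresN A a RA) (hB : HasPresN B b RB) (ιA : A →* Q) (ιB : B →* Q)
    (E : Finset (FreeGroup (A ⊕ B))) (hE : ∀ r ∈ E, FreeGroup.lift (Sum.elim ιA ιB) r = 1)
    (hbij : ∀ {G : Type} [Group G] (π : G →* Q) (ψA : A →* G) (ψB : B →* G),
      (∀ x, π (ψA x) = ιA x) → (∀ x, π (ψB x) = ιB x) →
      (∀ r ∈ E, FreeGroup.lift (Sum.elim ψA ψB) r = 1) →
      Subgroup.closure (Set.range ψA ∪ Set.range ψB) = ⊤ → Function.Bijective π) :
    HasPresN Q (a + b) (RA + RB + E.card) := by
  classical
  obtain ⟨relsA, hcA, ⟨eA⟩⟩ := hA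
  obtain ⟨relsB, hcB, ⟨eB⟩⟩ := hB
  let πA : FreeGroup (Fin a) →* A :=
    eA.toMonoidHom.comp (PresentedGroup.mk (↑relsA : Set (FreeGroup (Fin a))))
  let πB : FreeGroup (Fin b) →* B :=
    eB.toMonoidHom.comp (PresentedGroup.mk (↑relsB : Set (FreeGroup (Fin b))))
  have hπA : Function.Surjective πA := eA.surjective.comp (PresentedGroup.mk_surjective _)
  have hπB : Function.Surjective πB := eB.surjective.comp (PresentedGroup.mk_surjective _)
  choose wA hwA using hπA
  choose wB hwB using hπB
  let inA : FreeGroup (Fin a) →* FreeGroup (Fin (a + b)) :=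
    FreeGroup.lift fun i => FreeGroup.of (Fin.castAdd b i)
  let inB : FreeGroup (Fin b) →* FreeGroup (Fin (a + b)) :=
    FreeGroup.lift fun i => FreeGroup.of (Fin.natAdd a i)
  let sub : FreeGroup (A ⊕ B) →* FreeGroup (Fin (a + b)) :=
    FreeGroup.lift (Sum.elim (fun x => inA (wA x)) fun y => inB (wB y))
  let rels' : Finset (FreeGroup (Fin (a + b))) := relsA.image inA ∪ relsB.image inB ∪ E.image sub
  refine ⟨rels', (Finset.card_union_le _ _).trans (add_le_add ((Finset.card_union_le _ _).trans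
    (add_le_add (Finset.card_image_le.trans hcA) (Finset.card_image_le.trans hcB)))
    Finset.card_image_le), ?_⟩
  let val : Fin (a + b) → Q :=
    Fin.append (fun i => ιA (πA (FreeGroup.of i))) fun i => ιB (πB (FreeGroup.of i))
  have hinA : (FreeGroup.lift val).comp inA = ιA.comp πA := FreeGroup.ext_hom _ _ fun i => by
    simp [inA, val]
  have hinB : (FreeGroup.lift val).comp inB = ιB.comp πB := FreeGroup.ext_hom _ _ fun i => by
    simp [inB, val]
  have hsub : (FreeGroup.lift val).comp sub = FreeGroup.lift (Sum.elim ιA ιB) :=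
    FreeGroup.ext_hom _ _ fun x => by
      rcases x with h | h
      · simp only [MonoidHom.comp_apply, sub, FreeGroup.lift_apply_of, Sum.elim_inl]
        rw [← MonoidHom.comp_apply, hinA, MonoidHom.comp_apply, hwA]
      · simp only [MonoidHom.comp_apply, sub, FreeGroup.lift_apply_of, Sum.elim_inr]
        rw [← MonoidHom.comp_apply, hinB, MonoidHom.comp_apply, hwB]
  have hA1 : ∀ r ∈ relsA, πA r = 1 := fun r hr => by
    simp only [πA, MonoidHom.comp_apply]
    rw [PresentedGroup.one_of_mem (Finset.mem_coe.2 hr), map_one]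
  have hB1 : ∀ r ∈ relsB, πB r = 1 := fun r hr => by
    simp only [πB, MonoidHom.comp_apply]
    rw [PresentedGroup.one_of_mem (Finset.mem_coe.2 hr), map_one]
  have hrel : ∀ r ∈ (↑rels' : Set (FreeGroup (Fin (a + b)))), FreeGroup.lift val r = 1 := by
    intro r hr
    simp only [rels', Finset.coe_union, Finset.coe_image, Set.mem_union, Set.mem_image,
      Finset.mem_coe] at hr
    rcases hr with (⟨r₀, hr₀, rfl⟩ | ⟨r₀, hr₀, rfl⟩) | ⟨r₀, hr₀, rfl⟩
    · rw [← MonoidHom.comp_apply, hinA, MonoidHom.comp_apply, hA1 r₀ hr₀, map_one]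
    · rw [← MonoidHom.comp_apply, hinB, MonoidHom.comp_apply, hB1 r₀ hr₀, map_one]
    · rw [← MonoidHom.comp_apply, hsub]
      exact hE r₀ hr₀
  set G := PresentedGroup (↑rels' : Set (FreeGroup (Fin (a + b))))
  let mk' := PresentedGroup.mk (↑rels' : Set (FreeGroup (Fin (a + b))))
  let φ : G →* Q := PresentedGroup.toGroup hrel
  have hφ : φ.comp mk' = FreeGroup.lift val := FreeGroup.ext_hom _ _ fun i => by
    simp only [MonoidHom.comp_apply, FreeGroup.lift_apply_of]
    exact PresentedGroup.toGroup.of hrel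
  have h0A : ∀ r ∈ (↑relsA : Set (FreeGroup (Fin a))),
      FreeGroup.lift (fun i => mk' (FreeGroup.of (Fin.castAdd b i))) r = 1 := by
    intro r hr
    have e' : FreeGroup.lift (fun i => mk' (FreeGroup.of (Fin.castAdd b i))) = mk'.comp inA :=
      FreeGroup.ext_hom _ _ fun i => by simp [inA]
    rw [e', MonoidHom.comp_apply]
    exact PresentedGroup.one_of_mem (Finset.mem_coe.2 (Finset.mem_union_left _
      (Finset.mem_union_left _ (Finset.mem_image_of_mem _ (Finset.mem_coe.1 hr)))))
  have h0B : ∀ r ∈ (↑relsB : Set (FreeGroup (Fin b))),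
      FreeGroup.lift (fun i => mk' (FreeGroup.of (Fin.natAdd a i))) r = 1 := by
    intro r hr
    have e' : FreeGroup.lift (fun i => mk' (FreeGroup.of (Fin.natAdd a i))) = mk'.comp inB :=
      FreeGroup.ext_hom _ _ fun i => by simp [inB]
    rw [e', MonoidHom.comp_apply]
    exact PresentedGroup.one_of_mem (Finset.mem_coe.2 (Finset.mem_union_left _
      (Finset.mem_union_right _ (Finset.mem_image_of_mem _ (Finset.mem_coe.1 hr)))))
  let ψA : A →* G := (PresentedGroup.toGroup h0A).comp eA.symm.toMonoidHom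
  let ψB : B →* G := (PresentedGroup.toGroup h0B).comp eB.symm.toMonoidHom
  have hψA : ∀ z, ψA (πA z) = mk' (inA z) := by
    intro z
    have h1 : ψA.comp πA = mk'.comp inA := FreeGroup.ext_hom _ _ fun i => by
      simp only [ψA, πA, inA, MonoidHom.comp_apply, MulEquiv.coe_toMonoidHom,
        MulEquiv.symm_apply_apply, FreeGroup.lift_apply_of]
      exact PresentedGroup.toGroup.of h0A
    exact DFunLike.congr_fun h1 z
  have hψB : ∀ z, ψB (πB z) = mk' (inB z) := by
    intro z
    have h1 : ψB.comp πB = mk'.comp inB := FreeGroup.ext_hom _ _ fun i => by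
      simp only [ψB, πB, inB, MonoidHom.comp_apply, MulEquiv.coe_toMonoidHom,
        MulEquiv.symm_apply_apply, FreeGroup.lift_apply_of]
      exact PresentedGroup.toGroup.of h0B
    exact DFunLike.congr_fun h1 z
  have hsub' : FreeGroup.lift (Sum.elim ψA ψB) = mk'.comp sub := FreeGroup.ext_hom _ _ fun x => by
    rcases x with h | h
    · simp only [FreeGroup.lift_apply_of, Sum.elim_inl, MonoidHom.comp_apply, sub]
      rw [← hψA, hwA]
    · simp only [FreeGroup.lift_apply_of, Sum.elim_inr, MonoidHom.comp_apply, sub]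
      rw [← hψB, hwB]
  refine ⟨MulEquiv.ofBijective φ (hbij φ ψA ψB (fun x => ?_) (fun x => ?_) (fun r hr => ?_) ?_)⟩
  · rw [← hwA x, hψA, ← MonoidHom.comp_apply φ, hφ, ← MonoidHom.comp_apply, hinA]
    rfl
  · rw [← hwB x, hψB, ← MonoidHom.comp_apply φ, hφ, ← MonoidHom.comp_apply, hinB]
    rfl
  · rw [hsub']
    exact PresentedGroup.one_of_mem (Finset.mem_coe.2
      (Finset.mem_union_right _ (Finset.mem_image_of_mem _ hr)))
  · rw [eq_top_iff, ← PresentedGroup.closure_range_of (↑rels' : Set (FreeGroup (Fin (a + b)))),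
      Subgroup.closure_le]
    rintro _ ⟨i, rfl⟩
    refine Fin.addCases (fun i => ?_) (fun i => ?_) i
    · exact Subgroup.subset_closure (Or.inl ⟨πA (FreeGroup.of i),
        (hψA _).trans (by simp [inA, mk']; rfl)⟩)
    · exact Subgroup.subset_closure (Or.inr ⟨πB (FreeGroup.of i),
        (hψB _).trans (by simp [inB, mk']; rfl)⟩)

/-- Trivial extra generators. -/
theorem pad {Q : Type u} [Group Q] [Finite Q] {g R : ℕ} (h : HasPresN Q g R) (k : ℕ) :
    HasPresN Q (g + k) (R + k) := by
  classical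
  refine ((h.extend (k := k) (MonoidHom.id Q) (fun _ => 1)
    (Finset.univ.image fun i : Fin k => FreeGroup.of (Sum.inr i)) ?_ ?_ ?_)).mono
    (Nat.add_le_add_left (Finset.card_image_le.trans (by simp)) _)
  · intro r hr
    obtain ⟨i, -, rfl⟩ := Finset.mem_image.1 hr
    simp
  · rw [eq_top_iff]
    exact fun x _ => Subgroup.subset_closure (Or.inl ⟨x, rfl⟩)
  · intro G _ ψ a ha htop
    refine ⟨ψ, ?_⟩
    rw [← MonoidHom.range_eq_top, eq_top_iff, ← htop, Subgroup.closure_le]
    rintro x (hx | ⟨i, rfl⟩)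
    · exact hx
    · have := ha _ (Finset.mem_image_of_mem _ (Finset.mem_univ i))
      simp at this
      rw [this]; exact one_mem _

/-- A presentation of the free group on one generator. -/
theorem hasPresN_int : HasPresN (Multiplicative ℤ) 1 0 := by
  refine ⟨∅, le_rfl, ⟨?_⟩⟩
  refine MonoidHom.toMulEquiv (PresentedGroup.toGroup (f := fun _ => Multiplicative.ofAdd (1 : ℤ))
    (by simp)) (zpowersHom _ (PresentedGroup.of 0)) ?_ ?_
  · refine PresentedGroup.ext fun i => ?_
    rw [Fin.eq_zero i, MonoidHom.comp_apply, PresentedGroup.toGroup.of]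
    simp [zpowersHom_apply]
  · refine MonoidHom.ext_mint ?_
    simp [zpowersHom_apply]

/-- Presentations of alternating groups in the form used here. -/
theorem hasPresN_of_gens {G : Type u} [Group G] {k r : ℕ} {gens : Fin k → G}
    (h : H24.AltPres.HasPres r gens) : HasPresN G k r := by
  obtain ⟨R, hR, e, -⟩ := h.equiv
  exact ⟨R, hR, ⟨e⟩⟩

theorem hasPresN_alt {n : ℕ} (hn : 5 ≤ n) :
    HasPresN (alternatingGroup (Fin n)) 3 7 ∧ (n = 5 → HasPresN (alternatingGroup (Fin n)) 3 6) := by
  refine ⟨?_, ?_⟩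
  · obtain ⟨gens, h⟩ := H24.AltPres.alt_three n hn
    exact hasPresN_of_gens h
  · rintro rfl
    obtain ⟨gens, h⟩ := H24.AltPres.alt_small 5 (by norm_num)
    exact hasPresN_of_gens h.add_third

/-- Few generators for the even permutations fixing the first two points. -/
theorem exists_fix_gens {n : ℕ} (hn : 5 ≤ n) :
    ∃ S : Finset (alternatingGroup (Fin n)), S.card ≤ (if n = 5 then 1 else 2) ∧
      (∀ s ∈ S, ∀ i : Fin n, i.1 < 2 → s.1 i = i) ∧
      ∀ g : alternatingGroup (Fin n), (∀ i : Fin n, i.1 < 2 → g.1 i = i) →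
        g ∈ Subgroup.closure (↑S : Set (alternatingGroup (Fin n))) := by
  classical
  let p : Fin n → Prop := fun i => 2 ≤ i.1
  let e : Fin (n - 2) ≃ Subtype p :=
    { toFun := fun i => ⟨⟨i.1 + 2, by omega⟩, show 2 ≤ i.1 + 2 by omega⟩
      invFun := fun x => ⟨x.1.1 - 2, by have h2 : 2 ≤ x.1.1 := x.2; omega⟩
      left_inv := fun i => Fin.ext (by simp)
      right_inv := fun x => Subtype.ext (Fin.ext (by
        have h2 : 2 ≤ x.1.1 := x.2
        show x.1.1 - 2 + 2 = x.1.1
        omega)) }
  let ρ : alternatingGroup (Fin (n - 2)) →* alternatingGroup (Fin n) :=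
    ((Equiv.Perm.ofSubtype.comp e.permCongrHom.toMonoidHom).comp
      (alternatingGroup (Fin (n - 2))).subtype).codRestrict _ fun x =>
        Equiv.Perm.mem_alternatingGroup.2 (by
          simp [Equiv.Perm.sign_ofSubtype, Equiv.Perm.sign_permCongr,
            Equiv.Perm.mem_alternatingGroup.1 x.2])
  have hρfix : ∀ x (i : Fin n), i.1 < 2 → (ρ x).1 i = i := fun x i hi =>
    Equiv.Perm.ofSubtype_apply_of_not_mem _ (show ¬ 2 ≤ i.1 by omega)
  have hρsurj : ∀ g : alternatingGroup (Fin n), (∀ i : Fin n, i.1 < 2 → g.1 i = i) → ∃ x, ρ x = g := by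
    intro g hg
    have hp : ∀ i, p (g.1 i) ↔ p i := by
      intro i
      refine ⟨fun h => ?_, fun h => ?_⟩ <;> by_contra h'
      · have h2 : i.1 < 2 := Nat.lt_of_not_le h'
        rw [hg i h2] at h
        exact h' h
      · have h2 : (g.1 i).1 < 2 := Nat.lt_of_not_le h'
        have := g.1.injective (hg _ h2)
        rw [this] at h2
        exact absurd h (show ¬ 2 ≤ i.1 by omega)
    have hmov : ∀ i, g.1 i ≠ i → p i := fun i hi => by
      by_contra h'
      exact hi (hg i (Nat.lt_of_not_le h'))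
    refine ⟨⟨e.symm.permCongrHom (g.1.subtypePerm hp), Equiv.Perm.mem_alternatingGroup.2 ?_⟩,
      Subtype.ext ?_⟩
    · simp [Equiv.Perm.sign_permCongr, Equiv.Perm.sign_subtypePerm _ hp hmov,
        Equiv.Perm.mem_alternatingGroup.1 g.2]
    · show Equiv.Perm.ofSubtype (e.permCongrHom (e.symm.permCongrHom (g.1.subtypePerm hp))) = g.1
      rw [show e.permCongrHom (e.symm.permCongrHom (g.1.subtypePerm hp)) = g.1.subtypePerm hp from
        Equiv.ext fun x => by simp, Equiv.Perm.ofSubtype_subtypePerm hp hmov]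
  -- generators of the small alternating group
  obtain ⟨S₀, hS₀, htop⟩ : ∃ S₀ : Finset (alternatingGroup (Fin (n - 2))),
      S₀.card ≤ (if n = 5 then 1 else 2) ∧
      Subgroup.closure (↑S₀ : Set (alternatingGroup (Fin (n - 2)))) = ⊤ := by
    split_ifs with h5
    · subst h5
      let c : alternatingGroup (Fin (5 - 2)) :=
        ⟨finRotate 3, Equiv.Perm.mem_alternatingGroup.2 (by decide)⟩
      have hall : ∀ x : Equiv.Perm (Fin 3), Equiv.Perm.sign x = 1 →
          x = 1 ∨ x = finRotate 3 ∨ x = finRotate 3 * finRotate 3 := by decide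
      refine ⟨{c}, by simp, eq_top_iff.2 fun x _ => ?_⟩
      have hc : c ∈ Subgroup.closure (↑({c} : Finset _) : Set (alternatingGroup (Fin (5 - 2)))) :=
        Subgroup.subset_closure (by simp)
      rcases hall x.1 (Equiv.Perm.mem_alternatingGroup.1 x.2) with h | h | h
      · rw [show x = 1 from Subtype.ext h]; exact one_mem _
      · rw [show x = c from Subtype.ext h]; exact hc
      · rw [show x = c * c from Subtype.ext h]; exact mul_mem hc hc
    · obtain ⟨gens, hs, -⟩ := H24.AltPres.alt_two (n - 2)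
      refine ⟨Finset.univ.image gens, Finset.card_image_le.trans (by simp), ?_⟩
      rw [Finset.coe_image, Finset.coe_univ, Set.image_univ, ← FreeGroup.range_lift_eq_closure,
        MonoidHom.range_eq_top.2 hs]
  refine ⟨S₀.image ρ, Finset.card_image_le.trans hS₀, fun s hs => ?_, fun g hg => ?_⟩
  · obtain ⟨x, -, rfl⟩ := Finset.mem_image.1 hs
    exact hρfix x
  · obtain ⟨x, rfl⟩ := hρsurj g hg
    rw [Finset.coe_image, ← MonoidHom.map_closure, htop]
    exact Subgroup.mem_map_of_mem _ (Subgroup.mem_top x)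

end H69.SUNP

namespace H69.SUW

open Cfsg

universe u

variable {F : Type u} [Field F] [Fintype F] {q n : ℕ}

/-- The window on the first coordinates. -/
theorem map_castLE {k : ℕ} (hk : k ≤ n) :
    Finset.univ.map (Fin.castLEEmb hk) = blk n 0 k := by
  ext i
  simp only [Finset.mem_map, Finset.mem_univ, true_and, mem_blk, Fin.castLEEmb_apply]
  exact ⟨fun ⟨x, hx⟩ => by rw [← hx]; exact ⟨Nat.zero_le _, by simp⟩,
    fun h => ⟨⟨i.1, by omega⟩, Fin.ext rfl⟩⟩

/-- A block window is a smaller unitary group. -/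
theorem nonempty_blkEquiv (hF : Fintype.card F = q ^ 2) {k : ℕ} (hk : k ≤ n) :
    Nonempty (SU k F q ≃* Win F q (blk n 0 k)) := by
  have h := winEquiv hF (Fin.castLEEmb hk)
  rw [map_castLE hk] at h
  exact ⟨h⟩

/-- The pair window is two-generated. -/
theorem pair_two_gen (hF : Fintype.card F = q ^ 2) (hn : 2 ≤ n) :
    ∃ x₁ x₂ : Win F q (blk n 0 2), Subgroup.closure {x₁, x₂} = ⊤ := by
  obtain ⟨p, f, hp, hf, -, hq⟩ := H50.exists_prime_pow hF
  haveI : Fact p.Prime := ⟨hp⟩
  haveI : Fintype (GaloisField p f) := Fintype.ofFinite _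
  have hK : Fintype.card (GaloisField p f) = q := by
    rw [← Nat.card_eq_fintype_card, GaloisField.card p f (by omega), hq]
  obtain ⟨a, b, hab⟩ := H40.SpPres.two_gen_any (F := GaloisField p f)
  obtain ⟨e⟩ := Cfsg.Agent.S0281.result hF hK
  obtain ⟨d⟩ := nonempty_blkEquiv hF hn
  let g := e.symm.trans d
  refine ⟨g a, g b, ?_⟩
  rw [show ({g a, g b} : Set (Win F q (blk n 0 2))) = g.toMonoidHom '' {a, b} by
    simp [Set.image_insert_eq], ← MonoidHom.map_closure, hab,
    Subgroup.map_top_of_surjective _ g.surjective]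

end H69.SUW
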