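import Cfsg.Agent.H69.SUGlue
import Cfsg.Agent.H69.SUPresTools

/-!
A presentation of `SU_n(q)`, `n ≥ 5`, `q ≥ 3`: an alternating group and `SU₃(q)` glued along a pair.
-/

set_option autoImplicit false
set_option linter.unusedSectionVars false
set_option linter.style.haveILetI false

namespace H69.SUW

open Matrix Cfsg H50 H37 H40.PresN

set_option maxHeartbeats 1000000

universe u v

variable {F : Type u} [Field F] [Fintype F] {q n : ℕ} (hF : Fintype.card F = q ^ 2)
include hF

/-- A root element inside a window. -/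
theorem exists_eich_win {U : Finset (Fin n)} {e : Fin n → F} (hee : hermForm n F q e e = 0)
    {i : Fin n} (hei : e i = 0) (he : Supp U e) (hi : i ∈ U) (μ : F) :
    ∃ (h : Win F q U) (γ : F), IsEich e (μ • (δ i : Fin n → F)) γ h.1 ∧
      γ + γ ^ q + μ ^ (q + 1) = 0 := by
  obtain ⟨γ, hγ⟩ := exists_trace_eq hF (c := -(μ ^ (q + 1)))
    (by rw [neg_pow_q hF, norm_fixed hF])
  have hwe : hermForm n F q (μ • (δ i : Fin n → F)) e = 0 :=
    h_disjoint hF ((supp_single (Finset.mem_singleton_self i)).smul μ)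
      (S := {i}) (T := Finset.univ.erase i)
      (fun j hj => by
        simp only [Finset.mem_erase, Finset.mem_univ, and_true, not_not] at hj
        rw [hj, hei]) (by simp)
  obtain ⟨h, hh⟩ := exists_isEich hF hee hwe (γ := γ) (by rw [h_smul_single hF, hγ]; ring)
  exact ⟨⟨h, eich_mem_win hF hh he ((supp_single hi).smul μ)⟩, γ, hh, by rw [hγ]; ring⟩

/-- Eichler elements at one point with orthogonal vectors commute. -/
theorem eich_commute {e w w' : Fin n → F} (hee : hermForm n F q e e = 0)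
    (hwe : hermForm n F q w e = 0) (hwe' : hermForm n F q w' e = 0)
    (hww : hermForm n F q w w' = 0) {γ γ' : F} {g g' : SU n F q} (hg : IsEich e w γ g)
    (hg' : IsEich e w' γ' g') : Commute g g' := by
  have h1 := hg.mul hF hg' hee hwe hwe'
  have h2 := hg'.mul hF hg hee hwe' hwe
  rw [hww, sub_zero] at h2
  rw [(h_eq_zero_comm hF).1 hww, sub_zero] at h1
  rw [add_comm w' w, add_comm γ' γ] at h2
  exact h1.unique h2

omit hF in
/-- A commutation relator. -/
theorem lift_comm {X : Type*} {G : Type*} [Group G] (f : X → G) (x y : FreeGroup X) :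
    FreeGroup.lift f (x * y * x⁻¹ * y⁻¹) = 1 ↔ Commute (FreeGroup.lift f x) (FreeGroup.lift f y) := by
  simp only [map_mul, map_inv]
  rw [mul_inv_eq_one, mul_inv_eq_iff_eq_mul]
  rfl

omit [Fintype F] hF in
theorem disjoint_win_commute (hF' : ∀ (g : SU n F q) (S : Finset (Fin n)), g ∈ Win F q S →
    ∀ v : Fin n → F, Supp (Finset.univ \ S) v → suMat g *ᵥ v = v)
    {S T : Finset (Fin n)} (hST : Disjoint S T)
    (hsupp : ∀ (g : SU n F q) (S : Finset (Fin n)), g ∈ Win F q S →
      ∀ v : Fin n → F, Supp S v → Supp S (suMat g *ᵥ v))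
    {g h : SU n F q} (hg : g ∈ Win F q S) (hh : h ∈ Win F q T) : Commute g h := by
  classical
  refine suMat_ext fun v => ?_
  rw [suMat_mulVec_mul, suMat_mulVec_mul]
  have hv : v = proj S v + (v - proj S v) := by abel
  have h1 : Supp (Finset.univ \ S) (v - proj S v) := fun i hi => by
    simp only [Finset.mem_sdiff, Finset.mem_univ, true_and, not_not] at hi
    simp [proj_apply hi]
  set a := proj S v
  set b := v - proj S v with hb
  set b₁ := proj T b
  set b₂ := b - proj T b
  have hb₁ : Supp T b₁ := supp_proj b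
  have hb₂ : Supp (Finset.univ \ T) b₂ := fun i hi => by
    simp only [Finset.mem_sdiff, Finset.mem_univ, true_and, not_not] at hi
    simp [b₂, proj_apply hi]
  have hb₂S : Supp (Finset.univ \ S) b₂ := fun i hi => by
    have e1 := h1 i hi
    simp only [Finset.mem_sdiff, Finset.mem_univ, true_and, not_not] at hi
    have : i ∉ T := fun e => Finset.disjoint_left.1 hST hi e
    simp only [b₂, Pi.sub_apply, proj, if_neg this, sub_zero]
    exact e1
  have sS : ∀ w : Fin n → F, Supp S w → Supp (Finset.univ \ T) w := fun w hw =>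
    hw.mono fun i hi => by simp [Finset.disjoint_left.1 hST hi]
  have sT : ∀ w : Fin n → F, Supp T w → Supp (Finset.univ \ S) w := fun w hw =>
    hw.mono fun i hi => by simp [Finset.disjoint_right.1 hST hi]
  have ev : v = a + (b₁ + b₂) := by rw [hv]; simp [b₁, b₂]
  rw [ev]
  simp only [mulVec_add]
  rw [hF' h T hh a (sS a (supp_proj v)), hF' h T hh b₂ hb₂,
    hF' g S hg b₁ (sT b₁ hb₁), hF' g S hg b₂ hb₂S,
    hF' h T hh (suMat g *ᵥ a) (sS _ (hsupp g S hg a (supp_proj v))),
    hF' g S hg (suMat h *ᵥ b₁) (sT _ (hsupp h T hh b₁ hb₁)), hF' h T hh b₂ hb₂]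

/-- Windows on disjoint sets commute. -/
theorem win_commute {S T : Finset (Fin n)} (hST : Disjoint S T) {g h : SU n F q}
    (hg : g ∈ Win F q S) (hh : h ∈ Win F q T) : Commute g h := by
  refine disjoint_win_commute (fun g S hg v hv => ?_) hST
    (fun g S hg v hv => supp_image hF hg hv) hg hh
  rw [show v = ∑ i, v i • (δ i : Fin n → F) by funext j; simp [Pi.single_apply]]
  simp only [mulVec_sum, mulVec_smul]
  refine Finset.sum_congr rfl fun i _ => ?_
  by_cases hi : i ∈ S
  · rw [hv i (by simp [hi]), zero_smul, zero_smul]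
  · rw [hg i hi]

omit [Fintype F] hF in
theorem trans_choose {G : Type v} [Group G] (α : alternatingGroup (Fin n) →* G) {m : ℕ}
    (ψ : Win F q (blk n 0 m) →* G) {a : ℕ}
    (h : a + m ≤ n ∧ ∃ g : alternatingGroup (Fin n), IsShift g m 0 a) (x : Win F q (blk n 0 m)) :
    trans α ψ a (shiftHom h.2.choose_spec x) = α h.2.choose * ψ x * (α h.2.choose)⁻¹ := by
  rw [trans, dif_pos h]
  simp only [MonoidHom.comp_apply, MulEquiv.coe_toMonoidHom, MulAut.conj_apply]
  congr 3
  exact Subtype.ext (by simp [map_inv, mul_assoc])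

/-- `SU_n(q)` from presentations of `A_n` and `SU₃(q)`. -/
theorem hasPresN_glue (hq : 3 ≤ q) (hn : 5 ≤ n) {gA RA gB RB : ℕ}
    (hA : HasPresN (alternatingGroup (Fin n)) gA RA) (hB : HasPresN (SU 3 F q) gB RB) :
    HasPresN (SU n F q) (gA + gB) (RA + RB + if n = 5 then 8 else 10) := by
  classical
  obtain ⟨d3⟩ := nonempty_blkEquiv (n := n) hF (k := 3) (by omega)
  have hBw := hB.of_equiv d3
  obtain ⟨S, hScard, hSfix, hSgen⟩ := H69.SUNP.exists_fix_gens hn
  obtain ⟨x₁, x₂, hx⟩ := pair_two_gen (n := n) hF (by omega)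
  -- the three-cycle
  obtain ⟨c, hcfix, hcmove⟩ : ∃ c : alternatingGroup (Fin n), (∀ i : Fin n, 3 ≤ i.1 → c.1 i = i) ∧
      ∀ i : Fin n, i.1 < 2 → (c.1 i).1 = i.1 + 1 := by
    let p0 : Fin n := ⟨0, by omega⟩
    let p1 : Fin n := ⟨1, by omega⟩
    let p2 : Fin n := ⟨2, by omega⟩
    have h01 : p0 ≠ p1 := by simp [p0, p1, Fin.ext_iff]
    have h12 : p1 ≠ p2 := by simp [p1, p2, Fin.ext_iff]
    refine ⟨⟨Equiv.swap p0 p1 * Equiv.swap p1 p2, Equiv.Perm.mem_alternatingGroup.2 ?_⟩,
      fun i hi => ?_, fun i hi => ?_⟩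
    · rw [map_mul, Equiv.Perm.sign_swap h01, Equiv.Perm.sign_swap h12]; rfl
    · show Equiv.swap p0 p1 (Equiv.swap p1 p2 i) = i
      have hne : ∀ a : Fin n, a.1 < 3 → i ≠ a := fun a ha e => by rw [← e] at ha; omega
      rw [show Equiv.swap p1 p2 i = i from Equiv.swap_apply_of_ne_of_ne (hne p1 (by norm_num [p1]))
        (hne p2 (by norm_num [p2]))]
      exact Equiv.swap_apply_of_ne_of_ne (hne p0 (by norm_num [p0])) (hne p1 (by norm_num [p1]))
    · show (Equiv.swap p0 p1 (Equiv.swap p1 p2 i)).1 = i.1 + 1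
      rcases (show i.1 = 0 ∨ i.1 = 1 by omega) with h | h
      · rw [show i = p0 from Fin.ext h, Equiv.swap_apply_of_ne_of_ne h01
          (by simp [p0, p2, Fin.ext_iff]), Equiv.swap_apply_left]
      · rw [show i = p1 from Fin.ext h, Equiv.swap_apply_left, Equiv.swap_apply_of_ne_of_ne
          (by simp [p0, p2, Fin.ext_iff]) h12.symm]
  let cW : Win F q (blk n 0 3) :=
    ⟨permSU c, permSU_mem_win c fun i hi => hcfix i (by simp [mem_blk] at hi; omega)⟩
  -- the involution exchanging two pairs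
  obtain ⟨d, hd02, hd20⟩ : ∃ d : alternatingGroup (Fin n), IsShift d 2 0 2 ∧ d * d = 1 := by
    let p : ∀ k, k < 4 → Fin n := fun k hk => ⟨k, by omega⟩
    let s : Equiv.Perm (Fin n) := Equiv.swap (p 0 (by norm_num)) (p 2 (by norm_num))
    let t : Equiv.Perm (Fin n) := Equiv.swap (p 1 (by norm_num)) (p 3 (by norm_num))
    refine ⟨⟨s * t, Equiv.Perm.mem_alternatingGroup.2 ?_⟩, fun i _ hi => ?_, Subtype.ext ?_⟩
    · rw [map_mul, Equiv.Perm.sign_swap (by simp [p, Fin.ext_iff]),
        Equiv.Perm.sign_swap (by simp [p, Fin.ext_iff])]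
      rfl
    · show (s (t i)).1 + 0 = 2 + i.1
      rcases (show i.1 = 0 ∨ i.1 = 1 by omega) with h | h
      · rw [show i = p 0 (by norm_num) from Fin.ext h,
          show t (p 0 (by norm_num)) = p 0 (by norm_num) from Equiv.swap_apply_of_ne_of_ne
            (by simp [p, Fin.ext_iff]) (by simp [p, Fin.ext_iff]),
          show s (p 0 (by norm_num)) = p 2 (by norm_num) from Equiv.swap_apply_left _ _]
      · rw [show i = p 1 (by norm_num) from Fin.ext h,
          show t (p 1 (by norm_num)) = p 3 (by norm_num) from Equiv.swap_apply_left _ _,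
          show s (p 3 (by norm_num)) = p 3 (by norm_num) from Equiv.swap_apply_of_ne_of_ne
            (by simp [p, Fin.ext_iff]) (by simp [p, Fin.ext_iff])]
        rfl
    · refine Equiv.ext fun i => ?_
      show s (t (s (t i))) = i
      have hst : s * t = t * s := (Equiv.Perm.Disjoint.commute fun x => by
        by_cases hx : x = p 0 (by norm_num) ∨ x = p 2 (by norm_num)
        · exact Or.inr (Equiv.swap_apply_of_ne_of_ne
            (by rcases hx with rfl | rfl <;> simp [p, Fin.ext_iff])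
            (by rcases hx with rfl | rfl <;> simp [p, Fin.ext_iff]))
        · simp only [not_or] at hx
          exact Or.inl (Equiv.swap_apply_of_ne_of_ne hx.1 hx.2)).eq
      rw [← Equiv.Perm.mul_apply s t (s (t i)), hst, Equiv.Perm.mul_apply]
      simp only [s, t, Equiv.swap_apply_self]
  -- root elements
  have hblk12 : blk n 1 2 = ({⟨1, by omega⟩, ⟨2, by omega⟩} : Finset (Fin n)) := blk_two (by omega)
  obtain ⟨e, hes, hee, he1, he2⟩ := exists_iso_pair (q := q) (n := n) hF
    (i := (⟨1, by omega⟩ : Fin n)) (j := ⟨2, by omega⟩) (by simp [Fin.ext_iff])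
  rw [← hblk12] at hes
  obtain ⟨θ, hθ⟩ := IsCyclic.exists_generator (α := Fˣ)
  let i₁ : Fin n := ⟨0, by omega⟩
  let j₃ : Fin n := ⟨3, by omega⟩
  have root : ∀ μ : F, ∃ (h : Win F q (blk n 0 3)) (γ : F),
      IsEich e (μ • (δ i₁ : Fin n → F)) γ h.1 ∧ γ + γ ^ q + μ ^ (q + 1) = 0 := fun μ =>
    exists_eich_win hF hee (hes i₁ (by simp [i₁, mem_blk]))
      (hes.mono (blk_mono (by norm_num) (by norm_num))) (by simp [i₁, mem_blk]) μ
  obtain ⟨hA1, γA1, hA1e, hA1γ⟩ := root 1
  obtain ⟨hAθ, γAθ, hAθe, hAθγ⟩ := root θ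
  obtain ⟨kT, γT, hkTe, hkTγ⟩ := exists_eich_win hF (U := blk n 1 3) hee
    (hes j₃ (by simp [j₃, mem_blk])) (hes.mono (blk_mono le_rfl (by norm_num)))
    (show j₃ ∈ blk n 1 3 by simp [j₃, mem_blk]) 1
  have hsh : 1 + 3 ≤ n ∧ ∃ g : alternatingGroup (Fin n), IsShift g 3 0 1 :=
    ⟨by omega, exists_shift 0 1 (by omega) (by omega) (by omega)⟩
  obtain ⟨k', hk'⟩ := shiftHom_surj hsh.2.choose_spec (by omega) kT
  set g₁ := hsh.2.choose with hg₁
  -- the relators
  let L : alternatingGroup (Fin n) → FreeGroup (alternatingGroup (Fin n) ⊕ Win F q (blk n 0 3)) :=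
    fun g => FreeGroup.of (Sum.inl g)
  let R : Win F q (blk n 0 3) → FreeGroup (alternatingGroup (Fin n) ⊕ Win F q (blk n 0 3)) :=
    fun x => FreeGroup.of (Sum.inr x)
  let cm : FreeGroup (alternatingGroup (Fin n) ⊕ Win F q (blk n 0 3)) →
      FreeGroup (alternatingGroup (Fin n) ⊕ Win F q (blk n 0 3)) →
      FreeGroup (alternatingGroup (Fin n) ⊕ Win F q (blk n 0 3)) := fun x y => x * y * x⁻¹ * y⁻¹
  let Efix := (S ×ˢ ({x₁, x₂} : Finset (Win F q (blk n 0 2)))).image
    fun p => cm (L p.1) (R (inc2 p.2))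
  let Ecyc : Finset (FreeGroup (alternatingGroup (Fin n) ⊕ Win F q (blk n 0 3))) :=
    {(L c)⁻¹ * R cW}
  let Epairs := ({(x₁, x₁), (x₁, x₂), (x₂, x₂)} : Finset (Win F q (blk n 0 2) × Win F q (blk n 0 2))).image
    fun p => cm (R (inc2 p.1)) (L d * R (inc2 p.2) * (L d)⁻¹)
  let Eec := ({hA1, hAθ} : Finset (Win F q (blk n 0 3))).image
    fun h => cm (R h) (L g₁ * R k' * (L g₁)⁻¹)
  refine (H69.SUNP.glue hA hBw permSU (Win F q (blk n 0 3)).subtype
    (Efix ∪ Ecyc ∪ Epairs ∪ Eec) ?_ ?_).mono ?_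
  · intro r hr
    simp only [Efix, Ecyc, Epairs, Eec, Finset.mem_union, Finset.mem_image, Finset.mem_product,
      Finset.mem_singleton] at hr
    rcases hr with ((⟨p, ⟨hp, -⟩, rfl⟩ | rfl) | ⟨p, -, rfl⟩) | ⟨h, hh, rfl⟩
    · rw [lift_comm]
      simp only [L, R, FreeGroup.lift_apply_of, Sum.elim_inl, Sum.elim_inr, Subgroup.coe_subtype]
      exact win_commute hF (S := Finset.univ \ blk n 0 2) Finset.sdiff_disjoint
        (permSU_mem_win _ fun i hi => hSfix _ hp i (by simp [mem_blk] at hi; omega)) p.2.2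
    · simp [L, R, cW]
    · rw [lift_comm]
      simp only [L, R, map_mul, map_inv, FreeGroup.lift_apply_of, Sum.elim_inl, Sum.elim_inr,
        Subgroup.coe_subtype]
      refine win_commute hF (S := blk n 0 2) (T := blk n 2 2) ?_ p.1.2 ?_
      · rw [Finset.disjoint_left]
        intro i hi hi'
        simp [mem_blk] at hi hi'
        omega
      · exact perm_conj_win d p.2.2 fun i hi => shift_mem hd02 hi
    · rw [lift_comm]
      simp only [L, R, map_mul, map_inv, FreeGroup.lift_apply_of, Sum.elim_inl, Sum.elim_inr,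
        Subgroup.coe_subtype]
      have hk : permSU g₁ * k'.1 * (permSU g₁)⁻¹ = kT.1 := congrArg Subtype.val hk'
      rw [hk]
      have he' : ∀ (i : Fin n) (μ : F), i.1 = 0 ∨ i.1 = 3 →
          hermForm n F q (μ • (δ i : Fin n → F)) e = 0 := fun i μ hi =>
        h_disjoint hF ((supp_single (Finset.mem_singleton_self i)).smul μ) hes
          (by simp [mem_blk]; omega)
      have hperp : ∀ μ : F,
          hermForm n F q (μ • (δ i₁ : Fin n → F)) ((1 : F) • (δ j₃ : Fin n → F)) = 0 := fun μ =>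
        h_disjoint hF ((supp_single (Finset.mem_singleton_self i₁)).smul μ)
          ((supp_single (Finset.mem_singleton_self j₃)).smul (1 : F)) (by simp [i₁, j₃, Fin.ext_iff])
      rcases Finset.mem_insert.1 hh with rfl | hh
      · exact eich_commute hF hee (he' _ _ (Or.inl rfl)) (he' _ _ (Or.inr rfl)) (hperp _) hA1e hkTe
      · rw [Finset.mem_singleton.1 hh]
        exact eich_commute hF hee (he' _ _ (Or.inl rfl)) (he' _ _ (Or.inr rfl)) (hperp _) hAθe hkTe
  · intro G _ π α ψ hπα hπψ hrel htop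
    have rfix : ∀ p ∈ S ×ˢ ({x₁, x₂} : Finset (Win F q (blk n 0 2))),
        Commute (α p.1) (ψ (inc2 p.2)) := fun p hp => by
      have := hrel _ (by
        simp only [Finset.mem_union]
        exact Or.inl (Or.inl (Or.inl (Finset.mem_image_of_mem _ hp))))
      rw [lift_comm] at this
      simpa [L, R] using this
    have hfix2 : Fixes α (ψ.comp inc2) := by
      intro g hg x
      have h1 : ∀ s ∈ S, ∀ y, Commute (α s) ((ψ.comp inc2) y) := fun s hs y => by
        refine H40.SpPres.commute_closure (ψ.comp inc2) (α s) {x₁, x₂} hx (fun y hy => ?_) y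
        refine rfix (s, y) (Finset.mem_product.2 ⟨hs, ?_⟩)
        rcases hy with rfl | rfl <;> simp
      have hle : Subgroup.closure (↑S : Set (alternatingGroup (Fin n))) ≤
          (Subgroup.centralizer {(ψ.comp inc2) x}).comap α := (Subgroup.closure_le _).2 fun s hs =>
        Subgroup.mem_centralizer_singleton_iff.2 (h1 s hs x).eq
      exact (Subgroup.mem_centralizer_singleton_iff.1 (hle (hSgen g hg)) :)
    have hcyc : α c = ψ cW := by
      have := hrel _ (by simp only [Finset.mem_union]; exact Or.inl (Or.inl (Or.inr (Finset.mem_singleton_self _))))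
      simpa [L, R, inv_mul_eq_one] using this
    have rp : ∀ x y, (x, y) ∈ ({(x₁, x₁), (x₁, x₂), (x₂, x₂)} :
          Finset (Win F q (blk n 0 2) × Win F q (blk n 0 2))) →
        Commute (ψ (inc2 x)) (α d * ψ (inc2 y) * (α d)⁻¹) := fun x y hp => by
      have := hrel _ (by
        simp only [Finset.mem_union]
        exact Or.inl (Or.inr (Finset.mem_image_of_mem _ hp)))
      rw [lift_comm] at this
      simpa [L, R] using this
    have hdd : α d * α d = 1 := by rw [← map_mul, hd20, map_one]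
    have rp' : ∀ x ∈ ({x₁, x₂} : Set (Win F q (blk n 0 2))), ∀ y ∈ ({x₁, x₂} : Set (Win F q (blk n 0 2))),
        Commute (ψ (inc2 x)) (α d * ψ (inc2 y) * (α d)⁻¹) := by
      intro x hx y hy
      have flip : ∀ x y, Commute (ψ (inc2 x)) (α d * ψ (inc2 y) * (α d)⁻¹) →
          Commute (ψ (inc2 y)) (α d * ψ (inc2 x) * (α d)⁻¹) := fun x y h => by
        have := (h.map (MulAut.conj (α d)).toMonoidHom).symm
        simp only [MulEquiv.coe_toMonoidHom, MulAut.conj_apply] at this
        rwa [show α d * (α d * ψ (inc2 y) * (α d)⁻¹) * (α d)⁻¹ =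
          (α d * α d) * ψ (inc2 y) * (α d * α d)⁻¹ by group, hdd, one_mul, inv_one, mul_one] at this
      rcases hx with rfl | rfl <;> rcases hy with rfl | rfl
      · exact rp _ _ (by simp)
      · exact rp _ _ (by simp)
      · exact flip _ _ (rp _ _ (by simp))
      · exact rp _ _ (by simp)
    have hpairs : ∀ x y, Commute (ψ (inc2 x)) (pfam α ψ 2 y) := by
      intro x y
      obtain ⟨y₀, rfl⟩ := shiftHom_surj hd02 (by omega) y
      rw [pfam, trans_eq α hF hfix2 (by omega) (by omega) hd02]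
      have h2 : ∀ y ∈ ({x₁, x₂} : Set (Win F q (blk n 0 2))), ∀ x,
          Commute (α d * ψ (inc2 y) * (α d)⁻¹) ((ψ.comp inc2) x) := fun y hy x =>
        H40.SpPres.commute_closure (ψ.comp inc2) _ {x₁, x₂} hx (fun x hx => (rp' x hx y hy).symm) x
      exact (H40.SpPres.commute_closure ((MulAut.conj (α d)).toMonoidHom.comp (ψ.comp inc2))
        (ψ (inc2 x)) {x₁, x₂} hx (fun y hy => (h2 y hy x).symm) y₀ :)
    have rec' : ∀ h ∈ ({hA1, hAθ} : Finset (Win F q (blk n 0 3))),
        Commute (ψ h) (trans α ψ 1 kT) := fun h hh => by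
      have := hrel _ (by simp only [Finset.mem_union]; exact Or.inr (Finset.mem_image_of_mem _ hh))
      rw [lift_comm] at this
      rw [← hk', trans_choose α ψ hsh]
      simpa [L, R] using this
    refine Glue3.bijective (α := α) (ψ := ψ) (c := c) (θ := (θ : F)) (e := e) hF ?_ hq hn rfl hθ
    refine ⟨hπα, hπψ, hcfix, hcmove, hfix2, hcyc, hpairs, hes, hee,
      fun i hi => by rw [show i = ⟨1, by omega⟩ from Fin.ext hi]; exact he1,
      fun i hi => by rw [show i = ⟨2, by omega⟩ from Fin.ext hi]; exact he2,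
      fun a b ha hb => ?_, htop⟩
    obtain rfl : a = i₁ := Fin.ext ha
    obtain rfl : b = j₃ := Fin.ext hb
    exact ⟨⟨hA1, kT, γA1, γT, hA1e, hA1γ, hkTe, hkTγ, rec' _ (by simp)⟩,
      ⟨hAθ, kT, γAθ, γT, hAθe, hAθγ, hkTe, hkTγ, rec' _ (by simp)⟩⟩
  · have h3 : ({(x₁, x₁), (x₁, x₂), (x₂, x₂)} :
        Finset (Win F q (blk n 0 2) × Win F q (blk n 0 2))).card ≤ 3 := Finset.card_le_three
    have h2 : ({x₁, x₂} : Finset (Win F q (blk n 0 2))).card ≤ 2 := Finset.card_le_two
    have h2' : ({hA1, hAθ} : Finset (Win F q (blk n 0 3))).card ≤ 2 := Finset.card_le_two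
    have e1 : Efix.card ≤ S.card * 2 := Finset.card_image_le.trans (by
      rw [Finset.card_product]; exact Nat.mul_le_mul_left _ h2)
    have e2 : Ecyc.card = 1 := Finset.card_singleton _
    have e3 : Epairs.card ≤ 3 := Finset.card_image_le.trans h3
    have e4 : Eec.card ≤ 2 := Finset.card_image_le.trans h2'
    have u1 := Finset.card_union_le (Efix ∪ Ecyc ∪ Epairs) Eec
    have u2 := Finset.card_union_le (Efix ∪ Ecyc) Epairs
    have u3 := Finset.card_union_le Efix Ecyc
    split_ifs at hScard ⊢ <;> omega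

end H69.SUW
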