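import Cfsg.Agent.H50.SUMultiplier
import Cfsg.Agent.H40.PresN

/-!
Passing from `SU_n` to `PSU_n` costs one relation.
-/

set_option autoImplicit false

namespace H69.SUQ

open Cfsg H50 H40.PresN

variable {F : Type*} [Field F] [Fintype F] {q : ℕ}

theorem hasPresN_PSU (hF : Fintype.card F = q ^ 2) {n g R : ℕ} (hn : 2 ≤ n)
    (h : HasPresN (SU n F q) g R) : HasPresN (Cfsg.PSU n F q) g (R + 1) := by
  haveI := H50.SUMult.isCyclic_center hF (n := n) hn
  obtain ⟨z, hz⟩ := IsCyclic.exists_generator (α := Subgroup.center (SU n F q))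
  haveI : Finite (SU n F q) := Finite.of_injective _ Subtype.val_injective
  have hnc : Subgroup.center (SU n F q) = Subgroup.normalClosure {z.1} := by
    refine le_antisymm (fun x hx => ?_) ?_
    · obtain ⟨k, hk⟩ := hz ⟨x, hx⟩
      have hk' : z.1 ^ k = x := by simpa using congrArg Subtype.val hk
      rw [← hk']
      exact Subgroup.zpow_mem _ (Subgroup.subset_normalClosure (Set.mem_singleton z.1)) k
    · exact Subgroup.normalClosure_le_normal (Set.singleton_subset_iff.2 z.2)
  exact HasPresN.quotient_one h (Subgroup.center (SU n F q)) z.1 hnc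

end H69.SUQ
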