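import Cfsg.Agent.H69.SUFourPres
import Cfsg.Agent.H69.SU3Pres
import Cfsg.Agent.H69.SUQuot

/-!
Six generator presentations of `SU_n(q)` for `q ≥ 3`.
-/

set_option autoImplicit false
set_option linter.unusedSectionVars false

namespace H69.SUW

open Cfsg H40.PresN

universe u

variable {F : Type u} [Field F] [Fintype F] {q n : ℕ}

theorem hasPresN_SU_big (hF : Fintype.card F = q ^ 2) (hq : 3 ≤ q) (hn : 4 ≤ n) :
    HasPresN (SU n F q) 6 39 ∧ (n ≤ 5 → HasPresN (SU n F q) 6 35) := by
  have hB := (H69.SU3.hasPresN_SU3 hF hq).1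
  rcases (show n = 4 ∨ n = 5 ∨ 6 ≤ n by omega) with rfl | rfl | h6
  · haveI : Finite (SU 4 F q) := Finite.of_injective _ Subtype.val_injective
    have h := (H69.SUNP.pad (hasPresN_four hF hq hB) 2)
    exact ⟨h.mono (by norm_num), fun _ => h.mono (by norm_num)⟩
  · have h := hasPresN_glue hF hq le_rfl ((H69.SUNP.hasPresN_alt (n := 5) le_rfl).2 rfl) hB
    exact ⟨h.mono (by norm_num), fun _ => h.mono (by norm_num)⟩
  · have h := hasPresN_glue hF hq (by omega) ((H69.SUNP.hasPresN_alt (n := n) (by omega)).1) hB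
    rw [if_neg (by omega)] at h
    exact ⟨h.mono (by norm_num), fun h5 => absurd h5 (by omega)⟩

end H69.SUW
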