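import Cfsg.Agent.H69.SUPresBig
import Cfsg.Agent.H45.SUTwoGen.Main

/-!
Presentations of `SU_n(q)` and `PSU_n(q)` from the case `q = 2`.
-/

set_option autoImplicit false
set_option linter.unusedSectionVars false

namespace H69.SUW

open Cfsg H40.PresN

universe u

variable {F : Type u} [Field F] [Fintype F] {q n : ℕ}

/-- What the field with four elements has to supply. -/
def TwoCase (F : Type u) [Field F] [Fintype F] (q n : ℕ) : Prop :=
  q = 2 → 4 ≤ n → HasPresN (SU n F 2) 6 39 ∧ (n ≤ 5 → HasPresN (SU n F 2) 6 35)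

theorem hasPresN_six (hF : Fintype.card F = q ^ 2) (h2 : TwoCase F q n) (hn : 4 ≤ n) :
    HasPresN (SU n F q) 6 39 ∧ (n ≤ 5 → HasPresN (SU n F q) 6 35) := by
  rcases (show q = 2 ∨ 3 ≤ q by have := H50.two_le hF; omega) with rfl | hq
  · exact h2 rfl hn
  · exact hasPresN_SU_big hF hq hn

theorem psu_two_gen_pres (hF : Fintype.card F = q ^ 2) (h2 : TwoCase F q n) (hn : 3 ≤ n)
    (h32 : ¬ (n = 3 ∧ q = 2)) :
    ∃ rels : Finset (FreeGroup (Fin 2)), rels.card ≤ 80 ∧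
      Nonempty (PresentedGroup (↑rels : Set (FreeGroup (Fin 2))) ≃* Cfsg.PSU n F q) := by
  obtain ⟨a, b, hab⟩ := H45.SUTwo.psu_two_generated hF hn (fun e e' => h32 ⟨e, e'⟩)
  have h : ∃ g R, R ≤ 78 ∧ HasPresN (Cfsg.PSU n F q) g R := by
    rcases (show n = 3 ∨ 4 ≤ n by omega) with rfl | h4
    · have hq : 3 ≤ q := by
        have := H50.two_le hF
        have : q ≠ 2 := fun e => h32 ⟨rfl, e⟩
        omega
      exact ⟨3, 21 + 1, by norm_num,
        H69.SUQ.hasPresN_PSU hF (by norm_num) (H69.SU3.hasPresN_SU3 hF hq).1⟩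
    · exact ⟨6, 39 + 1, by norm_num, H69.SUQ.hasPresN_PSU hF (by omega) (hasPresN_six hF h2 h4).1⟩
  obtain ⟨g, R, hR, hp⟩ := h
  obtain ⟨rels, hc, he⟩ := (hp.hasPres).two_gen a b hab
  exact ⟨rels, by omega, he⟩

theorem six_all (hF : Fintype.card F = q ^ 2) (h2 : ∀ m, TwoCase F q m) (hn : 4 ≤ n) :
    HasPresN (SU n F q) 6 39 ∧ HasPresN (Cfsg.PSU n F q) 6 40 ∧
    HasPresN (SU 4 F q) 6 35 ∧ HasPresN (SU 5 F q) 6 35 ∧ HasPresN (Cfsg.PSU 4 F q) 6 36 := by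
  have h4 := (hasPresN_six hF (h2 4) le_rfl).2 (by norm_num)
  exact ⟨(hasPresN_six hF (h2 n) hn).1,
    H69.SUQ.hasPresN_PSU hF (by omega) (hasPresN_six hF (h2 n) hn).1, h4,
    (hasPresN_six hF (h2 5) (by norm_num)).2 le_rfl, H69.SUQ.hasPresN_PSU hF (by norm_num) h4⟩

end H69.SUW
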