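import Cfsg.Agent.H69.SUPerm
import Cfsg.Agent.H69.SUChain

/-!
Transporting homomorphisms on windows along even permutations.
-/

set_option autoImplicit false
set_option linter.unusedSectionVars false

namespace H69.SUW

open Matrix Cfsg H50

universe u v

variable {F : Type u} [Field F] {q n : ℕ}

/-- The permutation sends the block at `a` to the block at `b` in order. -/
def IsShift (g : alternatingGroup (Fin n)) (m a b : ℕ) : Prop :=
  ∀ i : Fin n, a ≤ i.1 → i.1 < a + m → (g.1 i).1 + a = b + i.1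

theorem IsShift.mono {g : alternatingGroup (Fin n)} {m a b m' a' : ℕ} (h : IsShift g m a b)
    (h1 : a ≤ a') (h2 : a' + m' ≤ a + m) {b' : ℕ} (hb : b' + a = b + a') : IsShift g m' a' b' :=
  fun i h3 h4 => by have := h i (by omega) (by omega); omega

theorem IsShift.mul {g h : alternatingGroup (Fin n)} {m a b c : ℕ} (hg : IsShift g m b c)
    (hh : IsShift h m a b) : IsShift (g * h) m a c := fun i h1 h2 => by
  have e1 := hh i h1 h2
  have e2 := hg (h.1 i) (by omega) (by omega)
  show (g.1 (h.1 i)).1 + a = c + i.1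
  omega

theorem isShift_one (m a : ℕ) : IsShift (1 : alternatingGroup (Fin n)) m a a :=
  fun i _ _ => by simp; omega

theorem IsShift.inv {g : alternatingGroup (Fin n)} {m a b : ℕ} (h : IsShift g m a b) (ha : a + m ≤ n) :
    IsShift g⁻¹ m b a := fun i h1 h2 => by
  have e := h ⟨a + (i.1 - b), by omega⟩ (Nat.le_add_right _ _)
    (show a + (i.1 - b) < a + m by omega)
  have e' : g.1 ⟨a + (i.1 - b), by omega⟩ = i := Fin.ext (by
    have e3 : (g.1 ⟨a + (i.1 - b), by omega⟩).1 + a = b + (a + (i.1 - b)) := e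
    omega)
  show ((g.1)⁻¹ i).1 + b = a + i.1
  rw [Equiv.Perm.inv_def, (g.1.symm_apply_eq).2 e'.symm]
  show a + (i.1 - b) + b = a + i.1
  omega

/-- Even permutations with prescribed values, given two spare coordinates. -/
theorem exists_even_extend {k : ℕ} (v w : Fin k → Fin n) (hv : Function.Injective v)
    (hw : Function.Injective w) (hk : k + 2 ≤ n) :
    ∃ g : alternatingGroup (Fin n), ∀ i, g.1 (v i) = w i := by
  classical
  obtain ⟨σ, hσ⟩ := Equiv.Perm.exists_extending_pair v w hv hw
  have hc : 2 ≤ ((Finset.univ.image v)ᶜ).card := by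
    rw [Finset.card_compl, Finset.card_image_of_injective _ hv, Finset.card_univ, Fintype.card_fin,
      Fintype.card_fin]
    omega
  obtain ⟨x, hx, y, hy, hxy⟩ := Finset.one_lt_card.1 hc
  simp only [Finset.mem_compl, Finset.mem_image, Finset.mem_univ, true_and, not_exists] at hx hy
  rcases Int.units_eq_one_or (Equiv.Perm.sign σ) with h | h
  · exact ⟨⟨σ, Equiv.Perm.mem_alternatingGroup.2 h⟩, hσ⟩
  · refine ⟨⟨σ * Equiv.swap x y, Equiv.Perm.mem_alternatingGroup.2 ?_⟩, fun i => ?_⟩
    · rw [map_mul, h, Equiv.Perm.sign_swap hxy]; rfl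
    · show σ (Equiv.swap x y (v i)) = w i
      rw [Equiv.swap_apply_of_ne_of_ne (fun e => hx i e) (fun e => hy i e), hσ]

theorem exists_shift {m : ℕ} (a b : ℕ) (ha : a + m ≤ n) (hb : b + m ≤ n) (h : m + 2 ≤ n) :
    ∃ g : alternatingGroup (Fin n), IsShift g m a b := by
  obtain ⟨g, hg⟩ := exists_even_extend (k := m) (fun i => (⟨a + i.1, by omega⟩ : Fin n))
    (fun i => (⟨b + i.1, by omega⟩ : Fin n))
    (fun i j e => Fin.ext (by simpa using congrArg Fin.val e))
    (fun i j e => Fin.ext (by simpa using congrArg Fin.val e)) h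
  refine ⟨g, fun i h1 h2 => ?_⟩
  have e := hg ⟨i.1 - a, by omega⟩
  rw [show (⟨a + (i.1 - a), by omega⟩ : Fin n) = i from Fin.ext (show a + (i.1 - a) = i.1 by omega)] at e
  rw [e]
  show b + (i.1 - a) + a = b + i.1
  omega

theorem shift_mem {g : alternatingGroup (Fin n)} {m a b : ℕ} (h : IsShift g m a b) {i : Fin n}
    (hi : i ∈ blk n a m) : g.1 i ∈ blk n b m := by
  rw [mem_blk] at hi ⊢
  have := h i hi.1 hi.2
  omega

/-- Conjugation by a shift as a homomorphism of windows. -/
def shiftHom {g : alternatingGroup (Fin n)} {m a b : ℕ} (h : IsShift g m a b) :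
    Win F q (blk n a m) →* Win F q (blk n b m) :=
  ((MulAut.conj (permSU g)).toMonoidHom.comp (Win F q (blk n a m)).subtype).codRestrict _
    fun x => perm_conj_win g x.2 fun _ hi => shift_mem h hi

@[simp] theorem shiftHom_coe {g : alternatingGroup (Fin n)} {m a b : ℕ} (h : IsShift g m a b)
    (x : Win F q (blk n a m)) : (shiftHom h x).1 = permSU g * x.1 * (permSU g)⁻¹ := rfl

variable {G : Type v} [Group G] (α : alternatingGroup (Fin n) →* G)

/-- The elements fixing the first coordinates centralise the image. -/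
def Fixes {m : ℕ} (ψ : Win F q (blk n 0 m) →* G) : Prop :=
  ∀ g : alternatingGroup (Fin n), (∀ i : Fin n, i.1 < m → g.1 i = i) → ∀ x, Commute (α g) (ψ x)

open Classical in
/-- A transported homomorphism. -/
noncomputable def trans {m : ℕ} (ψ : Win F q (blk n 0 m) →* G) (a : ℕ) :
    Win F q (blk n a m) →* G :=
  if h : a + m ≤ n ∧ ∃ g : alternatingGroup (Fin n), IsShift g m 0 a then
    ((MulAut.conj (α h.2.choose)).toMonoidHom.comp ψ).comp
      (shiftHom (h.2.choose_spec.inv (by omega)))
  else 1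

theorem trans_def {m : ℕ} (ψ : Win F q (blk n 0 m) →* G) {a : ℕ} (ha : a + m ≤ n)
    (hm : m + 2 ≤ n) : ∃ (g : alternatingGroup (Fin n)) (hg : IsShift g m 0 a),
      ∀ x, trans α ψ a (shiftHom hg x) = α g * ψ x * (α g)⁻¹ := by
  have h : a + m ≤ n ∧ ∃ g : alternatingGroup (Fin n), IsShift g m 0 a :=
    ⟨ha, exists_shift 0 a (by omega) ha hm⟩
  refine ⟨h.2.choose, h.2.choose_spec, fun x => ?_⟩
  rw [trans, dif_pos h]
  simp only [MonoidHom.comp_apply, MulEquiv.coe_toMonoidHom, MulAut.conj_apply]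
  congr 3
  exact Subtype.ext (by simp [map_inv, mul_assoc])

variable [Fintype F] (hF : Fintype.card F = q ^ 2)
include hF

theorem trans_eq {m : ℕ} {ψ : Win F q (blk n 0 m) →* G} (hfix : Fixes α ψ) {a : ℕ}
    (ha : a + m ≤ n) (hm : m + 2 ≤ n) {g : alternatingGroup (Fin n)} (hg : IsShift g m 0 a)
    (x : Win F q (blk n 0 m)) : trans α ψ a (shiftHom hg x) = α g * ψ x * (α g)⁻¹ := by
  obtain ⟨g₀, hg₀, h₀⟩ := trans_def α ψ ha hm
  set k := g₀⁻¹ * g with hk
  have hk' : ∀ i : Fin n, i.1 < m → k.1 i = i := fun i hi => by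
    have := ((hg₀.inv (by omega)).mul hg) i (Nat.zero_le _) (by omega)
    exact Fin.ext (by rw [hk]; omega)
  have hk0 : IsShift k m 0 0 := (hg₀.inv (by omega)).mul hg
  have he : shiftHom hg x = shiftHom hg₀ (shiftHom hk0 x) := Subtype.ext (by
    simp [hk, map_mul, map_inv, mul_assoc])
  have hx : shiftHom hk0 x = x := by
    -- conjugation by an element fixing the window pointwise is trivial
    refine Subtype.ext ?_
    rw [shiftHom_coe, mul_inv_eq_iff_eq_mul]
    refine suMat_ext fun v => ?_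
    have hT : Disjoint (blk n 0 m) (Finset.univ.filter fun i : Fin n => m ≤ i.1) := by
      rw [Finset.disjoint_left]
      intro i hi hi'
      simp [mem_blk] at hi hi'
      omega
    have key : ∀ i : Fin n, suMat (permSU (q := q) k * x.1) *ᵥ (δ i : Fin n → F) =
        suMat (x.1 * permSU (q := q) k) *ᵥ (δ i : Fin n → F) := by
      intro i
      rw [suMat_mulVec_mul, suMat_mulVec_mul, permSU_single]
      by_cases hi : i.1 < m
      · rw [hk' i hi]
        funext r
        rw [permSU_apply, Function.comp_apply]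
        by_cases hr : r.1 < m
        · rw [show k.1.symm r = r from (Equiv.symm_apply_eq _).2 (hk' r hr).symm]
        · have hr' : ¬ (k.1.symm r).1 < m := fun e => hr (by
            have h2 := hk' _ e
            rw [Equiv.apply_symm_apply] at h2
            rw [h2]; exact e)
          rw [win_apply hF x.2 _ (show k.1.symm r ∉ blk n 0 m by simp [mem_blk]; omega),
            win_apply hF x.2 _ (show r ∉ blk n 0 m by simp [mem_blk]; omega)]
          simp [Pi.single_apply, show k.1.symm r ≠ i from fun e => hr' (e ▸ hi),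
            show r ≠ i from fun e => hr (e ▸ hi)]
      · have hi' : ¬ (k.1 i).1 < m := fun e => hi (by
          have h2 : k.1 i = i := k.1.injective (hk' _ e)
          rw [← h2]; exact e)
        rw [x.2 i (by simp [mem_blk]; omega), x.2 (k.1 i) (by simp [mem_blk]; omega), permSU_single]
    rw [show v = ∑ i, v i • (δ i : Fin n → F) by funext j; simp [Pi.single_apply]]
    simp only [mulVec_sum, mulVec_smul, key]
  rw [he, hx, h₀, show g = g₀ * k by rw [hk, mul_inv_cancel_left], map_mul]
  have := hfix k hk' x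
  calc α g₀ * ψ x * (α g₀)⁻¹ = α g₀ * (α k * ψ x * (α k)⁻¹) * (α g₀)⁻¹ := by
        rw [this.eq, mul_inv_cancel_right]
    _ = _ := by group

omit hF in
theorem shiftHom_surj {g : alternatingGroup (Fin n)} {m a b : ℕ} (h : IsShift g m a b)
    (ha : a + m ≤ n) (y : Win F q (blk n b m)) : ∃ x, shiftHom h x = y :=
  ⟨shiftHom (h.inv ha) y, Subtype.ext (by simp [map_inv, mul_assoc])⟩

omit hF in
theorem shiftHom_congr {g : alternatingGroup (Fin n)} {m a b : ℕ} (h h' : IsShift g m a b)
    (x : Win F q (blk n a m)) : shiftHom h x = shiftHom h' x := rfl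

theorem trans_conj {m : ℕ} {ψ : Win F q (blk n 0 m) →* G} (hfix : Fixes α ψ) {a b : ℕ}
    (ha : a + m ≤ n) (hb : b + m ≤ n) (hm : m + 2 ≤ n) {g : alternatingGroup (Fin n)}
    (hg : IsShift g m a b) (y : Win F q (blk n a m)) :
    trans α ψ b (shiftHom hg y) = α g * trans α ψ a y * (α g)⁻¹ := by
  obtain ⟨g₀, hg₀⟩ := exists_shift (m := m) 0 a (by omega) ha hm
  obtain ⟨x, rfl⟩ := shiftHom_surj hg₀ (by omega) y
  rw [show shiftHom hg (shiftHom hg₀ x) = shiftHom (hg.mul hg₀) x from
    Subtype.ext (by simp [map_mul, mul_assoc]), trans_eq α hF hfix hb hm, trans_eq α hF hfix ha hm,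
    map_mul]
  group

theorem trans_zero {m : ℕ} {ψ : Win F q (blk n 0 m) →* G} (hfix : Fixes α ψ) (hm : m + 2 ≤ n)
    (x : Win F q (blk n 0 m)) : trans α ψ 0 x = ψ x := by
  have h := trans_eq α hF hfix (a := 0) (by omega) hm (isShift_one m 0) x
  rw [map_one, one_mul, inv_one, mul_one] at h
  rw [← h]
  congr 1
  exact Subtype.ext (by simp)

theorem trans_sec {m : ℕ} {ψ : Win F q (blk n 0 m) →* G} (π : G →* SU n F q)
    (hα : ∀ g, π (α g) = permSU g) (hψ : ∀ x, π (ψ x) = x.1) {a : ℕ} (ha : a + m ≤ n)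
    (hm : m + 2 ≤ n) (y : Win F q (blk n a m)) : π (trans α ψ a y) = y.1 := by
  obtain ⟨g, hg, h⟩ := trans_def α ψ ha hm
  obtain ⟨x, rfl⟩ := shiftHom_surj hg (by omega) y
  rw [h, map_mul, map_mul, map_inv, hα, hψ, shiftHom_coe]

end H69.SUW
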