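import Cfsg.Agent.H50.Simple
import Cfsg.Agent.H50.Parabolic
import Cfsg.Agent.H50.Count
import Cfsg.Agent.H37.SURad

/-!
Coordinate windows of `SU_n`: the subgroup fixing the unit vectors outside a set of coordinates,
its transitivity properties and generation by smaller windows.
-/

set_option autoImplicit false
set_option linter.unusedSectionVars false

namespace H69.SUW

open Matrix Cfsg H50 H37

universe u

variable {F : Type u} [Field F] {q n : ℕ}

/-- A unit vector. -/
abbrev δ (i : Fin n) : Fin n → F := Pi.single i 1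

/-- The elements of `SU_n` fixing the unit vectors outside `S`. -/
def Win (F : Type u) [Field F] (q : ℕ) {n : ℕ} (S : Finset (Fin n)) : Subgroup (SU n F q) where
  carrier := {g | ∀ i, i ∉ S → suMat g *ᵥ δ i = δ i}
  one_mem' := fun i _ => by rw [suMat_one, one_mulVec]
  mul_mem' := fun {a b} ha hb i hi => by rw [suMat_mulVec_mul, hb i hi, ha i hi]
  inv_mem' := fun {a} ha i hi => suMat_inv_fix (ha i hi)

/-- The support of a vector lies in `S`. -/
def Supp (S : Finset (Fin n)) (v : Fin n → F) : Prop := ∀ i, i ∉ S → v i = 0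

/-- The part of a vector inside `S`. -/
def proj (S : Finset (Fin n)) (v : Fin n → F) : Fin n → F := fun i => if i ∈ S then v i else 0

variable {S T : Finset (Fin n)}

theorem mem_win {g : SU n F q} : g ∈ Win F q S ↔ ∀ i, i ∉ S → suMat g *ᵥ δ i = δ i := Iff.rfl

theorem win_mono (h : S ⊆ T) : Win F q S ≤ Win F q T := fun _ hg i hi => hg i fun e => hi (h e)

theorem win_inter {g : SU n F q} (hS : g ∈ Win F q S) (hT : g ∈ Win F q T) :
    g ∈ Win F q (S ∩ T) := fun i hi => by
  rw [Finset.mem_inter, not_and_or] at hi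
  exact hi.elim (hS i) (hT i)

theorem win_erase {g : SU n F q} (hg : g ∈ Win F q S) {j : Fin n} (hj : suMat g *ᵥ δ j = δ j) :
    g ∈ Win F q (S.erase j) := fun i hi => by
  rw [Finset.mem_erase, not_and_or, not_not] at hi
  rcases hi with rfl | hi
  · exact hj
  · exact hg i hi

theorem win_univ (g : SU n F q) : g ∈ Win F q (Finset.univ : Finset (Fin n)) :=
  fun _ hi => absurd (Finset.mem_univ _) hi

theorem Supp.mono {v : Fin n → F} (h : Supp S v) (hST : S ⊆ T) : Supp T v :=
  fun i hi => h i fun e => hi (hST e)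

theorem supp_single {i : Fin n} (hi : i ∈ S) : Supp S (δ i : Fin n → F) := fun j hj =>
  Pi.single_eq_of_ne (show j ≠ i from fun e => hj (by rw [e]; exact hi)) 1

theorem Supp.add {v w : Fin n → F} (hv : Supp S v) (hw : Supp S w) : Supp S (v + w) :=
  fun i hi => by rw [Pi.add_apply, hv i hi, hw i hi, add_zero]

theorem Supp.sub {v w : Fin n → F} (hv : Supp S v) (hw : Supp S w) : Supp S (v - w) :=
  fun i hi => by rw [Pi.sub_apply, hv i hi, hw i hi, sub_zero]

theorem Supp.smul {v : Fin n → F} (hv : Supp S v) (c : F) : Supp S (c • v) :=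
  fun i hi => by rw [Pi.smul_apply, hv i hi, smul_zero]

theorem supp_zero : Supp S (0 : Fin n → F) := fun _ _ => rfl

theorem supp_proj (v : Fin n → F) : Supp S (proj S v) := fun i hi => if_neg hi

theorem proj_apply {v : Fin n → F} {i : Fin n} (hi : i ∈ S) : proj S v i = v i := if_pos hi

theorem Supp.proj_eq {v : Fin n → F} (h : Supp S v) : proj S v = v := funext fun i => by
  by_cases hi : i ∈ S
  · exact proj_apply hi
  · rw [supp_proj v i hi, h i hi]

variable [Fintype F] (hF : Fintype.card F = q ^ 2)
include hF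

/-- A window element keeps the outside coordinates. -/
theorem win_apply {g : SU n F q} (hg : g ∈ Win F q S) (v : Fin n → F) {i : Fin n} (hi : i ∉ S) :
    (suMat g *ᵥ v) i = v i := by
  rw [← h_single_right hF (suMat g *ᵥ v) i,
    show (Pi.single i 1 : Fin n → F) = suMat g *ᵥ δ i from (hg i hi).symm, suMat_h]
  exact h_single_right hF v i

theorem supp_image {g : SU n F q} (hg : g ∈ Win F q S) {v : Fin n → F} (hv : Supp S v) :
    Supp S (suMat g *ᵥ v) := fun i hi => by rw [win_apply hF hg v hi, hv i hi]

theorem h_disjoint {v w : Fin n → F} (hv : Supp S v) (hw : Supp T w) (h : Disjoint S T) :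
    hermForm n F q v w = 0 := by
  refine Finset.sum_eq_zero fun i _ => ?_
  by_cases hi : i ∈ S
  · rw [hw i (Finset.disjoint_left.1 h hi), zero_pow (q_ne_zero hF), mul_zero]
  · rw [hv i hi, zero_mul]

omit hF in
theorem h_supp_congr {v v' w : Fin n → F} (hw : Supp S w) (h : ∀ i ∈ S, v i = v' i)
    (hq : q ≠ 0) : hermForm n F q v w = hermForm n F q v' w := by
  refine Finset.sum_congr rfl fun i _ => ?_
  by_cases hi : i ∈ S
  · rw [h i hi]
  · simp [hw i hi, zero_pow hq]

/-- Windows act separately on the two parts of a vector. -/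
theorem win_split {g : SU n F q} (hg : g ∈ Win F q S) (v : Fin n → F) :
    suMat g *ᵥ v = suMat g *ᵥ proj S v + (v - proj S v) := by
  have h : suMat g *ᵥ (v - proj S v) = v - proj S v := by
    have e : v - proj S v = ∑ i ∈ Finset.univ.filter (· ∉ S), v i • δ i := by
      funext j
      simp [Finset.sum_apply, Pi.single_apply, proj]
      split_ifs <;> simp
    rw [e, mulVec_sum]
    refine Finset.sum_congr rfl fun i hi => ?_
    rw [mulVec_smul, hg i (Finset.mem_filter.1 hi).2]
  conv_rhs => rw [← h]
  rw [← mulVec_add, add_sub_cancel]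

theorem proj_image {g : SU n F q} (hg : g ∈ Win F q S) (v : Fin n → F) :
    proj S (suMat g *ᵥ v) = suMat g *ᵥ proj S v := by
  funext i
  by_cases hi : i ∈ S
  · rw [proj_apply hi, win_split hF hg v, Pi.add_apply, Pi.sub_apply, proj_apply hi, sub_self,
      add_zero]
  · rw [supp_proj _ i hi, supp_image hF hg (supp_proj v) i hi]

theorem eq_one_of_single {g : SU n F q} {j : Fin n} (hg : g ∈ Win F q {j}) : g = 1 := by
  have hs : suMat g *ᵥ δ j = (suMat g *ᵥ δ j) j • (δ j : Fin n → F) := by
    funext i
    by_cases hi : i = j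
    · subst hi; simp
    · rw [supp_image hF hg (supp_single (Finset.mem_singleton_self j)) i
        (by simp [hi]), Pi.smul_apply]
      simp [hi]
  set c := (suMat g *ᵥ δ j) j
  have hM : suMat g = diagonal (Function.update 1 j c) := by
    refine Matrix.ext_of_mulVec_single fun i => ?_
    rw [diagonal_mulVec_single, mul_one]
    by_cases hi : i = j
    · subst hi
      rw [hs, Function.update_self, ← Pi.single_smul, smul_eq_mul, mul_one]
    · rw [Function.update_of_ne hi]
      exact hg i (by simp [hi])
  have hc : c = 1 := by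
    have h := g.1.2
    change (suMat g).det = 1 at h
    rw [hM, det_diagonal, Finset.prod_update_of_mem (Finset.mem_univ j)] at h
    simpa using h
  refine suMat_ext fun v => ?_
  rw [hM, hc, suMat_one, ← Pi.one_apply (M := fun _ : Fin n => F) j, Function.update_eq_self]
  simp

theorem isON_compl : IsON q (fun i : {i : Fin n // i ∉ S} => (δ i.1 : Fin n → F)) := fun i j => by
  rw [h_single_single hF]
  simp [Subtype.ext_iff]

/-- Witt's theorem inside a window. -/
theorem witt {ι : Type*} [Fintype ι] {b b' : ι → Fin n → F} (hb : GramND q b)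
    (h : SameGram q b b') (hs : ∀ i, Supp S (b i)) (hs' : ∀ i, Supp S (b' i))
    (hlt : Fintype.card ι < S.card) :
    ∃ g ∈ Win F q S, ∀ i, suMat g *ᵥ b i = b' i := by
  classical
  have hd : ∀ {c : ι → Fin n → F}, (∀ i, Supp S (c i)) →
      ∀ (k : {i : Fin n // i ∉ S}) (i : ι), hermForm n F q (δ k.1) (c i) = 0 := fun hc k i => by
    rw [h_single_left hF, hc i k.1 k.2, zero_pow (q_ne_zero hF)]
  obtain ⟨g, hg⟩ := exists_SU_of_sameGram hF
    (sumElim_gramND hF hb (isON_compl hF) (hd hs))
    (sumElim_sameGram hF h (isON_compl hF) (isON_compl hF) (hd hs) (hd hs')) (by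
      rw [Fintype.card_sum, Fintype.card_subtype_compl, Fintype.card_coe, Fintype.card_fin]
      have : S.card ≤ n := by simpa using S.card_le_univ
      omega)
  exact ⟨g, fun i hi => hg (Sum.inr ⟨i, hi⟩), fun i => hg (Sum.inl i)⟩

theorem trans_ni (hS : 2 ≤ S.card) {v v' : Fin n → F} (hv : Supp S v) (hv' : Supp S v')
    (h : hermForm n F q v v = hermForm n F q v' v') (h0 : hermForm n F q v v ≠ 0) :
    ∃ g ∈ Win F q S, suMat g *ᵥ v = v' := by
  obtain ⟨g, hg, e⟩ := witt hF (b := fun _ : Unit => v) (b' := fun _ : Unit => v') (S := S)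
    (fun c hc => funext fun i => by
      have := hc ()
      simp [h_smul_left, h0] at this
      exact this) (fun _ _ => h) (fun _ => hv) (fun _ => hv') (by simp; omega)
  exact ⟨g, hg, e ()⟩

theorem exists_partner {e : Fin n → F} (he : Supp S e) (h0 : e ≠ 0)
    (hee : hermForm n F q e e = 0) : ∃ f, Supp S f ∧ IsHyp q e f := by
  obtain ⟨f', hf'⟩ := exists_hyp_partner hF h0 hee
  set f := proj S f'
  have hef : hermForm n F q e f = 1 := by
    have h1 : hermForm n F q f e = hermForm n F q f' e :=
      h_supp_congr he (fun i hi => proj_apply hi) (q_ne_zero hF)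
    rw [h_symm hF f e, h1, (hf'.symm hF).2.2, one_pow]
  have hfe : hermForm n F q f e = 1 := by rw [h_symm hF e f, hef, one_pow]
  obtain ⟨a, ha⟩ := exists_trace_eq hF (c := -hermForm n F q f f)
    (by rw [neg_pow_q hF, h_self_fixed hF])
  refine ⟨f + a • e, (supp_proj f').add (he.smul a), hee, ?_, ?_⟩
  · simp only [h_add_left, h_add_right hF, h_smul_left, h_smul_right hF, hfe, hef, hee]
    linear_combination ha
  · simp [h_add_right hF, h_smul_right hF, hef, hee]

theorem trans_hyp (hS : 3 ≤ S.card) {e f e' f' : Fin n → F} (h : IsHyp q e f) (h' : IsHyp q e' f')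
    (he : Supp S e) (hf : Supp S f) (he' : Supp S e') (hf' : Supp S f') :
    ∃ g ∈ Win F q S, suMat g *ᵥ e = e' ∧ suMat g *ᵥ f = f' := by
  obtain ⟨g, hg, e1⟩ := witt hF (h.gramND hF) (h.sameGram hF h') (S := S)
    (fun i => by fin_cases i <;> assumption) (fun i => by fin_cases i <;> assumption)
    (by simp; omega)
  exact ⟨g, hg, e1 0, e1 1⟩

theorem trans3 (hS : 3 ≤ S.card) {v v' : Fin n → F} (hv : Supp S v) (hv' : Supp S v')
    (h : hermForm n F q v v = hermForm n F q v' v') (h0 : v = 0 ↔ v' = 0) :
    ∃ g ∈ Win F q S, suMat g *ᵥ v = v' := by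
  by_cases hn : hermForm n F q v v = 0
  · by_cases hz : v = 0
    · exact ⟨1, one_mem _, by rw [suMat_one, one_mulVec, hz, h0.1 hz]⟩
    obtain ⟨f, hf, hh⟩ := exists_partner hF hv hz hn
    obtain ⟨f', hf', hh'⟩ := exists_partner hF hv' (fun e => hz (h0.2 e)) (h ▸ hn)
    obtain ⟨g, hg, e, -⟩ := trans_hyp hF hS hh hh' hv hf hv' hf'
    exact ⟨g, hg, e⟩
  · exact trans_ni hF (by omega) hv hv' h hn

theorem h_pair {i j : Fin n} (hij : i ≠ j) {v : Fin n → F} (hv : Supp {i, j} v) :
    hermForm n F q v v = v i ^ (q + 1) + v j ^ (q + 1) := by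
  rw [hermForm, Fintype.sum_eq_add i j hij fun x hx => by
    rw [hv x (by simpa using hx), zero_mul]]
  ring

omit hF in
theorem supp_pair {i j : Fin n} (hij : i ≠ j) {v : Fin n → F} (hv : Supp {i, j} v) :
    v = v i • δ i + v j • δ j := by
  funext x
  by_cases h1 : x = i
  · subst h1; simp [hij]
  by_cases h2 : x = j
  · subst h2; simp [hij.symm]
  simp [hv x (by simp [h1, h2]), h1, h2]

/-- In a pair the first coordinate of a non-zero vector can be given any non-zero norm. -/
theorem pair_move {i j : Fin n} (hij : i ≠ j) {v : Fin n → F} (hv : Supp {i, j} v) (hv0 : v ≠ 0)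
    {ν : F} (hν : ν ^ q = ν) (hν0 : ν ≠ 0) :
    ∃ g ∈ Win F q {i, j}, (suMat g *ᵥ v) i ^ (q + 1) = ν := by
  have hc2 : 2 ≤ ({i, j} : Finset (Fin n)).card := by rw [Finset.card_pair hij]
  obtain ⟨x, hx⟩ := exists_norm_eq hF hν
  by_cases h0 : hermForm n F q v v = 0
  · have hvi : v i ≠ 0 := by
      intro e
      rw [h_pair hF hij hv, e, zero_pow (by omega), zero_add, pow_eq_zero_iff (by omega)] at h0
      refine hv0 ?_
      rw [supp_pair hij hv, e, h0, zero_smul, zero_smul, add_zero]
    have hx0 : x ≠ 0 := by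
      rintro rfl
      exact hν0 (by rw [← hx, zero_pow (by omega)])
    set c := (x / v i) ^ q with hc
    have hcq : c ^ q = x / v i := pow_q_pow_q hF _
    obtain ⟨t, ht⟩ := exists_trace_eq hF (c := 1 - c ^ (q + 1))
      (by rw [sub_pow_q hF, one_pow, norm_fixed hF])
    set z : Fin n → F := c • δ i with hz
    set w := (t / x) • v + z
    have hw : Supp {i, j} w := (hv.smul _).add ((supp_single (by simp)).smul c)
    have hvz : hermForm n F q v z = x := by
      rw [hz, h_smul_right hF]
      have e : hermForm n F q v (δ i) = v i := h_single_right hF v i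
      rw [e, hcq, div_mul_cancel₀ _ hvi]
    have hzv : hermForm n F q z v = x ^ q := by rw [h_symm hF, hvz]
    have hzz : hermForm n F q z z = c ^ (q + 1) := by
      have e : hermForm n F q (δ i : Fin n → F) (δ i) = 1 := by
        rw [h_single_single hF, if_pos rfl]
      rw [hz, h_smul_left, h_smul_right hF, e, mul_one, pow_succ']
    have hvw : hermForm n F q v w = x := by
      simp only [w, h_add_right hF, h_smul_right hF, h0, mul_zero, zero_add, hvz]
    have hww : hermForm n F q w w = 1 := by
      simp only [w, h_add_left, h_add_right hF, h_smul_left, h_smul_right hF, h0, mul_zero,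
        zero_add, hvz, hzv, hzz]
      rw [← mul_pow, div_mul_cancel₀ _ hx0]
      linear_combination ht
    obtain ⟨g, hg, hgw⟩ := trans_ni hF hc2 hw (supp_single (i := i) (by simp))
      (by rw [hww, h_single_single hF, if_pos rfl]) (by rw [hww]; exact one_ne_zero)
    refine ⟨g, hg, ?_⟩
    rw [← h_single_right hF (suMat g *ᵥ v) i, show (Pi.single i 1 : Fin n → F) = suMat g *ᵥ w from hgw.symm, suMat_h, hvw, hx]
  · obtain ⟨y, hy⟩ := exists_norm_eq hF (c := hermForm n F q v v - ν)
      (by rw [sub_pow_q hF, hν, h_self_fixed hF])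
    set w : Fin n → F := x • (δ i : Fin n → F) + y • δ j
    have hw : Supp {i, j} w :=
      ((supp_single (by simp)).smul _).add ((supp_single (by simp)).smul _)
    have hwi : w i = x := by simp [w, hij]
    have hwj : w j = y := by simp [w, hij.symm]
    obtain ⟨g, hg, hgw⟩ := trans_ni hF hc2 hv hw
      (by rw [h_pair hF hij hw, hwi, hwj, hx, hy, add_sub_cancel]) h0
    exact ⟨g, hg, by rw [hgw, hwi, hx]⟩

theorem exists_fixed_avoid (hq : 3 ≤ q) (b : F) : ∃ ν : F, ν ^ q = ν ∧ ν ≠ 0 ∧ ν ≠ b := by
  classical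
  by_contra hno
  push Not at hno
  have hsub : Finset.univ.filter (fun x : F => x ^ q = x) ⊆ {0, b} := fun x hx => by
    simp only [Finset.mem_filter, Finset.mem_univ, true_and] at hx
    simp only [Finset.mem_insert, Finset.mem_singleton]
    by_cases h : x = 0
    · exact Or.inl h
    · exact Or.inr (hno x hx h)
  have h := (Finset.card_le_card hsub).trans Finset.card_le_two
  rw [← Fintype.card_subtype, ← Nat.card_eq_fintype_card, card_fixed hF] at h
  omega

end H69.SUW
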