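import Cfsg.Agent.H31.TwoCentres
import Cfsg.Agent.H31.RankTwoMetacyclic
import Cfsg.Agent.H80.Detect
import Mathlib

/-!
Tools for elementary sections of groups with a normal two-subgroup: the section of order thirty-two,
fixed point counting for elements of prime order and minimal normal subgroups inside a two-group.
-/

set_option autoImplicit false

namespace H69.SectTools

open scoped commutatorElement

variable {G : Type*} [Group G]

/-- An element permuting a finite set, of period a prime on it. -/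
theorem fix_modEq [Finite G] {p : ℕ} [Fact p.Prime] (S : Set G) (g : G) (hS : ∀ x ∈ S, g * x * g⁻¹ ∈ S)
    (hp : ∀ x ∈ S, g ^ p * x * (g ^ p)⁻¹ = x) :
    Nat.card S ≡ Nat.card {x : G | x ∈ S ∧ g * x = x * g} [MOD p] := by
  classical
  haveI : Fintype G := Fintype.ofFinite G
  let f : S → S := fun x => ⟨g * x * g⁻¹, hS x x.2⟩
  have hinj : Function.Injective f := fun a b h => Subtype.ext (by
    have h' : g * (a : G) * g⁻¹ = g * (b : G) * g⁻¹ := congrArg Subtype.val h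
    exact mul_left_cancel (mul_right_cancel h'))
  let σ : Equiv.Perm S := Equiv.ofBijective f (Finite.injective_iff_bijective.1 hinj)
  have hpow : ∀ (n : ℕ) (x : S), (((σ ^ n) x : S) : G) = g ^ n * x * (g ^ n)⁻¹ := by
    intro n
    induction n with
    | zero => intro x; simp
    | succ n ih =>
      intro x
      rw [pow_succ', Equiv.Perm.mul_apply]
      show g * ((σ ^ n) x : G) * g⁻¹ = _
      rw [ih, pow_succ']; group
  have hσ : σ ^ p = 1 := Equiv.ext fun x => Subtype.ext (by rw [hpow, hp x x.2]; rfl)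
  have hP : IsPGroup p (Subgroup.zpowers σ) := by
    rintro ⟨τ, k, rfl⟩
    refine ⟨1, Subtype.ext ?_⟩
    show (σ ^ k) ^ (p ^ 1) = 1
    rw [pow_one, ← zpow_natCast, zpow_comm, zpow_natCast, hσ, one_zpow]
  refine (hP.card_modEq_card_fixedPoints S).trans (show _ ≡ _ [MOD p] from congrArg (· % p) ?_)
  refine Nat.card_congr ?_
  refine
    { toFun := fun x => ⟨((x : S) : G), (x : S).2, ?_⟩
      invFun := fun x => ⟨⟨(x : G), x.2.1⟩, ?_⟩
      left_inv := fun x => rfl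
      right_inv := fun x => rfl }
  · have h := congrArg (Subtype.val : S → G) (x.2 ⟨σ, Subgroup.mem_zpowers σ⟩)
    exact mul_inv_eq_iff_eq_mul.1 h
  · rintro ⟨τ, k, rfl⟩
    have h1 : σ ⟨(x : G), x.2.1⟩ = ⟨(x : G), x.2.1⟩ := Subtype.ext (mul_inv_eq_iff_eq_mul.2 x.2.2)
    show (σ ^ k) _ = _
    exact Equiv.Perm.zpow_apply_eq_self_of_apply_eq_self h1 k

/-- The elementary section of order thirty-two. -/
theorem not_rank [Finite G] (h4 : Cfsg.SectionalPRankLE 2 4 G) (N : Subgroup G) (S : Set G)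
    (hNA : N ≤ Subgroup.closure S) (hsq : ∀ x ∈ S, x * x ∈ N) (hcomm : ∀ x ∈ S, ∀ y ∈ S, ⁅x, y⁆ ∈ N)
    (hN : ∀ x ∈ S, ∀ n ∈ N, x * n * x⁻¹ ∈ N) (hcard : 32 * Nat.card N ≤ Nat.card (Subgroup.closure S)) :
    False := by
  classical
  set A := Subgroup.closure S with hA
  have hAN : ∀ x ∈ A, ∀ n ∈ N, x * n * x⁻¹ ∈ N := by
    intro x hx
    rw [hA, ← Subgroup.mem_toSubmonoid, Subgroup.closure_toSubmonoid_of_finite] at hx
    induction hx using Submonoid.closure_induction with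
    | mem y hy => exact hN y hy
    | one => intro n hn; simpa using hn
    | mul a b _ _ ha hb =>
      intro n hn
      rw [show a * b * n * (a * b)⁻¹ = a * (b * n * b⁻¹) * a⁻¹ by group]
      exact ha _ (hb n hn)
  haveI : (N.subgroupOf A).Normal := ⟨fun n hn g => by
    rw [Subgroup.mem_subgroupOf] at hn ⊢
    exact hAN g g.2 _ hn⟩
  let π : A →* A ⧸ N.subgroupOf A := QuotientGroup.mk' _
  have hπ : ∀ x : A, π x = 1 ↔ (x : G) ∈ N := fun x =>
    (QuotientGroup.eq_one_iff x).trans Subgroup.mem_subgroupOf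
  have htop : Subgroup.closure (π '' ((Subtype.val : A → G) ⁻¹' S)) = ⊤ := by
    rw [← MonoidHom.map_closure,
      show Subgroup.closure ((Subtype.val : A → G) ⁻¹' S) = ⊤ from Subgroup.closure_closure_coe_preimage,
      Subgroup.map_top_of_surjective _ (QuotientGroup.mk'_surjective _)]
  have hab : ∀ u v : A ⧸ N.subgroupOf A, u * v = v * u := by
    intro u v
    have hle : Subgroup.closure (π '' ((Subtype.val : A → G) ⁻¹' S)) ≤
        Subgroup.centralizer (π '' ((Subtype.val : A → G) ⁻¹' S)) := by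
      rw [Subgroup.closure_le]
      rintro _ ⟨a, ha, rfl⟩ _ ⟨b, hb, rfl⟩
      have h1 : π (b * a * b⁻¹ * a⁻¹) = 1 := (hπ _).2 (hcomm _ hb _ ha)
      rw [map_mul, map_mul, map_mul, map_inv, map_inv, mul_inv_eq_one, mul_inv_eq_iff_eq_mul] at h1
      exact h1
    have hle2 : Subgroup.closure (π '' ((Subtype.val : A → G) ⁻¹' S)) ≤
        Subgroup.centralizer (Subgroup.closure (π '' ((Subtype.val : A → G) ⁻¹' S)) : Set (A ⧸ N.subgroupOf A)) := by
      rw [Subgroup.centralizer_closure]; exact hle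
    exact (hle2 (htop ▸ Subgroup.mem_top u) v (htop ▸ Subgroup.mem_top v)).symm
  have hsq' : ∀ u : A ⧸ N.subgroupOf A, u * u = 1 := by
    intro u
    induction (htop ▸ Subgroup.mem_top u : u ∈ Subgroup.closure _) using Subgroup.closure_induction with
    | mem y hy =>
      obtain ⟨a, ha, rfl⟩ := hy
      rw [← map_mul, hπ]; exact hsq _ ha
    | one => rw [mul_one]
    | mul a b _ _ ha hb =>
      rw [mul_assoc, ← mul_assoc b, hab b a, mul_assoc a b b, hb, mul_one, ha]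
    | inv a _ ha => rw [← mul_inv_rev, ha, inv_one]
  have hr := H31.TwoCentres.pRankLE_of_section h4 A.subtype A.subtype_injective π (QuotientGroup.mk'_surjective _)
  have hle := hr ⊤ ⟨⟨fun u v => Subtype.ext (hab u v)⟩⟩ (fun u _ => by rw [sq]; exact hsq' u)
  rw [Subgroup.card_top] at hle
  have hmul := Subgroup.card_eq_card_quotient_mul_card_subgroup (N.subgroupOf A)
  rw [Nat.card_congr (Subgroup.subgroupOfEquivOfLe hNA).toEquiv] at hmul
  have := Nat.card_pos (α := N)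
  nlinarith

/-- An element of order five modulo the centralizer of a two-subgroup of order at most sixteen. -/
theorem fpf_five [Finite G] (V : Subgroup G) (hV : IsPGroup 2 V) (hcard : Nat.card V ≤ 16) (y : G)
    (hy : ∀ v ∈ V, y * v * y⁻¹ ∈ V) (hy5 : ∀ v ∈ V, y ^ 5 * v * (y ^ 5)⁻¹ = v)
    (hne : ¬ ∀ v ∈ V, y * v = v * y) : Nat.card V = 16 ∧ ∀ v ∈ V, y * v = v * y → v = 1 := by
  haveI : Fact (Nat.Prime 5) := ⟨by norm_num⟩
  haveI : Fact (Nat.Prime 2) := ⟨Nat.prime_two⟩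
  have h := fix_modEq (p := 5) (V : Set G) y hy hy5
  set C : Subgroup G := V ⊓ Subgroup.centralizer {y} with hC
  have hset : {x : G | x ∈ (V : Set G) ∧ y * x = x * y} = (C : Set G) := by
    ext x
    simp only [Set.mem_ofPred_eq, SetLike.mem_coe, hC, Subgroup.mem_inf, Subgroup.mem_centralizer_singleton_iff]
    exact and_congr_right fun _ => ⟨fun h => h.symm, fun h => h.symm⟩
  rw [hset] at h
  change Nat.card V ≡ Nat.card C [MOD 5] at h
  obtain ⟨i, hi⟩ := IsPGroup.iff_card.1 hV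
  obtain ⟨j, hj⟩ := IsPGroup.iff_card.1 (hV.to_le (inf_le_left : C ≤ V))
  have hlt : Nat.card C < Nat.card V := by
    refine lt_of_le_of_ne (Subgroup.card_le_of_le inf_le_left) fun he => hne fun v hv => ?_
    have hVC : C = V := Subgroup.eq_of_le_of_card_ge inf_le_left he.ge
    rw [← hVC] at hv
    exact (Subgroup.mem_centralizer_singleton_iff.1 hv.2).symm
  have hi4 : i ≤ 4 := (Nat.pow_le_pow_iff_right (by norm_num : 1 < 2)).1 (hi ▸ hcard)
  have hji : j < i := (Nat.pow_lt_pow_iff_right (by norm_num : 1 < 2)).1 (hi ▸ hj ▸ hlt)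
  rw [hi, hj] at h
  have key : ∀ a < 5, ∀ b < a, 2 ^ a % 5 = 2 ^ b % 5 → a = 4 ∧ b = 0 := by decide
  obtain ⟨rfl, rfl⟩ := key i (by omega) j hji h
  refine ⟨hi, fun v hv hvy => ?_⟩
  have hbot : C = ⊥ := Subgroup.card_eq_one.1 hj
  have hm : v ∈ C := ⟨hv, Subgroup.mem_centralizer_singleton_iff.2 hvy.symm⟩
  rwa [hbot, Subgroup.mem_bot] at hm

/-- A maximal proper normal subgroup below. -/
theorem exists_maximal_below [Finite G] (F : Subgroup G) (hF : F ≠ ⊥) :
    ∃ N : Subgroup G, N.Normal ∧ N < F ∧ ∀ K : Subgroup G, K.Normal → N ≤ K → K < F → K = N := by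
  obtain ⟨N, hN, hmax⟩ := Set.Finite.exists_maximal (Set.toFinite {N : Subgroup G | N.Normal ∧ N < F})
    ⟨⊥, inferInstance, bot_lt_iff_ne_bot.2 hF⟩
  exact ⟨N, hN.1, hN.2, fun K hK hNK hKF => le_antisymm (hmax ⟨hK, hKF⟩ hNK) hNK⟩

/-- Its image is a minimal normal subgroup of the quotient. -/
theorem minimal_image {N F : Subgroup G} [N.Normal] (hNF : N < F)
    (hmax : ∀ K : Subgroup G, K.Normal → N ≤ K → K < F → K = N) :
    F.map (QuotientGroup.mk' N) ≠ ⊥ ∧
      ∀ K : Subgroup (G ⧸ N), K.Normal → K ≤ F.map (QuotientGroup.mk' N) → K = ⊥ ∨ K = F.map (QuotientGroup.mk' N) := by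
  refine ⟨fun h => ?_, fun K hK hle => ?_⟩
  · rw [Subgroup.map_eq_bot_iff, QuotientGroup.ker_mk'] at h
    exact absurd h (not_le_of_gt hNF)
  · have hcomap : (F.map (QuotientGroup.mk' N)).comap (QuotientGroup.mk' N) = F := by
      rw [Subgroup.comap_map_eq, QuotientGroup.ker_mk', sup_eq_left.2 hNF.le]
    have h1 : K.comap (QuotientGroup.mk' N) ≤ F := hcomap ▸ Subgroup.comap_mono hle
    have hKeq : (K.comap (QuotientGroup.mk' N)).map (QuotientGroup.mk' N) = K :=
      Subgroup.map_comap_eq_self_of_surjective (QuotientGroup.mk'_surjective N) K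
    rcases lt_or_eq_of_le h1 with h2 | h2
    · left
      have h3 := hmax _ (hK.comap _) (fun n hn => by
        rw [Subgroup.mem_comap, QuotientGroup.mk'_apply, (QuotientGroup.eq_one_iff n).2 hn]; exact K.one_mem) h2
      rw [← hKeq, h3, QuotientGroup.map_mk'_self]
    · right
      rw [← hKeq, h2]

/-- A minimal normal subgroup inside a normal two-subgroup. -/
theorem minimal_facts [Finite G] (h4 : Cfsg.SectionalPRankLE 2 4 G) (Q F : Subgroup G) [Q.Normal] [F.Normal]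
    (hQ : IsPGroup 2 Q) (hFQ : F ≤ Q) (hF : F ≠ ⊥)
    (hmin : ∀ K : Subgroup G, K.Normal → K ≤ F → K = ⊥ ∨ K = F) :
    (∀ x ∈ Q, ∀ f ∈ F, x * f = f * x) ∧ (∀ f ∈ F, f * f = 1) ∧ Nat.card F ≤ 16 := by
  haveI : Fact (Nat.Prime 2) := ⟨Nat.prime_two⟩
  have hcent : ∀ x ∈ Q, ∀ f ∈ F, x * f = f * x := by
    have hF' : F.subgroupOf Q ≠ ⊥ := fun h => hF (by
      rw [← Subgroup.map_subgroupOf_eq_of_le hFQ, h, Subgroup.map_bot])
    have h1 := H80.pgroup_normal_inf_center_ne_bot hQ (F.subgroupOf Q) hF'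
    haveI : (Subgroup.centralizer (Q : Set G)).Normal := Subgroup.normal_centralizer
    rcases hmin (F ⊓ Subgroup.centralizer (Q : Set G)) inferInstance inf_le_left with h | h
    · refine absurd ?_ h1
      refine (Subgroup.eq_bot_iff_forall _).2 fun x hx => ?_
      have hm : (x : G) ∈ F ⊓ Subgroup.centralizer (Q : Set G) := ⟨Subgroup.mem_subgroupOf.1 hx.1, fun q hq =>
        congrArg Subtype.val (Subgroup.mem_center_iff.1 hx.2 ⟨q, hq⟩)⟩
      rw [h, Subgroup.mem_bot] at hm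
      exact Subtype.ext hm
    · intro x hx f hf
      rw [← h] at hf
      exact hf.2 x hx
  have helem : ∀ f ∈ F, f * f = 1 := by
    let O : Subgroup G :=
      { carrier := {f | f ∈ F ∧ f * f = 1}
        one_mem' := ⟨F.one_mem, one_mul 1⟩
        mul_mem' := fun {a b} ⟨ha, ha'⟩ ⟨hb, hb'⟩ => ⟨F.mul_mem ha hb, by
          rw [mul_assoc, ← mul_assoc b, hcent b (hFQ hb) a ha, mul_assoc a b b, hb', mul_one, ha']⟩
        inv_mem' := fun {a} ⟨ha, ha'⟩ => ⟨F.inv_mem ha, by rw [← mul_inv_rev, ha', inv_one]⟩ }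
    haveI : O.Normal := ⟨fun f hf g => ⟨(inferInstance : F.Normal).conj_mem f hf.1 g, by
      rw [show g * f * g⁻¹ * (g * f * g⁻¹) = g * (f * f) * g⁻¹ by group, hf.2, mul_one, mul_inv_cancel]⟩⟩
    rcases hmin O inferInstance (fun f hf => hf.1) with h | h
    · exfalso
      obtain ⟨i, hi⟩ := IsPGroup.iff_card.1 (hQ.to_le hFQ)
      have h2 : 2 ∣ Nat.card F := by
        rcases i with _ | i
        · exact absurd (Subgroup.card_eq_one.1 hi) hF
        · exact hi ▸ dvd_pow_self 2 i.succ_ne_zero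
      obtain ⟨a, ha⟩ := exists_prime_orderOf_dvd_card' (G := F) 2 h2
      have hm : (a : G) ∈ O := ⟨a.2, by
        rw [← Subgroup.coe_mul, ← sq, ← ha, pow_orderOf_eq_one, Subgroup.coe_one]⟩
      rw [h, Subgroup.mem_bot] at hm
      rw [show a = 1 from Subtype.ext hm, orderOf_one] at ha
      norm_num at ha
    · intro f hf
      rw [← h] at hf
      exact hf.2
  refine ⟨hcent, helem, ?_⟩
  have hr := H31.TwoCentres.pRankLE_of_section h4 F.subtype F.subtype_injective (MonoidHom.id F)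
    Function.surjective_id
  have hle := hr ⊤ ⟨⟨fun u v => Subtype.ext (Subtype.ext
      (hcent (u : F) (hFQ (u : F).2) (v : F) (v : F).2))⟩⟩
    (fun u _ => by rw [sq]; exact Subtype.ext (helem u u.2))
  rw [Subgroup.card_top] at hle
  exact hle

/-- An element inverting an element without fixed points on an elementary group of order sixteen. -/
theorem dihedral_fixed [Finite G] (V : Subgroup G) (hcard : Nat.card V = 16) (hV : ∀ a ∈ V, ∀ b ∈ V, a * b = b * a)
    (hV2 : ∀ a ∈ V, a * a = 1) (y e : G) (hyN : ∀ v ∈ V, y * v * y⁻¹ ∈ V) (heN : ∀ v ∈ V, e * v * e⁻¹ ∈ V)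
    (hy5 : ∀ v ∈ V, y ^ 5 * v * (y ^ 5)⁻¹ = v) (he2 : ∀ v ∈ V, e * e * v * (e * e)⁻¹ = v)
    (hey : ∀ v ∈ V, (e * y * e⁻¹ * y) * v * (e * y * e⁻¹ * y)⁻¹ = v)
    (hfix : ∀ v ∈ V, y * v = v * y → v = 1) :
    Nat.card ↥(V ⊓ Subgroup.centralizer {e}) = 4 ∧ (∀ v ∈ V, ⁅e, v⁆ ∈ V ⊓ Subgroup.centralizer {e}) ∧
      ∀ c ∈ V ⊓ Subgroup.centralizer {e}, ∃ w ∈ V, ⁅e, w⁆ = c := by
  classical
  obtain ⟨α, hα⟩ : ∃ α : G → G, ∀ v, α v = y * v * y⁻¹ := ⟨_, fun _ => rfl⟩
  obtain ⟨β, hβ⟩ : ∃ β : G → G, ∀ v, β v = e * v * e⁻¹ := ⟨_, fun _ => rfl⟩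
  have hαV : ∀ v ∈ V, α v ∈ V := fun v hv => hα v ▸ hyN v hv
  have hβV : ∀ v ∈ V, β v ∈ V := fun v hv => hβ v ▸ heN v hv
  have hα5 : ∀ v ∈ V, α (α (α (α (α v)))) = v := fun v hv => by
    conv_rhs => rw [← hy5 v hv]
    simp only [hα, pow_succ, pow_zero, one_mul, mul_inv_rev, mul_assoc]
  have hβ2 : ∀ v ∈ V, β (β v) = v := fun v hv => by
    conv_rhs => rw [← he2 v hv]
    simp only [hβ, mul_inv_rev, mul_assoc]
  have hrel : ∀ v ∈ V, β (α (β (α v))) = v := fun v hv => by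
    have h1 : e * e * (α v) * (e * e)⁻¹ = α v := he2 _ (hαV v hv)
    calc β (α (β (α v))) = e * y * e⁻¹ * (e * e * (α v) * (e * e)⁻¹) * (e * y * e⁻¹)⁻¹ := by
          simp only [hα, hβ]; group
      _ = e * y * e⁻¹ * (α v) * (e * y * e⁻¹)⁻¹ := by rw [h1]
      _ = (e * y * e⁻¹ * y) * v * (e * y * e⁻¹ * y)⁻¹ := by simp only [hα]; group
      _ = v := hey v hv
  have hba : ∀ v ∈ V, β (α v) = α (α (α (α (β v)))) := fun v hv => by
    have h1 : α (β (α v)) = β v := by
      have h2 := congrArg β (hrel v hv)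
      rwa [hβ2 _ (hαV _ (hβV _ (hαV v hv)))] at h2
    conv_lhs => rw [← hα5 _ (hβV _ (hαV v hv))]
    exact congrArg (fun u => α (α (α (α u)))) h1
  set C := V ⊓ Subgroup.centralizer {e} with hC
  have hCmem : ∀ v, v ∈ C ↔ v ∈ V ∧ β v = v := fun v => by
    rw [hC, Subgroup.mem_inf, Subgroup.mem_centralizer_singleton_iff, hβ]
    exact and_congr_right fun _ => ⟨fun h => mul_inv_eq_iff_eq_mul.2 h.symm, fun h => (mul_inv_eq_iff_eq_mul.1 h).symm⟩
  have hαmul : ∀ a b, α (a * b) = α a * α b := fun a b => by simp only [hα]; group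
  have hαinv : ∀ a, α a⁻¹ = (α a)⁻¹ := fun a => by simp only [hα]; group
  have hβmul : ∀ a b, β (a * b) = β a * β b := fun a b => by simp only [hβ]; group
  -- the conjugate involution
  have hshift : ∀ c ∈ C, β (α (α (α c))) = α (α c) := by
    intro c hc
    obtain ⟨hcV, hcf⟩ := (hCmem c).1 hc
    rw [hba _ (hαV _ (hαV c hcV)), hba _ (hαV c hcV), hba c hcV, hcf]
    rw [hα5 c hcV, hα5 _ (hαV _ (hαV c hcV))]
  have hinj : Function.Injective fun q : C × C => (q.1 : G) * α (α (q.2 : G)) := by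
    rintro ⟨a, b⟩ ⟨c, d⟩ h
    change (a : G) * α (α (b : G)) = (c : G) * α (α (d : G)) at h
    have hw : ((c : G))⁻¹ * a = α (α ((d : G) * (b : G)⁻¹)) := by
      rw [hαmul, hαinv, hαmul, hαinv, eq_mul_inv_iff_mul_eq, mul_assoc, h, inv_mul_cancel_left]
    obtain ⟨hwV, hwf⟩ := (hCmem _).1 (C.mul_mem (C.inv_mem c.2) a.2)
    have h2 := hshift _ (C.mul_mem d.2 (C.inv_mem b.2))
    rw [← hw] at h2
    have hαw : α ((c : G)⁻¹ * a) = (c : G)⁻¹ * a := by
      have h3 := congrArg β h2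
      rwa [hβ2 _ (hαV _ hwV), hwf] at h3
    have h1 : (c : G)⁻¹ * a = 1 := hfix _ hwV (mul_inv_eq_iff_eq_mul.1 ((hα _).symm.trans hαw))
    obtain rfl : a = c := Subtype.ext (inv_mul_eq_one.1 h1).symm
    refine Prod.ext rfl (Subtype.ext ?_)
    have h4 := mul_left_cancel h
    simp only [hα] at h4
    exact mul_left_cancel (mul_right_cancel (mul_left_cancel (mul_right_cancel h4)))
  have hsqC : Nat.card C * Nat.card C ≤ 16 := by
    rw [← Nat.card_prod, ← hcard]
    refine Nat.card_le_card_of_injective (fun q : C × C => (⟨(q.1 : G) * α (α (q.2 : G)),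
      V.mul_mem ((hCmem _).1 q.1.2).1 (hαV _ (hαV _ ((hCmem _).1 q.2.2).1))⟩ : V)) ?_
    exact fun q r h => hinj (congrArg Subtype.val h)
  -- the commutator with `e`
  have hcomm : ∀ v, ⁅e, v⁆ = β v * v⁻¹ := fun v => by rw [commutatorElement_def, hβ]
  let φ : V →* C :=
    { toFun := fun v => ⟨β v * (v : G)⁻¹, (hCmem _).2 ⟨V.mul_mem (hβV v v.2) (V.inv_mem v.2), by
        rw [hβmul, hβ2 v v.2, show β ((v : G)⁻¹) = (β v)⁻¹ by simp only [hβ]; group,
          inv_eq_of_mul_eq_one_left (hV2 _ (hβV v v.2)), inv_eq_of_mul_eq_one_left (hV2 _ v.2)]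
        exact hV _ v.2 _ (hβV v v.2)⟩⟩
      map_one' := Subtype.ext (by simp [hβ])
      map_mul' := fun a b => Subtype.ext (by
        show β ((a : G) * b) * ((a : G) * b)⁻¹ = β a * (a : G)⁻¹ * (β b * (b : G)⁻¹)
        rw [hβmul, mul_inv_rev, mul_assoc (β a) ((a : G)⁻¹), mul_assoc (β a)]
        refine congrArg (β a * ·) ?_
        rw [← mul_assoc, hV _ (V.mul_mem (hβV b b.2) (V.inv_mem b.2)) _ (V.inv_mem a.2)]) }
  have hker : Nat.card φ.ker ≤ Nat.card C := by
    refine Nat.card_le_card_of_injective (fun v => (⟨((v : V) : G), (hCmem _).2 ⟨(v : V).2, ?_⟩⟩ : C)) ?_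
    · exact mul_inv_eq_one.1 (congrArg Subtype.val (MonoidHom.mem_ker.1 v.2))
    · intro v w h
      exact Subtype.ext (Subtype.ext (congrArg (fun u : C => (u : G)) h))
  have hmul := Subgroup.card_eq_card_quotient_mul_card_subgroup φ.ker
  rw [Nat.card_congr (QuotientGroup.quotientKerEquivRange φ).toEquiv, hcard] at hmul
  have hran := Subgroup.card_le_card_group φ.range
  have hC4 : Nat.card C = 4 := by nlinarith
  have hsurj : Function.Surjective φ := by
    rw [← MonoidHom.range_eq_top]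
    refine Subgroup.eq_top_of_le_card _ ?_
    nlinarith
  refine ⟨hC4, fun v hv => ?_, fun c hc => ?_⟩
  · rw [hcomm]; exact (φ ⟨v, hv⟩).2
  · obtain ⟨w, hw⟩ := hsurj ⟨c, hc⟩
    exact ⟨w, w.2, (hcomm _).trans (congrArg Subtype.val hw)⟩

/-- The section of order thirty-two above a central elementary subgroup moved enough. -/
theorem gen_section [Finite G] (h4 : Cfsg.SectionalPRankLE 2 4 G) (Q F : Subgroup G) [Q.Normal] [F.Normal]
    (hFQ : F ≤ Q) (hFc : ∀ x ∈ Q, ∀ f ∈ F, x * f = f * x) (hFe : ∀ f ∈ F, f * f = 1) (hQF : ∀ x ∈ Q, x * x ∈ F)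
    (e : G) (he : e ∉ Q) (he2 : e * e ∈ F) (S : Subgroup G) (hSQ : S ≤ Q) (hFS : F ≤ S)
    (hS : ∀ s ∈ S, ⁅e, s⁆ ∈ F) (hScard : Nat.card S = 4 * Nat.card F)
    (hC : 4 * Nat.card ↥(F ⊓ Subgroup.centralizer {e}) ≤ Nat.card F) : False := by
  classical
  set N := F ⊓ Subgroup.centralizer {e} with hN
  have hmemN : ∀ x, x ∈ N ↔ x ∈ F ∧ e * x * e⁻¹ = x := fun x => by
    rw [hN, Subgroup.mem_inf, Subgroup.mem_centralizer_singleton_iff]
    exact and_congr_right fun _ => ⟨fun h => mul_inv_eq_iff_eq_mul.2 h.symm, fun h => (mul_inv_eq_iff_eq_mul.1 h).symm⟩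
  have hcs : ∀ s ∈ S, e * s * e⁻¹ = ⁅e, s⁆ * s := fun s _ => by rw [commutatorElement_def]; group
  have hcomN : ∀ s ∈ S, ⁅e, s⁆ ∈ N := by
    intro s hs
    refine (hmemN _).2 ⟨hS s hs, ?_⟩
    have h1 : e * e * s * (e * e)⁻¹ = s := mul_inv_eq_iff_eq_mul.2 (hFc s (hSQ hs) _ he2).symm
    have h2 : ⁅e, s⁆⁻¹ = ⁅e, s⁆ := inv_eq_of_mul_eq_one_right (hFe _ (hS s hs))
    calc e * ⁅e, s⁆ * e⁻¹ = e * e * s * (e * e)⁻¹ * (e * s * e⁻¹)⁻¹ := by rw [commutatorElement_def]; group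
      _ = ⁅e, s⁆ := by
        rw [h1, hcs s hs, mul_inv_rev, h2, ← mul_assoc, mul_inv_cancel, one_mul]
  have hsqN : ∀ s ∈ S, s * s ∈ N := by
    intro s hs
    refine (hmemN _).2 ⟨hQF s (hSQ hs), ?_⟩
    have ht := hS s hs
    calc e * (s * s) * e⁻¹ = e * s * e⁻¹ * (e * s * e⁻¹) := by group
      _ = ⁅e, s⁆ * s * (⁅e, s⁆ * s) := by rw [hcs s hs]
      _ = ⁅e, s⁆ * (s * ⁅e, s⁆) * s := by group
      _ = ⁅e, s⁆ * (⁅e, s⁆ * s) * s := by rw [hFc s (hSQ hs) _ ht]
      _ = s * s := by rw [← mul_assoc, hFe _ ht, one_mul]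
  have hQcomm : ∀ x ∈ Q, ∀ y ∈ Q, ⁅x, y⁆ ∈ F := by
    intro x hx y hy
    have h1 : ⁅x, y⁆ = x * y * (x * y) * (y⁻¹ * (x⁻¹ * x⁻¹) * y) * (y⁻¹ * y⁻¹) := by
      rw [commutatorElement_def]; group
    rw [h1]
    refine F.mul_mem (F.mul_mem (hQF _ (Q.mul_mem hx hy)) ?_) (hQF _ (Q.inv_mem hy))
    have := (inferInstance : F.Normal).conj_mem _ (hQF _ (Q.inv_mem hx)) y⁻¹
    rwa [inv_inv] at this
  have hssN : ∀ s ∈ S, ∀ t ∈ S, ⁅s, t⁆ ∈ N := by
    intro s hs t ht
    refine (hmemN _).2 ⟨hQcomm s (hSQ hs) t (hSQ ht), ?_⟩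
    have hu := hS s hs
    have hv := hS t ht
    have hc : ∀ f ∈ F, ∀ x ∈ Q, ∀ y ∈ Q, ⁅f * x, y⁆ = ⁅x, y⁆ ∧ ⁅x, f * y⁆ = ⁅x, y⁆ := fun f hf x hx y hy => by
      have h1 : Commute f x := (hFc x hx f hf).symm
      have h2 : Commute f y := (hFc y hy f hf).symm
      constructor
      · rw [commutatorElement_def, commutatorElement_def]
        calc f * x * y * (f * x)⁻¹ * y⁻¹ = f * (x * y * x⁻¹) * f⁻¹ * y⁻¹ := by group
          _ = x * y * x⁻¹ * y⁻¹ := by
            rw [((h1.mul_right h2).mul_right h1.inv_right).eq, mul_inv_cancel_right]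
      · rw [commutatorElement_def, commutatorElement_def]
        calc x * (f * y) * x⁻¹ * (f * y)⁻¹ = x * f * (y * x⁻¹ * y⁻¹) * f⁻¹ := by group
          _ = x * y * x⁻¹ * y⁻¹ := by
            rw [mul_assoc x f, ((h2.mul_right h1.inv_right).mul_right h2.inv_right).eq]; group
    calc e * ⁅s, t⁆ * e⁻¹ = ⁅e * s * e⁻¹, e * t * e⁻¹⁆ := by
          rw [commutatorElement_def, commutatorElement_def]; group
      _ = ⁅s, t⁆ := by
        rw [hcs s hs, hcs t ht, (hc _ hu s (hSQ hs) _ (Q.mul_mem (hFQ hv) (hSQ ht))).1, (hc _ hv s (hSQ hs) t (hSQ ht)).2]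
  have heN : e * e ∈ N := (hmemN _).2 ⟨he2, by group⟩
  refine not_rank h4 N ((S : Set G) ∪ {e}) (fun x hx => Subgroup.subset_closure (Or.inl (hFS hx.1))) ?_ ?_ ?_ ?_
  · rintro x (hx | hx)
    · exact hsqN x hx
    · rw [Set.mem_singleton_iff.1 hx]; exact heN
  · rintro x (hx | hx) y (hy | hy)
    · exact hssN x hx y hy
    · rw [Set.mem_singleton_iff.1 hy, ← commutatorElement_inv]; exact N.inv_mem (hcomN x hx)
    · rw [Set.mem_singleton_iff.1 hx]; exact hcomN y hy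
    · rw [Set.mem_singleton_iff.1 hx, Set.mem_singleton_iff.1 hy, commutatorElement_self]; exact N.one_mem
  · rintro x (hx | hx) n hn
    · rw [hFc x (hSQ hx) n hn.1, mul_inv_cancel_right]; exact hn
    · rw [Set.mem_singleton_iff.1 hx, ((hmemN n).1 hn).2]; exact hn
  · have hlt : S < Subgroup.closure ((S : Set G) ∪ {e}) :=
      lt_of_le_of_ne (fun x hx => Subgroup.subset_closure (Or.inl hx)) fun h => he (hSQ (h ▸
        Subgroup.subset_closure (Or.inr rfl)))
    have h1 := Subgroup.card_dvd_of_le hlt.le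
    obtain ⟨k, hk⟩ := h1
    have h2 : Nat.card S < Nat.card (Subgroup.closure ((S : Set G) ∪ {e})) := by
      by_contra h
      exact hlt.ne (Subgroup.eq_of_le_of_card_ge hlt.le (not_lt.1 h))
    have h3 : 2 ≤ k := by
      by_contra h
      interval_cases k <;> omega
    nlinarith

end H69.SectTools
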