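import Mathlib
import Cfsg.Agent.H69.Setting
import Cfsg.Agent.H6.Basic

/-! Normal subgroups in the presence of a large extraspecial 2-subgroup. -/

set_option autoImplicit false

namespace H69

variable {G : Type*} [Group G] [Finite G]

/-- A nontrivial normal subgroup contains the central involution of a large extraspecial subgroup. -/
theorem large_mem_of_normal {Q : Subgroup G} (hQ : Cfsg.IsLargeExtraspecial Q) {z : G}
    (hz : orderOf z = 2) (hZ : (Subgroup.center Q).map Q.subtype = Subgroup.zpowers z)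
    (N : Subgroup G) [hN : N.Normal] (hN1 : N ≠ ⊥) : z ∈ N := by
  have := Fact.mk Nat.prime_two
  obtain ⟨hE, hC, -, hK⟩ := hQ
  have heven : 2 ∣ Nat.card N := by
    by_contra h
    exact hN1 (hK N (Nat.odd_iff.mpr (by omega)) (Subgroup.normalizer_eq_top_iff.mpr hN ▸ le_top))
  obtain ⟨P, hP⟩ := hE.1.1.exists_le_sylow
  haveI hn : (N.subgroupOf (P : Subgroup G)).Normal := hN.subgroupOf _
  have hne : N.subgroupOf (P : Subgroup G) ≠ ⊥ := by
    intro h
    obtain ⟨x, hx⟩ := exists_prime_orderOf_dvd_card' 2 heven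
    obtain ⟨R, hR⟩ := (IsPGroup.of_card (p := 2) (n := 1) (G := Subgroup.zpowers (x : G))
      (by rw [Nat.card_zpowers, Subgroup.orderOf_coe, hx, pow_one])).exists_le_sylow
    obtain ⟨a, rfl⟩ := MulAction.exists_smul_eq G P R
    have hxR : (x : G) ∈ ((a • P : Sylow 2 G) : Set G) := hR (Subgroup.mem_zpowers _)
    rw [Sylow.coe_smul] at hxR
    obtain ⟨y, hy, hyx⟩ := Set.mem_smul_set.mp hxR
    simp only [MulAut.smul_def, MulAut.conj_apply] at hyx
    have hyN : y ∈ N := by
      have := hN.conj_mem _ x.2 a⁻¹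
      rw [← hyx] at this
      simpa [mul_assoc] using this
    have hy1 : (⟨y, hy⟩ : (P : Subgroup G)) = 1 := (Subgroup.eq_bot_iff_forall _).mp h _ hyN
    have hx1 : (x : G) = 1 := by rw [← hyx, show y = 1 from congrArg Subtype.val hy1]; group
    rw [show x = 1 from Subtype.ext hx1, orderOf_one] at hx
    omega
  have hinf := H6.inf_center_ne_bot P.isPGroup' hne
  obtain ⟨c, hc, hc1⟩ : ∃ c ∈ N.subgroupOf (P : Subgroup G) ⊓ Subgroup.center _, c ≠ 1 := by
    by_contra h
    push Not at h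
    exact hinf ((Subgroup.eq_bot_iff_forall _).mpr h)
  have hcQ : (c : G) ∈ Subgroup.centralizer (Q : Set G) := Subgroup.mem_centralizer_iff.mpr fun q hq =>
    congrArg Subtype.val (Subgroup.mem_center_iff.mp hc.2 ⟨q, hP hq⟩)
  rw [hC, hZ] at hcQ
  rcases H93.zpowers_two_cases hz hcQ with h | h
  · exact absurd (Subtype.ext h) hc1
  · exact h ▸ hc.1

/-- `N(Q)` is the centraliser of the central involution. -/
theorem normalizer_le_centralizer {Q : Subgroup G} (hQ : PreLarge Q) {z : G}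
    (hz : orderOf z = 2) (hZ : (Subgroup.center Q).map Q.subtype = Subgroup.zpowers z) :
    Subgroup.normalizer (Q : Set G) ≤ Subgroup.centralizer ({z} : Set G) := by
  intro n hn
  rw [Subgroup.mem_centralizer_singleton_iff]
  have hzc := H93.mem_centerMap.mp (hZ ▸ Subgroup.mem_zpowers z)
  have h1 : n * z * n⁻¹ ∈ (Subgroup.center Q).map Q.subtype := by
    refine H93.mem_centerMap.mpr ⟨(Subgroup.mem_normalizer_iff.mp hn z).mp hzc.1, fun q hq => ?_⟩
    have hq' : n⁻¹ * q * n ∈ Q := by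
      simpa using (Subgroup.mem_normalizer_iff.mp (inv_mem hn) q).mp hq
    calc q * (n * z * n⁻¹) = n * ((n⁻¹ * q * n) * z) * n⁻¹ := by group
      _ = n * (z * (n⁻¹ * q * n)) * n⁻¹ := by rw [hzc.2 _ hq']
      _ = n * z * n⁻¹ * q := by group
  rw [hZ] at h1
  rcases H93.zpowers_two_cases hz h1 with h | h
  · rw [conj_eq_one_iff.mp h, orderOf_one] at hz; omega
  · exact mul_inv_eq_iff_eq_mul.mp h

/-- If `F*(C(z)) = Q` is extraspecial and another conjugate of `z` lies in `Q`, then `Q` is large. -/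
theorem large_of_fstar {z : G} (hz : orderOf z = 2) {Q : Subgroup G}
    (hpre : PreLarge Q) (hZ : (Subgroup.center Q).map Q.subtype = Subgroup.zpowers z) (g : G)
    (hgQ : g * z * g⁻¹ ∈ Q) (hne : g * z * g⁻¹ ≠ z) : Cfsg.IsLargeExtraspecial Q := by
  have hgH : g ∉ Subgroup.centralizer ({z} : Set G) := fun h =>
    hne (mul_inv_eq_of_eq_mul (Subgroup.mem_centralizer_singleton_iff.mp h))
  have P := pair_of_preLarge hpre hZ hz g hgH hgQ
  have hv2 : orderOf (g * z * g⁻¹) = 2 := by
    rw [← MulAut.conj_apply, MulEquiv.orderOf_eq]; exact hz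
  refine H93.large_of_centre_in_twoCore_centralizer hpre.1 hpre.2.1 hpre.2.2.1 hgQ (fun h => ?_) hv2 ?_
  · rw [hZ] at h
    rcases H93.zpowers_two_cases hz h with h | h
    · exact P.L.ne_one P.sv h
    · exact hne h
  · rw [hZ, Subgroup.zpowers_le]
    obtain ⟨q, hq, hqz⟩ := lx_symm hpre hZ hz g hgQ
    set C := Subgroup.centralizer ({g * z * g⁻¹} : Set G) with hC
    have hle : Q.map (MulAut.conj g).toMonoidHom ≤ C := by
      rw [← lxQ_self hpre hZ g]
      exact fun x hx => Subgroup.mem_centralizer_singleton_iff.mpr (P.L.hcomm _ x hx).eq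
    have hn : ((Q.map (MulAut.conj g).toMonoidHom).subgroupOf C).Normal :=
      ⟨fun x hx c => by
        rw [Subgroup.mem_subgroupOf, Subgroup.coe_mul, Subgroup.coe_mul, Subgroup.coe_inv]
        rw [← lxQ_self hpre hZ g]
        exact P.L.conj_mem (by rw [lxQ_self hpre hZ g]; exact hx)
          (Subgroup.mem_centralizer_singleton_iff.mp c.2)⟩
    have hp : IsPGroup 2 ((Q.map (MulAut.conj g).toMonoidHom).subgroupOf C) :=
      (hpre.1.1.1.map _).comap_subtype
    exact ⟨⟨z, hle ⟨q, hq, hqz⟩⟩, (le_sSup (show (Q.map (MulAut.conj g).toMonoidHom).subgroupOf C ∈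
      {N : Subgroup C | N.Normal ∧ IsPGroup 2 N} from ⟨hn, hp⟩)) (Subgroup.mem_subgroupOf.mpr ⟨q, hq, hqz⟩), rfl⟩

end H69
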