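import Cfsg.Agent.H93.CosetIndex
import Cfsg.Agent.H69.U42Table

/-!
The checks of the coset table for `U₄(2)`.
-/

set_option autoImplicit false
set_option maxRecDepth 100000

namespace H69.U42

open H93.Coset

theorem edges0 : table.edgesOK 0 0 2160 = true := by decide +kernel

theorem edges1 : table.edgesOK 1 0 2160 = true := by decide +kernel

theorem edges2 : table.edgesOK 2 0 2160 = true := by decide +kernel

theorem tree_ok : treeOK table 0 2160 = true := by decide +kernel

theorem rels_ok : (rels.map fun w => w.map fun i => i.1).all (fun w => table.relOK w 0 2160) = true := by
  decide +kernel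

theorem tables : Tables table where
  pos := by decide
  edges := by
    intro g hg c hc
    have hg' : g < 3 := hg
    rcases (show g = 0 ∨ g = 1 ∨ g = 2 by omega) with rfl | rfl | rfl
    · exact allRange_spec edges0 c (Nat.zero_le _) (by simpa [table] using hc)
    · exact allRange_spec edges1 c (Nat.zero_le _) (by simpa [table] using hc)
    · exact allRange_spec edges2 c (Nat.zero_le _) (by simpa [table] using hc)
  tree := tree_ok
  letters := by decide +kernel
  subfix := by decide +kernel

end H69.U42
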