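import Mathlib.Data.Fin.VecNotation

/-!
Three involutions on forty points and a stabilizer chain (generated data).
-/

set_option autoImplicit false
set_option maxRecDepth 100000

namespace H69.U42

/-- An involution. -/
def im0 : Fin 40 → Fin 40 :=
  ![12, 21, 26, 31, 25, 33, 20, 32, 27, 19, 11, 10, 0, 23, 37, 18, 34, 29, 15, 9, 6, 1, 30, 13, 35, 4, 2, 8, 39, 17, 22, 3, 7, 5, 16, 24, 38, 14, 36, 28]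

/-- An involution. -/
def im1 : Fin 40 → Fin 40 :=
  ![17, 30, 31, 8, 38, 23, 10, 19, 3, 15, 6, 25, 36, 33, 28, 9, 18, 0, 16, 7, 29, 32, 34, 5, 27, 11, 37, 24, 14, 20, 1, 2, 21, 13, 22, 39, 12, 26, 4, 35]

/-- An involution. -/
def im2 : Fin 40 → Fin 40 :=
  ![16, 35, 6, 27, 15, 20, 2, 11, 23, 39, 28, 7, 31, 34, 25, 4, 0, 18, 17, 36, 5, 26, 29, 8, 33, 14, 21, 3, 10, 22, 37, 12, 38, 24, 13, 1, 19, 30, 32, 9]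

/-- A base point with words in the stabilizer of the earlier ones. -/
def levels : List (Fin 40 × List (List (Fin 3))) :=
  [(0, [[], [0], [1], [2], [0, 1], [0, 2], [1, 0], [1, 2], [2, 0], [0, 1, 0], [0, 1, 2], [0, 2, 0], [0, 2, 1], [1, 0, 1], [1, 0, 2], [1, 2, 0], [2, 0, 2], [0, 1, 0, 1], [0, 1, 0, 2], [0, 1, 2, 0], [0, 1, 2, 1], [0, 2, 0, 1], [0, 2, 0, 2], [0, 2, 1, 0], [0, 2, 1, 2], [1, 0, 1, 2], [1, 0, 2, 0], [2, 0, 2, 0], [2, 0, 2, 1], [0, 1, 0, 1, 0], [0, 1, 0, 2, 1], [0, 1, 2, 0, 2], [0, 1, 2, 1, 2], [0, 2, 0, 2, 1], [0, 2, 1, 0, 1], [0, 2, 1, 2, 1], [1, 0, 2, 0, 1], [0, 1, 0, 1, 0, 2], [0, 1, 2, 0, 2, 0], [0, 1, 2, 0, 2, 1]]),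
    (4, [[], [1, 2, 1, 2], [2, 1, 2, 1], [1, 0, 2, 1, 0, 2], [2, 0, 1, 2, 0, 1], [0, 1, 0, 1, 2, 0, 1, 2], [0, 1, 0, 1, 2, 0, 2, 1], [0, 1, 2, 0, 1, 0, 1, 2], [0, 1, 2, 0, 1, 0, 2, 1], [1, 0, 1, 0, 2, 1, 2, 0], [1, 2, 0, 1, 0, 2, 1, 0], [1, 2, 1, 0, 1, 2, 0, 1], [2, 0, 1, 2, 0, 2, 1, 2], [2, 1, 0, 1, 0, 2, 1, 0], [2, 1, 2, 0, 2, 1, 0, 2], [0, 1, 0, 2, 0, 1, 2, 1, 0], [0, 2, 0, 1, 0, 2, 0, 2, 0], [0, 2, 0, 2, 0, 1, 0, 2, 0], [1, 0, 1, 2, 0, 1, 2, 0, 2], [0, 1, 0, 2, 1, 2, 0, 1, 2, 0], [0, 2, 0, 1, 2, 1, 2, 1, 0, 1], [0, 2, 1, 0, 1, 2, 0, 2, 0, 1], [0, 2, 1, 0, 2, 1, 2, 0, 1, 0], [0, 2, 1, 2, 0, 1, 2, 1, 0, 2], [2, 0, 1, 0, 2, 1, 0, 1, 2, 0], [2, 0, 1, 2, 1, 0, 2, 1, 2, 0], [0, 2, 0, 1, 2, 0, 2, 0, 1, 2, 1]]),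
    (2, [[], [0, 1, 2, 0, 2, 1, 2, 1, 0, 2, 0, 1], [1, 0, 2, 0, 1, 2, 1, 2, 0, 2, 1, 0], [1, 0, 1, 2, 1, 0, 2, 0, 2, 1, 2, 1, 2], [2, 1, 0, 2, 0, 1, 2, 1, 0, 1, 0, 2, 1], [2, 1, 2, 1, 2, 0, 2, 0, 1, 2, 1, 0, 1], [0, 1, 0, 1, 2, 1, 0, 2, 1, 0, 1, 2, 1, 2], [0, 2, 1, 2, 0, 1, 0, 1, 2, 0, 1, 2, 0, 1]]),
    (13, [[], [0, 2, 0, 1, 2, 0, 1, 2, 0, 2, 1, 0, 2, 0, 2, 1, 2], [1, 0, 1, 2, 0, 1, 2, 1, 0, 1, 2, 0, 2, 1, 2, 0, 2]])]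

end H69.U42
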