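import Cfsg.Agent.H38.PSU4Two
import Cfsg.Agent.H40.PresN
import Cfsg.Agent.H93.CosetIndex
import Cfsg.Agent.H69.U42Check
import Cfsg.Agent.H69.U42Perms

/-!
`SU₄(2)` on three involutions with seven relations.
-/

set_option autoImplicit false
set_option maxRecDepth 100000
set_option linter.unusedSectionVars false
set_option linter.style.haveILetI false

namespace H69.U42

open H93.Coset

/-- The word read from left to right. -/
def wd (w : List (Fin 3)) : FreeGroup (Fin 3) := (w.map FreeGroup.of).reverse.prod

theorem lift_wd {G : Type*} [Group G] (f : Fin 3 → G) (w : List (Fin 3)) :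
    FreeGroup.lift f (wd w) = (w.map f).reverse.prod := by
  rw [wd, map_list_prod, List.map_reverse, List.map_map]
  congr 2
  exact List.map_congr_left fun i _ => by simp

/-- The relator set. -/
def relset : Finset (FreeGroup (Fin 3)) := (rels.map wd).toFinset

/-- The presented group. -/
abbrev P : Type := PresentedGroup (↑relset : Set (FreeGroup (Fin 3)))

/-- The generators indexed by numbers. -/
def gen (k : ℕ) : P := if h : k < 3 then PresentedGroup.of ⟨k, h⟩ else 1

theorem ev_gen (w : List (Fin 3)) :
    ev gen (w.map fun i => i.1) = (w.map fun i => (PresentedGroup.of i : P)).reverse.prod := by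
  rw [ev_eq_prod, List.map_map]
  congr 2
  exact List.map_congr_left fun i _ => by simp [gen, i.2]

theorem rel_one {w : List (Fin 3)} (hw : w ∈ rels) :
    (w.map fun i => (PresentedGroup.of i : P)).reverse.prod = 1 := by
  have h : wd w ∈ (↑relset : Set (FreeGroup (Fin 3))) := by
    rw [relset, List.coe_toFinset]; exact List.mem_map.2 ⟨w, hw, rfl⟩
  have h2 : PresentedGroup.mk (↑relset : Set (FreeGroup (Fin 3))) = FreeGroup.lift fun i => (PresentedGroup.of i : P) :=
    FreeGroup.ext_hom _ _ fun i => by simp [PresentedGroup.of]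
  rw [← lift_wd, ← h2]
  exact PresentedGroup.one_of_mem h

theorem gen_sq : ∀ g < 3, gen g * gen g = 1 := by
  intro g hg
  have hall : ∀ i : Fin 3, [i, i] ∈ rels := by decide
  have h := rel_one (hall ⟨g, hg⟩)
  simpa [gen, hg] using h

theorem hom_of_checks (D : Data) (hng : D.ng = 3) (ht : Tables D)
    (hrels : ∀ w ∈ rels, D.relOK (w.map fun i => i.1) 0 D.n = true) :
    ∃ φ : P →* Equiv.Perm (Fin D.n), ∀ g < D.ng, φ (gen g) = perm D g := by
  let f : Fin 3 → Equiv.Perm (Fin D.n) := fun i => perm D i.1
  have hrel : ∀ r ∈ (↑relset : Set (FreeGroup (Fin 3))), FreeGroup.lift f r = 1 := by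
    intro r hr
    rw [relset, List.coe_toFinset] at hr
    obtain ⟨w, hw, rfl⟩ := List.mem_map.1 hr
    rw [lift_wd]
    have hl : ∀ g ∈ w.map (fun i => i.1), g < D.ng := fun g hg => by
      obtain ⟨i, -, rfl⟩ := List.mem_map.1 hg; rw [hng]; exact i.2
    have h := ev_perm_eq_one ht hl (fun c hc => relOK_spec (hrels w hw) (Nat.zero_le _) (by omega))
    rw [ev_eq_prod, List.map_map] at h
    exact h
  refine ⟨PresentedGroup.toGroup hrel, fun g hg => ?_⟩
  have hg' : g < 3 := hng ▸ hg
  rw [gen, dif_pos hg', PresentedGroup.toGroup.of]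

theorem hom_perm : ∃ φ : P →* Equiv.Perm (Fin table.n), ∀ g < table.ng, φ (gen g) = perm table g :=
  hom_of_checks table rfl tables fun _ hw => List.all_eq_true.1 rels_ok _ (List.mem_map.2 ⟨_, hw, rfl⟩)

/-- The subgroup of the table. -/
def subH : Subgroup P :=
  Subgroup.closure {x | ∃ w ∈ table.words.drop table.nrel, ev gen w = x}

theorem model : Model table gen subH where
  tables := tables
  inv g hg := gen_sq g hg
  generates := by
    refine eq_top_iff.2 fun x _ => PresentedGroup.generated_by _ _ (fun i => ?_) x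
    exact Subgroup.subset_closure ⟨i.1, i.2, by simp [gen, i.2]⟩
  rels w hw := by
    have h : table.words.take table.nrel = rels.map fun w => w.map fun i => i.1 := by decide
    rw [h] at hw
    obtain ⟨v, hv, rfl⟩ := List.mem_map.1 hw
    rw [ev_gen]
    exact rel_one hv
  subgroup := rfl
  action := hom_perm

/-- A dihedral bound. -/
theorem card_dihedral {G : Type*} [Group G] (a b : G) (ha : a * a = 1) (hb : b * b = 1) {m : ℕ}
    (hm : 0 < m) (hab : (a * b) ^ m = 1) :
    Finite (Subgroup.closure ({a, b} : Set G)) ∧ Nat.card (Subgroup.closure ({a, b} : Set G)) ≤ 2 * m := by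
  set r := a * b with hr
  have ha' : a⁻¹ = a := inv_eq_of_mul_eq_one_right ha
  have hb' : b⁻¹ = b := inv_eq_of_mul_eq_one_right hb
  have hflip : ∀ i : ℤ, a * r ^ i = r ^ (-i) * a := fun i => by
    have h1 : a * r * a⁻¹ = r⁻¹ := by
      rw [hr, _root_.mul_inv_rev, ha', hb', ← mul_assoc, ha, one_mul]
    have h2 : (a * r * a⁻¹) ^ i = a * r ^ i * a⁻¹ := by
      rw [← MulAut.conj_apply, ← map_zpow, MulAut.conj_apply]
    rw [h1, inv_zpow, ← zpow_neg] at h2
    rw [h2, inv_mul_cancel_right]
  have hbr : b = a * r := by rw [hr, ← mul_assoc, ha, one_mul]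
  let f : Fin m × Bool → G := fun x => r ^ (x.1.1 : ℤ) * if x.2 then a else 1
  have hred : ∀ (i : ℤ) (t : Bool), r ^ i * (if t then a else 1) ∈ Set.range f := fun i t => by
    have hlt : (i % (m : ℤ)).toNat < m := by
      have := Int.emod_lt_of_pos i (by omega : (0 : ℤ) < m)
      omega
    refine ⟨(⟨(i % (m : ℤ)).toNat, hlt⟩, t), ?_⟩
    show r ^ (((i % (m : ℤ)).toNat : ℕ) : ℤ) * _ = _
    rw [Int.toNat_of_nonneg (Int.emod_nonneg _ (by omega)), ← zpow_eq_zpow_emod' i hab]
  have hone : (1 : G) ∈ Set.range f := by simpa using hred 0 false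
  have hla : ∀ y ∈ Set.range f, a * y ∈ Set.range f := by
    rintro _ ⟨⟨i, t⟩, rfl⟩
    show a * (r ^ (i.1 : ℤ) * _) ∈ _
    rw [← mul_assoc, hflip, mul_assoc]
    cases t
    · simpa using hred (-(i.1 : ℤ)) true
    · simpa [ha] using hred (-(i.1 : ℤ)) false
  have hlb : ∀ y ∈ Set.range f, b * y ∈ Set.range f := by
    rintro _ ⟨⟨i, t⟩, rfl⟩
    show b * (r ^ (i.1 : ℤ) * _) ∈ _
    rw [hbr, mul_assoc, ← mul_assoc r, ← zpow_one_add, ← mul_assoc, hflip, mul_assoc]
    cases t
    · simpa using hred (-(1 + (i.1 : ℤ))) true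
    · simpa [ha] using hred (-(1 + (i.1 : ℤ))) false
  have hsub : (Subgroup.closure ({a, b} : Set G) : Set G) ⊆ Set.range f := by
    intro x hx
    induction hx using Subgroup.closure_induction_left with
    | one => exact hone
    | mul_left s hs y _ hy =>
      rcases hs with rfl | rfl
      · exact hla y hy
      · exact hlb y hy
    | inv_mul_cancel s hs y _ hy =>
      rcases hs with rfl | rfl
      · rw [ha']; exact hla y hy
      · rw [hb']; exact hlb y hy
  have hfin : (Subgroup.closure ({a, b} : Set G) : Set G).Finite := (Set.finite_range f).subset hsub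
  refine ⟨hfin.to_subtype, ?_⟩
  show Nat.card (Subgroup.closure ({a, b} : Set G) : Set G) ≤ 2 * m
  rw [Nat.card_coe_set_eq]
  refine (Set.ncard_le_ncard hsub (Set.finite_range f)).trans ?_
  rw [← Nat.card_coe_set_eq]
  refine (Finite.card_range_le f).trans ?_
  rw [Nat.card_eq_fintype_card, Fintype.card_prod, Fintype.card_fin, Fintype.card_bool, mul_comm]

theorem card_P : Finite P ∧ Nat.card P ≤ 25920 := by
  have hH : subH = Subgroup.closure {gen 0, gen 1} := by
    rw [subH, show table.words.drop table.nrel = [[0], [1]] by decide]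
    congr 1
    ext x
    simp [ev, eq_comm]
  have h6 : (gen 0 * gen 1) ^ 6 = 1 := by
    have h := rel_one (w := [0, 1, 0, 1, 0, 1, 0, 1, 0, 1, 0, 1]) (by decide)
    have h' : (gen 1 * gen 0) ^ 6 = 1 := by
      rw [show (gen 1 * gen 0) ^ 6 =
        ([0, 1, 0, 1, 0, 1, 0, 1, 0, 1, 0, 1].map fun i => (PresentedGroup.of i : P)).reverse.prod by
          simp [gen, pow_succ, mul_assoc]]
      exact h
    have e : gen 0 * gen 1 = (gen 1 * gen 0)⁻¹ := by
      rw [_root_.mul_inv_rev, inv_eq_of_mul_eq_one_right (gen_sq 0 (by norm_num)),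
        inv_eq_of_mul_eq_one_right (gen_sq 1 (by norm_num))]
    rw [e, inv_pow, h', inv_one]
  obtain ⟨hfin, hcard⟩ :=
    card_dihedral (gen 0) (gen 1) (gen_sq 0 (by norm_num)) (gen_sq 1 (by norm_num)) (by norm_num) h6
  have hi : subH.index = 2160 := model.index_eq
  rw [← hH] at hfin hcard
  haveI : subH.FiniteIndex := ⟨by rw [hi]; norm_num⟩
  haveI : Finite P := by
    haveI : Finite (P ⧸ subH) := Subgroup.finite_quotient_of_finiteIndex
    exact Finite.of_equiv _ (Subgroup.groupEquivQuotientProdSubgroup (s := subH)).symm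
  refine ⟨inferInstance, ?_⟩
  have h := subH.card_mul_index
  rw [hi] at h
  omega

/-- The three involutions. -/
def im : Fin 3 → Fin 40 → Fin 40 := ![im0, im1, im2]

theorem im_inv : ∀ i, Function.Involutive (im i) := by
  intro i x
  revert i x
  decide +kernel

/-- The three involutions as permutations. -/
def pim (i : Fin 3) : Equiv.Perm (Fin 40) := (im_inv i).toPerm

/-- Applying a word. -/
def run : List (Fin 3) → Fin 40 → Fin 40
  | [], x => x
  | g :: w, x => run w (im g x)

theorem run_spec (w : List (Fin 3)) (x : Fin 40) : (w.map pim).reverse.prod x = run w x := by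
  induction w generalizing x with
  | nil => rfl
  | cons g w ih =>
    rw [List.map_cons, List.reverse_cons, List.prod_append, List.prod_singleton, Equiv.Perm.mul_apply, ih]
    rfl

/-- The checks on the chain. -/
def chainOK : List (Fin 40 × List (List (Fin 3))) → List (Fin 40) → Bool
  | [], _ => true
  | (b, ws) :: L, done =>
    (ws.all fun w => done.all fun d => run w d == d) && decide (ws.map fun w => run w b).Nodup &&
      chainOK L (done ++ [b])

theorem chain_bound (K : Subgroup (Equiv.Perm (Fin 40))) (hK : ∀ w : List (Fin 3), (w.map pim).reverse.prod ∈ K) :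
    ∀ (L : List (Fin 40 × List (List (Fin 3)))) (done : List (Fin 40)), chainOK L done = true →
      (L.map fun x => x.2.length).prod ≤ Nat.card {k : Equiv.Perm (Fin 40) // k ∈ K ∧ ∀ d ∈ done, k d = d}
  | [], done, _ => by
    haveI : Nonempty {k : Equiv.Perm (Fin 40) // k ∈ K ∧ ∀ d ∈ done, k d = d} :=
      ⟨⟨1, one_mem _, fun _ _ => rfl⟩⟩
    simp only [List.map_nil, List.prod_nil]
    exact Nat.card_pos
  | (b, ws) :: L, done, h => by
    simp only [chainOK, Bool.and_eq_true, List.all_eq_true, beq_iff_eq, decide_eq_true_eq] at h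
    obtain ⟨⟨hfix, hnd⟩, hL⟩ := h
    have ih := chain_bound K hK L (done ++ [b]) hL
    simp only [List.map_cons, List.prod_cons]
    let S := {k : Equiv.Perm (Fin 40) // k ∈ K ∧ ∀ d ∈ done ++ [b], k d = d}
    let T := {k : Equiv.Perm (Fin 40) // k ∈ K ∧ ∀ d ∈ done, k d = d}
    let f : Fin ws.length × S → T := fun x =>
      ⟨((ws.get x.1).map pim).reverse.prod * x.2.1, mul_mem (hK _) x.2.2.1, fun d hd => by
        rw [Equiv.Perm.mul_apply, x.2.2.2 d (List.mem_append_left _ hd), run_spec]
        exact hfix _ (List.get_mem ws x.1) d hd⟩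
    have hf : Function.Injective f := by
      rintro ⟨i, s⟩ ⟨j, t⟩ e
      have e' := congrArg Subtype.val e
      have hij : run (ws.get i) b = run (ws.get j) b := by
        have := Equiv.congr_fun e' b
        simp only [f, Equiv.Perm.mul_apply, s.2.2 b (by simp), t.2.2 b (by simp), run_spec] at this
        exact this
      have hi : i = j := by
        refine Fin.ext ((hnd.getElem_inj_iff (hi := by simp) (hj := by simp)).1 ?_)
        simpa using hij
      subst hi
      exact Prod.ext rfl (Subtype.ext (mul_left_cancel e'))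
    calc ws.length * (L.map fun x => x.2.length).prod ≤ ws.length * Nat.card S :=
          Nat.mul_le_mul_left _ ih
      _ = Nat.card (Fin ws.length × S) := by rw [Nat.card_prod, Nat.card_fin]
      _ ≤ Nat.card T := Nat.card_le_card_of_injective f hf

theorem levels_ok : chainOK levels [] = true := by decide +kernel

theorem rels_im : ∀ w ∈ rels, ∀ x, run w x = x := by decide +kernel

theorem adj_im : ∀ i x y, H38.Forty.adj (im i x) (im i y) = H38.Forty.adj x y := by decide +kernel

universe u

open H38.Forty in
/-- The presentation of `SU₄(2)`. -/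
theorem hasPresN_SU4_two {F : Type u} [Field F] [Fintype F] (hF : Fintype.card F = 2 ^ 2) :
    H40.PresN.HasPresN (Cfsg.SU 4 F 2) 3 7 := by
  classical
  obtain ⟨hfin, hcard⟩ := card_P
  haveI := hfin
  let f : Fin 3 → H38.relAut adj := fun i => ⟨pim i, fun x y => adj_im i x y⟩
  have hf : ∀ w : List (Fin 3), ((w.map f).reverse.prod).1 = (w.map pim).reverse.prod := fun w => by
    rw [Subgroup.val_list_prod, List.map_reverse, List.map_map]
    rfl
  have hrel : ∀ r ∈ (↑relset : Set (FreeGroup (Fin 3))), FreeGroup.lift f r = 1 := by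
    intro r hr
    rw [relset, List.coe_toFinset] at hr
    obtain ⟨w, hw, rfl⟩ := List.mem_map.1 hr
    rw [lift_wd]
    refine Subtype.ext (Equiv.ext fun x => ?_)
    rw [hf, run_spec]
    exact rels_im w hw x
  let φ : P →* H38.relAut adj := PresentedGroup.toGroup hrel
  let K : Subgroup (Equiv.Perm (Fin 40)) := φ.range.map (H38.relAut adj).subtype
  have hK : ∀ w : List (Fin 3), (w.map pim).reverse.prod ∈ K := fun w => by
    refine ⟨(w.map f).reverse.prod, ⟨(w.map fun i => (PresentedGroup.of i : P)).reverse.prod, ?_⟩, hf w⟩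
    rw [map_list_prod, List.map_reverse, List.map_map]
    congr 2
  have hlow : 25920 ≤ Nat.card φ.range := by
    have h := chain_bound K hK levels [] levels_ok
    rw [show (levels.map fun x => x.2.length).prod = 25920 by decide] at h
    refine h.trans (le_of_eq ?_)
    rw [← Subgroup.card_subtype (H38.relAut adj) φ.range]
    exact Nat.card_congr (Equiv.subtypeEquivRight fun k => by simp [K])
  have hφ : Function.Injective φ := by
    have hb : Function.Bijective φ.rangeRestrict := (Nat.bijective_iff_surjective_and_card _).2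
      ⟨φ.rangeRestrict_surjective, le_antisymm (hcard.trans hlow)
        (Nat.card_le_card_of_surjective _ φ.rangeRestrict_surjective)⟩
    exact fun x y e => hb.1 (Subtype.ext e)
  -- the unitary group on the same points
  obtain ⟨ψu, hu⟩ := exists_uniRep (F := F) (by rw [hF]; norm_num)
  have hZU : Subgroup.center ↥(Cfsg.SU 4 F 2) = ⊥ := by
    rw [← Subgroup.card_eq_one, H50.card_center_SU hF (by norm_num)]
    rfl
  have huinj : Function.Injective ψu := by
    rw [← MonoidHom.ker_eq_bot_iff]
    rcases H50.normal_le_center_or_eq_top hF (by norm_num) (by norm_num) ψu.ker with h | h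
    · rw [hZU, le_bot_iff] at h; exact h
    · exact absurd h hu
  have hcardU : Nat.card ↥(Cfsg.SU 4 F 2) = 25920 := by
    have h := H50.card_SU_mul (F := F) (n := 4) (q := 2) hF (by norm_num)
    rw [H50.card_GU hF] at h
    norm_num [Finset.prod_range_succ, -Nat.card_eq_fintype_card, parity_simps] at h
    omega
  have hperfU : commutator ↥(Cfsg.SU 4 F 2) = ⊤ := H50.SU_perfect hF (by norm_num) (by norm_num)
  have key : commutator (H38.relAut adj) ≤ φ.range := by
    have h := φ.range.card_mul_index
    have h2 : φ.range.index ≤ 2 := by nlinarith [card_relAut]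
    have h0 : φ.range.index ≠ 0 := Subgroup.index_ne_zero_of_finite
    rcases (show φ.range.index = 1 ∨ φ.range.index = 2 by omega) with h1 | h1
    · rw [Subgroup.index_eq_one.mp h1]; exact le_top
    · exact H38.commutator_le_of_index_two h1
  have hle : ψu.range ≤ φ.range := by
    rw [MonoidHom.range_eq_map, ← hperfU, commutator_def, Subgroup.map_commutator]
    exact (Subgroup.commutator_mono le_top le_top).trans key
  have heq : ψu.range = φ.range := by
    refine Subgroup.eq_of_le_of_card_ge hle ?_
    rw [← Nat.card_congr (MonoidHom.ofInjective huinj).toEquiv,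
      ← Nat.card_congr (MonoidHom.ofInjective hφ).toEquiv, hcardU]
    exact hcard
  refine ⟨relset, (List.toFinset_card_le _).trans (by rw [List.length_map]; decide), ⟨?_⟩⟩
  exact (MonoidHom.ofInjective hφ).trans
    ((MulEquiv.subgroupCongr heq.symm).trans (MonoidHom.ofInjective huinj).symm)

end H69.U42
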